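import Groth.Agent.Lib.Helper18.FF.LinIndep
import Mathlib.LinearAlgebra.Dimension.Free

/-! # Residue fields of places of a function field are finite over the constants -/

set_option autoImplicit false

namespace Groth.Agent.Lib.Helper18.FF

open FunFld IntermediateField WithZero

universe u v

variable {k : Type u} {K : Type v} [Field k] [Field K] [Algebra k K]

/-- Elements integral at all places in `S`, as a `k`-subalgebra. -/
def integersAt (S : Set (Place k K)) : Subalgebra k K where
  carrier := {z | ∀ P ∈ S, P.1 z ≤ 1}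
  mul_mem' {a b} ha hb P hP := by
    rw [map_mul]; exact mul_le_one' (ha P hP) (hb P hP)
  one_mem' P _ := by rw [map_one]
  add_mem' {a b} ha hb P hP := (P.1.map_add a b).trans (max_le (ha P hP) (hb P hP))
  zero_mem' P _ := by rw [map_zero]; exact zero_le'
  algebraMap_mem' c P _ := P.2.1 c

theorem mem_integersAt {S : Set (Place k K)} {z : K} : z ∈ integersAt S ↔ ∀ P ∈ S, P.1 z ≤ 1 := Iff.rfl

/-- The residue class of an element of the valuation ring. -/
noncomputable def res (P : Place k K) (z : K) (hz : P.1 z ≤ 1) : IsLocalRing.ResidueField P.O :=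
  IsLocalRing.residue P.O ⟨z, hz⟩

theorem res_surjective (P : Place k K) (y : IsLocalRing.ResidueField P.O) :
    ∃ (z : K) (hz : P.1 z ≤ 1), res P z hz = y := by
  obtain ⟨⟨z, hz⟩, rfl⟩ := IsLocalRing.residue_surjective y
  exact ⟨z, hz, rfl⟩

theorem res_eq_zero_iff (P : Place k K) (z : K) (hz : P.1 z ≤ 1) : res P z hz = 0 ↔ P.1 z < 1 := by
  rw [res, IsLocalRing.residue_eq_zero_iff]
  exact Valuation.mem_maximalIdeal_iff (v := P.1) (a := ⟨z, hz⟩)

theorem res_add (P : Place k K) (a b : K) (ha : P.1 a ≤ 1) (hb : P.1 b ≤ 1) :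
    res P (a + b) ((P.1.map_add a b).trans (max_le ha hb)) = res P a ha + res P b hb :=
  map_add (IsLocalRing.residue P.O) ⟨a, ha⟩ ⟨b, hb⟩

theorem res_mul (P : Place k K) (a b : K) (ha : P.1 a ≤ 1) (hb : P.1 b ≤ 1) :
    res P (a * b) (by rw [map_mul]; exact mul_le_one' ha hb) = res P a ha * res P b hb :=
  map_mul (IsLocalRing.residue P.O) ⟨a, ha⟩ ⟨b, hb⟩

theorem res_smul (P : Place k K) (c : k) (a : K) (ha : P.1 a ≤ 1) :
    res P (c • a) ((val_smul_le P c a).trans ha) = c • res P a ha := by
  rw [Algebra.smul_def (A := IsLocalRing.ResidueField P.O)]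
  have : algebraMap k (IsLocalRing.ResidueField P.O) c = res P (algebraMap k K c) (P.2.1 c) := rfl
  rw [this, ← res_mul]
  congr 1
  exact Algebra.smul_def c a

theorem res_congr (P : Place k K) {a b : K} (h : a = b) (ha : P.1 a ≤ 1) (hb : P.1 b ≤ 1) :
    res P a ha = res P b hb := by subst h; rfl

theorem res_sum (P : Place k K) {ι : Type*} (s : Finset ι) (f : ι → K) (hf : ∀ i, P.1 (f i) ≤ 1)
    (h : P.1 (∑ i ∈ s, f i) ≤ 1) : res P (∑ i ∈ s, f i) h = ∑ i ∈ s, res P (f i) (hf i) := by
  classical
  induction s using Finset.induction_on with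
  | empty =>
    simp only [Finset.sum_empty]
    exact map_zero (IsLocalRing.residue P.O)
  | insert a s ha ih =>
    have hs : P.1 (∑ i ∈ s, f i) ≤ 1 :=
      (P.1.map_sum_le (fun i _ => hf i))
    rw [res_congr P (Finset.sum_insert ha) h ((P.1.map_add _ _).trans (max_le (hf a) hs)),
      res_add P _ _ (hf a) hs, ih hs, Finset.sum_insert ha]

/-- A `k`-linearly independent family in the residue field of `P` has at most `[K : k(t)]` elements, for any
nonzero `t` in the maximal ideal. -/
theorem residue_card_le (hK : IsFunctionField k K) (P : Place k K) {t : K} (ht0 : t ≠ 0) (ht : P.1 t < 1)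
    {ι : Type*} [Fintype ι] (z : ι → IsLocalRing.ResidueField P.O) (hz : LinearIndependent k z) :
    Fintype.card ι ≤ Module.finrank (IntermediateField.adjoin k ({t} : Set K)) K := by
  have htr : Transcendental k t := transcendental_of_val_ne_one hK P ht0 ht.ne
  haveI := finiteDimensional_adjoin_of_transcendental hK htr
  choose w hw hwz using fun i => res_surjective P (z i)
  refine card_le_finrank_of_indep_mod htr (integersAt {P}) ?_ w ?_ ?_
  · rintro Q rfl; exact ht.le
  · rintro i Q rfl; exact hw i
  · rintro c ⟨ρ, hρ, hrel⟩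
    have hρ' : P.1 ρ ≤ 1 := hρ P rfl
    have h1 : P.1 (t * ρ) < 1 := by
      rw [map_mul]; exact mul_lt_one_of_lt_of_le ht hρ'
    have hsum : P.1 (∑ i, c i • w i) ≤ 1 := hrel ▸ h1.le
    have h2 : res P (∑ i, c i • w i) hsum = 0 := by
      rw [res_eq_zero_iff, hrel]; exact h1
    rw [res_sum P Finset.univ (fun i => c i • w i) (fun i => (val_smul_le P _ _).trans (hw i)) hsum] at h2
    have h3 : ∑ i, c i • z i = 0 := by
      rw [← h2]
      refine Finset.sum_congr rfl fun i _ => ?_
      rw [res_smul P (c i) (w i) (hw i), hwz i]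
    exact Fintype.linearIndependent_iff.mp hz c h3

/-- The residue field of a place of a function field of one variable is finite over `k`. -/
theorem finiteDimensional_residueField (hK : IsFunctionField k K) (P : Place k K) :
    FiniteDimensional k (IsLocalRing.ResidueField P.O) := by
  classical
  obtain ⟨t, ht⟩ := exists_uniformizer P
  have ht0 : t ≠ 0 := by
    rintro rfl; rw [map_zero] at ht; exact exp_ne_zero ht.symm
  have ht1 : P.1 t < 1 := by
    rw [ht, ← exp_zero, exp_lt_exp]; norm_num
  refine Module.rank_lt_aleph0_iff.mp ?_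
  refine lt_of_le_of_lt (rank_le (n := Module.finrank (IntermediateField.adjoin k ({t} : Set K)) K) ?_)
    (Cardinal.nat_lt_aleph0 _)
  intro s hs
  have := residue_card_le hK P ht0 ht1 (fun i : s => (i : IsLocalRing.ResidueField P.O)) hs
  simpa using this

theorem deg_pos (hK : IsFunctionField k K) (P : Place k K) : 0 < P.deg := by
  haveI := finiteDimensional_residueField hK P
  exact Module.finrank_pos

theorem deg_le_finrank (hK : IsFunctionField k K) (P : Place k K) {t : K} (ht0 : t ≠ 0) (ht : P.1 t < 1) :
    P.deg ≤ Module.finrank (IntermediateField.adjoin k ({t} : Set K)) K := by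
  haveI := finiteDimensional_residueField hK P
  have b := Module.finBasis k (IsLocalRing.ResidueField P.O)
  have := residue_card_le hK P ht0 ht b b.linearIndependent
  simpa [Place.deg] using this

end Groth.Agent.Lib.Helper18.FF
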