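import Groth.Agent.Lib.Helper18.FF.Degree2

/-! # The degree theorem: `deg (x)₀ = deg (x)_∞ = [K : k(x)]`, `deg (x) = 0`, `L(D) = 0` for `deg D < 0` -/

set_option autoImplicit false

namespace Groth.Agent.Lib.Helper18.FF

open FunFld IntermediateField WithZero

universe u v

variable {k : Type u} {K : Type v} [Field k] [Field K] [Algebra k K]

theorem deg_chain (hK : IsFunctionField k K) {x : K} (hx : Transcendental k x) :
    (poleDiv (k := k) x).deg = Module.finrank (IntermediateField.adjoin k ({x} : Set K)) K ∧
    (zeroDiv (k := k) x).deg = Module.finrank (IntermediateField.adjoin k ({x} : Set K)) K := by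
  have hx' := transcendental_inv hx
  have h1 := finrank_le_deg_poleDiv hK hx
  have h2 := deg_zeroDiv_le hK hx'
  have h3 := finrank_le_deg_poleDiv hK hx'
  have h4 := deg_zeroDiv_le hK hx
  rw [zeroDiv_inv hK] at h2
  rw [poleDiv_inv hK] at h3
  constructor <;> linarith

theorem deg_poleDiv_eq (hK : IsFunctionField k K) {x : K} (hx : Transcendental k x) :
    (poleDiv (k := k) x).deg = Module.finrank (IntermediateField.adjoin k ({x} : Set K)) K :=
  (deg_chain hK hx).1

theorem deg_zeroDiv_eq (hK : IsFunctionField k K) {x : K} (hx : Transcendental k x) :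
    (zeroDiv (k := k) x).deg = Module.finrank (IntermediateField.adjoin k ({x} : Set K)) K :=
  (deg_chain hK hx).2

/-- The principal divisor of any element has degree zero. -/
theorem deg_div_eq_zero (hK : IsFunctionField k K) (x : K) : (FunFld.div k x).deg = 0 := by
  by_cases hx : x ∈ Set.range (algebraMap k K)
  · obtain ⟨c, rfl⟩ := hx
    have : FunFld.div k (algebraMap k K c) = 0 := by
      ext P
      rw [div_apply hK, ord_algebraMap]; rfl
    rw [this, deg_zero]
  · have htr := transcendental_of_not_mem hK hx
    rw [div_eq_zeroDiv_sub_poleDiv hK, deg_sub, deg_poleDiv_eq hK htr, deg_zeroDiv_eq hK htr, sub_self]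

theorem deg_nonneg_of_nonneg {D : Divisor k K} (h : 0 ≤ D) : 0 ≤ D.deg := by
  unfold Divisor.deg
  exact Finset.sum_nonneg fun P _ => mul_nonneg (h P) (Int.natCast_nonneg _)

/-- `L(D) = 0` for `deg D < 0`. -/
theorem L_eq_bot_of_deg_neg (hK : IsFunctionField k K) (D : Divisor k K) (h : D.deg < 0) : L D = ⊥ := by
  rw [eq_bot_iff]
  intro x hx
  rw [Submodule.mem_bot]
  by_contra hx0
  have hnonneg : 0 ≤ FunFld.div k x + D := by
    intro P
    rw [Finsupp.add_apply, div_apply hK]
    have := (val_le_exp_iff P hx0 (D P)).mp (hx P)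
    simp only [Finsupp.coe_zero, Pi.zero_apply]
    omega
  have := deg_nonneg_of_nonneg hnonneg
  rw [deg_add, deg_div_eq_zero hK, zero_add] at this
  omega

/-- The degree of the divisor of zeros, in the form of statement S10969. -/
theorem sum_zeros_eq_deg_zeroDiv (hK : IsFunctionField k K) (x : K) :
    (∑ P ∈ (FunFld.div k x).support with 0 < FunFld.div k x P, FunFld.div k x P * (P.deg : ℤ)) =
      (zeroDiv (k := k) x).deg := by
  classical
  have hsub : (zeroDiv (k := k) x).support ⊆ (FunFld.div k x).support.filter (fun P => 0 < FunFld.div k x P) := by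
    intro P hP
    rw [Finsupp.mem_support_iff, zeroDiv_apply hK] at hP
    rw [Finset.mem_filter, Finsupp.mem_support_iff, div_apply hK]
    have : 0 < P.ord x := by
      by_contra h
      apply hP
      have : (P.ord x).toNat = 0 := Int.toNat_eq_zero.mpr (not_lt.mp h)
      rw [this]; rfl
    exact ⟨this.ne', this⟩
  rw [deg_eq_sum_of_support_subset _ _ hsub]
  refine Finset.sum_congr rfl fun P hP => ?_
  rw [Finset.mem_filter] at hP
  rw [zeroDiv_apply hK, ← div_apply hK, Int.toNat_of_nonneg hP.2.le]

end Groth.Agent.Lib.Helper18.FF
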