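import Groth.Agent.Lib.Helper18.FF.Zeros

/-! # Finiteness of zeros and poles -/

set_option autoImplicit false

namespace Groth.Agent.Lib.Helper18.FF

open FunFld WithZero IntermediateField

universe u v

variable {k : Type u} {K : Type v} [Field k] [Field K] [Algebra k K]

theorem transcendental_inv {x : K} (hx : Transcendental k x) : Transcendental k x⁻¹ :=
  fun h => hx (IsAlgebraic.inv_iff.mp h)

theorem finite_zeros (hK : IsFunctionField k K) {x : K} (hx : Transcendental k x) :
    {P : Place k K | P.1 x < 1}.Finite := by
  classical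
  by_contra hinf
  obtain ⟨S, hS, hcard⟩ := Set.Infinite.exists_subset_card_eq hinf
    (Module.finrank (IntermediateField.adjoin k ({x} : Set K)) K + 1)
  have hx0 : x ≠ 0 := by
    rintro rfl
    exact hx ⟨Polynomial.X, Polynomial.X_ne_zero, by simp⟩
  have h1 := sum_ord_mul_deg_le hK hx S (fun P hP => hS hP)
  have h2 : S.card ≤ ∑ P ∈ S, (P.ord x).toNat * P.deg := by
    rw [Finset.card_eq_sum_ones]
    refine Finset.sum_le_sum fun P hP => ?_
    have := (val_eq_exp_neg_toNat P hx0 (hS hP)).2
    have := deg_pos hK P
    exact Nat.mul_pos ‹_› ‹_›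
  omega

theorem finite_poles (hK : IsFunctionField k K) {x : K} (hx : Transcendental k x) :
    {P : Place k K | 1 < P.1 x}.Finite := by
  have hx0 : x ≠ 0 := by
    rintro rfl
    exact hx ⟨Polynomial.X, Polynomial.X_ne_zero, by simp⟩
  refine (finite_zeros hK (transcendental_inv hx)).subset ?_
  intro P hP
  have hP' : 1 < P.1 x := hP
  show P.1 x⁻¹ < 1
  rw [map_inv₀]
  exact inv_lt_one_of_one_lt₀ hP'

theorem finite_support_ord (hK : IsFunctionField k K) (x : K) :
    (Function.support fun P : Place k K => P.ord x).Finite := by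
  by_cases hx : x ∈ Set.range (algebraMap k K)
  · obtain ⟨c, rfl⟩ := hx
    have : (Function.support fun P : Place k K => P.ord (algebraMap k K c)) = ∅ := by
      ext P; simp [ord_algebraMap]
    rw [this]; exact Set.finite_empty
  · have htr := transcendental_of_not_mem hK hx
    have hx0 : x ≠ 0 := by rintro rfl; exact hx ⟨0, map_zero _⟩
    refine ((finite_zeros hK htr).union (finite_poles hK htr)).subset ?_
    intro P hP
    have hP' : P.ord x ≠ 0 := hP
    rcases lt_or_gt_of_ne hP' with h | h
    · right; exact (one_lt_val_iff_ord_neg P hx0).mpr h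
    · left; exact (val_lt_one_iff_ord_pos P hx0).mpr h

end Groth.Agent.Lib.Helper18.FF
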