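import Groth.Agent.Lib.Helper18.FF.Basic

/-! # Weak approximation for places of a function field (Prelude `FunFld`) -/

set_option autoImplicit false

namespace Groth.Agent.Lib.Helper18.FF

open FunFld WithZero

universe u v

variable {k : Type u} {K : Type v} [Field k] [Field K] [Algebra k K]

/-! ### Arithmetic in `ℤᵐ⁰` -/

theorem zm0_lt_one_iff (γ : ℤᵐ⁰) : γ < 1 ↔ γ ≤ exp (-1 : ℤ) := by
  rcases eq_or_ne γ 0 with rfl | h
  · simp
  · obtain ⟨n, rfl⟩ : ∃ n, γ = exp n := ⟨log γ, (exp_log h).symm⟩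
    rw [← exp_zero, exp_lt_exp, exp_le_exp]; omega

theorem zm0_one_lt_iff (γ : ℤᵐ⁰) : 1 < γ ↔ exp (1 : ℤ) ≤ γ := by
  rcases eq_or_ne γ 0 with rfl | h
  · simp
  · obtain ⟨n, rfl⟩ : ∃ n, γ = exp n := ⟨log γ, (exp_log h).symm⟩
    rw [← exp_zero, exp_lt_exp, exp_le_exp]; omega

theorem zm0_pow_le_exp_neg {γ : ℤᵐ⁰} (hγ : γ ≤ exp (-1 : ℤ)) (n : ℕ) : γ ^ n ≤ exp (-(n : ℤ)) := by
  calc γ ^ n ≤ exp (-1 : ℤ) ^ n := pow_le_pow_left' hγ n
    _ = exp (-(n : ℤ)) := by rw [← exp_nsmul]; congr 1; simp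

theorem zm0_exp_le_pow {γ : ℤᵐ⁰} (hγ : exp (1 : ℤ) ≤ γ) (n : ℕ) : exp (n : ℤ) ≤ γ ^ n := by
  calc exp (n : ℤ) = exp (1 : ℤ) ^ n := by rw [← exp_nsmul]; congr 1; simp
    _ ≤ γ ^ n := pow_le_pow_left' hγ n

theorem zm0_exists_nat_lt_exp (γ : ℤᵐ⁰) : ∃ n : ℕ, γ < exp (n : ℤ) := by
  rcases eq_or_ne γ 0 with rfl | h
  · exact ⟨0, exp_pos⟩
  · obtain ⟨m, rfl⟩ : ∃ n, γ = exp n := ⟨log γ, (exp_log h).symm⟩
    refine ⟨m.toNat + 1, ?_⟩
    rw [exp_lt_exp]
    have := Int.self_le_toNat m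
    push_cast
    omega

theorem zm0_exists_nat_forall_lt_exp {α : Type*} (T : Finset α) (f : α → ℤᵐ⁰) :
    ∃ r : ℕ, 1 ≤ r ∧ ∀ a ∈ T, f a < exp (r : ℤ) := by
  classical
  induction T using Finset.induction_on with
  | empty => exact ⟨1, le_rfl, by simp⟩
  | insert a T _ ih =>
    obtain ⟨r, hr1, hr⟩ := ih
    obtain ⟨n, hn⟩ := zm0_exists_nat_lt_exp (f a)
    refine ⟨max r n, le_max_of_le_left hr1, ?_⟩
    intro b hb
    rw [Finset.mem_insert] at hb
    rcases hb with rfl | hb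
    · exact hn.trans_le (exp_le_exp.mpr (by exact_mod_cast le_max_right r n))
    · exact (hr b hb).trans_le (exp_le_exp.mpr (by exact_mod_cast le_max_left r n))

theorem zm0_exists_ne_zero_forall_le {α : Type*} (T : Finset α) (b : α → ℤᵐ⁰) (hb : ∀ a ∈ T, b a ≠ 0) :
    ∃ d : ℤᵐ⁰, d ≠ 0 ∧ ∀ a ∈ T, d ≤ b a := by
  classical
  induction T using Finset.induction_on with
  | empty => exact ⟨1, one_ne_zero, by simp⟩
  | insert a T _ ih =>
    obtain ⟨d, hd0, hd⟩ := ih (fun x hx => hb x (Finset.mem_insert_of_mem hx))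
    refine ⟨min d (b a), ?_, ?_⟩
    · rcases min_choice d (b a) with h | h <;> rw [h]
      · exact hd0
      · exact hb a (Finset.mem_insert_self _ _)
    · intro x hx
      rw [Finset.mem_insert] at hx
      rcases hx with rfl | hx
      · exact min_le_right _ _
      · exact (min_le_left _ _).trans (hd x hx)

/-! ### Independence of distinct places -/

theorem exists_val_le_one_lt {P Q : Place k K} (hPQ : P ≠ Q) : ∃ y : K, P.1 y ≤ 1 ∧ 1 < Q.1 y := by
  by_contra hcon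
  push Not at hcon
  -- `O_P ⊆ O_Q`
  apply hPQ
  have hunit : ∀ u : K, P.1 u = 1 → Q.1 u = 1 := by
    intro u hu
    apply le_antisymm (hcon u hu.le)
    have hu0 : u ≠ 0 := by rintro rfl; simp at hu
    have h1 : P.1 u⁻¹ ≤ 1 := by rw [map_inv₀, hu, inv_one]
    have h2 := hcon _ h1
    rw [map_inv₀] at h2
    exact (inv_le_one₀ (zero_lt_iff.mpr ((Valuation.ne_zero_iff _).mpr hu0))).mp h2
  have hmax : ∀ y : K, Q.1 y < 1 → P.1 y < 1 := by
    intro y hy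
    rcases eq_or_ne y 0 with rfl | hy0
    · simp
    · by_contra hP
      push Not at hP
      have h1 : P.1 y⁻¹ ≤ 1 := by
        rw [map_inv₀]; exact inv_le_one_of_one_le₀ hP
      have h2 := hcon _ h1
      rw [map_inv₀] at h2
      have := (inv_le_one₀ (zero_lt_iff.mpr ((Valuation.ne_zero_iff _).mpr hy0))).mp h2
      exact absurd hy (not_lt.mpr this)
  obtain ⟨tP, htP⟩ := exists_uniformizer P
  obtain ⟨tQ, htQ⟩ := exists_uniformizer Q
  have htP0 : tP ≠ 0 := by rintro rfl; rw [map_zero] at htP; exact exp_ne_zero htP.symm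
  have htQ0 : tQ ≠ 0 := by rintro rfl; rw [map_zero] at htQ; exact exp_ne_zero htQ.symm
  -- `P.1 tQ = exp (-l)` with `l ≥ 1`
  have hl : P.1 tQ < 1 := hmax tQ (by rw [htQ, ← exp_zero, exp_lt_exp]; norm_num)
  set l := P.ord tQ with hl'
  have hl1 : 0 < l := (val_lt_one_iff_ord_pos P htQ0).mp hl
  have hPtQ : P.1 tQ = exp (-l) := val_eq_exp_neg_ord P htQ0
  -- `Q.1 tP = exp (-j)` with `j ≥ 0`
  have hj : Q.1 tP ≤ 1 := hcon tP (by rw [htP, ← exp_zero, exp_le_exp]; norm_num)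
  set j := Q.ord tP with hj'
  have hj0 : 0 ≤ j := (val_le_one_iff_ord_nonneg Q htP0).mp hj
  have hQtP : Q.1 tP = exp (-j) := val_eq_exp_neg_ord Q htP0
  -- the unit `tQ / tP ^ l`
  have hu : P.1 (tQ / tP ^ l) = 1 := by
    rw [map_div₀, map_zpow₀, hPtQ, htP, ← exp_zsmul, smul_eq_mul, mul_neg, mul_one, div_self exp_ne_zero]
  have hu' := hunit _ hu
  rw [map_div₀, map_zpow₀, htQ, hQtP, ← exp_zsmul, smul_eq_mul, div_eq_one_iff_eq exp_ne_zero, exp_inj] at hu'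
  have hjl : j = 1 ∧ l = 1 := by
    have h1 : l * j = 1 := by linarith
    have : l = 1 := by
      rcases Int.eq_one_or_neg_one_of_mul_eq_one h1 with h | h
      · exact h
      · omega
    rw [this, one_mul] at h1
    exact ⟨h1, this⟩
  have hQtP' : Q.1 tP = exp (-1 : ℤ) := by rw [hQtP, hjl.1]
  -- now compare values
  have hval : ∀ x : K, P.1 x = Q.1 x := by
    intro x
    rcases eq_or_ne x 0 with rfl | hx0
    · simp
    · set n := P.ord x with hn
      have hPx : P.1 x = exp (-n) := val_eq_exp_neg_ord P hx0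
      have hux : P.1 (x / tP ^ n) = 1 := by
        rw [map_div₀, map_zpow₀, hPx, htP, ← exp_zsmul, smul_eq_mul, mul_neg, mul_one,
          div_self exp_ne_zero]
      have hux' := hunit _ hux
      rw [map_div₀, map_zpow₀, hQtP', ← exp_zsmul, smul_eq_mul, mul_neg, mul_one,
        div_eq_one_iff_eq exp_ne_zero] at hux'
      rw [hPx, hux']
  exact Subtype.ext (Valuation.ext hval)

theorem exists_val_lt_one_gt_one {P Q : Place k K} (hPQ : P ≠ Q) : ∃ y : K, P.1 y < 1 ∧ 1 < Q.1 y := by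
  obtain ⟨y₁, h1P, h1Q⟩ := exists_val_le_one_lt hPQ
  obtain ⟨y₂, h2Q, h2P⟩ := exists_val_le_one_lt hPQ.symm
  have hy20 : y₂ ≠ 0 := by rintro rfl; simp at h2P
  have hP2 : P.1 y₂ ≠ 0 := (Valuation.ne_zero_iff _).mpr hy20
  have hQ2 : Q.1 y₂ ≠ 0 := (Valuation.ne_zero_iff _).mpr hy20
  refine ⟨y₁ / y₂, ?_, ?_⟩
  · rw [map_div₀, div_lt_one₀ (zero_lt_iff.mpr hP2)]
    exact h1P.trans_lt h2P
  · rw [map_div₀, one_lt_div₀ (zero_lt_iff.mpr hQ2)]
    exact h2Q.trans_lt h1Q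

end Groth.Agent.Lib.Helper18.FF
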