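import Groth.Agent.Lib.Helper18.FF.Basic
import Mathlib.RingTheory.AlgebraicIndependent.TranscendenceBasis
import Mathlib.FieldTheory.IntermediateField.Adjoin.Algebra
import Mathlib.FieldTheory.IntermediateField.Adjoin.Basic
import Mathlib.RingTheory.Localization.Module
import Mathlib.RingTheory.Adjoin.Polynomial.Basic
import Mathlib.LinearAlgebra.Dimension.Finite

/-! # Function fields: `K/k(t)` is finite for every transcendental `t`; a linear independence criterion -/

set_option autoImplicit false

namespace Groth.Agent.Lib.Helper18.FF

open FunFld IntermediateField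

open scoped IntermediateField.algebraAdjoinAdjoin

universe u v

variable {k : Type u} {K : Type v} [Field k] [Field K] [Algebra k K]

theorem isAlgebraic_algebraAdjoin_of_finiteDimensional {x : K}
    (h : FiniteDimensional (IntermediateField.adjoin k ({x} : Set K)) K) :
    Algebra.IsAlgebraic (Algebra.adjoin k ({x} : Set K)) K := by
  haveI : Algebra.IsAlgebraic (IntermediateField.adjoin k ({x} : Set K)) K :=
    Algebra.IsAlgebraic.of_finite _ _
  exact Algebra.IsAlgebraic.trans (Algebra.adjoin k ({x} : Set K))
    (IntermediateField.adjoin k ({x} : Set K)) K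

theorem isAlgebraic_algebraAdjoin_of_transcendental (hK : IsFunctionField k K) {t : K}
    (ht : Transcendental k t) : Algebra.IsAlgebraic (Algebra.adjoin k ({t} : Set K)) K := by
  obtain ⟨x, hx, hfin⟩ := hK.1
  have halg := isAlgebraic_algebraAdjoin_of_finiteDimensional hfin
  have hrx : Set.range (fun _ : PUnit.{v+1} => x) = {x} := Set.range_const
  have hrt : Set.range (fun _ : PUnit.{v+1} => t) = {t} := Set.range_const
  have hbx : IsTranscendenceBasis k (fun _ : PUnit.{v+1} => x) := by
    refine (AlgebraicIndependent.isTranscendenceBasis_iff_isAlgebraic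
      (algebraicIndependent_unique_type_iff.mpr hx)).mpr ?_
    rw [hrx]
    exact halg
  have htr : Algebra.trdeg k K = 1 := by
    rw [← hbx.cardinalMk_eq_trdeg]
    simp
  have hbt : IsTranscendenceBasis k (fun _ : PUnit.{v+1} => t) := by
    refine AlgebraicIndependent.isTranscendenceBasis_of_trdeg_le_of_finite
      (algebraicIndependent_unique_type_iff.mpr ht) ?_
    rw [htr]
    simp
  have := hbt.isAlgebraic
  rw [hrt] at this
  exact this

/-- In a function field of one variable, `K` is finite over `k(t)` for every transcendental `t`. -/
theorem finiteDimensional_adjoin_of_transcendental (hK : IsFunctionField k K) {t : K}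
    (ht : Transcendental k t) : FiniteDimensional (IntermediateField.adjoin k ({t} : Set K)) K := by
  obtain ⟨x, hx, hfin⟩ := hK.1
  haveI := isAlgebraic_algebraAdjoin_of_transcendental hK ht
  haveI halgF : Algebra.IsAlgebraic (IntermediateField.adjoin k ({t} : Set K)) K :=
    Algebra.IsAlgebraic.extendScalars (R := Algebra.adjoin k ({t} : Set K))
      (FaithfulSMul.algebraMap_injective _ _)
  -- a finite spanning set of `K` over `k(x)`
  obtain ⟨s, hs⟩ := (Module.finite_def.mp hfin : (⊤ : Submodule (IntermediateField.adjoin k ({x} : Set K)) K).FG)
  set F := IntermediateField.adjoin k ({t} : Set K) with hF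
  set S : Set K := insert x (s : Set K) with hS
  haveI : Finite S := (Set.Finite.insert x s.finite_toSet).to_subtype
  haveI hfd : FiniteDimensional F (IntermediateField.adjoin F S) :=
    IntermediateField.finiteDimensional_adjoin
      (fun y _ => (Algebra.IsAlgebraic.isAlgebraic (R := F) y).isIntegral)
  have htop : IntermediateField.adjoin F S = ⊤ := by
    rw [eq_top_iff]
    intro z _
    set E := IntermediateField.adjoin F S with hE
    have hxE : x ∈ E := IntermediateField.subset_adjoin F S (Set.mem_insert _ _)
    have hsE : ∀ y ∈ (s : Set K), y ∈ E := fun y hy =>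
      IntermediateField.subset_adjoin F S (Set.mem_insert_of_mem _ hy)
    have hkx : IntermediateField.adjoin k ({x} : Set K) ≤ E.restrictScalars k := by
      rw [IntermediateField.adjoin_le_iff]
      rintro _ rfl
      exact hxE
    have hz : z ∈ Submodule.span (IntermediateField.adjoin k ({x} : Set K)) (s : Set K) := by
      rw [hs]; trivial
    refine Submodule.span_induction (p := fun z _ => z ∈ E) ?_ ?_ ?_ ?_ hz
    · exact fun y hy => hsE y hy
    · exact E.zero_mem
    · exact fun a b _ _ ha hb => E.add_mem ha hb
    · intro c y _ hy
      rw [Algebra.smul_def]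
      exact E.mul_mem (hkx c.2) hy
  have e : (IntermediateField.adjoin F S) ≃ₗ[F] K := by
    rw [htop]
    exact (IntermediateField.topEquiv (F := F) (E := K)).toLinearEquiv
  exact Module.Finite.equiv e

end Groth.Agent.Lib.Helper18.FF
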