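import Groth.Agent.Lib.Helper18.FF.Weil4

/-! # Canonical divisors and the Riemann–Roch theorem -/

set_option autoImplicit false
set_option linter.style.haveILetI false

namespace Groth.Agent.Lib.Helper18.FF

open FunFld WithZero Groth.Agent.Lib.Helper18.LinAlg

universe u v

variable {k : Type u} {K : Type v} [Field k] [Field K] [Algebra k K]

/-- Any two canonical divisors are linearly equivalent. -/
theorem isCanonical_equiv (hK : IsFunctionField k K) {C₁ C₂ : Divisor k K}
    (h₁ : IsCanonical k K C₁) (h₂ : IsCanonical k K C₂) :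
    ∃ x : K, x ≠ 0 ∧ C₂ = C₁ + FunFld.div k x := by
  obtain ⟨ω₁, h10, hd₁⟩ := h₁
  obtain ⟨ω₂, h20, hd₂⟩ := h₂
  obtain ⟨x, hx⟩ := exists_smulW_eq hK (isDivOf_isWeil hd₁) h10 (isDivOf_isWeil hd₂)
  have hx0 : x ≠ 0 := by
    rintro rfl
    rw [smulW_zero_left] at hx
    exact h20 hx.symm
  refine ⟨x, hx0, ?_⟩
  have := isDivOf_smulW hK hx0 hd₁
  rw [hx] at this
  exact isDivOf_unique hd₂ this

theorem smulW_mem_WD_iff_mem_L (hK : IsFunctionField k K) {ω : Module.Dual k (adele k K)}
    {C : Divisor k K} (hω : IsDivOf ω C) (D : Divisor k K) (x : K) :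
    smulW hK x ω ∈ WD D ↔ x ∈ L (C - D) := by
  rcases eq_or_ne x 0 with rfl | hx
  · rw [smulW_zero_left]
    exact ⟨fun _ => Submodule.zero_mem _, fun _ => Submodule.zero_mem _⟩
  · rw [smulW_mem_WD_iff hK hx, hω, mem_L_iff_div hK _ hx]
    constructor
    · intro h P
      have := h P
      simp only [Finsupp.add_apply, Finsupp.sub_apply, Finsupp.zero_apply] at this ⊢
      linarith
    · intro h P
      have := h P
      simp only [Finsupp.add_apply, Finsupp.sub_apply, Finsupp.zero_apply] at this ⊢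
      linarith

/-- Multiplication by `ω` is a bijection `L(C - D) → W(D)`. -/
theorem existsUnique_smulW_L (hK : IsFunctionField k K) {ω : Module.Dual k (adele k K)}
    {C : Divisor k K} (hω : IsDivOf ω C) (D : Divisor k K) {ω' : Module.Dual k (adele k K)}
    (hω' : ω' ∈ WD D) : ∃! x : K, x ∈ L (C - D) ∧ smulW hK x ω = ω' := by
  have h0 := isDivOf_ne_zero hK hω
  obtain ⟨x, hx⟩ := exists_smulW_eq hK (isDivOf_isWeil hω) h0 ⟨D, hω'⟩
  refine ⟨x, ⟨?_, hx⟩, ?_⟩
  · rw [← smulW_mem_WD_iff_mem_L hK hω, hx]; exact hω'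
  · rintro y ⟨-, hy⟩
    exact smulW_injective hK h0 (hy.trans hx.symm)

/-- The isomorphism `L(C - D) ≃ W(D)`. -/
noncomputable def LEquivWD (hK : IsFunctionField k K) {ω : Module.Dual k (adele k K)}
    {C : Divisor k K} (hω : IsDivOf ω C) (D : Divisor k K) : L (C - D) ≃ₗ[k] WD D :=
  LinearEquiv.ofBijective
    (LinearMap.codRestrict (WD D) ((smulWₗ hK ω).comp (L (C - D)).subtype)
      (fun x => (smulW_mem_WD_iff_mem_L hK hω D x.1).mpr x.2))
    ⟨by
      intro x y hxy
      have h1 := congrArg (fun z : WD D => (z : Module.Dual k (adele k K))) hxy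
      exact Subtype.ext (smulW_injective hK (isDivOf_ne_zero hK hω) h1),
    by
      intro ω'
      obtain ⟨x, ⟨hx, hx'⟩, -⟩ := existsUnique_smulW_L hK hω D ω'.2
      exact ⟨⟨x, hx⟩, Subtype.ext hx'⟩⟩

/-- **Riemann–Roch**. -/
theorem riemann_roch (hK : IsFunctionField k K) {C : Divisor k K} (hC : IsCanonical k K C)
    (D : Divisor k K) : (ell D : ℤ) = D.deg + 1 - genus k K + ell (C - D) := by
  obtain ⟨ω, -, hω⟩ := hC
  have h1 : ell (C - D) = Module.finrank k (WD D) := (LEquivWD hK hω D).finrank_eq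
  obtain ⟨-, h2⟩ := finrank_WD hK D
  unfold delta at h2
  rw [h1]
  linarith

/-- Canonical divisors exist. -/
theorem exists_isCanonical (hK : IsFunctionField k K) : ∃ W : Divisor k K, IsCanonical k K W := by
  obtain ⟨P₀⟩ := exists_place hK
  have hP₀ : (1 : ℤ) ≤ (P₀.deg : ℤ) := by exact_mod_cast deg_pos hK P₀
  set B : Divisor k K := Finsupp.single P₀ (2 : ℤ) with hB
  have hBdeg : B.deg = 2 * P₀.deg := deg_single P₀ _
  have hBpos : 0 < B.deg := by linarith
  obtain ⟨hfin, hrk⟩ := finrank_WD hK (-B)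
  haveI := hfin
  unfold delta at hrk
  rw [deg_neg, ell_neg_of_deg_pos hK hBpos] at hrk
  have hpos : 0 < Module.finrank k (WD (-B)) := by
    have : (0 : ℤ) < (Module.finrank k (WD (-B)) : ℤ) := by
      push_cast at hrk
      have := Int.natCast_nonneg (genus k K)
      linarith
    exact_mod_cast this
  haveI : Nontrivial (WD (-B)) := Module.nontrivial_of_finrank_pos (R := k) hpos
  obtain ⟨ω, hω⟩ := exists_ne (0 : WD (-B))
  have hω0 : (ω : Module.Dual k (adele k K)) ≠ 0 := fun h => hω (Subtype.ext h)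
  obtain ⟨W, hW⟩ := exists_isDivOf hK ⟨-B, ω.2⟩ hω0
  exact ⟨W, ω, hω0, hW⟩

theorem ell_canonical (hK : IsFunctionField k K) {C : Divisor k K} (hC : IsCanonical k K C) :
    ell C = genus k K := by
  have := riemann_roch hK hC 0
  rw [ell_zero hK, deg_zero, sub_zero] at this
  have h : (ell C : ℤ) = genus k K := by push_cast at this; linarith
  exact_mod_cast h

theorem deg_canonical (hK : IsFunctionField k K) {C : Divisor k K} (hC : IsCanonical k K C) :
    C.deg = 2 * (genus k K : ℤ) - 2 := by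
  have := riemann_roch hK hC C
  rw [sub_self, ell_zero hK, ell_canonical hK hC] at this
  push_cast at this
  linarith

theorem isCanonical_add_div (hK : IsFunctionField k K) {C : Divisor k K} (hC : IsCanonical k K C)
    {x : K} (hx : x ≠ 0) : IsCanonical k K (C + FunFld.div k x) := by
  obtain ⟨ω, h0, hω⟩ := hC
  refine ⟨smulW hK x ω, ?_, isDivOf_smulW hK hx hω⟩
  intro h
  rcases (smulW_eq_zero_iff hK).mp h with h | h
  · exact hx h
  · exact h0 h

/-- A divisor is canonical iff `ℓ(C) = g` and `deg C = 2g - 2`. -/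
theorem isCanonical_iff (hK : IsFunctionField k K) (C : Divisor k K) :
    IsCanonical k K C ↔ (ell C = genus k K ∧ C.deg = 2 * (genus k K : ℤ) - 2) := by
  constructor
  · intro hC
    exact ⟨ell_canonical hK hC, deg_canonical hK hC⟩
  · rintro ⟨h1, h2⟩
    obtain ⟨W, hW⟩ := exists_isCanonical hK
    have hrr := riemann_roch hK hW C
    rw [h1, h2] at hrr
    have h3 : ell (W - C) = 1 := by
      have : (ell (W - C) : ℤ) = 1 := by linarith
      exact_mod_cast this
    obtain ⟨x, hx0, hx⟩ := exists_ne_zero_mem_L_of_ell_pos (D := W - C) (by omega)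
    have h4 := (mem_L_iff_div hK _ hx0).mp hx
    have h5 : (W - C + FunFld.div k x).deg ≤ 0 := by
      rw [deg_add_div hK, deg_sub, deg_canonical hK hW, h2, sub_self]
    have h6 := eq_zero_of_nonneg_of_deg_le hK h4 h5
    have h7 : C = W + FunFld.div k x := by
      have : W - C + FunFld.div k x = 0 := h6
      have h8 : W + FunFld.div k x - C = 0 := by rw [← this]; abel
      exact (sub_eq_zero.mp h8).symm
    rw [h7]
    exact isCanonical_add_div hK hW hx0

/-- Divisors of degree at least `2g - 1` are nonspecial. -/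
theorem ell_eq_of_deg_ge (hK : IsFunctionField k K) (D : Divisor k K)
    (h : 2 * (genus k K : ℤ) - 1 ≤ D.deg) : (ell D : ℤ) = D.deg + 1 - genus k K := by
  obtain ⟨W, hW⟩ := exists_isCanonical hK
  have hrr := riemann_roch hK hW D
  have h1 : ell (W - D) = 0 := by
    unfold ell
    rw [L_eq_bot_of_deg_neg hK (W - D) (by rw [deg_sub, deg_canonical hK hW]; linarith), finrank_bot]
  rw [h1] at hrr
  push_cast at hrr
  linarith

end Groth.Agent.Lib.Helper18.FF
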