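import Groth.Agent.Lib.Helper18.FF.Adele3
import Mathlib.LinearAlgebra.Dual.Lemmas

/-! # Weil differentials: `dim W(D) = g - δ(D)` -/

set_option autoImplicit false
set_option linter.style.haveILetI false

namespace Groth.Agent.Lib.Helper18.FF

open FunFld WithZero Groth.Agent.Lib.Helper18.LinAlg

universe u v

variable {k : Type u} {K : Type v} [Field k] [Field K] [Algebra k K]

/-- `i(D) = dim A/(A(D)+K)`, the index of speciality. -/
theorem finrank_adele_quot (hK : IsFunctionField k K) (D : Divisor k K) :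
    FiniteDimensional k (↥(adele k K) ⧸ ADK D) ∧
      (Module.finrank k (↥(adele k K) ⧸ ADK D) : ℤ) = (genus k K : ℤ) - delta D :=
  relQ_adele hK D

/-- `dim W(D) = g - δ(D)`. -/
theorem finrank_WD (hK : IsFunctionField k K) (D : Divisor k K) :
    FiniteDimensional k (WD D) ∧
      (Module.finrank k (WD D) : ℤ) = (genus k K : ℤ) - delta D := by
  obtain ⟨h1, h2⟩ := finrank_adele_quot hK D
  haveI := h1
  let e : Module.Dual k (↥(adele k K) ⧸ ADK D) ≃ₗ[k] WD D :=
    Submodule.dualQuotEquivDualAnnihilator (ADK D)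
  refine ⟨Module.Finite.equiv e, ?_⟩
  rw [← e.finrank_eq, Subspace.dual_finrank_eq, h2]

end Groth.Agent.Lib.Helper18.FF
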