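import Groth.Agent.Lib.Helper18.FF.Uniformizer
import Mathlib.RingTheory.Valuation.Discrete.IsDiscreteValuationRing
import Mathlib.RingTheory.Valuation.LocalSubring

/-! # Existence of places of a function field -/

set_option autoImplicit false

namespace Groth.Agent.Lib.Helper18.FF

open FunFld IntermediateField WithZero IsDedekindDomain

universe u v

variable {k : Type u} {K : Type v} [Field k] [Field K] [Algebra k K]

theorem isDiscreteValuationRing_of_valuationSubring (hK : IsFunctionField k K) (A : ValuationSubring K)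
    (hkA : ∀ c : k, algebraMap k K c ∈ A) {y : K} (hy0 : y ≠ 0) (hy : A.valuation y < 1) :
    IsDiscreteValuationRing A := by
  obtain ⟨t, ht0, ht1, hgen⟩ := exists_generator hK A hkA hy0 hy
  have htA : t ∈ A := (A.valuation_le_one_iff _).mp ht1.le
  set p : A := ⟨t, htA⟩ with hp
  have hp0 : p ≠ 0 := fun h => ht0 (congrArg Subtype.val h)
  have hmax : IsLocalRing.maximalIdeal A = Ideal.span {p} := by
    ext a
    rw [A.valuation_lt_one_iff, Ideal.mem_span_singleton']
    constructor
    · intro ha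
      have := hgen _ ha
      rw [A.valuation_le_iff] at this
      obtain ⟨b, hb⟩ := this
      exact ⟨b, Subtype.ext hb⟩
    · rintro ⟨b, rfl⟩
      have : ((b * p : A) : K) = (b : K) * t := rfl
      rw [this, map_mul]
      exact lt_of_le_of_lt ((mul_le_mul' (A.valuation_le_one b) le_rfl).trans_eq (one_mul _)) ht1
  have hprime : Prime p := by
    rw [← Ideal.span_singleton_prime hp0, ← hmax]
    infer_instance
  refine IsDiscreteValuationRing.ofHasUnitMulPowIrreducibleFactorization ⟨p, hprime.irreducible, ?_⟩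
  intro x hx
  have hx0 : (x : K) ≠ 0 := fun h => hx (Subtype.ext h)
  obtain ⟨m, hm⟩ := exists_pow_eq hK A hkA ht0 ht1 hgen hx0 (A.valuation_le_one x)
  refine ⟨m, ?_⟩
  rw [← map_pow, A.valuation_eq_iff] at hm
  obtain ⟨a, ha⟩ := hm
  refine ⟨a, Subtype.ext ?_⟩
  have : ((p ^ m * (a : A) : A) : K) = t ^ m * (a : K) := rfl
  rw [this, mul_comm, ha]

/-- A nontrivial valuation subring of a function field containing the constants comes from a place. -/
theorem exists_place_of_valuationSubring (hK : IsFunctionField k K) (A : ValuationSubring K)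
    (hkA : ∀ c : k, algebraMap k K c ∈ A) {y : K} (hy0 : y ≠ 0) (hy : A.valuation y < 1) :
    ∃ P : Place k K, (∀ z ∈ A, P.1 z ≤ 1) ∧ ∀ z : K, A.valuation z < 1 → P.1 z < 1 := by
  haveI := isDiscreteValuationRing_of_valuationSubring hK A hkA hy0 hy
  set w := (IsDiscreteValuationRing.maximalIdeal A).valuation K with hw
  have hle : ∀ z ∈ A, w z ≤ 1 := fun z hz =>
    HeightOneSpectrum.valuation_le_one (IsDiscreteValuationRing.maximalIdeal A) (⟨z, hz⟩ : A)
  have hsurj : Function.Surjective w := by
    obtain ⟨π, hπ⟩ := HeightOneSpectrum.valuation_exists_uniformizer K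
      (IsDiscreteValuationRing.maximalIdeal A)
    intro γ
    rcases eq_or_ne γ 0 with rfl | hγ
    · exact ⟨0, map_zero _⟩
    · refine ⟨π ^ (-(log γ)), ?_⟩
      rw [map_zpow₀, hw, hπ, ← exp_zsmul, smul_eq_mul, neg_mul_neg, mul_one, exp_log hγ]
  refine ⟨⟨w, fun c => hle _ (hkA c), hsurj⟩, hle, ?_⟩
  intro z hz
  have hzA : z ∈ A := (A.valuation_le_one_iff _).mp hz.le
  have hmem : (⟨z, hzA⟩ : A) ∈ IsLocalRing.maximalIdeal A := (A.valuation_lt_one_iff _).mpr hz
  exact (HeightOneSpectrum.valuation_lt_one_iff_mem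
    (IsDiscreteValuationRing.maximalIdeal A) (⟨z, hzA⟩ : A)).mpr hmem

/-- Every nonconstant element of a function field has a zero. -/
theorem exists_zero (hK : IsFunctionField k K) {x : K} (hx : x ∉ Set.range (algebraMap k K)) :
    ∃ P : Place k K, P.1 x < 1 := by
  have htr := transcendental_of_not_mem hK hx
  have hx0 : x ≠ 0 := by rintro rfl; exact hx ⟨0, map_zero _⟩
  -- the subring `k[x]` and its ideal `(x)`
  let R : Subring K := (Algebra.adjoin k ({x} : Set K)).toSubring
  have hxR : x ∈ R := Algebra.self_mem_adjoin_singleton k x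
  let I : Ideal R := Ideal.span {(⟨x, hxR⟩ : R)}
  have hI : I ≠ ⊤ := by
    intro h
    rw [Ideal.eq_top_iff_one, Ideal.mem_span_singleton'] at h
    obtain ⟨⟨a, haR⟩, ha⟩ := h
    have ha' : a * x = 1 := congrArg Subtype.val ha
    have haR' : a ∈ Algebra.adjoin k ({x} : Set K) := haR
    rw [Algebra.adjoin_singleton_eq_range_aeval] at haR'
    obtain ⟨q, rfl⟩ := haR'
    have h0 : Polynomial.aeval x (q * Polynomial.X - 1) = 0 := by
      rw [map_sub, map_mul, Polynomial.aeval_X, map_one]
      exact sub_eq_zero.mpr ha'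
    have h1 : q * Polynomial.X - 1 = 0 := by
      by_contra hne
      exact htr ⟨_, hne, h0⟩
    have h2 := congrArg (Polynomial.eval 0) h1
    simp at h2
  obtain ⟨A, hRA, hIA⟩ := Ideal.image_subset_nonunits_valuationSubring I hI
  have hkA : ∀ c : k, algebraMap k K c ∈ A := fun c =>
    hRA ((Algebra.adjoin k ({x} : Set K)).algebraMap_mem c)
  have hxA : A.valuation x < 1 := by
    rw [← ValuationSubring.mem_nonunits_iff]
    exact hIA ⟨⟨x, hxR⟩, Ideal.subset_span rfl, rfl⟩
  obtain ⟨P, -, hP⟩ := exists_place_of_valuationSubring hK A hkA hx0 hxA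
  exact ⟨P, hP x hxA⟩

/-- Every nonconstant element of a function field has a pole. -/
theorem exists_pole (hK : IsFunctionField k K) {x : K} (hx : x ∉ Set.range (algebraMap k K)) :
    ∃ P : Place k K, 1 < P.1 x := by
  have hx0 : x ≠ 0 := by rintro rfl; exact hx ⟨0, map_zero _⟩
  have hinv : x⁻¹ ∉ Set.range (algebraMap k K) := by
    rintro ⟨c, hc⟩
    exact hx ⟨c⁻¹, by rw [map_inv₀, hc, inv_inv]⟩
  obtain ⟨P, hP⟩ := exists_zero hK hinv
  refine ⟨P, ?_⟩
  rw [map_inv₀] at hP
  exact (inv_lt_one₀ (zero_lt_iff.mpr ((Valuation.ne_zero_iff _).mpr hx0))).mp hP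

end Groth.Agent.Lib.Helper18.FF
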