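import Groth.Agent.Lib.Helper18.FF.Degree
import Mathlib.Algebra.Polynomial.OfFn

/-! # `[K : k(x)] ≤ deg (x)_∞` and the degree theorem -/

set_option autoImplicit false

namespace Groth.Agent.Lib.Helper18.FF

open FunFld IntermediateField WithZero

universe u v

variable {k : Type u} {K : Type v} [Field k] [Field K] [Algebra k K]

theorem deg_nsmul (l : ℕ) (D : Divisor k K) : (l • D).deg = l * D.deg := by
  induction l with
  | zero => simp [deg_zero]
  | succ n ih => rw [succ_nsmul, deg_add, ih]; push_cast; ring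

theorem deg_finset_sum {ι : Type*} (s : Finset ι) (f : ι → Divisor k K) :
    (∑ i ∈ s, f i).deg = ∑ i ∈ s, (f i).deg := by
  classical
  induction s using Finset.induction_on with
  | empty => simp [deg_zero]
  | insert a s ha ih => rw [Finset.sum_insert ha, Finset.sum_insert ha, deg_add, ih]

/-- Powers of a transcendental element times a `k(x)`-basis are `k`-linearly independent. -/
theorem linearIndependent_pow_mul_basis {x : K} (hx : Transcendental k x) {N : ℕ}
    (b : Module.Basis (Fin N) (IntermediateField.adjoin k ({x} : Set K)) K) (l : ℕ) :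
    LinearIndependent k (fun ij : Fin (l + 1) × Fin N => x ^ (ij.1 : ℕ) * b ij.2) := by
  classical
  rw [Fintype.linearIndependent_iff]
  intro a ha
  -- coefficients in `k(x)`
  let c : Fin N → IntermediateField.adjoin k ({x} : Set K) := fun j =>
    ∑ i : Fin (l + 1), a (i, j) • (AdjoinSimple.gen k x) ^ (i : ℕ)
  have hc : ∀ j, ((c j : IntermediateField.adjoin k ({x} : Set K)) : K) =
      ∑ i : Fin (l + 1), a (i, j) • x ^ (i : ℕ) := by
    intro j
    simp only [c, AddSubmonoidClass.coe_finset_sum, IntermediateField.coe_smul,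
      SubmonoidClass.coe_pow, AdjoinSimple.coe_gen]
  have hsum : ∑ j, c j • b j = 0 := by
    rw [← ha, Fintype.sum_prod_type, Finset.sum_comm]
    refine Finset.sum_congr rfl fun j _ => ?_
    rw [IntermediateField.smul_def, hc j, smul_eq_mul, Finset.sum_mul]
    refine Finset.sum_congr rfl fun i _ => ?_
    rw [smul_mul_assoc]
  have hc0 := Fintype.linearIndependent_iff.mp b.linearIndependent c hsum
  rintro ⟨i, j⟩
  have h1 : ∑ i : Fin (l + 1), a (i, j) • x ^ (i : ℕ) = 0 := by
    rw [← hc j, hc0 j]; rfl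
  have h2 : Polynomial.aeval x (Polynomial.ofFn (l + 1) fun i => a (i, j)) = 0 := by
    rw [Polynomial.ofFn_eq_sum_monomial, map_sum, ← h1]
    refine Finset.sum_congr rfl fun i _ => ?_
    rw [Polynomial.aeval_monomial, Algebra.smul_def]
  have h3 : Polynomial.ofFn (l + 1) (fun i => a (i, j)) = 0 := by
    by_contra hne
    exact hx ⟨_, hne, h2⟩
  have h4 := congrArg (fun p => Polynomial.coeff p (i : ℕ)) h3
  simp only [Polynomial.coeff_zero] at h4
  rw [Polynomial.ofFn_coeff_eq_val_of_lt _ i.2] at h4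
  exact h4

/-- `[K : k(x)] ≤ deg (x)_∞`. -/
theorem finrank_le_deg_poleDiv (hK : IsFunctionField k K) {x : K} (hx : Transcendental k x) :
    (Module.finrank (IntermediateField.adjoin k ({x} : Set K)) K : ℤ) ≤ (poleDiv (k := k) x).deg := by
  classical
  haveI := finiteDimensional_adjoin_of_transcendental hK hx
  set N := Module.finrank (IntermediateField.adjoin k ({x} : Set K)) K with hN
  let b : Module.Basis (Fin N) (IntermediateField.adjoin k ({x} : Set K)) K :=
    Module.finBasis (IntermediateField.adjoin k ({x} : Set K)) K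
  set B : Divisor k K := poleDiv x with hB
  set C : Divisor k K := ∑ j, poleDiv (k := k) (b j) with hC
  have hBnonneg : 0 ≤ B := poleDiv_nonneg x
  have hCnonneg : 0 ≤ C := Finset.sum_nonneg fun j _ => poleDiv_nonneg (b j)
  have hbC : ∀ j P, P.1 (b j) ≤ exp (C P) := by
    intro j P
    refine (val_le_exp_poleDiv hK (b j) P).trans (exp_le_exp.mpr ?_)
    rw [hC, Finsupp.finset_sum_apply]
    exact Finset.single_le_sum (f := fun j => poleDiv (k := k) (b j) P)
      (fun j _ => poleDiv_nonneg (b j) P) (Finset.mem_univ j)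
  have key : ∀ l : ℕ, (((l : ℤ) + 1) * N : ℤ) ≤ 1 + l * B.deg + C.deg := by
    intro l
    have hwL : ∀ ij : Fin (l + 1) × Fin N, x ^ (ij.1 : ℕ) * b ij.2 ∈ L (l • B + C) := by
      rintro ⟨i, j⟩ P
      rw [map_mul, map_pow, Finsupp.add_apply, Finsupp.smul_apply, exp_add, exp_nsmul]
      refine mul_le_mul' ?_ (hbC j P)
      have h1 : P.1 x ≤ exp (B P) := val_le_exp_poleDiv hK x P
      have h2 : (1 : ℤᵐ⁰) ≤ exp (B P) := by
        rw [← exp_zero, exp_le_exp]; exact hBnonneg P
      calc P.1 x ^ (i : ℕ) ≤ exp (B P) ^ (i : ℕ) := pow_le_pow_left' h1 _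
        _ ≤ exp (B P) ^ l := pow_le_pow_right' h2 (Nat.lt_succ_iff.mp i.2)
    have hli := linearIndependent_pow_mul_basis hx b l
    have hli' : LinearIndependent k (fun ij : Fin (l + 1) × Fin N =>
        (⟨x ^ (ij.1 : ℕ) * b ij.2, hwL ij⟩ : L (l • B + C))) :=
      LinearIndependent.of_comp (Submodule.subtype _) hli
    haveI := finiteDimensional_L hK (l • B + C)
    have h1 := hli'.fintype_card_le_finrank
    rw [Fintype.card_prod, Fintype.card_fin, Fintype.card_fin] at h1
    have h2 := ell_sub_ell_le hK (D₁ := 0) (D₂ := l • B + C)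
      (add_nonneg (nsmul_nonneg hBnonneg l) hCnonneg)
    rw [ell_zero hK, deg_zero, deg_add, deg_nsmul] at h2
    have h3 : (((l + 1) * N : ℕ) : ℤ) ≤ (ell (l • B + C) : ℤ) := by
      exact_mod_cast h1
    push_cast at h3 h2
    linarith
  by_contra hlt
  push Not at hlt
  have h1 := key (1 + C.deg).toNat
  have h2 : (1 + C.deg) ≤ ((1 + C.deg).toNat : ℤ) := Int.self_le_toNat _
  have h3 : (0 : ℤ) < N := by
    have : 0 < N := Module.finrank_pos
    exact_mod_cast this
  have h4 : B.deg ≤ N - 1 := by omega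
  have h5 : (((1 + C.deg).toNat : ℤ)) * B.deg ≤ ((1 + C.deg).toNat : ℤ) * (N - 1) :=
    mul_le_mul_of_nonneg_left h4 (Int.natCast_nonneg _)
  nlinarith

end Groth.Agent.Lib.Helper18.FF
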