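import Groth.Agent.Lib.Helper18.FF.Finite
import Groth.Agent.Lib.Helper18.FF.Degree2
import Groth.Prelude.Def_W4bk4goldsch45

/-! # The divisor of a projective map -/

set_option autoImplicit false
set_option linter.style.haveILetI false

namespace Groth.Agent.Lib.Helper18.FF

open FunFld WithZero

universe u v

variable {k : Type u} {K : Type v} [Field k] [Field K] [Algebra k K]

theorem mapDiv_support_finite (hK : IsFunctionField k K) {ι : Type*} [Fintype ι] [Nonempty ι]
    (φ : ι → K) :
    (Function.support fun P : Place k K =>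
      -Finset.univ.inf' Finset.univ_nonempty (fun i => P.ord (φ i))).Finite := by
  refine Set.Finite.subset (Set.finite_iUnion fun i => finite_support_ord hK (φ i)) ?_
  intro P hP
  obtain ⟨i, -, hi⟩ := Finset.exists_mem_eq_inf' Finset.univ_nonempty (fun i => P.ord (φ i))
  rw [Function.mem_support, neg_ne_zero, hi] at hP
  exact Set.mem_iUnion.mpr ⟨i, hP⟩

theorem mapDiv_apply (hK : IsFunctionField k K) {ι : Type*} [Fintype ι] [Nonempty ι]
    (φ : ι → K) (P : Place k K) :
    mapDiv k φ P = -Finset.univ.inf' Finset.univ_nonempty (fun i => P.ord (φ i)) := by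
  unfold mapDiv
  rw [dif_pos (mapDiv_support_finite hK φ)]
  rfl

theorem neg_mapDiv_le (hK : IsFunctionField k K) {ι : Type*} [Fintype ι] [Nonempty ι]
    (φ : ι → K) (P : Place k K) (i : ι) : -(mapDiv k φ P) ≤ P.ord (φ i) := by
  rw [mapDiv_apply hK, neg_neg]
  exact Finset.inf'_le _ (Finset.mem_univ i)

theorem exists_mapDiv_eq (hK : IsFunctionField k K) {ι : Type*} [Fintype ι] [Nonempty ι]
    (φ : ι → K) (P : Place k K) : ∃ i, mapDiv k φ P = -P.ord (φ i) := by
  obtain ⟨i, -, hi⟩ := Finset.exists_mem_eq_inf' Finset.univ_nonempty (fun i => P.ord (φ i))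
  exact ⟨i, by rw [mapDiv_apply hK, hi]⟩

theorem mem_L_mapDiv (hK : IsFunctionField k K) {ι : Type*} [Fintype ι] [Nonempty ι]
    (φ : ι → K) (i : ι) : φ i ∈ L (mapDiv k φ) := by
  intro P
  rcases eq_or_ne (φ i) 0 with h | h
  · rw [h, map_zero]; exact zero_le'
  · rw [val_le_exp_iff P h]
    exact neg_mapDiv_le hK φ P i

end Groth.Agent.Lib.Helper18.FF
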