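import Groth.Agent.Lib.Helper18.FF.LocRing
import Groth.Agent.Lib.Helper18.FF.MapDiv
import Mathlib.RingTheory.MvPolynomial.Homogeneous

/-! # Projective maps: independence of the local ring from the chosen chart -/

set_option autoImplicit false
set_option linter.style.haveILetI false

namespace Groth.Agent.Lib.Helper18.FF

open FunFld WithZero

universe u v

variable {k : Type u} {K : Type v} [Field k] [Field K] [Algebra k K]

/-- Changing the chart: an element of the `j'`-th chart algebra becomes an element of the `j`-th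
one after multiplication by a power of `φ j' / φ j`. -/
theorem exists_pow_mul_mem_adjoin {ι : Type*} (φ : ι → K) (j j' : ι) (hj : φ j ≠ 0)
    (hj' : φ j' ≠ 0) {a : K} (ha : a ∈ Algebra.adjoin k (Set.range fun i => φ i / φ j')) :
    ∃ d : ℕ, ∀ e : ℕ, d ≤ e →
      (φ j' / φ j) ^ e * a ∈ Algebra.adjoin k (Set.range fun i => φ i / φ j) := by
  have hc : φ j' / φ j ∈ Algebra.adjoin k (Set.range fun i => φ i / φ j) :=
    Algebra.subset_adjoin ⟨j', rfl⟩
  induction ha using Algebra.adjoin_induction with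
  | mem x hx =>
    obtain ⟨i, rfl⟩ := hx
    refine ⟨1, fun e he => ?_⟩
    obtain ⟨e', rfl⟩ : ∃ e', e = e' + 1 := ⟨e - 1, by omega⟩
    have : (φ j' / φ j) ^ (e' + 1) * (φ i / φ j') = (φ j' / φ j) ^ e' * (φ i / φ j) := by
      rw [pow_succ]
      field_simp
    rw [this]
    exact Subalgebra.mul_mem _ (Subalgebra.pow_mem _ hc _) (Algebra.subset_adjoin ⟨i, rfl⟩)
  | algebraMap r =>
    exact ⟨0, fun e _ => Subalgebra.mul_mem _ (Subalgebra.pow_mem _ hc _)
      (Subalgebra.algebraMap_mem _ r)⟩
  | add x y _ _ hx hy =>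
    obtain ⟨d₁, h₁⟩ := hx
    obtain ⟨d₂, h₂⟩ := hy
    refine ⟨max d₁ d₂, fun e he => ?_⟩
    rw [mul_add]
    exact Subalgebra.add_mem _ (h₁ e (le_trans (le_max_left _ _) he))
      (h₂ e (le_trans (le_max_right _ _) he))
  | mul x y _ _ hx hy =>
    obtain ⟨d₁, h₁⟩ := hx
    obtain ⟨d₂, h₂⟩ := hy
    refine ⟨d₁ + d₂, fun e he => ?_⟩
    obtain ⟨e', rfl⟩ : ∃ e', e = d₁ + e' := ⟨e - d₁, by omega⟩
    have : (φ j' / φ j) ^ (d₁ + e') * (x * y) =
        ((φ j' / φ j) ^ d₁ * x) * ((φ j' / φ j) ^ e' * y) := by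
      rw [pow_add]
      ring
    rw [this]
    exact Subalgebra.mul_mem _ (h₁ d₁ le_rfl) (h₂ e' (by omega))

/-- Membership in the local ring can be tested in any chart whose index has least order. -/
theorem inLocRing_index {ι : Type*} (φ : ι → K) (P : Place k K) {z : K}
    (hz : InLocRing φ P z) (j : ι) (hj : φ j ≠ 0) (hjmax : ∀ i, P.1 (φ i) ≤ P.1 (φ j)) :
    ∃ u ∈ Algebra.adjoin k (Set.range fun i => φ i / φ j),
      ∃ w ∈ Algebra.adjoin k (Set.range fun i => φ i / φ j), P.1 w = 1 ∧ z * w = u := by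
  obtain ⟨j', hj', hj'max, u', hu', w', hw', hw'P, hzw⟩ := hz
  have hval : P.1 (φ j' / φ j) = 1 := by
    have h1 : P.1 (φ j') = P.1 (φ j) := le_antisymm (hjmax j') (hj'max j)
    have h2 : P.1 (φ j) ≠ 0 := (Valuation.ne_zero_iff _).mpr hj
    rw [map_div₀, h1, div_self h2]
  obtain ⟨d₁, h₁⟩ := exists_pow_mul_mem_adjoin φ j j' hj hj' hu'
  obtain ⟨d₂, h₂⟩ := exists_pow_mul_mem_adjoin φ j j' hj hj' hw'
  refine ⟨(φ j' / φ j) ^ (d₁ + d₂) * u', h₁ _ (by omega), (φ j' / φ j) ^ (d₁ + d₂) * w',
    h₂ _ (by omega), ?_, ?_⟩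
  · rw [map_mul, map_pow, hval, one_pow, one_mul, hw'P]
  · rw [← hzw]
    ring

/-- The chart algebra at an index of least order lies in the valuation ring. -/
theorem val_le_one_of_mem_adjoin {ι : Type*} (φ : ι → K) (P : Place k K) (j : ι) (hj : φ j ≠ 0)
    (hjmax : ∀ i, P.1 (φ i) ≤ P.1 (φ j)) {a : K}
    (ha : a ∈ Algebra.adjoin k (Set.range fun i => φ i / φ j)) : P.1 a ≤ 1 := by
  have h2 : P.1 (φ j) ≠ 0 := (Valuation.ne_zero_iff _).mpr hj
  induction ha using Algebra.adjoin_induction with
  | mem x hx =>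
    obtain ⟨i, rfl⟩ := hx
    rw [map_div₀]
    exact (div_le_one₀ (zero_lt_iff.mpr h2)).mpr (hjmax i)
  | algebraMap r => exact val_algebraMap_le P r
  | add x y _ _ hx hy => exact (Valuation.map_add _ _ _).trans (max_le hx hy)
  | mul x y _ _ hx hy =>
    rw [map_mul]
    exact mul_le_one' hx hy

/-- Elements of the local ring are integral at `P`. -/
theorem val_le_one_of_inLocRing {ι : Type*} (φ : ι → K) (P : Place k K) {z : K}
    (hz : InLocRing φ P z) : P.1 z ≤ 1 := by
  obtain ⟨j, hj, hjmax, u, hu, w, hw, hwP, hzw⟩ := hz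
  have := val_le_one_of_mem_adjoin φ P j hj hjmax hu
  rw [← hzw, map_mul, hwP, mul_one] at this
  exact this

/-- If the generators are congruent to common constants at two places, so is every element of
the algebra they generate. -/
theorem exists_common_const_of_mem_adjoin (P Q : Place k K) (s : Set K)
    (hs : ∀ x ∈ s, ∃ c : k, P.1 (x - algebraMap k K c) < 1 ∧ Q.1 (x - algebraMap k K c) < 1)
    {a : K} (ha : a ∈ Algebra.adjoin k s) :
    ∃ c : k, P.1 (a - algebraMap k K c) < 1 ∧ Q.1 (a - algebraMap k K c) < 1 := by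
  have hle1 : ∀ (R : Place k K) (b : K) (d : k), R.1 (b - algebraMap k K d) < 1 → R.1 b ≤ 1 := by
    intro R b d hbd
    have : b = (b - algebraMap k K d) + algebraMap k K d := by ring
    rw [this]
    exact (Valuation.map_add _ _ _).trans (max_le hbd.le (val_algebraMap_le R d))
  induction ha using Algebra.adjoin_induction with
  | mem x hx => exact hs x hx
  | algebraMap r =>
    exact ⟨r, by rw [sub_self, map_zero]; exact zero_lt_one, by
      rw [sub_self, map_zero]; exact zero_lt_one⟩
  | add x y _ _ hx hy =>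
    obtain ⟨c, hcP, hcQ⟩ := hx
    obtain ⟨d, hdP, hdQ⟩ := hy
    refine ⟨c + d, ?_, ?_⟩
    · have : x + y - algebraMap k K (c + d) =
          (x - algebraMap k K c) + (y - algebraMap k K d) := by
        rw [map_add]; ring
      rw [this]
      exact lt_of_le_of_lt (Valuation.map_add _ _ _) (max_lt hcP hdP)
    · have : x + y - algebraMap k K (c + d) =
          (x - algebraMap k K c) + (y - algebraMap k K d) := by
        rw [map_add]; ring
      rw [this]
      exact lt_of_le_of_lt (Valuation.map_add _ _ _) (max_lt hcQ hdQ)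
  | mul x y _ _ hx hy =>
    obtain ⟨c, hcP, hcQ⟩ := hx
    obtain ⟨d, hdP, hdQ⟩ := hy
    have key : ∀ R : Place k K, R.1 (x - algebraMap k K c) < 1 → R.1 (y - algebraMap k K d) < 1 →
        R.1 (x * y - algebraMap k K (c * d)) < 1 := by
      intro R h1 h2
      have : x * y - algebraMap k K (c * d) =
          (x - algebraMap k K c) * y + algebraMap k K c * (y - algebraMap k K d) := by
        rw [map_mul]; ring
      rw [this]
      refine lt_of_le_of_lt (Valuation.map_add _ _ _) (max_lt ?_ ?_)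
      · rw [map_mul]
        calc R.1 (x - algebraMap k K c) * R.1 y ≤ R.1 (x - algebraMap k K c) * 1 :=
              mul_le_mul' le_rfl (hle1 R y d h2)
          _ = R.1 (x - algebraMap k K c) := mul_one _
          _ < 1 := h1
      · rw [map_mul]
        calc R.1 (algebraMap k K c) * R.1 (y - algebraMap k K d)
            ≤ 1 * R.1 (y - algebraMap k K d) := mul_le_mul' (val_algebraMap_le R c) le_rfl
          _ = R.1 (y - algebraMap k K d) := one_mul _
          _ < 1 := h2
    exact ⟨c * d, key P hcP hdP, key Q hcQ hdQ⟩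

/-- Scaling the arguments of a homogeneous polynomial. -/
theorem aeval_mul_of_isHomogeneous {σ : Type*} [Fintype σ] {g : MvPolynomial σ k} {D : ℕ}
    (hg : g.IsHomogeneous D) (c : K) (φ : σ → K) :
    MvPolynomial.aeval (fun i => c * φ i) g = c ^ D * MvPolynomial.aeval φ g := by
  rw [MvPolynomial.aeval_def, MvPolynomial.aeval_def, MvPolynomial.eval₂_eq',
    MvPolynomial.eval₂_eq', Finset.mul_sum]
  refine Finset.sum_congr rfl fun d hd => ?_
  have hd' : MvPolynomial.coeff d g ≠ 0 := MvPolynomial.mem_support_iff.mp hd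
  have hdeg : ∑ i, d i = D := by
    rw [← Finsupp.degree_eq_sum]
    have := hg hd'
    rw [← this, Finsupp.degree_eq_weight_one]
    rfl
  simp only [mul_pow, Finset.prod_mul_distrib, Finset.prod_pow_eq_pow_sum, hdeg]
  ring

theorem val_eq_one_of_ord_eq_zero (P : Place k K) {x : K} (hx : x ≠ 0) (h : P.ord x = 0) :
    P.1 x = 1 := by
  rw [val_eq_exp_neg_ord P hx, h, neg_zero, exp_zero]

/-- Places where a nonzero function is not a unit are finite in number. -/
theorem finite_val_ne_one (hK : IsFunctionField k K) {x : K} (hx : x ≠ 0) :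
    {P : Place k K | P.1 x ≠ 1}.Finite := by
  refine (finite_support_ord hK x).subset ?_
  intro P hP
  rw [Function.mem_support]
  intro h
  exact hP (val_eq_one_of_ord_eq_zero P hx h)

end Groth.Agent.Lib.Helper18.FF
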