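import Groth.Agent.Lib.Helper18.FF.Adele2

/-! # `dim A/(A(D)+K) = g - δ(D)` -/

set_option autoImplicit false
set_option linter.style.haveILetI false

namespace Groth.Agent.Lib.Helper18.FF

open FunFld WithZero Groth.Agent.Lib.Helper18.LinAlg

universe u v

variable {k : Type u} {K : Type v} [Field k] [Field K] [Algebra k K]

theorem mem_adele {a : Place k K → K} :
    a ∈ adele k K ↔ {P : Place k K | ¬ P.1 (a P) ≤ 1}.Finite := by
  show (∀ᶠ P : Place k K in Filter.cofinite, P.1 (a P) ≤ 1) ↔ _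
  rw [Filter.eventually_cofinite]

theorem AD_le_adele (D : Divisor k K) : AD D ≤ adele k K := by
  intro a ha
  rw [mem_adele]
  refine D.support.finite_toSet.subset ?_
  intro P hP
  rw [Finset.mem_coe, Finsupp.mem_support_iff]
  intro h0
  apply hP
  have := ha P
  rw [h0, exp_zero] at this
  exact this

theorem exists_place (hK : IsFunctionField k K) : Nonempty (Place k K) := by
  obtain ⟨t, ht, -⟩ := hK.1
  have hnc : t ∉ Set.range (algebraMap k K) := by
    rintro ⟨c, rfl⟩
    exact ht (isAlgebraic_algebraMap c)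
  obtain ⟨P, -⟩ := exists_zero hK hnc
  exact ⟨P⟩

theorem finite_poles' (hK : IsFunctionField k K) (x : K) :
    {P : Place k K | ¬ P.1 x ≤ 1}.Finite := by
  rcases eq_or_ne x 0 with rfl | hx0
  · simp
  · refine (finite_support_ord hK x).subset ?_
    intro P hP
    have hP' : 1 < P.1 x := not_le.mp hP
    have := (one_lt_val_iff_ord_neg P hx0).mp hP'
    show P.ord x ≠ 0
    omega

theorem range_diag_le_adele (hK : IsFunctionField k K) : LinearMap.range (diag k K) ≤ adele k K := by
  rintro _ ⟨x, rfl⟩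
  rw [mem_adele]
  exact finite_poles' hK x

/-- Every repartition lies in some `A(D')` with `D' ≥ D`. -/
theorem exists_ge_mem_AD (D : Divisor k K) {a : Place k K → K} (ha : a ∈ adele k K) :
    ∃ D' : Divisor k K, D ≤ D' ∧ a ∈ AD D' := by
  classical
  rw [mem_adele] at ha
  set S := ha.toFinset with hS
  let E : Divisor k K := Finsupp.onFinset S (fun P => ((-P.ord (a P)).toNat : ℤ)) (by
    intro P hP
    rw [hS, Set.Finite.mem_toFinset]
    intro hle
    apply hP
    rcases eq_or_ne (a P) 0 with h0 | h0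
    · rw [h0, ord_zero]; rfl
    · have := (val_le_one_iff_ord_nonneg P h0).mp hle
      have h2 : (-P.ord (a P)).toNat = 0 := by omega
      rw [h2]; rfl)
  have hE : ∀ P, E P = ((-P.ord (a P)).toNat : ℤ) := fun P => rfl
  have hE0 : 0 ≤ E := fun P => by rw [hE]; exact Int.natCast_nonneg _
  refine ⟨toDiv (posPart D) + E, (le_toDiv_posPart D).trans (le_add_of_nonneg_right hE0), ?_⟩
  intro P
  rw [Finsupp.add_apply, hE]
  have h1 : (0 : ℤ) ≤ toDiv (posPart D) P := toDiv_nonneg _ P
  rcases eq_or_ne (a P) 0 with h0 | h0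
  · rw [h0, map_zero]; exact zero_le'
  · rw [val_eq_exp_neg_ord P h0, exp_le_exp]
    have := Int.self_le_toNat (-P.ord (a P))
    linarith

/-- Every divisor is dominated by one with `δ = g`. -/
theorem exists_ge_delta_eq_genus (hK : IsFunctionField k K) (D : Divisor k K) :
    ∃ D₁ : Divisor k K, D ≤ D₁ ∧ delta D₁ = genus k K := by
  obtain ⟨N, hN⟩ := exists_delta_eq_genus_of_le_deg hK
  obtain ⟨P⟩ := exists_place hK
  have hP := deg_pos hK P
  set m : ℕ := (N - D.deg).toNat with hm
  refine ⟨D + Finsupp.single P (m : ℤ), ?_, ?_⟩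
  · intro Q
    rw [Finsupp.add_apply]
    have : (0 : ℤ) ≤ (Finsupp.single P (m : ℤ)) Q := by
      by_cases hQ : Q = P
      · subst hQ; simp
      · rw [Finsupp.single_eq_of_ne hQ]
    linarith
  · apply hN
    rw [deg_add, deg_single]
    have h1 : N - D.deg ≤ (m : ℤ) := Int.self_le_toNat _
    have h2 : (1 : ℤ) ≤ (P.deg : ℤ) := by exact_mod_cast hP
    have h3 : (0 : ℤ) ≤ (m : ℤ) := Int.natCast_nonneg _
    nlinarith

theorem delta_eq_genus_of_ge (hK : IsFunctionField k K) {D₁ D₂ : Divisor k K} (h : D₁ ≤ D₂)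
    (h1 : delta D₁ = genus k K) : delta D₂ = genus k K :=
  le_antisymm (delta_le_genus hK D₂) (h1 ▸ delta_mono hK h)

/-- `A = A(D₁) + K` when `δ(D₁) = g`. -/
theorem adele_eq_of_delta_eq_genus (hK : IsFunctionField k K) {D₁ : Divisor k K}
    (h1 : delta D₁ = genus k K) : adele k K = AD D₁ ⊔ LinearMap.range (diag k K) := by
  apply le_antisymm
  · intro a ha
    obtain ⟨D₂, hD₂, haD₂⟩ := exists_ge_mem_AD D₁ ha
    obtain ⟨hfin, hrk⟩ := relQ_ADK hK hD₂
    rw [delta_eq_genus_of_ge hK hD₂ h1, h1, sub_self] at hrk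
    haveI := hfin
    have := le_of_finrank_relQ_eq_zero _ _ (by exact_mod_cast hrk :
      Module.finrank k (relQ (AD D₁ ⊔ LinearMap.range (diag k K))
        (AD D₂ ⊔ LinearMap.range (diag k K))) = 0)
    exact this (Submodule.mem_sup_left haD₂)
  · exact sup_le (AD_le_adele D₁) (range_diag_le_adele hK)

/-- `dim A/(A(D)+K) = g - δ(D)`. -/
theorem relQ_adele (hK : IsFunctionField k K) (D : Divisor k K) :
    FiniteDimensional k (relQ (AD D ⊔ LinearMap.range (diag k K)) (adele k K)) ∧
      (Module.finrank k (relQ (AD D ⊔ LinearMap.range (diag k K)) (adele k K)) : ℤ) =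
        (genus k K : ℤ) - delta D := by
  obtain ⟨D₁, hD₁, hδ⟩ := exists_ge_delta_eq_genus hK D
  obtain ⟨hfin, hrk⟩ := relQ_ADK hK hD₁
  rw [adele_eq_of_delta_eq_genus hK hδ]
  rw [hδ] at hrk
  exact ⟨hfin, hrk⟩

end Groth.Agent.Lib.Helper18.FF
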