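import Groth.Agent.Lib.Helper18.FF.Codim
import Groth.Agent.Lib.Helper18.FF.Adele3

/-! # Finite generation over a chart algebra and the conductor -/

set_option autoImplicit false
set_option linter.style.haveILetI false

namespace Groth.Agent.Lib.Helper18.FF

open FunFld WithZero

universe u v

variable {k : Type u} {K : Type v} [Field k] [Field K] [Algebra k K]

/-- The chart algebra at an index `j` (no place fixed). -/
theorem chart_global [Infinite k] (hK : IsFunctionField k K) {n : ℕ} (φ : Fin (n + 1) → K)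
    (hφ : LinearIndependent k φ) (j : Fin (n + 1)) :
    ∃ E : Divisor k K, 0 ≤ E ∧
      (∀ P : Place k K, (∀ i, P.1 (φ i) ≤ P.1 (φ j)) → E P = 0) ∧
      (∀ P : Place k K, E P = 0 → ∀ i, P.1 (φ i) ≤ P.1 (φ j)) ∧
      (∀ a ∈ Algebra.adjoin k (Set.range fun i => φ i / φ j), ∃ m : ℕ, a ∈ L (m • E)) ∧
      ∃ x ∈ Algebra.adjoin k (Set.range fun i => φ i / φ j), x ≠ 0 ∧ x ∈ L E ∧
        ∀ R, 0 < E R → (FunFld.div k x) R = - E R := by
  classical
  have hφ0 : ∀ i, φ i ≠ 0 := fun i => hφ.ne_zero i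
  obtain ⟨ψ, hψ⟩ : ∃ ψ : Fin (n + 1) → K, ψ = fun i => φ i / φ j := ⟨_, rfl⟩
  have hψ0 : ∀ i, ψ i ≠ 0 := fun i => by
    rw [hψ]
    exact div_ne_zero (hφ0 i) (hφ0 j)
  have hψj : ψ j = 1 := by
    rw [hψ]
    exact div_self (hφ0 j)
  rw [← hψ]
  obtain ⟨E, hEdef⟩ : ∃ E : Divisor k K, E = mapDiv k ψ := ⟨_, rfl⟩
  have hE : 0 ≤ E := by
    intro R
    have h := neg_mapDiv_le hK ψ R j
    rw [hψj, ord_one, ← hEdef] at h
    rw [Finsupp.zero_apply]
    omega
  have hψE : ∀ i, ψ i ∈ L E := fun i => hEdef ▸ mem_L_mapDiv hK ψ i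
  have hatt : ∀ R : Place k K, ∃ i, E R = -R.ord (ψ i) := fun R =>
    hEdef ▸ exists_mapDiv_eq hK ψ R
  have hEP : ∀ P : Place k K, (∀ i, P.1 (φ i) ≤ P.1 (φ j)) → E P = 0 := by
    intro P hjmax
    have hψP : ∀ i, P.1 (ψ i) ≤ 1 := fun i => by
      rw [hψ, map_div₀]
      exact (div_le_one₀ (zero_lt_iff.mpr ((Valuation.ne_zero_iff _).mpr (hφ0 j)))).mpr (hjmax i)
    obtain ⟨i, hi⟩ := hatt P
    have h1 := (val_le_one_iff_ord_nonneg P (hψ0 i)).mp (hψP i)
    have h2 : (0 : ℤ) ≤ E P := hE P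
    omega
  have hEP' : ∀ P : Place k K, E P = 0 → ∀ i, P.1 (φ i) ≤ P.1 (φ j) := by
    intro P h0 i
    have h1 := hψE i P
    rw [h0, exp_zero, hψ, map_div₀] at h1
    exact (div_le_one₀ (zero_lt_iff.mpr ((Valuation.ne_zero_iff _).mpr (hφ0 j)))).mp h1
  have hAL : ∀ a ∈ Algebra.adjoin k (Set.range ψ), ∃ m : ℕ, a ∈ L (m • E) := by
    intro a ha
    induction ha using Algebra.adjoin_induction with
    | mem y hy =>
      obtain ⟨i, rfl⟩ := hy
      exact ⟨1, by rw [one_smul]; exact hψE i⟩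
    | algebraMap c =>
      refine ⟨0, ?_⟩
      rw [zero_smul, L_zero_eq_one hK]
      exact Submodule.mem_one.mpr ⟨c, rfl⟩
    | add y z _ _ hy hz =>
      obtain ⟨m₁, h₁⟩ := hy
      obtain ⟨m₂, h₂⟩ := hz
      exact ⟨max m₁ m₂, Submodule.add_mem _
        (L_mono (nsmul_mono_of_nonneg hE (le_max_left _ _)) h₁)
        (L_mono (nsmul_mono_of_nonneg hE (le_max_right _ _)) h₂)⟩
    | mul y z _ _ hy hz =>
      obtain ⟨m₁, h₁⟩ := hy
      obtain ⟨m₂, h₂⟩ := hz
      refine ⟨m₁ + m₂, ?_⟩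
      rw [add_smul]
      exact mul_mem_L h₁ h₂
  refine ⟨E, hE, hEP, hEP', hAL, ?_⟩
  have hnotmem : ∀ R : Place k K, ∃ i, ψ i ∉ L (E - Finsupp.single R 1) := by
    intro R
    obtain ⟨i, hi⟩ := hatt R
    refine ⟨i, ?_⟩
    rw [mem_L_sub_single_iff hK E (hψ0 i) (hψE i) R 1, Finsupp.add_apply, div_apply hK, hi]
    omega
  obtain ⟨P₀⟩ := exists_place hK (k := k) (K := K)
  obtain ⟨c, hc⟩ := Submodule.exists_forall_notMem_of_forall_ne_top
    (fun R : ↥(insert P₀ E.support) =>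
      Submodule.comap (Fintype.linearCombination k ψ) (L (E - Finsupp.single R.1 1))) (by
    intro R htop
    obtain ⟨i, hi⟩ := hnotmem R.1
    apply hi
    have hmem : (Pi.single i 1 : Fin (n + 1) → k) ∈
        Submodule.comap (Fintype.linearCombination k ψ) (L (E - Finsupp.single R.1 1)) := by
      rw [htop]
      trivial
    rw [Submodule.mem_comap, Fintype.linearCombination_apply_single, one_smul] at hmem
    exact hmem)
  obtain ⟨x, hxdef⟩ : ∃ x : K, x = Fintype.linearCombination k ψ c := ⟨_, rfl⟩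
  have hxsum : x = ∑ i, c i • ψ i := by rw [hxdef, Fintype.linearCombination_apply]
  have hxnot : ∀ R, R ∈ insert P₀ E.support → x ∉ L (E - Finsupp.single R 1) := by
    intro R hR
    rw [hxdef]
    exact hc ⟨R, hR⟩
  have hx0 : x ≠ 0 := by
    rintro rfl
    exact hxnot P₀ (Finset.mem_insert_self _ _) (Submodule.zero_mem _)
  have hxE : x ∈ L E := by
    rw [hxsum]
    exact Submodule.sum_mem _ fun i _ => Submodule.smul_mem _ _ (hψE i)
  refine ⟨x, ?_, hx0, hxE, ?_⟩
  · rw [hxsum]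
    refine Subalgebra.sum_mem _ fun i _ => Subalgebra.smul_mem _ ?_ _
    exact Algebra.subset_adjoin ⟨i, rfl⟩
  · intro R hR
    have hmem : R ∈ insert P₀ E.support :=
      Finset.mem_insert_of_mem (Finsupp.mem_support_iff.mpr hR.ne')
    have hnot := hxnot R hmem
    rw [mem_L_sub_single_iff hK E hx0 hxE R 1] at hnot
    have h0 := (mem_L_iff_div hK E hx0).mp hxE R
    rw [Finsupp.zero_apply] at h0
    rw [Finsupp.add_apply] at hnot h0
    omega

/-- Finite generation: all the `L(nE)` lie in a finitely generated `A`-module. -/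
theorem exists_generators (hK : IsFunctionField k K) (A : Subalgebra k K) {E : Divisor k K}
    (hE : 0 ≤ E) (hEdeg : 1 ≤ E.deg) {x : K} (hxA : x ∈ A) (hx0 : x ≠ 0) (hxE : x ∈ L E)
    (hxdiv : ∀ R, 0 < E R → (FunFld.div k x) R = - E R) :
    ∃ (r : ℕ) (b : Fin r → K), ∀ n : ℕ, ∀ y ∈ L (n • E),
      ∃ a : Fin r → A, y = ∑ j, (a j : K) * b j := by
  classical
  obtain ⟨n₀, hn₀⟩ : ∃ n₀ : ℕ, n₀ = 2 * genus k K := ⟨_, rfl⟩
  have h3 : ∀ n, n₀ ≤ n → ell ((n + 2) • E) + ell (n • E) ≤ 2 * ell ((n + 1) • E) := by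
    intro n hn
    have hg : (0 : ℤ) ≤ genus k K := Int.natCast_nonneg _
    have e : ∀ i : ℕ, n₀ ≤ i → (ell (i • E) : ℤ) = (i : ℤ) * E.deg + 1 - genus k K := by
      intro i hi
      have hi' : ((n₀ : ℕ) : ℤ) ≤ (i : ℤ) := by exact_mod_cast hi
      rw [hn₀] at hi'
      push_cast at hi'
      have := ell_eq_of_deg_ge hK (i • E) (by
        rw [deg_nsmul]
        nlinarith)
      rw [deg_nsmul] at this
      exact this
    have e1 := e (n + 2) (by omega)
    have e2 := e n hn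
    have e3 := e (n + 1) (by omega)
    have : (ell ((n + 2) • E) : ℤ) + ell (n • E) ≤ 2 * (ell ((n + 1) • E) : ℤ) := by
      rw [e1, e2, e3]
      push_cast
      linarith
    exact_mod_cast this
  obtain ⟨M, hM⟩ : ∃ M : Submodule k K, M = L ((n₀ + 1) • E) := ⟨_, rfl⟩
  haveI : FiniteDimensional k M := by rw [hM]; exact finiteDimensional_L hK _
  obtain ⟨r, hr⟩ : ∃ r : ℕ, r = Module.finrank k M := ⟨_, rfl⟩
  let bb : Module.Basis (Fin r) k M := (Module.finBasis k M).reindex (finCongr hr.symm)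
  obtain ⟨b, hb⟩ : ∃ b : Fin r → K, ∀ j, b j = (bb j : K) := ⟨_, fun _ => rfl⟩
  have hMspan : ∀ y ∈ M, y ∈ Submodule.span A (Set.range b) := by
    intro y hy
    have h := bb.sum_repr ⟨y, hy⟩
    have h' : y = ∑ j, (bb.repr ⟨y, hy⟩ j) • b j := by
      have h6 := congrArg Subtype.val h
      rw [Submodule.coe_sum] at h6
      simp only [Submodule.coe_smul] at h6
      refine h6.symm.trans ?_
      exact Finset.sum_congr rfl fun j _ => by rw [hb]
    obtain ⟨cf, hcf⟩ : ∃ cf : Fin r → k, y = ∑ j, cf j • b j :=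
      ⟨fun j => bb.repr ⟨y, hy⟩ j, h'⟩
    rw [hcf]
    refine Submodule.sum_mem _ fun j _ => ?_
    rw [← algebraMap_smul A (cf j) (b j)]
    exact Submodule.smul_mem _ _ (Submodule.subset_span ⟨j, rfl⟩)
  refine ⟨r, b, fun n y hy => ?_⟩
  have h := mem_span_of_mem_L hK hE hx0 hxE hxdiv n₀ h3 A hxA n hy
  rw [← hM] at h
  have h' : y ∈ Submodule.span A (Set.range b) := (Submodule.span_le.mpr hMspan) h
  obtain ⟨a, ha⟩ := (Submodule.mem_span_range_iff_exists_fun A).mp h'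
  refine ⟨a, ?_⟩
  rw [← ha]
  rfl

/-- Killing poles outside a set `F` of places. -/
theorem exists_killer_set [IsAlgClosed k] (hK : IsFunctionField k K) {E : Divisor k K}
    (P : Place k K) (A : Subalgebra k K) (F : Set (Place k K))
    (hv : ∀ Q, Q ∉ F → ∃ v ∈ A, P.1 v = 1 ∧ ∃ m : ℕ, v ∈ L (m • E - Finsupp.single Q 1)) :
    ∀ (m : ℕ) (Z : Divisor k K), 0 ≤ Z → (∀ Q ∈ F, Z Q = 0) → Z.deg = m →
      ∃ s ∈ A, P.1 s = 1 ∧ ∃ n : ℕ, s ∈ L (n • E - Z) := by
  intro m
  induction m with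
  | zero =>
    intro Z hZ _ hdeg
    have hZ0 : Z = 0 := eq_zero_of_nonneg_of_deg_le hK hZ (by rw [hdeg]; simp)
    refine ⟨1, Subalgebra.one_mem _, map_one _, 0, ?_⟩
    rw [hZ0, zero_smul, sub_zero]
    exact one_mem_L_of_nonneg le_rfl
  | succ m ih =>
    intro Z hZ hZF hdeg
    have hZne : Z ≠ 0 := by
      rintro rfl
      rw [deg_zero] at hdeg
      have : (0 : ℤ) < ((m + 1 : ℕ) : ℤ) := by exact_mod_cast Nat.succ_pos m
      omega
    obtain ⟨Q, hQ⟩ : ∃ Q, Z Q ≠ 0 := by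
      by_contra hcon
      push Not at hcon
      exact hZne (Finsupp.ext hcon)
    have hQpos : 0 < Z Q := lt_of_le_of_ne (hZ Q) (Ne.symm hQ)
    have hQF : Q ∉ F := fun h => hQ (hZF Q h)
    obtain ⟨Z', hZ'⟩ : ∃ Z' : Divisor k K, Z' = Z - Finsupp.single Q 1 := ⟨_, rfl⟩
    have hZ'nn : 0 ≤ Z' := by
      intro R
      rw [hZ', Finsupp.sub_apply, Finsupp.zero_apply]
      by_cases hR : R = Q
      · subst hR
        rw [Finsupp.single_eq_same]
        omega
      · rw [Finsupp.single_eq_of_ne hR, sub_zero]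
        exact hZ R
    have hZ'F : ∀ R ∈ F, Z' R = 0 := by
      intro R hR
      have hRQ : R ≠ Q := by
        rintro rfl
        exact hQF hR
      rw [hZ', Finsupp.sub_apply, hZF R hR, Finsupp.single_eq_of_ne hRQ, sub_zero]
    have hZ'deg : Z'.deg = m := by
      rw [hZ', deg_sub, hdeg, deg_single, deg_eq_one_of_isAlgClosed hK Q]
      push_cast
      ring
    obtain ⟨s', hs'A, hs'P, n', hs'L⟩ := ih Z' hZ'nn hZ'F hZ'deg
    obtain ⟨v, hvA, hvP, mv, hvL⟩ := hv Q hQF
    refine ⟨s' * v, Subalgebra.mul_mem _ hs'A hvA, by rw [map_mul, hs'P, hvP, one_mul],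
      n' + mv, ?_⟩
    have := mul_mem_L hs'L hvL
    have heq : n' • E - Z' + (mv • E - Finsupp.single Q 1) = (n' + mv) • E - Z := by
      rw [hZ', add_smul]
      abel
    rw [heq] at this
    exact this

/-- A common denominator in a subalgebra generating the field. -/
theorem exists_denominator (A : Subalgebra k K)
    (hfrac : ∀ b : K, ∃ r ∈ A, ∃ s ∈ A, b = r / s) {r : ℕ} (b : Fin r → K) :
    ∃ f ∈ A, f ≠ 0 ∧ ∀ j, f * b j ∈ A := by
  classical
  have h1 : ∀ j, ∃ s ∈ A, s ≠ 0 ∧ s * b j ∈ A := by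
    intro j
    obtain ⟨u, hu, s, hs, hbs⟩ := hfrac (b j)
    rcases eq_or_ne s 0 with rfl | hs0
    · refine ⟨1, Subalgebra.one_mem _, one_ne_zero, ?_⟩
      rw [hbs, div_zero, mul_zero]
      exact Subalgebra.zero_mem _
    · refine ⟨s, hs, hs0, ?_⟩
      rw [hbs, mul_div_cancel₀ _ hs0]
      exact hu
  choose s hsA hs0 hsb using h1
  refine ⟨∏ j, s j, Subalgebra.prod_mem _ fun j _ => hsA j,
    Finset.prod_ne_zero_iff.mpr fun j _ => hs0 j, fun j => ?_⟩
  rw [← Finset.mul_prod_erase Finset.univ s (Finset.mem_univ j), mul_right_comm]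
  exact Subalgebra.mul_mem _ (hsb j) (Subalgebra.prod_mem _ fun i _ => hsA i)

/-- Birationality in the chart `j`. -/
theorem adjoin_chart_eq_top {n : ℕ} (φ : Fin (n + 1) → K) (hφ0 : ∀ i, φ i ≠ 0)
    (hbir : IntermediateField.adjoin k (Set.range fun i => φ i / φ 0) = ⊤) (j : Fin (n + 1)) :
    IntermediateField.adjoin k (Set.range fun i => φ i / φ j) = ⊤ := by
  rw [eq_top_iff, ← hbir]
  refine IntermediateField.adjoin_le_iff.mpr ?_
  rintro _ ⟨i, rfl⟩
  have h1 : φ i / φ j ∈ IntermediateField.adjoin k (Set.range fun i => φ i / φ j) :=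
    IntermediateField.subset_adjoin k _ ⟨i, rfl⟩
  have h2 : φ 0 / φ j ∈ IntermediateField.adjoin k (Set.range fun i => φ i / φ j) :=
    IntermediateField.subset_adjoin k _ ⟨0, rfl⟩
  have h3 : φ i / φ 0 = (φ i / φ j) / (φ 0 / φ j) := by
    have := hφ0 j
    have := hφ0 0
    field_simp
  change φ i / φ 0 ∈ _
  rw [h3]
  exact div_mem h1 h2

/-- **The conductor of a birational chart.** There is a nonzero `f` in the chart algebra `A_j`
such that, for every place `P` at which `j` has least order, every function regular at all the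
places over `φ(P)` is of the form `u / (f σ)` with `u, σ ∈ A_j` and `σ` a unit at `P`. -/
theorem conductor_chart [IsAlgClosed k] (hK : IsFunctionField k K) {n : ℕ} (hn : 1 ≤ n)
    (φ : Fin (n + 1) → K) (hφ : LinearIndependent k φ)
    (hbir : IntermediateField.adjoin k (Set.range fun i => φ i / φ 0) = ⊤) (j : Fin (n + 1)) :
    ∃ f ∈ Algebra.adjoin k (Set.range fun i => φ i / φ j), f ≠ 0 ∧
      ∀ P : Place k K, (∀ i, P.1 (φ i) ≤ P.1 (φ j)) →
      ∀ z : K, (∀ Q : Place k K, SameImage φ P Q → Q.1 z ≤ 1) →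
        ∃ σ ∈ Algebra.adjoin k (Set.range fun i => φ i / φ j), P.1 σ = 1 ∧
          f * σ * z ∈ Algebra.adjoin k (Set.range fun i => φ i / φ j) := by
  classical
  haveI : Infinite k := IsAlgClosed.instInfinite
  have hφ0 : ∀ i, φ i ≠ 0 := fun i => hφ.ne_zero i
  obtain ⟨E, hE, hEP, hEP', hAL, x, hxA, hx0, hxE, hxdiv⟩ := chart_global hK φ hφ j
  -- `deg E ≥ 1`
  have hEdeg : 1 ≤ E.deg := by
    by_contra hcon
    have hE0 : E = 0 := eq_zero_of_nonneg_of_deg_le hK hE (by omega)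
    haveI : Nontrivial (Fin (n + 1)) := Fin.nontrivial_iff_two_le.mpr (by omega)
    obtain ⟨i, hi⟩ := exists_ne j
    obtain ⟨m, hm⟩ := hAL (φ i / φ j) (Algebra.subset_adjoin ⟨i, rfl⟩)
    rw [hE0, smul_zero, L_zero_eq_one hK] at hm
    obtain ⟨c, hc⟩ := Submodule.mem_one.mp hm
    have h1 : φ i = c • φ j := by
      rw [Algebra.smul_def, hc]
      field_simp [hφ0 j]
    have hnot := hφ.notMem_span_image (s := {j}) (x := i) (by
      rw [Set.mem_singleton_iff]
      exact hi)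
    apply hnot
    rw [h1]
    exact Submodule.smul_mem _ _ (Submodule.subset_span ⟨j, rfl, rfl⟩)
  obtain ⟨r, b, hgen⟩ := exists_generators hK _ hE hEdeg hxA hx0 hxE hxdiv
  have hfrac : ∀ y : K, ∃ u ∈ Algebra.adjoin k (Set.range fun i => φ i / φ j),
      ∃ s ∈ Algebra.adjoin k (Set.range fun i => φ i / φ j), y = u / s := by
    intro y
    have hy : y ∈ IntermediateField.adjoin k (Set.range fun i => φ i / φ j) := by
      rw [adjoin_chart_eq_top φ hφ0 hbir j]
      trivial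
    exact IntermediateField.mem_adjoin_iff_div.mp hy
  obtain ⟨f, hfA, hf0, hfb⟩ := exists_denominator _ hfrac b
  refine ⟨f, hfA, hf0, fun P hjmax z hz => ?_⟩
  have hEP0 := hEP P hjmax
  have hAP : ∀ a ∈ Algebra.adjoin k (Set.range fun i => φ i / φ j), P.1 a ≤ 1 := by
    intro a ha
    obtain ⟨m, hm⟩ := hAL a ha
    have := hm P
    rwa [Finsupp.smul_apply, hEP0, smul_zero, exp_zero] at this
  have hv : ∀ Q, Q ∉ {Q : Place k K | SameImage φ P Q} →
      ∃ v ∈ Algebra.adjoin k (Set.range fun i => φ i / φ j), P.1 v = 1 ∧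
        ∃ m : ℕ, v ∈ L (m • E - Finsupp.single Q 1) := by
    intro Q hQ
    have hEQ : (0 : ℤ) ≤ E Q := hE Q
    rcases hEQ.eq_or_lt with h0 | hpos
    · have hjmaxQ := hEP' Q h0.symm
      have hnot : ¬ ∀ i, ∃ c : k, P.1 (φ i / φ j - algebraMap k K c) < 1 ∧
          Q.1 (φ i / φ j - algebraMap k K c) < 1 := fun hall =>
        hQ ⟨j, hφ0 j, hjmax, hjmaxQ, hall⟩
      push Not at hnot
      obtain ⟨i, hi⟩ := hnot
      have hle : Q.1 (φ i / φ j) ≤ 1 := by
        rw [map_div₀]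
        exact (div_le_one₀ (zero_lt_iff.mpr ((Valuation.ne_zero_iff _).mpr (hφ0 j)))).mpr
          (hjmaxQ i)
      obtain ⟨c, hc⟩ := exists_const_sub_lt_one hK (deg_eq_one_of_isAlgClosed hK Q) hle
      have hvA : φ i / φ j - algebraMap k K c ∈
          Algebra.adjoin k (Set.range fun i => φ i / φ j) :=
        Subalgebra.sub_mem _ (Algebra.subset_adjoin ⟨i, rfl⟩) (Subalgebra.algebraMap_mem _ c)
      have hvP : P.1 (φ i / φ j - algebraMap k K c) = 1 :=
        le_antisymm (hAP _ hvA) (not_lt.mp (fun h => (hi c h).not_gt hc))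
      obtain ⟨m, hm⟩ := hAL _ hvA
      refine ⟨_, hvA, hvP, m, ?_⟩
      intro R
      rw [Finsupp.sub_apply]
      by_cases hR : R = Q
      · subst hR
        rw [Finsupp.single_eq_same, Finsupp.smul_apply, ← h0, smul_zero, zero_sub]
        exact (zm0_lt_one_iff _).mp hc
      · rw [Finsupp.single_eq_of_ne hR, sub_zero]
        exact hm R
    · refine ⟨1, Subalgebra.one_mem _, map_one _, 1, ?_⟩
      rw [one_smul]
      intro R
      rw [map_one, ← exp_zero, exp_le_exp, Finsupp.sub_apply]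
      by_cases hR : R = Q
      · subst hR
        rw [Finsupp.single_eq_same]
        omega
      · rw [Finsupp.single_eq_of_ne hR, sub_zero]
        exact hE R
  have hZnn := poleDiv_nonneg (k := k) z
  have hZF : ∀ Q ∈ {Q : Place k K | SameImage φ P Q}, poleDiv (k := k) z Q = 0 := by
    intro Q hQ
    have hzQ := hz Q hQ
    rw [poleDiv_apply hK]
    rcases eq_or_ne z 0 with rfl | hz0
    · rw [ord_zero]
      simp
    · have := (val_le_one_iff_ord_nonneg Q hz0).mp hzQ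
      omega
  have hdeg : (poleDiv (k := k) z).deg = (((poleDiv (k := k) z).deg.toNat : ℕ) : ℤ) :=
    (Int.toNat_of_nonneg (deg_nonneg_of_nonneg hZnn)).symm
  obtain ⟨σ, hσA, hσP, n', hσL⟩ := exists_killer_set hK P _ _ hv _ _ hZnn hZF hdeg
  have hz' : z ∈ L (poleDiv (k := k) z) := fun R => val_le_exp_poleDiv hK z R
  have h7 := mul_mem_L hσL hz'
  rw [sub_add_cancel] at h7
  obtain ⟨a, ha⟩ := hgen n' _ h7
  refine ⟨σ, hσA, hσP, ?_⟩
  rw [mul_assoc, ha, Finset.mul_sum]
  refine Subalgebra.sum_mem _ fun i _ => ?_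
  have : f * ((a i : K) * b i) = (a i : K) * (f * b i) := by ring
  rw [this]
  exact Subalgebra.mul_mem _ (a i).2 (hfb i)

end Groth.Agent.Lib.Helper18.FF
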