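import Groth.Agent.Lib.Helper18.FF.Sections

/-! # Large weights at two places force a torsion relation -/

set_option autoImplicit false
set_option linter.style.haveILetI false

namespace Groth.Agent.Lib.Helper18.FF

open FunFld WithZero

universe u v

variable {k : Type u} {K : Type v} [Field k] [Field K] [Algebra k K] [IsAlgClosed k]

/-- Pigeonhole: if a sum of `N` terms each at most `c + 1` exceeds `N c + 1` then two of the terms
equal `c + 1`. -/
theorem exists_two_of_sum_gt (N c : ℕ) (T : ℕ → ℕ) (hT : ∀ n ∈ Finset.range N, T n ≤ c + 1)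
    (hsum : N * c + 2 ≤ ∑ n ∈ Finset.range N, T n) :
    ∃ n₁ ∈ Finset.range N, ∃ n₂ ∈ Finset.range N, n₁ < n₂ ∧ T n₁ = c + 1 ∧ T n₂ = c + 1 := by
  by_contra hcon
  have hcard : ((Finset.range N).filter (fun n => T n = c + 1)).card ≤ 1 := by
    rw [Finset.card_le_one]
    intro x hx y hy
    rw [Finset.mem_filter] at hx hy
    by_contra hne
    rcases lt_or_gt_of_ne hne with h | h
    · exact hcon ⟨x, hx.1, y, hy.1, h, hx.2, hy.2⟩
    · exact hcon ⟨y, hy.1, x, hx.1, h, hy.2, hx.2⟩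
  have h1 : ∑ n ∈ Finset.range N, T n ≤
      ∑ n ∈ Finset.range N, (c + if T n = c + 1 then 1 else 0) := by
    apply Finset.sum_le_sum
    intro n hn
    have := hT n hn
    split_ifs <;> omega
  rw [Finset.sum_add_distrib, Finset.sum_const, Finset.card_range, Finset.sum_boole,
    smul_eq_mul] at h1
  simp only [Nat.cast_id] at h1
  omega

theorem exists_principal_multiple (hK : IsFunctionField k K)
    (d r : ℕ) (D : Divisor k K) (hD : D.deg = d)
    (V : Submodule k K) (hV : V ≤ L D) (hVr : Module.finrank k ↥V = r + 1)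
    (P Q : Place k K) (hPQ : P ≠ Q)
    (hw : (r + 1) * d + 1 ≤
      (∑ n ∈ Finset.range d,
          Module.finrank k ↥(V ⊓ L (D - Finsupp.single P ((n : ℤ) + 1)))) +
        (∑ n ∈ Finset.range d,
          Module.finrank k ↥(V ⊓ L (D - Finsupp.single Q ((n : ℤ) + 1)))) + r) :
    ∃ m : ℕ, 1 ≤ m ∧ m ≤ d ∧ ∃ h : K, h ≠ 0 ∧
      FunFld.div k h = Finsupp.single Q (m : ℤ) - Finsupp.single P (m : ℤ) := by
  obtain ⟨u, hu⟩ : ∃ u : ℕ → ℕ, ∀ n : ℕ,
      u n = Module.finrank k ↥(V ⊓ L (D - Finsupp.single P (n : ℤ))) := ⟨_, fun _ => rfl⟩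
  obtain ⟨w, hw'⟩ : ∃ w : ℕ → ℕ, ∀ n : ℕ,
      w n = Module.finrank k ↥(V ⊓ L (D - Finsupp.single Q (n : ℤ))) := ⟨_, fun _ => rfl⟩
  have hu0 : u 0 = r + 1 := by
    rw [hu, Nat.cast_zero, Finsupp.single_zero, sub_zero, inf_eq_left.mpr hV, hVr]
  have hw0 : w 0 = r + 1 := by
    rw [hw', Nat.cast_zero, Finsupp.single_zero, sub_zero, inf_eq_left.mpr hV, hVr]
  have hsumu : ∑ n ∈ Finset.range (d + 1), u n =
      (∑ n ∈ Finset.range d,
          Module.finrank k ↥(V ⊓ L (D - Finsupp.single P ((n : ℤ) + 1)))) + (r + 1) := by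
    rw [Finset.sum_range_succ', hu0]
    congr 1
    apply Finset.sum_congr rfl
    intro n _
    rw [hu, Nat.cast_add, Nat.cast_one]
  have hsumw : ∑ n ∈ Finset.range (d + 1), w (d - n) =
      (∑ n ∈ Finset.range d,
          Module.finrank k ↥(V ⊓ L (D - Finsupp.single Q ((n : ℤ) + 1)))) + (r + 1) := by
    have := Finset.sum_range_reflect w (d + 1)
    simp only [Nat.add_sub_cancel] at this
    rw [this, Finset.sum_range_succ', hw0]
    congr 1
    apply Finset.sum_congr rfl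
    intro n _
    rw [hw', Nat.cast_add, Nat.cast_one]
  have hT : ∀ n ∈ Finset.range (d + 1), u n + w (d - n) ≤ (r + 1) + 1 := by
    intro n hn
    have hn' := Finset.mem_range.mp hn
    rw [hu, hw']
    exact finrank_add_le_of_add_eq hK D d r hD V hV hVr P Q hPQ n (d - n) (by omega)
  have hsum : (d + 1) * (r + 1) + 2 ≤ ∑ n ∈ Finset.range (d + 1), (u n + w (d - n)) := by
    rw [Finset.sum_add_distrib, hsumu, hsumw]
    have : (d + 1) * (r + 1) = (r + 1) * d + (r + 1) := by ring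
    rw [this]
    omega
  obtain ⟨n₁, hn₁, n₂, hn₂, hlt, h1, h2⟩ :=
    exists_two_of_sum_gt (d + 1) (r + 1) (fun n => u n + w (d - n)) hT hsum
  have hn₁' := Finset.mem_range.mp hn₁
  have hn₂' := Finset.mem_range.mp hn₂
  obtain ⟨s₁, hs₁0, -, -, -, hs₁⟩ := exists_section_of_dims hK D d r hD V hV hVr P Q hPQ n₁ (d - n₁)
    (by omega) (by simp only [hu, hw'] at h1; omega)
  obtain ⟨s₂, hs₂0, -, -, -, hs₂⟩ := exists_section_of_dims hK D d r hD V hV hVr P Q hPQ n₂ (d - n₂)
    (by omega) (by simp only [hu, hw'] at h2; omega)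
  refine ⟨n₂ - n₁, by omega, by omega, s₁ * s₂⁻¹, mul_ne_zero hs₁0 (inv_ne_zero hs₂0), ?_⟩
  rw [div_mul hK hs₁0 (inv_ne_zero hs₂0), div_inv hK]
  have e : FunFld.div k s₁ + -FunFld.div k s₂ =
      (D + FunFld.div k s₁) - (D + FunFld.div k s₂) := by abel
  rw [e, hs₁, hs₂]
  ext R
  classical
  simp only [Finsupp.sub_apply, Finsupp.add_apply, Finsupp.single_apply]
  by_cases h1 : P = R <;> by_cases h2 : Q = R
  · exact absurd (h1.trans h2.symm) hPQ
  · simp only [if_pos h1, if_neg h2]; omega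
  · simp only [if_neg h1, if_pos h2]; omega
  · simp only [if_neg h1, if_neg h2]; omega

end Groth.Agent.Lib.Helper18.FF
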