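import Mathlib.RingTheory.TensorProduct.Basic
import Mathlib.LinearAlgebra.TensorProduct.Basis
import Mathlib.Algebra.MvPolynomial.Eval
import Mathlib.RingTheory.Polynomial.UniqueFactorization
import Mathlib.LinearAlgebra.Dimension.Free
import Mathlib.LinearAlgebra.FreeModule.Finite.Basic
import Mathlib.LinearAlgebra.FiniteDimensional.Defs
import Mathlib.LinearAlgebra.FiniteDimensional.Basic

/-! # Relations after extension of constants -/

set_option autoImplicit false

namespace Groth.Agent.Lib.Helper18.FF

open scoped TensorProduct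
open MvPolynomial

variable {k K k' : Type*} [Field k] [Field K] [Algebra k K] [Field k'] [Algebra k k']

/-- Evaluation at `(1 ⊗ x, 1 ⊗ y)` in `k' ⊗ K`. -/
noncomputable def tensorEval (x y : K) : MvPolynomial (Fin 2) k' →ₐ[k'] k' ⊗[k] K :=
  aeval ![(1 : k') ⊗ₜ[k] x, (1 : k') ⊗ₜ[k] y]

theorem tensorEval_C (x y : K) (c : k') : tensorEval (k := k) x y (C c) = c ⊗ₜ[k] (1 : K) := by
  rw [tensorEval, aeval_C, Algebra.TensorProduct.algebraMap_apply]
  rfl

theorem tensorEval_map (x y : K) (g : MvPolynomial (Fin 2) k) :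
    tensorEval x y (map (algebraMap k k') g) = (1 : k') ⊗ₜ[k] (aeval ![x, y] g) := by
  induction g using MvPolynomial.induction_on with
  | C a =>
    rw [map_C, tensorEval_C, aeval_C, Algebra.algebraMap_eq_smul_one, Algebra.algebraMap_eq_smul_one,
      TensorProduct.smul_tmul]
  | add p q hp hq => rw [map_add, map_add, hp, hq, map_add, TensorProduct.tmul_add]
  | mul_X p n hp =>
    rw [map_mul, map_mul, hp, map_X, map_mul, aeval_X, tensorEval, aeval_X]
    fin_cases n
    · simp [Algebra.TensorProduct.tmul_mul_tmul]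
    · simp [Algebra.TensorProduct.tmul_mul_tmul]

/-- Coefficientwise decomposition along a basis of `k'` over `k`. -/
theorem exists_basis_decomp {ι : Type*} [Fintype ι] (b : Module.Basis ι k k')
    (G : MvPolynomial (Fin 2) k') :
    ∃ g : ι → MvPolynomial (Fin 2) k, G = ∑ i, C (b i) * map (algebraMap k k') (g i) := by
  classical
  induction G using MvPolynomial.induction_on with
  | C c =>
    refine ⟨fun i => C (b.repr c i), ?_⟩
    simp only [map_C, ← C_mul, ← map_sum]
    congr 1
    conv_lhs => rw [← b.sum_repr c]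
    refine Finset.sum_congr rfl fun i _ => ?_
    rw [Algebra.smul_def, mul_comm]
  | add p q hp hq =>
    obtain ⟨g, hg⟩ := hp
    obtain ⟨h, hh⟩ := hq
    refine ⟨fun i => g i + h i, ?_⟩
    rw [hg, hh, ← Finset.sum_add_distrib]
    refine Finset.sum_congr rfl fun i _ => ?_
    rw [map_add, mul_add]
  | mul_X p n hp =>
    obtain ⟨g, hg⟩ := hp
    refine ⟨fun i => g i * X n, ?_⟩
    rw [hg, Finset.sum_mul]
    refine Finset.sum_congr rfl fun i _ => ?_
    rw [map_mul, map_X, mul_assoc]

/-- If `f` generates the relations of `(x, y)` over `k`, it does so over `k'`. -/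
theorem dvd_of_tensorEval_eq_zero [FiniteDimensional k k'] (x y : K)
    {f : MvPolynomial (Fin 2) k}
    (hker : ∀ g : MvPolynomial (Fin 2) k, aeval ![x, y] g = 0 → f ∣ g)
    {G : MvPolynomial (Fin 2) k'} (hG : tensorEval (k := k) x y G = 0) :
    map (algebraMap k k') f ∣ G := by
  classical
  let b := Module.finBasis k k'
  obtain ⟨g, hg⟩ := exists_basis_decomp b G
  have h1 : tensorEval (k := k) x y G = ∑ i, b i ⊗ₜ[k] (aeval ![x, y] (g i)) := by
    rw [hg, map_sum]
    refine Finset.sum_congr rfl fun i _ => ?_
    rw [map_mul, tensorEval_C, tensorEval_map, Algebra.TensorProduct.tmul_mul_tmul, mul_one,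
      one_mul]
  rw [h1] at hG
  have h2 : ∀ i, aeval ![x, y] (g i) = 0 := by
    let F : Fin (Module.finrank k k') →₀ K :=
      Finsupp.equivFunOnFinite.symm fun i => aeval ![x, y] (g i)
    have hF : (F.sum fun i n => b i ⊗ₜ[k] n) = 0 := by
      rw [Finsupp.sum_fintype _ _ (fun i => TensorProduct.tmul_zero _ _)]
      exact hG
    have := TensorProduct.sum_tmul_basis_left_eq_zero b F hF
    intro i
    have h3 := DFunLike.congr_fun this i
    simpa [F] using h3
  rw [hg]
  refine Finset.dvd_sum fun i _ => ?_
  obtain ⟨q, hq⟩ := hker (g i) (h2 i)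
  rw [hq, map_mul]
  exact Dvd.dvd.mul_left (Dvd.intro _ rfl) _

theorem tensorEval_map_self (x y : K) {f : MvPolynomial (Fin 2) k}
    (hf : aeval ![x, y] f = 0) : tensorEval (k := k) x y (map (algebraMap k k') f) = 0 := by
  rw [tensorEval_map, hf, TensorProduct.tmul_zero]

/-- If `k' ⊗ K` is a domain and `f` generates the relations over `k`, then `f` stays
irreducible over `k'`. -/
theorem irreducible_map_of_isDomain [FiniteDimensional k k'] (x y : K)
    {f : MvPolynomial (Fin 2) k} (hf0 : f ≠ 0) (hf : aeval ![x, y] f = 0)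
    (hker : ∀ g : MvPolynomial (Fin 2) k, aeval ![x, y] g = 0 → f ∣ g)
    [IsDomain (k' ⊗[k] K)] : Irreducible (map (algebraMap k k') f) := by
  have hne : map (algebraMap k k') f ≠ 0 := by
    intro h
    apply hf0
    apply map_injective _ (algebraMap k k').injective
    rw [h, map_zero]
  have hkerEq : RingHom.ker (tensorEval (k := k) (k' := k') x y) =
      Ideal.span {map (algebraMap k k') f} := by
    apply le_antisymm
    · intro G hG
      rw [Ideal.mem_span_singleton]
      exact dvd_of_tensorEval_eq_zero x y hker hG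
    · rw [Ideal.span_singleton_le_iff_mem]
      exact tensorEval_map_self x y hf
  have hprime : (Ideal.span {map (algebraMap k k') f}).IsPrime := by
    rw [← hkerEq]
    exact RingHom.ker_isPrime _
  exact ((Ideal.span_singleton_prime hne).mp hprime).irreducible

end Groth.Agent.Lib.Helper18.FF
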