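import Groth.Agent.Lib.Helper18.FF.AbsIrr
import Mathlib.FieldTheory.IntermediateField.Adjoin.Basic
import Mathlib.RingTheory.Flat.Basic
import Mathlib.RingTheory.Flat.FaithfullyFlat.Basic
import Mathlib.RingTheory.IntegralClosure.IsIntegralClosure.Basic
import Mathlib.Algebra.Field.Equiv
import Mathlib.RingTheory.TensorProduct.Finite

/-! # `k' ⊗ K` is a field when the plane relation stays irreducible -/

set_option autoImplicit false

namespace Groth.Agent.Lib.Helper18.FF

open scoped TensorProduct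
open MvPolynomial

variable {k K k' : Type*} [Field k] [Field K] [Algebra k K] [Field k'] [Algebra k k']

/-- Elements of `k(x, y)` are quotients of polynomials in `x, y`. -/
theorem exists_div_of_adjoin_eq_top (x y : K)
    (hxy : IntermediateField.adjoin k ({x, y} : Set K) = ⊤) (z : K) :
    ∃ r s : MvPolynomial (Fin 2) k, z = aeval ![x, y] r / aeval ![x, y] s := by
  classical
  have hz : z ∈ IntermediateField.adjoin k ({x, y} : Set K) := by rw [hxy]; trivial
  obtain ⟨r, s, hrs⟩ := (IntermediateField.mem_adjoin_iff k z).mp hz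
  let φ : ({x, y} : Set K) → Fin 2 := fun t => if t.1 = x then 0 else 1
  have hφ : ∀ t : ({x, y} : Set K), ![x, y] (φ t) = t.1 := by
    intro t
    by_cases h : t.1 = x
    · simp [φ, h]
    · have : t.1 = y := by
        rcases t.2 with h' | h'
        · exact absurd h' h
        · exact h'
      have h2 : ¬ (y = x) := fun e => h (this.trans e)
      simp [φ, this, h2]
  have hren : ∀ p : MvPolynomial ({x, y} : Set K) k,
      aeval ![x, y] (rename φ p) = aeval Subtype.val p := by
    intro p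
    rw [aeval_rename]
    have : (![x, y] ∘ φ) = Subtype.val := funext fun t => hφ t
    rw [this]
  exact ⟨rename φ r, rename φ s, by rw [hren, hren, hrs]⟩

/-- Clearing denominators in `k' ⊗ K`. -/
theorem exists_clear_denominator (x y : K)
    (hxy : IntermediateField.adjoin k ({x, y} : Set K) = ⊤) (α : k' ⊗[k] K) :
    ∃ a : MvPolynomial (Fin 2) k, aeval ![x, y] a ≠ 0 ∧ ∃ G : MvPolynomial (Fin 2) k',
      α * ((1 : k') ⊗ₜ[k] (aeval ![x, y] a)) = tensorEval (k := k) x y G := by
  induction α using TensorProduct.induction_on with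
  | zero => exact ⟨1, by simp, 0, by simp⟩
  | tmul c z =>
    obtain ⟨r, s, hrs⟩ := exists_div_of_adjoin_eq_top x y hxy z
    by_cases hs : aeval ![x, y] s = 0
    · refine ⟨1, by simp, 0, ?_⟩
      rw [hrs, hs, div_zero, TensorProduct.tmul_zero, zero_mul, map_zero]
    · refine ⟨s, hs, C c * map (algebraMap k k') r, ?_⟩
      rw [map_mul, tensorEval_C, tensorEval_map, Algebra.TensorProduct.tmul_mul_tmul,
        Algebra.TensorProduct.tmul_mul_tmul, mul_one, one_mul, hrs, div_mul_cancel₀ _ hs]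
  | add α β hα hβ =>
    obtain ⟨a, ha, G, hG⟩ := hα
    obtain ⟨b, hb, H, hH⟩ := hβ
    refine ⟨a * b, by rw [map_mul]; exact mul_ne_zero ha hb,
      G * map (algebraMap k k') b + H * map (algebraMap k k') a, ?_⟩
    have : ((1 : k') ⊗ₜ[k] (aeval ![x, y] a * aeval ![x, y] b) : k' ⊗[k] K) =
        ((1 : k') ⊗ₜ[k] (aeval ![x, y] a)) * ((1 : k') ⊗ₜ[k] (aeval ![x, y] b)) := by
      rw [Algebra.TensorProduct.tmul_mul_tmul, one_mul]
    rw [map_add, map_mul (tensorEval x y) G, map_mul (tensorEval x y) H, ← hG, ← hH,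
      tensorEval_map, tensorEval_map, map_mul, this]
    ring

theorem tmul_one_isUnit {a : K} (ha : a ≠ 0) (α : k' ⊗[k] K)
    (h : α * ((1 : k') ⊗ₜ[k] a) = 0) : α = 0 := by
  have h1 : ((1 : k') ⊗ₜ[k] a : k' ⊗[k] K) * ((1 : k') ⊗ₜ[k] a⁻¹) = 1 := by
    rw [Algebra.TensorProduct.tmul_mul_tmul, one_mul, mul_inv_cancel₀ ha]
    rfl
  calc α = α * (((1 : k') ⊗ₜ[k] a) * ((1 : k') ⊗ₜ[k] a⁻¹)) := by rw [h1, mul_one]
    _ = (α * ((1 : k') ⊗ₜ[k] a)) * ((1 : k') ⊗ₜ[k] a⁻¹) := by ring
    _ = 0 := by rw [h, zero_mul]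

/-- If `f` generates the relations of `(x, y)`, `K = k(x, y)` and `f` stays irreducible over
`k'`, then `k' ⊗ K` is a field. -/
theorem isField_tensor_of_irreducible_map [FiniteDimensional k k'] (x y : K)
    (hxy : IntermediateField.adjoin k ({x, y} : Set K) = ⊤)
    {f : MvPolynomial (Fin 2) k} (hf : aeval ![x, y] f = 0)
    (hker : ∀ g : MvPolynomial (Fin 2) k, aeval ![x, y] g = 0 → f ∣ g)
    (hirr : Irreducible (map (algebraMap k k') f)) : IsField (k' ⊗[k] K) := by
  classical
  have hprime : Prime (map (algebraMap k k') f) := hirr.prime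
  have hnt : Nontrivial (k' ⊗[k] K) := by
    have hinj := Algebra.TensorProduct.includeLeft_injective (R := k) (S := k) (A := k') (B := K)
      (algebraMap k K).injective
    refine ⟨⟨Algebra.TensorProduct.includeLeft (1 : k'), Algebra.TensorProduct.includeLeft (0 : k'),
      fun h => one_ne_zero (hinj h)⟩⟩
  have hnzd : NoZeroDivisors (k' ⊗[k] K) := by
    refine ⟨fun {α β} hαβ => ?_⟩
    obtain ⟨a, ha, G, hG⟩ := exists_clear_denominator (k' := k') x y hxy α
    obtain ⟨b, hb, H, hH⟩ := exists_clear_denominator (k' := k') x y hxy β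
    have h0 : tensorEval (k := k) x y (G * H) = 0 := by
      rw [map_mul, ← hG, ← hH]
      calc α * ((1 : k') ⊗ₜ[k] (aeval ![x, y] a)) * (β * ((1 : k') ⊗ₜ[k] (aeval ![x, y] b)))
          = (α * β) * (((1 : k') ⊗ₜ[k] (aeval ![x, y] a)) *
              ((1 : k') ⊗ₜ[k] (aeval ![x, y] b))) := by ring
        _ = 0 := by rw [hαβ, zero_mul]
    have hdvd := dvd_of_tensorEval_eq_zero x y hker h0
    rcases hprime.dvd_or_dvd hdvd with h1 | h1
    · left
      obtain ⟨q, hq⟩ := h1
      apply tmul_one_isUnit ha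
      rw [hG, hq, map_mul, tensorEval_map_self x y hf, zero_mul]
    · right
      obtain ⟨q, hq⟩ := h1
      apply tmul_one_isUnit hb
      rw [hH, hq, map_mul, tensorEval_map_self x y hf, zero_mul]
  haveI : IsDomain (k' ⊗[k] K) := @NoZeroDivisors.to_isDomain _ _ hnt hnzd
  -- transport to `K ⊗ k'`
  have hdom' : IsDomain (K ⊗[k] k') :=
    (Algebra.TensorProduct.comm k K k').toMulEquiv.isDomain (k' ⊗[k] K)
  have hfield' : IsField (K ⊗[k] k') :=
    isField_of_isIntegral_of_isField' (R := K) (Field.toIsField K)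
  exact (Algebra.TensorProduct.comm k k' K).toMulEquiv.isField hfield'

end Groth.Agent.Lib.Helper18.FF
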