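import Groth.Agent.Lib.Helper18.FF.GaussKer
import Mathlib.Algebra.Polynomial.Bivariate
import Mathlib.FieldTheory.IntermediateField.Adjoin.Basic
import Mathlib.RingTheory.Algebraic.Basic
import Mathlib.FieldTheory.RatFunc.AsPolynomial

/-! # Bivariate specialization of the Gauss-lemma kernel description -/

set_option autoImplicit false

namespace Groth.Agent.Lib.Helper18.FF

open Polynomial IntermediateField
open scoped Polynomial.Bivariate

variable {k K : Type*} [Field k] [Field K] [Algebra k K]

/-- `MvPolynomial.aeval ![u, y]` through the bivariate equivalence. -/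
theorem mvAeval_eq_aevalAeval (u y : K) (f : MvPolynomial (Fin 2) k) :
    MvPolynomial.aeval ![u, y] f =
      aevalAeval u y ((Polynomial.Bivariate.equivMvPolynomial k).symm f) := by
  have : (MvPolynomial.aeval ![u, y] : MvPolynomial (Fin 2) k →ₐ[k] K) =
      (aevalAeval u y).comp (Polynomial.Bivariate.equivMvPolynomial k).symm.toAlgHom := by
    apply MvPolynomial.algHom_ext
    intro i
    fin_cases i <;> simp
  rw [this]
  rfl

theorem bivariate_gauss {u y : K} (hu : Transcendental k u) {f : MvPolynomial (Fin 2) k}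
    (hf : Irreducible f) (hfy : MvPolynomial.aeval ![u, y] f = 0) :
    (∀ g : MvPolynomial (Fin 2) k, MvPolynomial.aeval ![u, y] g = 0 → f ∣ g) ∧
      (minpoly k⟮u⟯ y).natDegree =
        ((Polynomial.Bivariate.equivMvPolynomial k).symm f).natDegree := by
  classical
  letI algPK : Algebra k[X] K := (Polynomial.aeval u : k[X] →ₐ[k] K).toRingHom.toAlgebra
  have hPK : ∀ q : k[X], algebraMap k[X] K q = Polynomial.aeval u q := fun q => rfl
  haveI : IsScalarTower k k[X] K := IsScalarTower.of_algebraMap_eq (fun c => by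
    rw [hPK, Polynomial.algebraMap_apply, Polynomial.aeval_C]; rfl)
  let u' : k⟮u⟯ := ⟨u, mem_adjoin_simple_self k u⟩
  letI algPF : Algebra k[X] k⟮u⟯ := (Polynomial.aeval u' : k[X] →ₐ[k] k⟮u⟯).toRingHom.toAlgebra
  have hPF : ∀ q : k[X], algebraMap k[X] k⟮u⟯ q = Polynomial.aeval u' q := fun q => rfl
  haveI : IsScalarTower k k[X] k⟮u⟯ := IsScalarTower.of_algebraMap_eq (fun c => by
    rw [hPF, Polynomial.algebraMap_apply, Polynomial.aeval_C]; rfl)
  have hcoe : ∀ q : k[X], ((Polynomial.aeval u' q : k⟮u⟯) : K) = Polynomial.aeval u q := fun q => by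
    rw [← IntermediateField.algebraMap_apply, ← Polynomial.aeval_algebraMap_apply]
    rfl
  haveI : IsScalarTower k[X] k⟮u⟯ K := IsScalarTower.of_algebraMap_eq (fun q => by
    rw [hPK, hPF, IntermediateField.algebraMap_apply, hcoe])
  have hinj : Function.Injective (algebraMap k[X] k⟮u⟯) := by
    rw [injective_iff_map_eq_zero]
    intro q hq
    rw [hPF] at hq
    have h2 := congrArg (fun z : k⟮u⟯ => (z : K)) hq
    simp only [hcoe] at h2
    by_contra hne
    exact hu ⟨q, hne, h2⟩
  haveI : FaithfulSMul k[X] k⟮u⟯ := (faithfulSMul_iff_algebraMap_injective _ _).mpr hinj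
  haveI : IsFractionRing k[X] k⟮u⟯ := IsFractionRing.of_field _ _ (fun z => by
    obtain ⟨r, s, hrs⟩ := (IntermediateField.mem_adjoin_simple_iff k z.1).mp z.2
    refine ⟨r, s, Subtype.ext ?_⟩
    rw [hrs, hPF, hPF]
    push_cast
    rw [hcoe, hcoe])
  -- evaluation compatibility
  have hev : ∀ p : k[X][Y], Polynomial.aeval y p = aevalAeval u y p := by
    intro p
    have : ((Polynomial.aeval y : k[X][Y] →ₐ[k[X]] K).restrictScalars k) = aevalAeval u y := by
      apply (aevalAevalEquiv k K).symm.injective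
      ext
      · simp [aevalAevalEquiv, hPK]
      · simp [aevalAevalEquiv]
    exact congrArg (fun φ : k[X][Y] →ₐ[k] K => φ p) this
  set e := Polynomial.Bivariate.equivMvPolynomial k with he
  have hirr : Irreducible (e.symm f) := (MulEquiv.irreducible_iff e.symm.toMulEquiv).mpr hf
  have hroot : Polynomial.aeval y (e.symm f) = 0 := by
    rw [hev, ← mvAeval_eq_aevalAeval, hfy]
  refine ⟨fun g hg => ?_, ?_⟩
  · have hg' : Polynomial.aeval y (e.symm g) = 0 := by
      rw [hev, ← mvAeval_eq_aevalAeval, hg]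
    have := dvd_of_root_of_irreducible k⟮u⟯ hirr hroot hg'
    have h2 := map_dvd e this
    rwa [AlgEquiv.apply_symm_apply, AlgEquiv.apply_symm_apply] at h2
  · exact natDegree_minpoly_of_irreducible k⟮u⟯ hirr hroot

theorem bivariate_algebraic {u : K} (hu : Transcendental k u) (y : K) :
    IsAlgebraic k⟮u⟯ y ↔
      ∃ g : MvPolynomial (Fin 2) k, g ≠ 0 ∧ MvPolynomial.aeval ![u, y] g = 0 := by
  classical
  letI algPK : Algebra k[X] K := (Polynomial.aeval u : k[X] →ₐ[k] K).toRingHom.toAlgebra
  have hPK : ∀ q : k[X], algebraMap k[X] K q = Polynomial.aeval u q := fun q => rfl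
  haveI : IsScalarTower k k[X] K := IsScalarTower.of_algebraMap_eq (fun c => by
    rw [hPK, Polynomial.algebraMap_apply, Polynomial.aeval_C]; rfl)
  let u' : k⟮u⟯ := ⟨u, mem_adjoin_simple_self k u⟩
  letI algPF : Algebra k[X] k⟮u⟯ := (Polynomial.aeval u' : k[X] →ₐ[k] k⟮u⟯).toRingHom.toAlgebra
  have hPF : ∀ q : k[X], algebraMap k[X] k⟮u⟯ q = Polynomial.aeval u' q := fun q => rfl
  haveI : IsScalarTower k k[X] k⟮u⟯ := IsScalarTower.of_algebraMap_eq (fun c => by
    rw [hPF, Polynomial.algebraMap_apply, Polynomial.aeval_C]; rfl)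
  have hcoe : ∀ q : k[X], ((Polynomial.aeval u' q : k⟮u⟯) : K) = Polynomial.aeval u q := fun q => by
    rw [← IntermediateField.algebraMap_apply, ← Polynomial.aeval_algebraMap_apply]
    rfl
  haveI : IsScalarTower k[X] k⟮u⟯ K := IsScalarTower.of_algebraMap_eq (fun q => by
    rw [hPK, hPF, IntermediateField.algebraMap_apply, hcoe])
  have hinj : Function.Injective (algebraMap k[X] k⟮u⟯) := by
    rw [injective_iff_map_eq_zero]
    intro q hq
    rw [hPF] at hq
    have h2 := congrArg (fun z : k⟮u⟯ => (z : K)) hq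
    simp only [hcoe] at h2
    by_contra hne
    exact hu ⟨q, hne, h2⟩
  haveI : FaithfulSMul k[X] k⟮u⟯ := (faithfulSMul_iff_algebraMap_injective _ _).mpr hinj
  haveI : IsFractionRing k[X] k⟮u⟯ := IsFractionRing.of_field _ _ (fun z => by
    obtain ⟨r, s, hrs⟩ := (IntermediateField.mem_adjoin_simple_iff k z.1).mp z.2
    refine ⟨r, s, Subtype.ext ?_⟩
    rw [hrs, hPF, hPF]
    push_cast
    rw [hcoe, hcoe])
  -- evaluation compatibility
  have hev : ∀ p : k[X][Y], Polynomial.aeval y p = aevalAeval u y p := by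
    intro p
    have : ((Polynomial.aeval y : k[X][Y] →ₐ[k[X]] K).restrictScalars k) = aevalAeval u y := by
      apply (aevalAevalEquiv k K).symm.injective
      ext
      · simp [aevalAevalEquiv, hPK]
      · simp [aevalAevalEquiv]
    exact congrArg (fun φ : k[X][Y] →ₐ[k] K => φ p) this
  set e := Polynomial.Bivariate.equivMvPolynomial k with he
  rw [← IsFractionRing.isAlgebraic_iff k[X] k⟮u⟯ K]
  constructor
  · rintro ⟨p, hp0, hp⟩
    refine ⟨e p, ?_, ?_⟩
    · intro h
      apply hp0
      have := congrArg e.symm h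
      rwa [AlgEquiv.symm_apply_apply, map_zero] at this
    · rw [mvAeval_eq_aevalAeval, AlgEquiv.symm_apply_apply, ← hev, hp]
  · rintro ⟨g, hg0, hg⟩
    refine ⟨e.symm g, ?_, ?_⟩
    · intro h
      apply hg0
      have := congrArg e h
      rwa [AlgEquiv.apply_symm_apply, map_zero] at this
    · rw [hev, ← mvAeval_eq_aevalAeval, hg]

end Groth.Agent.Lib.Helper18.FF
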