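import Groth.Agent.Lib.Helper18.FF.AbsIrr2
import Groth.Agent.Lib.Helper18.FF.GaussKer2
import Mathlib.Algebra.MvPolynomial.NoZeroDivisors
import Mathlib.FieldTheory.IntermediateField.Adjoin.Algebra
import Mathlib.FieldTheory.IntermediateField.Adjoin.Basic

/-! # Plane models: transcendence and finiteness -/

set_option autoImplicit false

namespace Groth.Agent.Lib.Helper18.FF

open IntermediateField

variable {k K : Type*} [Field k] [Field K] [Algebra k K]

/-- `K = k(u, v)` is finite over `k(u)` when `u` is transcendental and `(u, v)` satisfies a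
nontrivial relation. -/
theorem finiteDimensional_of_relation {u v : K} (hu : Transcendental k u)
    (huv : IntermediateField.adjoin k ({u, v} : Set K) = ⊤)
    {g : MvPolynomial (Fin 2) k} (hg0 : g ≠ 0) (hg : MvPolynomial.aeval ![u, v] g = 0) :
    FiniteDimensional k⟮u⟯ K := by
  have halg : IsAlgebraic k⟮u⟯ v := (bivariate_algebraic hu v).mpr ⟨g, hg0, hg⟩
  have hint : IsIntegral k⟮u⟯ v := halg.isIntegral
  have hFy : IntermediateField.adjoin k⟮u⟯ ({v} : Set K) = ⊤ := by
    rw [← IntermediateField.restrictScalars_eq_top_iff (K := k),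
      IntermediateField.adjoin_adjoin_left, eq_top_iff, ← huv]
    refine IntermediateField.adjoin_le_iff.mpr ?_
    rintro z (rfl | rfl)
    · exact IntermediateField.subset_adjoin k _ (Or.inl rfl)
    · exact IntermediateField.subset_adjoin k _ (Or.inr rfl)
  have h1 : FiniteDimensional k⟮u⟯ (IntermediateField.adjoin k⟮u⟯ ({v} : Set K)) :=
    IntermediateField.adjoin.finiteDimensional hint
  rw [hFy] at h1
  exact Module.Finite.equiv (IntermediateField.topEquiv (F := k⟮u⟯) (E := K)).toLinearEquiv

theorem degreeOf_polyAeval_X {i j : Fin 2} (hij : j ≠ i) (P : Polynomial k) :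
    MvPolynomial.degreeOf j (Polynomial.aeval (MvPolynomial.X i : MvPolynomial (Fin 2) k) P) = 0 := by
  classical
  rw [Polynomial.aeval_eq_sum_range]
  apply Nat.eq_zero_of_le_zero
  refine (MvPolynomial.degreeOf_sum_le _ _ _).trans ?_
  refine Finset.sup_le fun n _ => ?_
  rw [MvPolynomial.smul_eq_C_mul]
  refine (MvPolynomial.degreeOf_C_mul_le _ _ _).trans ?_
  rw [MvPolynomial.degreeOf_X_pow_of_ne _ hij]

theorem polyAeval_X_ne_zero (i : Fin 2) {P : Polynomial k} (hP : P ≠ 0) :
    Polynomial.aeval (MvPolynomial.X i : MvPolynomial (Fin 2) k) P ≠ 0 := by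
  intro h
  apply hP
  have h1 := congrArg (MvPolynomial.aeval (fun _ : Fin 2 => (Polynomial.X : Polynomial k))) h
  rw [← Polynomial.aeval_algHom_apply, MvPolynomial.aeval_X, map_zero,
    Polynomial.aeval_X_left_apply] at h1
  exact h1

theorem eq_C_of_degreeOf_eq_zero {f : MvPolynomial (Fin 2) k}
    (h : ∀ i, MvPolynomial.degreeOf i f = 0) : f = MvPolynomial.C (MvPolynomial.coeff 0 f) := by
  classical
  rw [← MvPolynomial.totalDegree_eq_zero_iff_eq_C]
  apply Nat.eq_zero_of_le_zero
  refine (MvPolynomial.totalDegree_le_degrees_card f).trans ?_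
  have : f.degrees = 0 := by
    ext i
    rw [Multiset.count_zero, ← MvPolynomial.degreeOf_def]
    exact h i
  rw [this, Multiset.card_zero]

/-- One of the two coordinates of a plane model with principal relation ideal is
transcendental. -/
theorem transcendental_or_of_ker {x y : K} {f : MvPolynomial (Fin 2) k} (hf : Irreducible f)
    (hker : ∀ g : MvPolynomial (Fin 2) k, MvPolynomial.aeval ![x, y] g = 0 → f ∣ g) :
    Transcendental k x ∨ Transcendental k y := by
  classical
  by_contra hcon
  rw [not_or] at hcon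
  have hx : IsAlgebraic k x := by
    by_contra h; exact hcon.1 h
  have hy : IsAlgebraic k y := by
    by_contra h; exact hcon.2 h
  have key : ∀ (i : Fin 2) (z : K), ![x, y] i = z → IsAlgebraic k z →
      ∀ j, j ≠ i → MvPolynomial.degreeOf j f = 0 := by
    intro i z hz halg j hj
    obtain ⟨P, hP0, hP⟩ := halg
    have h1 : MvPolynomial.aeval ![x, y]
        (Polynomial.aeval (MvPolynomial.X i : MvPolynomial (Fin 2) k) P) = 0 := by
      rw [← Polynomial.aeval_algHom_apply, MvPolynomial.aeval_X, hz, hP]
    obtain ⟨q, hq⟩ := hker _ h1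
    have hne := polyAeval_X_ne_zero i hP0
    rw [hq] at hne
    have hf0 : f ≠ 0 := left_ne_zero_of_mul hne
    have hq0 : q ≠ 0 := right_ne_zero_of_mul hne
    have h2 := degreeOf_polyAeval_X hj P
    rw [hq, MvPolynomial.degreeOf_mul_eq hf0 hq0] at h2
    omega
  have hdeg : ∀ j, MvPolynomial.degreeOf j f = 0 := by
    intro j
    fin_cases j
    · exact key 1 y rfl hy 0 (by decide)
    · exact key 0 x rfl hx 1 (by decide)
  have hC := eq_C_of_degreeOf_eq_zero hdeg
  by_cases hc : MvPolynomial.coeff 0 f = 0
  · rw [hc, map_zero] at hC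
    exact hf.ne_zero hC
  · apply hf.not_isUnit
    rw [hC]
    exact (IsUnit.mk0 _ hc).map MvPolynomial.C

end Groth.Agent.Lib.Helper18.FF
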