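import Groth.Agent.Lib.Helper18.FF.RiemannRoch

/-! # Strong approximation -/

set_option autoImplicit false
set_option linter.style.haveILetI false

namespace Groth.Agent.Lib.Helper18.FF

open FunFld WithZero

universe u v

variable {k : Type u} {K : Type v} [Field k] [Field K] [Algebra k K]

/-- For `δ(D) = g`, every repartition is congruent to a principal one modulo `A(D)`. -/
theorem exists_sub_mem_AD (hK : IsFunctionField k K) {D : Divisor k K} (hδ : delta D = genus k K)
    {a : Place k K → K} (ha : a ∈ adele k K) : ∃ z : K, ∀ P : Place k K, P.1 (z - a P) ≤ exp (D P) := by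
  rw [adele_eq_of_delta_eq_genus hK hδ] at ha
  obtain ⟨b, hb, f, ⟨z, rfl⟩, rfl⟩ := Submodule.mem_sup.mp ha
  refine ⟨z, fun P => ?_⟩
  have : z - (b + diag k K z) P = -b P := by
    rw [Pi.add_apply, diag_apply]; ring
  rw [this, Valuation.map_neg]
  exact hb P

theorem exists_delta_add_single_eq_genus (hK : IsFunctionField k K) (E : Divisor k K)
    (Pinf : Place k K) : ∃ l : ℕ, delta (E + Finsupp.single Pinf (l : ℤ)) = genus k K := by
  obtain ⟨N, hN⟩ := exists_delta_eq_genus_of_le_deg hK
  have hP := deg_pos hK Pinf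
  refine ⟨(N - E.deg).toNat, hN _ ?_⟩
  rw [deg_add, deg_single]
  have h1 : N - E.deg ≤ ((N - E.deg).toNat : ℤ) := Int.self_le_toNat _
  have h2 : (1 : ℤ) ≤ (Pinf.deg : ℤ) := by exact_mod_cast hP
  have h3 : (0 : ℤ) ≤ ((N - E.deg).toNat : ℤ) := Int.natCast_nonneg _
  nlinarith

theorem single_mem_adele (Q : Place k K) (y : K) [DecidableEq (Place k K)] :
    (Pi.single Q y : Place k K → K) ∈ adele k K := by
  rw [mem_adele]
  refine (Set.finite_singleton Q).subset ?_
  intro P hP
  by_contra hne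
  apply hP
  rw [Pi.single_eq_of_ne hne, map_zero]
  exact zero_le'

theorem exists_approx_adele (hK : IsFunctionField k K) (Pinf : Place k K) (n : ℕ)
    (P : Fin n → Place k K) (hP : Function.Injective P) (hinf : Pinf ∉ Set.range P)
    (x : Fin n → K) (m : Fin n → ℤ) :
    ∃ z : K, (∀ i, (P i).1 (z - x i) ≤ exp (-(m i + 1))) ∧
      ∀ Q : Place k K, Q ≠ Pinf → Q ∉ Set.range P → Q.1 z ≤ 1 := by
  classical
  set E : Divisor k K := -∑ i, Finsupp.single (P i) (m i + 1) with hE
  obtain ⟨l, hl⟩ := exists_delta_add_single_eq_genus hK E Pinf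
  set a : Place k K → K := ∑ i, Pi.single (P i) (x i) with ha
  have hamem : a ∈ adele k K := Submodule.sum_mem _ fun i _ => single_mem_adele (P i) (x i)
  obtain ⟨z, hz⟩ := exists_sub_mem_AD hK hl hamem
  have haP : ∀ i, a (P i) = x i := by
    intro i
    rw [ha, Finset.sum_apply, Finset.sum_eq_single i]
    · rw [Pi.single_eq_same]
    · intro j _ hji
      rw [Pi.single_eq_of_ne (fun h => hji (hP h).symm)]
    · intro h; exact absurd (Finset.mem_univ i) h
  have haQ : ∀ Q, Q ∉ Set.range P → a Q = 0 := by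
    intro Q hQ
    rw [ha, Finset.sum_apply]
    refine Finset.sum_eq_zero fun j _ => ?_
    rw [Pi.single_eq_of_ne (fun h => hQ ⟨j, h.symm⟩)]
  have hEP : ∀ i, E (P i) = -(m i + 1) := by
    intro i
    rw [hE, Finsupp.neg_apply, Finsupp.finset_sum_apply, Finset.sum_eq_single i]
    · rw [Finsupp.single_eq_same]
    · intro j _ hji
      rw [Finsupp.single_eq_of_ne (fun h => hji (hP h).symm)]
    · intro h; exact absurd (Finset.mem_univ i) h
  have hEQ : ∀ Q, Q ∉ Set.range P → E Q = 0 := by
    intro Q hQ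
    rw [hE, Finsupp.neg_apply, Finsupp.finset_sum_apply, neg_eq_zero]
    refine Finset.sum_eq_zero fun j _ => ?_
    rw [Finsupp.single_eq_of_ne (fun h => hQ ⟨j, h.symm⟩)]
  refine ⟨z, fun i => ?_, fun Q hQinf hQ => ?_⟩
  · have := hz (P i)
    rw [haP, Finsupp.add_apply, hEP,
      Finsupp.single_eq_of_ne (fun h => hinf ⟨i, h⟩), add_zero] at this
    exact this
  · have := hz Q
    rw [haQ Q hQ, sub_zero, Finsupp.add_apply, hEQ Q hQ, Finsupp.single_eq_of_ne hQinf,
      add_zero, exp_zero] at this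
    exact this

/-- Strong approximation. -/
theorem strong_approximation (hK : IsFunctionField k K) (Pinf : Place k K) (n : ℕ)
    (P : Fin n → Place k K) (hP : Function.Injective P) (hinf : Pinf ∉ Set.range P)
    (x : Fin n → K) (m : Fin n → ℤ) :
    ∃ y : K, (∀ i, (P i).1 (y - x i) = exp (-(m i))) ∧
      ∀ Q : Place k K, Q ≠ Pinf → Q ∉ Set.range P → Q.1 y ≤ 1 := by
  obtain ⟨z, hz1, hz2⟩ := exists_approx_adele hK Pinf n P hP hinf x m
  choose y' hy' using fun i => exists_val_eq_exp (P i) (-(m i))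
  obtain ⟨w, hw1, hw2⟩ := exists_approx_adele hK Pinf n P hP hinf y' m
  have hlt : ∀ i, exp (-(m i + 1)) < exp (-(m i)) := fun i => by
    rw [exp_lt_exp]; omega
  have hw : ∀ i, (P i).1 w = exp (-(m i)) := by
    intro i
    have h1 : (P i).1 (w - y' i) < (P i).1 (y' i) := by
      rw [hy']; exact (hw1 i).trans_lt (hlt i)
    have h2 : w = y' i + (w - y' i) := by ring
    rw [h2, Valuation.map_add_eq_of_lt_left _ h1, hy']
  refine ⟨z + w, fun i => ?_, fun Q hQinf hQ => ?_⟩
  · have h1 : (P i).1 (z - x i) < (P i).1 w := by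
      rw [hw]; exact (hz1 i).trans_lt (hlt i)
    have h2 : z + w - x i = w + (z - x i) := by ring
    rw [h2, Valuation.map_add_eq_of_lt_left _ h1, hw]
  · exact (Q.1.map_add z w).trans (max_le (hz2 Q hQinf hQ) (hw2 Q hQinf hQ))

end Groth.Agent.Lib.Helper18.FF
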