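import Groth.Agent.Lib.Helper18.FF.LocalGlobal
import Groth.Agent.Lib.Helper18.FF.StrongApprox

/-! # Completions at a place: density, and the genus as `dim K_P / (O_{\{P\}} + O_P)` -/

set_option autoImplicit false
set_option linter.style.haveILetI false

namespace Groth.Agent.Lib.Helper18.FF

open FunFld WithZero

universe u

variable {k K : Type u} [Field k] [Field K] [Algebra k K]

/-- Every element of the completion is congruent to an element of `K` modulo `O_v`. -/
theorem exists_sub_mem_Ov (v : Place k K) (a : AdFn.Kv v) :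
    ∃ x : K, a - AdFn.toKv v x ∈ AdFn.Ov v := by
  have hopen : IsOpen {b : AdFn.Kv v | a - b ∈ AdFn.Ov v} :=
    (AdFn.isOpen_Ov v).preimage (continuous_const.sub continuous_id)
  have hne : {b : AdFn.Kv v | a - b ∈ AdFn.Ov v}.Nonempty :=
    ⟨a, by simp only [Set.mem_setOf_eq, sub_self]; exact zero_mem _⟩
  obtain ⟨x, hx⟩ := (UniformSpace.Completion.denseRange_coe (α := WithVal v.1)).exists_mem_open
    hopen hne
  exact ⟨x.ofVal, hx⟩

/-- `O_v` as a `k`-subspace of `K_v`. -/
noncomputable def OvSub (v : Place k K) : Submodule k (AdFn.Kv v) where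
  carrier := (AdFn.Ov v : Set (AdFn.Kv v))
  add_mem' {a b} ha hb := by
    have ha' : a ∈ AdFn.Ov v := ha
    have hb' : b ∈ AdFn.Ov v := hb
    exact add_mem ha' hb'
  zero_mem' := by
    show (0 : AdFn.Kv v) ∈ AdFn.Ov v
    exact zero_mem _
  smul_mem' c x hx := by
    have hx' : x ∈ AdFn.Ov v := hx
    show c • x ∈ AdFn.Ov v
    rw [Algebra.smul_def, IsScalarTower.algebraMap_apply k K (AdFn.Kv v)]
    exact mul_mem ((AdFn.toKv_mem_Ov v _).2 (v.2.1 c)) hx'

theorem mem_OvSub (v : Place k K) (x : AdFn.Kv v) : x ∈ OvSub v ↔ x ∈ AdFn.Ov v := Iff.rfl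

theorem span_Ov (v : Place k K) : Submodule.span k (AdFn.Ov v : Set (AdFn.Kv v)) = OvSub v :=
  le_antisymm (Submodule.span_le.2 fun _ hx => (mem_OvSub v _).2 hx)
    (fun _ hx => Submodule.subset_span ((mem_OvSub v _).1 hx))

theorem finrank_Kv_quotient (hK : IsFunctionField k K) (P : Place k K) :
    FiniteDimensional k (AdFn.Kv P ⧸
        (Subalgebra.toSubmodule ((AdFn.SInt ({P} : Set (FunFld.Place k K))).map
            (IsScalarTower.toAlgHom k K (AdFn.Kv P))) ⊔
          Submodule.span k (AdFn.Ov P : Set (AdFn.Kv P)))) ∧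
    Module.finrank k (AdFn.Kv P ⧸
        (Subalgebra.toSubmodule ((AdFn.SInt ({P} : Set (FunFld.Place k K))).map
            (IsScalarTower.toAlgHom k K (AdFn.Kv P))) ⊔
          Submodule.span k (AdFn.Ov P : Set (AdFn.Kv P)))) = FunFld.genus k K := by
  obtain ⟨hfin, hrk⟩ := finrank_quotient_SInt hK P
  set N : Submodule k K := Subalgebra.toSubmodule (AdFn.SInt ({P} : Set (Place k K))) ⊔
        Subalgebra.toSubmodule (AdFn.SInt (({P} : Set (Place k K))ᶜ)) with hN
  set N' : Submodule k (AdFn.Kv P) :=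
    Subalgebra.toSubmodule ((AdFn.SInt ({P} : Set (FunFld.Place k K))).map
            (IsScalarTower.toAlgHom k K (AdFn.Kv P))) ⊔
          Submodule.span k (AdFn.Ov P : Set (AdFn.Kv P)) with hN'
  let ι : K →ₗ[k] AdFn.Kv P := (IsScalarTower.toAlgHom k K (AdFn.Kv P)).toLinearMap
  have hι : ∀ x, ι x = AdFn.toKv P x := fun _ => rfl
  let g : K →ₗ[k] (AdFn.Kv P ⧸ N') := N'.mkQ ∘ₗ ι
  have hsurj : Function.Surjective g := by
    intro q
    obtain ⟨a, rfl⟩ := N'.mkQ_surjective q
    obtain ⟨x, hx⟩ := exists_sub_mem_Ov P a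
    refine ⟨x, ?_⟩
    show N'.mkQ (ι x) = N'.mkQ a
    rw [← sub_eq_zero, ← map_sub, Submodule.mkQ_apply, Submodule.Quotient.mk_eq_zero,
      ← neg_sub, hι]
    refine N'.neg_mem ?_
    exact Submodule.mem_sup_right (Submodule.subset_span hx)
  have hker : LinearMap.ker g = N := by
    ext x
    rw [LinearMap.mem_ker]
    show N'.mkQ (ι x) = 0 ↔ _
    rw [Submodule.mkQ_apply, Submodule.Quotient.mk_eq_zero, hN', span_Ov]
    constructor
    · intro h
      obtain ⟨s', hs', o, ho, e⟩ := Submodule.mem_sup.mp h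
      obtain ⟨s, hs, rfl⟩ := hs'
      have ho' : o ∈ AdFn.Ov P := (mem_OvSub P o).1 ho
      have e' : o = AdFn.toKv P (x - s) := by
        rw [map_sub, ← hι x, ← e]
        show o = (IsScalarTower.toAlgHom k K (AdFn.Kv P)) s + o - AdFn.toKv P s
        have : (IsScalarTower.toAlgHom k K (AdFn.Kv P)) s = AdFn.toKv P s := rfl
        rw [this]; ring
      rw [e', AdFn.toKv_mem_Ov] at ho'
      have hx : x = s + (x - s) := by ring
      rw [hx]
      refine Submodule.add_mem_sup hs ?_
      intro v hv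
      have hvP : v = P := by
        by_contra hne
        exact hv hne
      rw [hvP]
      exact ho'
    · intro h
      obtain ⟨s, hs, t, ht, rfl⟩ := Submodule.mem_sup.mp h
      rw [map_add]
      refine Submodule.add_mem_sup ⟨s, hs, rfl⟩ ?_
      rw [mem_OvSub, hι, AdFn.toKv_mem_Ov]
      exact ht P (fun h => h rfl)
  let e : (K ⧸ N) ≃ₗ[k] (AdFn.Kv P ⧸ N') :=
    (Submodule.quotEquivOfEq _ _ hker.symm).trans (g.quotKerEquivOfSurjective hsurj)
  haveI := hfin
  exact ⟨e.finiteDimensional, by rw [← e.finrank_eq, hrk]⟩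

end Groth.Agent.Lib.Helper18.FF

namespace Groth.Agent.Lib.Helper18.FF

open FunFld WithZero

universe u

variable {k K : Type u} [Field k] [Field K] [Algebra k K]

/-- Strong approximation in the adele ring: every adele is congruent to a principal adele modulo
the adeles integral outside a nonempty set of places. -/
theorem adele_strongApprox (hK : IsFunctionField k K) [AdFn.HasFinitePoles k K]
    (S : Set (Place k K)) (hS : S.Nonempty) (a : AdFn.AdeleRing k K) :
    ∃ f : K, ∀ v : Place k K, v ∉ S →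
      AdFn.AdeleRing.proj v (a - AdFn.AdeleRing.diag f) ∈ AdFn.Ov v := by
  classical
  obtain ⟨Q, hQ⟩ := hS
  have hx : ∀ v : Place k K, ∃ x : K, a.1 v - AdFn.toKv v x ∈ AdFn.Ov v ∧
      (a.1 v ∈ AdFn.Ov v → x = 0) := by
    intro v
    by_cases h : a.1 v ∈ AdFn.Ov v
    · exact ⟨0, by rw [map_zero, sub_zero]; exact h, fun _ => rfl⟩
    · obtain ⟨x, hx⟩ := exists_sub_mem_Ov v (a.1 v)
      exact ⟨x, hx, fun h' => absurd h' h⟩
  choose x hx1 hx2 using hx
  have hxad : x ∈ adele k K := by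
    rw [mem_adele]
    have hfin : {v : Place k K | ¬ a.1 v ∈ AdFn.Ov v}.Finite := by
      have := a.2
      rw [Filter.eventually_cofinite] at this
      exact this
    refine hfin.subset ?_
    intro v hv hav
    apply hv
    rw [hx2 v hav, map_zero]
    exact zero_le'
  obtain ⟨l, hl⟩ := exists_delta_add_single_eq_genus hK (0 : Divisor k K) Q
  obtain ⟨z, hz⟩ := exists_sub_mem_AD hK hl hxad
  refine ⟨z, fun v hv => ?_⟩
  have hvQ : v ≠ Q := fun h => hv (h ▸ hQ)
  have h1 := hz v
  rw [Finsupp.add_apply, Finsupp.zero_apply, zero_add, Finsupp.single_eq_of_ne hvQ,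
    exp_zero] at h1
  rw [map_sub, AdFn.AdeleRing.proj_diag, AdFn.AdeleRing.proj_apply]
  have e : a.1 v - AdFn.toKv v z = (a.1 v - AdFn.toKv v (x v)) - AdFn.toKv v (z - x v) := by
    rw [map_sub]; ring
  rw [e]
  exact sub_mem (hx1 v) ((AdFn.toKv_mem_Ov v _).2 h1)

theorem adele_principal_add_integral_iff [AdFn.HasFinitePoles k K]
    (S : Set (Place k K)) (b : AdFn.AdeleRing k K)
    (hb : ∀ v : Place k K, v ∉ S → AdFn.AdeleRing.proj v b = 0) :
    (∃ f : K, ∀ v : Place k K, AdFn.AdeleRing.proj v (b - AdFn.AdeleRing.diag f) ∈ AdFn.Ov v) ↔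
      ∃ f ∈ AdFn.SInt S, ∀ v ∈ S, AdFn.AdeleRing.proj v b - AdFn.toKv v f ∈ AdFn.Ov v := by
  constructor
  · rintro ⟨f, hf⟩
    refine ⟨f, ?_, ?_⟩
    · intro v hv
      have h1 := hf v
      rw [map_sub, hb v hv, zero_sub, AdFn.AdeleRing.proj_diag] at h1
      have h2 : AdFn.toKv v f ∈ AdFn.Ov v := by
        have := neg_mem h1
        rwa [neg_neg] at this
      exact (AdFn.toKv_mem_Ov v f).1 h2
    · intro v _
      have h1 := hf v
      rwa [map_sub, AdFn.AdeleRing.proj_diag] at h1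
  · rintro ⟨f, hfS, hf⟩
    refine ⟨f, fun v => ?_⟩
    rw [map_sub, AdFn.AdeleRing.proj_diag]
    by_cases hv : v ∈ S
    · exact hf v hv
    · rw [hb v hv, zero_sub]
      exact neg_mem ((AdFn.toKv_mem_Ov v f).2 (hfS v hv))

end Groth.Agent.Lib.Helper18.FF
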