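import Groth.Agent.Lib.Helper18.FF.Riemann
import Groth.Agent.Lib.Helper18.LinAlg.RelQuot

/-! # Repartitions: `dim A(D₂)/A(D₁) = deg D₂ - deg D₁` -/

set_option autoImplicit false
set_option linter.style.haveILetI false

namespace Groth.Agent.Lib.Helper18.FF

open FunFld WithZero Groth.Agent.Lib.Helper18.LinAlg

universe u v

variable {k : Type u} {K : Type v} [Field k] [Field K] [Algebra k K]

theorem mem_AD {D : Divisor k K} {a : Place k K → K} :
    a ∈ AD D ↔ ∀ P : Place k K, P.1 (a P) ≤ exp (D P) := Iff.rfl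

theorem AD_mono {D₁ D₂ : Divisor k K} (h : D₁ ≤ D₂) : AD D₁ ≤ AD D₂ := by
  intro a ha P
  exact (ha P).trans (exp_le_exp.mpr (h P))

theorem le_add_single_one (D : Divisor k K) (P : Place k K) : D ≤ D + Finsupp.single P 1 := by
  intro Q
  rw [Finsupp.add_apply]
  have : (0 : ℤ) ≤ (Finsupp.single P (1 : ℤ)) Q := by
    by_cases hQ : Q = P
    · subst hQ; simp
    · rw [Finsupp.single_eq_of_ne hQ]
  linarith

/-- The map `A(D + P) → κ(P)`, `a ↦ (t a_P)(P)` for `t` of order `D(P) + 1` at `P`. -/
theorem exists_linearMap_AD (D : Divisor k K) (P : Place k K) :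
    ∃ φ : AD (D + Finsupp.single P 1) →ₗ[k] IsLocalRing.ResidueField P.O,
      Function.Surjective φ ∧ ∀ a : AD (D + Finsupp.single P 1), φ a = 0 ↔ (a : Place k K → K) ∈ AD D := by
  classical
  obtain ⟨t, ht⟩ := exists_val_eq_exp P (-(D P + 1))
  have ht0 : t ≠ 0 := by
    rintro rfl; rw [map_zero] at ht; exact exp_ne_zero ht.symm
  have hmem : ∀ a : AD (D + Finsupp.single P 1), P.1 (t * (a : Place k K → K) P) ≤ 1 := by
    intro a
    have := a.2 P
    rw [Finsupp.add_apply, Finsupp.single_eq_same] at this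
    rw [map_mul, ht]
    calc exp (-(D P + 1)) * P.1 ((a : Place k K → K) P) ≤ exp (-(D P + 1)) * exp (D P + 1) :=
          mul_le_mul' le_rfl this
      _ = 1 := by rw [← exp_add]; simp
  let φ : AD (D + Finsupp.single P 1) →ₗ[k] IsLocalRing.ResidueField P.O :=
    { toFun := fun a => res P (t * (a : Place k K → K) P) (hmem a)
      map_add' := fun x y => by
        rw [← res_add P (t * (x : Place k K → K) P) (t * (y : Place k K → K) P) (hmem x) (hmem y)]
        exact res_congr P (by push_cast; rw [Pi.add_apply]; ring) _ _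
      map_smul' := fun c x => by
        have h1 := res_smul P c (t * (x : Place k K → K) P) (hmem x)
        rw [RingHom.id_apply]
        refine Eq.trans (res_congr P ?_ _ _) h1
        push_cast
        rw [Pi.smul_apply, mul_smul_comm] }
  refine ⟨φ, ?_, ?_⟩
  · intro y
    obtain ⟨z, hz, rfl⟩ := res_surjective P y
    have ha : (Pi.single P (t⁻¹ * z) : Place k K → K) ∈ AD (D + Finsupp.single P 1) := by
      intro Q
      by_cases hQ : Q = P
      · subst hQ
        rw [Pi.single_eq_same, map_mul, map_inv₀, ht, Finsupp.add_apply, Finsupp.single_eq_same,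
          ← exp_neg, neg_neg]
        calc exp (D Q + 1) * Q.1 z ≤ exp (D Q + 1) * 1 := mul_le_mul' le_rfl hz
          _ = exp (D Q + 1) := mul_one _
      · rw [Pi.single_eq_of_ne hQ, map_zero]
        exact zero_le'
    refine ⟨⟨_, ha⟩, ?_⟩
    show res P (t * (Pi.single P (t⁻¹ * z) : Place k K → K) P) _ = res P z hz
    refine res_congr P ?_ _ _
    rw [Pi.single_eq_same, ← mul_assoc, mul_inv_cancel₀ ht0, one_mul]
  · intro a
    change res P (t * (a : Place k K → K) P) (hmem a) = 0 ↔ (a : Place k K → K) ∈ AD D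
    rw [res_eq_zero_iff, map_mul, ht]
    constructor
    · intro h Q
      by_cases hQ : Q = P
      · subst hQ
        rcases eq_or_ne ((a : Place k K → K) Q) 0 with h0 | h0
        · rw [h0, map_zero]; exact zero_le'
        · rw [val_eq_exp_neg_ord Q h0, ← exp_add, ← exp_zero, exp_lt_exp] at h
          rw [val_eq_exp_neg_ord Q h0, exp_le_exp]
          omega
      · have := a.2 Q
        rw [Finsupp.add_apply, Finsupp.single_eq_of_ne hQ, add_zero] at this
        exact this
    · intro h
      have h1 := h P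
      calc exp (-(D P + 1)) * P.1 ((a : Place k K → K) P) ≤ exp (-(D P + 1)) * exp (D P) :=
            mul_le_mul' le_rfl h1
        _ < 1 := by rw [← exp_add, ← exp_zero, exp_lt_exp]; omega

theorem relQ_AD_single (hK : IsFunctionField k K) (D : Divisor k K) (P : Place k K) :
    FiniteDimensional k (relQ (AD D) (AD (D + Finsupp.single P 1))) ∧
      Module.finrank k (relQ (AD D) (AD (D + Finsupp.single P 1))) = P.deg := by
  haveI := finiteDimensional_residueField hK P
  obtain ⟨φ, hs, hk⟩ := exists_linearMap_AD D P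
  let e := relQEquiv (AD D) (AD (D + Finsupp.single P 1)) φ hs hk
  exact ⟨Module.Finite.equiv e.symm, e.finrank_eq⟩

theorem relQ_AD_single_nat (hK : IsFunctionField k K) (P : Place k K) (n : ℕ) :
    ∀ D : Divisor k K,
      FiniteDimensional k (relQ (AD D) (AD (D + Finsupp.single P (n : ℤ)))) ∧
        Module.finrank k (relQ (AD D) (AD (D + Finsupp.single P (n : ℤ)))) = n * P.deg := by
  induction n with
  | zero =>
    intro D
    have e : D + Finsupp.single P ((0 : ℕ) : ℤ) = D := by
      rw [Nat.cast_zero, Finsupp.single_zero, add_zero]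
    rw [e, zero_mul]
    haveI := relQ_subsingleton (AD D) (AD D) le_rfl
    exact ⟨inferInstance, Module.finrank_zero_of_subsingleton⟩
  | succ n ih =>
    intro D
    obtain ⟨h1, h2⟩ := ih D
    obtain ⟨h3, h4⟩ := relQ_AD_single hK (D + Finsupp.single P (n : ℤ)) P
    have e : D + Finsupp.single P (n : ℤ) + Finsupp.single P 1 = D + Finsupp.single P ((n + 1 : ℕ) : ℤ) := by
      rw [add_assoc, ← Finsupp.single_add]; push_cast; rfl
    rw [e] at h3 h4
    have hle1 : AD D ≤ AD (D + Finsupp.single P (n : ℤ)) := by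
      apply AD_mono
      intro Q
      rw [Finsupp.add_apply]
      have : (0 : ℤ) ≤ (Finsupp.single P (n : ℤ)) Q := by
        by_cases hQ : Q = P
        · subst hQ; simp
        · rw [Finsupp.single_eq_of_ne hQ]
      linarith
    have hle2 : AD (D + Finsupp.single P (n : ℤ)) ≤ AD (D + Finsupp.single P ((n + 1 : ℕ) : ℤ)) := by
      rw [← e]
      exact AD_mono (le_add_single_one _ P)
    obtain ⟨h5, h6⟩ := relQ_tower (AD D) (AD (D + Finsupp.single P (n : ℤ)))
      (AD (D + Finsupp.single P ((n + 1 : ℕ) : ℤ))) hle1 hle2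
    refine ⟨h5, ?_⟩
    rw [h6, h2, h4]
    ring

theorem toDiv_nonneg (f : Place k K →₀ ℕ) : 0 ≤ toDiv (k := k) (K := K) f := fun P => by
  rw [toDiv_apply]; exact Int.natCast_nonneg _

theorem relQ_AD_add_toDiv (hK : IsFunctionField k K) (f : Place k K →₀ ℕ) :
    ∀ D : Divisor k K,
      FiniteDimensional k (relQ (AD D) (AD (D + toDiv f))) ∧
        (Module.finrank k (relQ (AD D) (AD (D + toDiv f))) : ℤ) = (toDiv f).deg := by
  classical
  induction f using Finsupp.induction with
  | zero =>
    intro D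
    rw [toDiv_zero, add_zero, deg_zero]
    haveI := relQ_subsingleton (AD D) (AD D) le_rfl
    refine ⟨inferInstance, ?_⟩
    rw [Module.finrank_zero_of_subsingleton]; rfl
  | single_add P n f _ _ ih =>
    intro D
    obtain ⟨h1, h2⟩ := relQ_AD_single_nat hK P n D
    obtain ⟨h3, h4⟩ := ih (D + Finsupp.single P (n : ℤ))
    rw [toDiv_add, toDiv_single, ← add_assoc, deg_add, deg_single]
    have hle1 : AD D ≤ AD (D + Finsupp.single P (n : ℤ)) := by
      apply AD_mono
      intro Q
      rw [Finsupp.add_apply]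
      have : (0 : ℤ) ≤ (Finsupp.single P (n : ℤ)) Q := by
        by_cases hQ : Q = P
        · subst hQ; simp
        · rw [Finsupp.single_eq_of_ne hQ]
      linarith
    have hle2 : AD (D + Finsupp.single P (n : ℤ)) ≤ AD (D + Finsupp.single P (n : ℤ) + toDiv f) :=
      AD_mono (le_add_of_nonneg_right (toDiv_nonneg f))
    obtain ⟨h5, h6⟩ := relQ_tower (AD D) (AD (D + Finsupp.single P (n : ℤ)))
      (AD (D + Finsupp.single P (n : ℤ) + toDiv f)) hle1 hle2
    refine ⟨h5, ?_⟩
    rw [h6, h2]
    push_cast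
    rw [h4]

/-- `dim A(D₂)/A(D₁) = deg D₂ - deg D₁` for `D₁ ≤ D₂`. -/
theorem relQ_AD (hK : IsFunctionField k K) {D₁ D₂ : Divisor k K} (h : D₁ ≤ D₂) :
    FiniteDimensional k (relQ (AD D₁) (AD D₂)) ∧
      (Module.finrank k (relQ (AD D₁) (AD D₂)) : ℤ) = D₂.deg - D₁.deg := by
  have h0 : 0 ≤ D₂ - D₁ := sub_nonneg.mpr h
  obtain ⟨h1, h2⟩ := relQ_AD_add_toDiv hK (posPart (D₂ - D₁)) D₁
  rw [toDiv_posPart_of_nonneg h0, add_sub_cancel, deg_sub] at h2
  rw [toDiv_posPart_of_nonneg h0, add_sub_cancel] at h1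
  exact ⟨h1, h2⟩

end Groth.Agent.Lib.Helper18.FF
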