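import Groth.Agent.Lib.Helper18.FF.Adele

/-! # `dim (A(D₂)+K)/(A(D₁)+K) = δ(D₂) - δ(D₁)` and `dim A/(A(D)+K) = g - δ(D)` -/

set_option autoImplicit false
set_option linter.style.haveILetI false

namespace Groth.Agent.Lib.Helper18.FF

open FunFld WithZero Groth.Agent.Lib.Helper18.LinAlg

universe u v

variable {k : Type u} {K : Type v} [Field k] [Field K] [Algebra k K]

theorem diag_apply (x : K) (P : Place k K) : diag k K x P = x := rfl

theorem diag_injective (hK : IsFunctionField k K) : Function.Injective (diag k K) := by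
  intro x y h
  obtain ⟨t, ht, -⟩ := hK.1
  have hnc : t ∉ Set.range (algebraMap k K) := by
    rintro ⟨c, rfl⟩
    exact ht (isAlgebraic_algebraMap c)
  obtain ⟨P, -⟩ := exists_zero hK hnc
  exact congrFun h P

theorem comap_diag_AD (D : Divisor k K) : (AD D).comap (diag k K) = L D := by
  ext x
  rfl

/-- `dim (A(D₂)+K)/(A(D₁)+K) = δ(D₂) - δ(D₁)`. -/
theorem relQ_ADK (hK : IsFunctionField k K) {D₁ D₂ : Divisor k K} (h : D₁ ≤ D₂) :
    FiniteDimensional k (relQ (AD D₁ ⊔ LinearMap.range (diag k K)) (AD D₂ ⊔ LinearMap.range (diag k K))) ∧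
      (Module.finrank k (relQ (AD D₁ ⊔ LinearMap.range (diag k K))
        (AD D₂ ⊔ LinearMap.range (diag k K))) : ℤ) = delta D₂ - delta D₁ := by
  set F := LinearMap.range (diag k K) with hF
  set A₁ := AD D₁ with hA₁
  set A₂ := AD D₂ with hA₂
  have hA : A₁ ≤ A₂ := AD_mono h
  set G := A₂ ⊓ F with hG
  obtain ⟨hfin, hrk⟩ := relQ_AD hK h
  haveI := hfin
  -- the piece `(A₁ + G)/A₁ ≅ L(D₂)/L(D₁)`
  haveI := finiteDimensional_L hK D₂
  have hGcomap : G.comap (diag k K) = L D₂ := by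
    rw [hG, Submodule.comap_inf, comap_diag_AD]
    ext x
    simp [hF]
  let e1 : relQ A₁ (A₁ ⊔ G) ≃ₗ[k] relQ (L D₁) (L D₂) :=
    ((relQSupLeftEquiv A₁ G).symm.trans
      (relQComapEquiv (diag k K) (diag_injective hK) A₁ G inf_le_right)).trans
      (relQCongr (comap_diag_AD D₁) hGcomap)
  haveI : FiniteDimensional k (relQ A₁ (A₁ ⊔ G)) := Module.Finite.equiv e1.symm
  have h1 : Module.finrank k (relQ A₁ (A₁ ⊔ G)) + ell D₁ = ell D₂ := by
    rw [e1.finrank_eq]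
    exact finrank_relQ_add (L D₁) (L D₂) (L_mono h)
  -- the piece `A₂/(A₁ + G) ≅ (A₂+K)/(A₁+K)`
  haveI : FiniteDimensional k (relQ (A₁ ⊔ G) A₂) :=
    finiteDimensional_relQ_of_le A₁ (A₁ ⊔ G) A₂ le_sup_left
  let e2 : relQ (A₁ ⊔ G) A₂ ≃ₗ[k] relQ (A₁ ⊔ F) (A₂ ⊔ F) := relQSupEquiv A₁ A₂ F hA
  obtain ⟨-, h2⟩ := relQ_tower A₁ (A₁ ⊔ G) A₂ le_sup_left (sup_le hA inf_le_left)
  refine ⟨Module.Finite.equiv e2, ?_⟩
  rw [← e2.finrank_eq]
  unfold delta
  have h3 : (Module.finrank k (relQ A₁ A₂) : ℤ) =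
      (Module.finrank k (relQ A₁ (A₁ ⊔ G)) : ℤ) + (Module.finrank k (relQ (A₁ ⊔ G) A₂) : ℤ) := by
    exact_mod_cast h2
  have h4 : (Module.finrank k (relQ A₁ (A₁ ⊔ G)) : ℤ) + (ell D₁ : ℤ) = (ell D₂ : ℤ) := by
    exact_mod_cast h1
  linarith

end Groth.Agent.Lib.Helper18.FF
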