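import Groth.Agent.Lib.Helper18.FF.AdjFinal

/-! # Choice of projective coordinates adapted to a place (helper18) -/

set_option autoImplicit false
set_option linter.style.haveILetI false

namespace Groth.Agent.Lib.Helper18.FF

open FunFld WithZero LocRes IntermediateField Groth.Agent.Lib.Helper24.FFExt
  Groth.Agent.Lib.Helper18.Tate

universe u v

variable {k : Type u} {K : Type v} [Field k] [Field K] [Algebra k K]

/-- The shear matrix. -/
def shearMat (c : k) : Matrix (Fin 3) (Fin 3) k := !![1, 0, 0; 0, 1, -c; 0, 0, 1]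

theorem shearMat_det (c : k) : (shearMat c).det = 1 := by
  unfold shearMat
  rw [Matrix.det_fin_three]
  simp

theorem shearMat_comb (c : k) (v : Fin 3 → K) (m : Fin 3) :
    ∑ l, algebraMap k K (shearMat c m l) * ![v 0, v 1 + c • v 2, v 2] l = v m := by
  rw [Fin.sum_univ_three]
  unfold shearMat
  fin_cases m
  · simp
  · simp [Algebra.smul_def]
  · simp

/-- Permuted shear coordinates. -/
theorem coords_aux (φ : Fin 3 → K) (σ : Equiv.Perm (Fin 3)) (c : k) :
    ((shearMat c).submatrix σ.symm id).det ≠ 0 ∧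
    ∀ i, ∑ l, algebraMap k K (((shearMat c).submatrix σ.symm id) i l) *
      ![φ (σ 0), φ (σ 1) + c • φ (σ 2), φ (σ 2)] l = φ i := by
  constructor
  · rw [Matrix.det_permute, shearMat_det, mul_one]
    have := Int.units_eq_one_or (Equiv.Perm.sign σ.symm)
    rcases this with h | h
    · rw [h]
      simp
    · rw [h]
      simp
  · intro i
    obtain ⟨m, rfl⟩ := σ.surjective i
    simp only [Matrix.submatrix_apply, Equiv.symm_apply_apply, id_eq]
    exact shearMat_comb c (fun m => φ (σ m)) m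

/-- The divisor of a plane map is invariant under shears. -/
theorem mapDiv_shear (hK : IsFunctionField k K) (a b : K) (c : k) :
    mapDiv k ![(1 : K), a + c • b, b] = mapDiv k ![(1 : K), a, b] := by
  ext P
  have h1 := exp_mapDiv_eq_sup hK ![(1 : K), a, b] (i0 := 0) rfl P
  have h2 := exp_mapDiv_eq_sup hK ![(1 : K), a + c • b, b] (i0 := 0) rfl P
  have hdet : (shearMat c).det ≠ 0 := by
    rw [shearMat_det]
    exact one_ne_zero
  have h3 := sup_val_comb_eq P (shearMat c) hdet ![(1 : K), a + c • b, b] ![(1 : K), a, b]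
    (fun i => shearMat_comb c ![(1 : K), a, b] i)
  rw [← h1, ← h2] at h3
  exact (WithZero.exp_injective h3).symm

/-- **Adapted coordinates.** For any place `Q` of a plane model there is a change of projective
coordinates after which `Q` is finite, the first affine coordinate has maximal pole order at every
infinite place, and is separating. -/
theorem exists_good_coords [IsAlgClosed k] (hK : IsFunctionField k K) (x y : K)
    (hxy : IntermediateField.adjoin k ({x, y} : Set K) = ⊤)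
    (hdx : KaehlerDifferential.D k K x ≠ 0) (Q : Place k K) :
    ∃ (A : Matrix (Fin 3) (Fin 3) k) (u : Fin 3 → K), A.det ≠ 0 ∧
      (∀ i, ∑ j, algebraMap k K (A i j) * u j = ![(1 : K), x, y] i) ∧ u 0 ≠ 0 ∧
      Q.1 (u 1 / u 0) ≤ 1 ∧
      (∀ P : Place k K, 0 < mapDiv k ![(1 : K), u 1 / u 0, u 2 / u 0] P →
        P.1 (u 1 / u 0) = exp (mapDiv k ![(1 : K), u 1 / u 0, u 2 / u 0] P)) ∧
      KaehlerDifferential.D k K (u 1 / u 0) ≠ 0 := by
  classical
  haveI : Infinite k := IsAlgClosed.instInfinite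
  obtain ⟨φ, hφ⟩ : ∃ φ : Fin 3 → K, φ = ![(1 : K), x, y] := ⟨_, rfl⟩
  obtain ⟨j, hjmax⟩ := Finite.exists_max (fun i => Q.1 (φ i))
  have hvj : Q.1 (φ j) ≠ 0 := by
    have h1 : Q.1 (φ 0) ≤ Q.1 (φ j) := hjmax 0
    have h2 : Q.1 (φ 0) = 1 := by
      rw [hφ]
      exact map_one _
    rw [h2] at h1
    exact (lt_of_lt_of_le zero_lt_one h1).ne'
  have hj0 : φ j ≠ 0 := (Valuation.ne_zero_iff _).mp hvj
  obtain ⟨σ, hσ⟩ : ∃ σ : Equiv.Perm (Fin 3), σ 0 = j := ⟨Equiv.swap 0 j, Equiv.swap_apply_left 0 j⟩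
  have hσ0 : φ (σ 0) ≠ 0 := hσ ▸ hj0
  obtain ⟨a, ha⟩ : ∃ a : K, a = φ (σ 1) / φ (σ 0) := ⟨_, rfl⟩
  obtain ⟨b, hb⟩ : ∃ b : K, b = φ (σ 2) / φ (σ 0) := ⟨_, rfl⟩
  have hle : ∀ i, Q.1 (φ i / φ (σ 0)) ≤ 1 := by
    intro i
    rw [map_div₀, hσ]
    exact (div_le_one₀ (zero_lt_iff.mpr hvj)).mpr (hjmax i)
  have haQ : Q.1 a ≤ 1 := ha ▸ hle _
  have hbQ : Q.1 b ≤ 1 := hb ▸ hle _
  have hux : ∀ c : k, ![φ (σ 0), φ (σ 1) + c • φ (σ 2), φ (σ 2)] 1 /
      ![φ (σ 0), φ (σ 1) + c • φ (σ 2), φ (σ 2)] 0 = a + c • b := by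
    intro c
    show (φ (σ 1) + c • φ (σ 2)) / φ (σ 0) = a + c • b
    rw [add_div, smul_div_assoc, ha, hb]
  have huy : ∀ c : k, ![φ (σ 0), φ (σ 1) + c • φ (σ 2), φ (σ 2)] 2 /
      ![φ (σ 0), φ (σ 1) + c • φ (σ 2), φ (σ 2)] 0 = b := by
    intro c
    show φ (σ 2) / φ (σ 0) = b
    rw [hb]
  -- `a` and `b` generate
  have hab : IntermediateField.adjoin k ({a, b} : Set K) = ⊤ := by
    obtain ⟨hdet, hcomb⟩ := coords_aux φ σ (0 : k)
    rw [hφ] at hcomb
    have h := adjoin_coord_change x y _ _ hcomb (hφ ▸ hσ0) hxy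
    rw [← hφ, hux 0, huy 0, zero_smul, add_zero] at h
    exact h
  obtain ⟨S, hS⟩ := exists_finset_D_ne_zero hab hdx
  obtain ⟨c, hcS, hc⟩ := plane_exists_generic_avoiding hK a b S
  obtain ⟨hdet, hcomb⟩ := coords_aux φ σ c
  refine ⟨_, ![φ (σ 0), φ (σ 1) + c • φ (σ 2), φ (σ 2)], hdet, hφ ▸ hcomb, hσ0, ?_, ?_, ?_⟩
  · rw [hux c]
    refine Valuation.map_add_le _ haQ ?_
    rw [Algebra.smul_def, map_mul]
    calc Q.1 (algebraMap k K c) * Q.1 b ≤ 1 * 1 := mul_le_mul' (val_algebraMap_le Q c) hbQ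
      _ = 1 := one_mul 1
  · rw [hux c, huy c, mapDiv_shear hK a b c]
    exact hc
  · rw [hux c]
    exact hS c hcS

end Groth.Agent.Lib.Helper18.FF
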