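import Groth.Agent.Lib.Helper18.FF.Approx

/-! # Weak approximation for places of a function field, continued -/

set_option autoImplicit false

namespace Groth.Agent.Lib.Helper18.FF

open FunFld WithZero

universe u v

variable {k : Type u} {K : Type v} [Field k] [Field K] [Algebra k K]

/-- Step 1: an element small at `P` and large at all places of `S`. -/
theorem exists_sep (P : Place k K) (S : Finset (Place k K)) (hP : P ∉ S) :
    ∃ u : K, P.1 u < 1 ∧ ∀ Q ∈ S, 1 < Q.1 u := by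
  classical
  induction S using Finset.induction_on with
  | empty =>
    obtain ⟨t, ht⟩ := exists_uniformizer P
    exact ⟨t, by rw [ht, ← exp_zero, exp_lt_exp]; norm_num, by simp⟩
  | insert Q S hQS ih =>
    have hPQ : P ≠ Q := fun h => hP (h ▸ Finset.mem_insert_self _ _)
    have hPS : P ∉ S := fun h => hP (Finset.mem_insert_of_mem h)
    obtain ⟨u', hu'P, hu'S⟩ := ih hPS
    obtain ⟨y, hyP, hyQ⟩ := exists_val_lt_one_gt_one hPQ
    obtain ⟨r, hr1, hr⟩ := zm0_exists_nat_forall_lt_exp (insert Q S) (fun Q' => Q'.1 u')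
    refine ⟨u' + y ^ r, ?_, ?_⟩
    · refine Valuation.map_add_lt _ hu'P ?_
      rw [map_pow]
      exact pow_lt_one' hyP (by omega)
    · intro Q' hQ'
      have hlt := hr Q' hQ'
      by_cases hy : Q'.1 y ≤ 1
      · -- then `Q' ∈ S`
        have hQ'S : Q' ∈ S := by
          rcases Finset.mem_insert.mp hQ' with rfl | h
          · exact absurd hyQ (not_lt.mpr hy)
          · exact h
        have h1 : Q'.1 (y ^ r) ≤ 1 := by rw [map_pow]; exact pow_le_one' hy r
        have h2 := hu'S Q' hQ'S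
        rw [Valuation.map_add_eq_of_lt_left _ (h1.trans_lt h2)]
        exact h2
      · push Not at hy
        have h1 : exp (r : ℤ) ≤ Q'.1 (y ^ r) := by
          rw [map_pow]; exact zm0_exp_le_pow ((zm0_one_lt_iff _).mp hy) r
        rw [Valuation.map_add_eq_of_lt_right _ (hlt.trans_le h1)]
        refine lt_of_lt_of_le ?_ h1
        rw [← exp_zero, exp_lt_exp]
        exact_mod_cast hr1

/-- Step 2: an element close to `1` at `P` and close to `0` at all places of `S`. -/
theorem exists_approx_one (P : Place k K) (S : Finset (Place k K)) (hP : P ∉ S) {δ : ℤᵐ⁰}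
    (hδ : δ ≠ 0) : ∃ w : K, P.1 (w - 1) < δ ∧ ∀ Q ∈ S, Q.1 w < δ := by
  obtain ⟨u, huP, huS⟩ := exists_sep P S hP
  obtain ⟨n, hn⟩ := exists_exp_neg_natCast_lt hδ
  set s := n + 1 with hs
  have hsδ : exp (-(s : ℤ)) < δ := by
    refine lt_of_le_of_lt ?_ hn
    rw [exp_le_exp]; push_cast; omega
  have hPus : P.1 (u ^ s) < 1 := by rw [map_pow]; exact pow_lt_one' huP (by omega)
  have h1 : P.1 (1 + u ^ s) = 1 := Valuation.map_one_add_of_lt _ hPus
  have hne : 1 + u ^ s ≠ 0 := by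
    intro h; rw [h, map_zero] at h1; exact zero_ne_one h1
  refine ⟨(1 + u ^ s)⁻¹, ?_, ?_⟩
  · have : (1 + u ^ s)⁻¹ - 1 = -(u ^ s) * (1 + u ^ s)⁻¹ := by
      field_simp
      ring
    rw [this, map_mul, Valuation.map_neg, map_inv₀, h1, inv_one, mul_one, map_pow]
    exact (zm0_pow_le_exp_neg ((zm0_lt_one_iff _).mp huP) s).trans_lt hsδ
  · intro Q hQ
    have hQu : 1 < Q.1 (u ^ s) := by
      rw [map_pow]; exact one_lt_pow' (huS Q hQ) (by omega)
    have h2 : Q.1 (1 + u ^ s) = Q.1 (u ^ s) := by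
      refine Valuation.map_add_eq_of_lt_right _ ?_
      rw [map_one]; exact hQu
    rw [map_inv₀, h2, map_pow]
    have h3 : exp (s : ℤ) ≤ Q.1 u ^ s := zm0_exp_le_pow ((zm0_one_lt_iff _).mp (huS Q hQ)) s
    refine lt_of_le_of_lt ?_ hsδ
    rw [exp_neg]
    exact inv_anti₀ exp_pos h3

/-- Step 3: weak approximation. -/
theorem exists_approx (S : Finset (Place k K)) (x : Place k K → K) (δ : Place k K → ℤᵐ⁰)
    (hδ : ∀ P ∈ S, δ P ≠ 0) : ∃ z : K, ∀ P ∈ S, P.1 (z - x P) < δ P := by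
  classical
  -- a uniform small bound
  obtain ⟨d, hd0, hd⟩ := zm0_exists_ne_zero_forall_le (S ×ˢ S)
    (fun PQ => if PQ.2.1 (x PQ.1) = 0 then 1 else δ PQ.2 / PQ.2.1 (x PQ.1))
    (by
      rintro ⟨P, Q⟩ hPQ
      rw [Finset.mem_product] at hPQ
      dsimp only
      split_ifs with h
      · exact one_ne_zero
      · exact div_ne_zero (hδ Q hPQ.2) h)
  have hbound : ∀ P ∈ S, ∀ Q ∈ S, ∀ γ : ℤᵐ⁰, γ < d → Q.1 (x P) * γ < δ Q := by
    intro P hP Q hQ γ hγ
    have h := hd (P, Q) (Finset.mem_product.mpr ⟨hP, hQ⟩)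
    dsimp only at h
    split_ifs at h with h0
    · rw [h0, zero_mul]; exact zero_lt_iff.mpr (hδ Q hQ)
    · have hpos : 0 < Q.1 (x P) := zero_lt_iff.mpr h0
      calc Q.1 (x P) * γ < Q.1 (x P) * d := by
            exact mul_lt_mul_of_pos_left hγ hpos
        _ ≤ Q.1 (x P) * (δ Q / Q.1 (x P)) := by gcongr
        _ = δ Q := by field_simp
  choose w hwP hwS using fun P : S => exists_approx_one P.1 (S.erase P.1) (Finset.notMem_erase _ _) hd0
  let w' : Place k K → K := fun P => if h : P ∈ S then w ⟨P, h⟩ else 0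
  refine ⟨∑ P ∈ S, x P * w' P, ?_⟩
  intro Q hQ
  have hsplit : ∑ P ∈ S, x P * w' P - x Q = x Q * (w' Q - 1) + ∑ P ∈ S.erase Q, x P * w' P := by
    rw [← Finset.add_sum_erase S _ hQ]; ring
  rw [hsplit]
  refine Valuation.map_add_lt _ ?_ ?_
  · rw [map_mul]
    refine hbound Q hQ Q hQ _ ?_
    have : w' Q = w ⟨Q, hQ⟩ := dif_pos hQ
    rw [this]
    exact hwP ⟨Q, hQ⟩
  · refine Valuation.map_sum_lt _ (hδ Q hQ) ?_
    intro P hP
    have hPS : P ∈ S := Finset.mem_of_mem_erase hP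
    rw [map_mul]
    refine hbound P hPS Q hQ _ ?_
    have : w' P = w ⟨P, hPS⟩ := dif_pos hPS
    rw [this]
    refine hwS ⟨P, hPS⟩ Q ?_
    exact Finset.mem_erase.mpr ⟨(Finset.ne_of_mem_erase hP).symm, hQ⟩

/-- Step 4: weak approximation with exact valuations. -/
theorem exists_approx_eq (S : Finset (Place k K)) (x : Place k K → K) (n : Place k K → ℤ) :
    ∃ z : K, ∀ P ∈ S, P.1 (z - x P) = exp (n P) := by
  choose s hs using fun P : Place k K => exists_val_eq_exp P (n P)
  obtain ⟨z₁, hz₁⟩ := exists_approx S x (fun P => exp (n P)) (fun _ _ => exp_ne_zero)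
  obtain ⟨z₂, hz₂⟩ := exists_approx S s (fun P => exp (n P)) (fun _ _ => exp_ne_zero)
  refine ⟨z₁ + z₂, ?_⟩
  intro P hP
  have h2 : P.1 z₂ = exp (n P) := by
    have : z₂ = (z₂ - s P) + s P := by ring
    rw [this, Valuation.map_add_eq_of_lt_right _ (by rw [hs]; exact hz₂ P hP), hs]
  have : z₁ + z₂ - x P = (z₁ - x P) + z₂ := by ring
  rw [this, Valuation.map_add_eq_of_lt_right _ (by rw [h2]; exact hz₁ P hP), h2]

end Groth.Agent.Lib.Helper18.FF
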