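import Groth.Agent.Lib.Helper18.FF.Principal

/-! # Riemann's inequality and the genus -/

set_option autoImplicit false
set_option linter.style.haveILetI false

namespace Groth.Agent.Lib.Helper18.FF

open FunFld IntermediateField WithZero

universe u v

variable {k : Type u} {K : Type v} [Field k] [Field K] [Algebra k K]

/-- There is an effective `C` with `ℓ(l (x)_∞ + C) ≥ (l+1) [K : k(x)]` for all `l`. -/
theorem exists_C_ell_ge (hK : IsFunctionField k K) {x : K} (hx : Transcendental k x) :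
    ∃ C : Divisor k K, 0 ≤ C ∧ ∀ l : ℕ,
      (l + 1) * Module.finrank (IntermediateField.adjoin k ({x} : Set K)) K ≤
        ell (l • poleDiv (k := k) x + C) := by
  classical
  haveI := finiteDimensional_adjoin_of_transcendental hK hx
  set N := Module.finrank (IntermediateField.adjoin k ({x} : Set K)) K with hN
  let b : Module.Basis (Fin N) (IntermediateField.adjoin k ({x} : Set K)) K :=
    Module.finBasis (IntermediateField.adjoin k ({x} : Set K)) K
  set B : Divisor k K := poleDiv x with hB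
  set C : Divisor k K := ∑ j, poleDiv (k := k) (b j) with hC
  have hBnonneg : 0 ≤ B := poleDiv_nonneg x
  have hCnonneg : 0 ≤ C := Finset.sum_nonneg fun j _ => poleDiv_nonneg (b j)
  have hbC : ∀ j P, P.1 (b j) ≤ exp (C P) := by
    intro j P
    refine (val_le_exp_poleDiv hK (b j) P).trans (exp_le_exp.mpr ?_)
    rw [hC, Finsupp.finset_sum_apply]
    exact Finset.single_le_sum (f := fun j => poleDiv (k := k) (b j) P)
      (fun j _ => poleDiv_nonneg (b j) P) (Finset.mem_univ j)
  refine ⟨C, hCnonneg, fun l => ?_⟩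
  have hwL : ∀ ij : Fin (l + 1) × Fin N, x ^ (ij.1 : ℕ) * b ij.2 ∈ L (l • B + C) := by
    rintro ⟨i, j⟩ P
    rw [map_mul, map_pow, Finsupp.add_apply, Finsupp.smul_apply, exp_add, exp_nsmul]
    refine mul_le_mul' ?_ (hbC j P)
    have h1 : P.1 x ≤ exp (B P) := val_le_exp_poleDiv hK x P
    have h2 : (1 : ℤᵐ⁰) ≤ exp (B P) := by
      rw [← exp_zero, exp_le_exp]; exact hBnonneg P
    calc P.1 x ^ (i : ℕ) ≤ exp (B P) ^ (i : ℕ) := pow_le_pow_left' h1 _
      _ ≤ exp (B P) ^ l := pow_le_pow_right' h2 (Nat.lt_succ_iff.mp i.2)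
  have hli := linearIndependent_pow_mul_basis hx b l
  have hli' : LinearIndependent k (fun ij : Fin (l + 1) × Fin N =>
      (⟨x ^ (ij.1 : ℕ) * b ij.2, hwL ij⟩ : L (l • B + C))) :=
    LinearIndependent.of_comp (Submodule.subtype _) hli
  haveI := finiteDimensional_L hK (l • B + C)
  have h1 := hli'.fintype_card_le_finrank
  rw [Fintype.card_prod, Fintype.card_fin, Fintype.card_fin] at h1
  exact h1

/-- `δ(D) = deg D + 1 - ℓ(D)`. -/
noncomputable def delta (D : Divisor k K) : ℤ := D.deg + 1 - (ell D : ℤ)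

theorem delta_mono (hK : IsFunctionField k K) {D₁ D₂ : Divisor k K} (h : D₁ ≤ D₂) :
    delta D₁ ≤ delta D₂ := by
  have := ell_sub_ell_le hK h
  unfold delta
  linarith

theorem delta_add_div (hK : IsFunctionField k K) (D : Divisor k K) {x : K} (hx : x ≠ 0) :
    delta (D + FunFld.div k x) = delta D := by
  unfold delta
  rw [ell_add_div hK D hx, deg_add_div hK]

theorem delta_zero (hK : IsFunctionField k K) : delta (0 : Divisor k K) = 0 := by
  unfold delta
  rw [ell_zero hK, deg_zero]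
  norm_num

/-- Riemann: `δ` is bounded above. -/
theorem exists_delta_bound (hK : IsFunctionField k K) : ∃ γ : ℤ, ∀ D : Divisor k K, delta D ≤ γ := by
  obtain ⟨x, hx, -⟩ := hK.1
  haveI := finiteDimensional_adjoin_of_transcendental hK hx
  set N := Module.finrank (IntermediateField.adjoin k ({x} : Set K)) K with hN
  have hNpos : 0 < N := Module.finrank_pos
  set B : Divisor k K := poleDiv x with hB
  have hBdeg : B.deg = N := deg_poleDiv_eq hK hx
  obtain ⟨C, hC0, hC⟩ := exists_C_ell_ge hK hx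
  have hCdeg : 0 ≤ C.deg := deg_nonneg_of_nonneg hC0
  -- the bound on multiples of `B`
  have hlB : ∀ l : ℕ, delta (l • B) ≤ 1 + C.deg := by
    intro l
    have h1 := ell_sub_ell_le hK (D₁ := l • B) (D₂ := l • B + C) (le_add_of_nonneg_right hC0)
    have h2 := hC l
    have h2' : (((l + 1) * N : ℕ) : ℤ) ≤ (ell (l • B + C) : ℤ) := by exact_mod_cast h2
    rw [deg_add] at h1
    unfold delta
    rw [deg_nsmul, hBdeg]
    push_cast at h2'
    nlinarith
  refine ⟨1 + C.deg, fun A => ?_⟩
  set A₁ : Divisor k K := toDiv (posPart A) with hA₁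
  have hAA₁ : A ≤ A₁ := le_toDiv_posPart A
  have hA₁0 : 0 ≤ A₁ := fun P => by rw [hA₁, toDiv_apply]; exact Int.natCast_nonneg _
  have ha₁ : 0 ≤ A₁.deg := deg_nonneg_of_nonneg hA₁0
  set l : ℕ := (1 + C.deg + A₁.deg).toNat with hl
  have hl' : ((l : ℕ) : ℤ) = 1 + C.deg + A₁.deg := Int.toNat_of_nonneg (by linarith)
  have h3 : 0 < ell (l • B - A₁) := by
    have h4 := ell_sub_ell_le hK (D₁ := l • B - A₁) (D₂ := l • B) (sub_le_self _ hA₁0)
    have h5 := hlB l
    unfold delta at h5
    rw [deg_nsmul, hBdeg] at h5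
    rw [deg_sub, deg_nsmul, hBdeg] at h4
    have h6 : (l : ℤ) ≤ (l : ℤ) * N := by
      have : (1 : ℤ) ≤ N := by exact_mod_cast hNpos
      nlinarith [Int.natCast_nonneg l]
    have : (0 : ℤ) < (ell (l • B - A₁) : ℤ) := by linarith
    exact_mod_cast this
  obtain ⟨z, hz0, hz⟩ := exists_ne_zero_mem_L_of_ell_pos h3
  have h7 := (mem_L_iff_div hK _ hz0).mp hz
  have h8 : A₁ + FunFld.div k z⁻¹ ≤ l • B := by
    rw [div_inv hK]
    intro P
    have := h7 P
    simp only [Finsupp.add_apply, Finsupp.sub_apply, Finsupp.neg_apply, Finsupp.zero_apply] at this ⊢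
    linarith
  calc delta A ≤ delta A₁ := delta_mono hK hAA₁
    _ = delta (A₁ + FunFld.div k z⁻¹) := (delta_add_div hK A₁ (inv_ne_zero hz0)).symm
    _ ≤ delta (l • B) := delta_mono hK h8
    _ ≤ 1 + C.deg := hlB l

theorem bddAbove_genus_set (hK : IsFunctionField k K) :
    BddAbove (Set.range fun D : Divisor k K => (D.deg + 1 - (ell D : ℤ)).toNat) := by
  obtain ⟨γ, hγ⟩ := exists_delta_bound hK
  refine ⟨γ.toNat, ?_⟩
  rintro _ ⟨D, rfl⟩
  exact Int.toNat_le_toNat (hγ D)

theorem delta_le_genus (hK : IsFunctionField k K) (D : Divisor k K) : delta D ≤ genus k K := by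
  have h1 : (delta D).toNat ≤ genus k K := le_csSup (bddAbove_genus_set hK) ⟨D, rfl⟩
  have h2 : delta D ≤ ((delta D).toNat : ℤ) := Int.self_le_toNat _
  have h3 : (((delta D).toNat : ℕ) : ℤ) ≤ (genus k K : ℤ) := by exact_mod_cast h1
  linarith

theorem exists_delta_eq_genus (hK : IsFunctionField k K) :
    ∃ D₀ : Divisor k K, delta D₀ = genus k K := by
  have hne : (Set.range fun D : Divisor k K => (D.deg + 1 - (ell D : ℤ)).toNat).Nonempty :=
    ⟨_, ⟨0, rfl⟩⟩
  obtain ⟨D₀, hD₀⟩ := Nat.sSup_mem hne (bddAbove_genus_set hK)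
  have hD₀' : (delta D₀).toNat = genus k K := hD₀
  by_cases h : 0 ≤ delta D₀
  · refine ⟨D₀, ?_⟩
    rw [← hD₀']
    exact (Int.toNat_of_nonneg h).symm
  · refine ⟨0, ?_⟩
    rw [delta_zero hK, ← hD₀']
    push Not at h
    rw [Int.toNat_of_nonpos h.le]
    rfl

theorem exists_delta_eq_genus_of_le_deg (hK : IsFunctionField k K) :
    ∃ N : ℤ, ∀ D : Divisor k K, N ≤ D.deg → delta D = genus k K := by
  obtain ⟨D₀, hD₀⟩ := exists_delta_eq_genus hK
  refine ⟨D₀.deg + genus k K, fun D hD => ?_⟩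
  have h1 := delta_le_genus hK (D - D₀)
  have h2 : 0 < ell (D - D₀) := by
    unfold delta at h1
    rw [deg_sub] at h1
    have : (0 : ℤ) < (ell (D - D₀) : ℤ) := by linarith
    exact_mod_cast this
  obtain ⟨z, hz0, hz⟩ := exists_ne_zero_mem_L_of_ell_pos h2
  have h3 := (mem_L_iff_div hK _ hz0).mp hz
  have h4 : D₀ ≤ D + FunFld.div k z := by
    intro P
    have := h3 P
    simp only [Finsupp.add_apply, Finsupp.sub_apply, Finsupp.zero_apply] at this ⊢
    linarith
  have h5 := delta_mono hK h4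
  rw [delta_add_div hK D hz0] at h5
  have h6 := delta_le_genus hK D
  linarith

end Groth.Agent.Lib.Helper18.FF
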