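import Groth.Agent.Lib.Helper24.FFExt.TraceDual
import Groth.Agent.Lib.Helper24.FFExt.IntBasis

/-! # The different exponent equals `v_Q(g'(y))` exactly when `O_Q` is a localisation of `O_P[y]`
(helper18; converse of helper24's `diffExp_le_ord_derivative_minpoly`) -/

set_option autoImplicit false
set_option linter.style.haveILetI false

namespace Groth.Agent.Lib.Helper18.FF

open FunFld WithZero LocRes LaurentSeries Polynomial Groth.Agent.Lib.Helper24.FFExt

universe u v w

variable {k : Type u} {K K' : Type v} {F F' : Type w} [Field k] [Field K] [Field K'] [Algebra k K]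
  [Algebra K K'] [Algebra k K'] [IsScalarTower k K K'] [Field F] [Algebra k F] [Field F']
  [Algebra k F']

/-- A common denominator: if every element of `O_Q` is a quotient of elements of `O_P[y]` with
denominator a unit at `Q`, some element of `O_P[y]`, a unit at `Q`, multiplies the whole integral
closure of `O_P` into `O_P[y]`. -/
theorem exists_conductor_unit_of_loc [FiniteDimensional K K'] (hK : IsFunctionField k K)
    {P : Place k K} {Q : Place k K'} (hQP : IsOver Q P) [Algebra P.O K'] [IsScalarTower P.O K K']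
    {y : K'}
    (hloc : ∀ z : K', Q.1 z ≤ 1 → ∃ a ∈ Algebra.adjoin P.O ({y} : Set K'),
      ∃ b ∈ Algebra.adjoin P.O ({y} : Set K'), Q.1 b = 1 ∧ z * b = a) :
    ∃ s ∈ Algebra.adjoin P.O ({y} : Set K'), Q.1 s = 1 ∧
      ∀ r : K', IsIntegral P.O r → s * r ∈ Algebra.adjoin P.O ({y} : Set K') := by
  classical
  haveI hfin := integralClosure_finite (K' := K') hK P
  have hfg : (Subalgebra.toSubmodule (integralClosure P.O K')).FG := Module.Finite.iff_fg.mp hfin
  obtain ⟨G, hG⟩ := hfg
  have hGint : ∀ r ∈ G, IsIntegral P.O r := by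
    intro r hr
    have : r ∈ Subalgebra.toSubmodule (integralClosure P.O K') := by
      rw [← hG]; exact Submodule.subset_span hr
    exact this
  have hex : ∀ r : K', ∃ b ∈ Algebra.adjoin P.O ({y} : Set K'), Q.1 b = 1 ∧
      (r ∈ G → r * b ∈ Algebra.adjoin P.O ({y} : Set K')) := by
    intro r
    by_cases hr : r ∈ G
    · obtain ⟨a, ha, b, hb, hb1, hrb⟩ :=
        hloc r (val_le_one_of_isIntegral_place hQP (hGint r hr))
      exact ⟨b, hb, hb1, fun _ => hrb ▸ ha⟩
    · exact ⟨1, one_mem _, map_one _, fun h => absurd h hr⟩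
  choose b hb hb1 hbr using hex
  refine ⟨∏ r ∈ G, b r, Subalgebra.prod_mem _ fun r _ => hb r, ?_, ?_⟩
  · rw [map_prod]
    exact Finset.prod_eq_one fun r _ => hb1 r
  · have key : ∀ z ∈ Submodule.span P.O (G : Set K'),
        (∏ r ∈ G, b r) * z ∈ Algebra.adjoin P.O ({y} : Set K') := by
      intro z hz'
      induction hz' using Submodule.span_induction with
      | mem r hr =>
        have hr' : r ∈ G := hr
        rw [← Finset.mul_prod_erase G b hr', mul_comm (b r), mul_assoc, mul_comm (b r)]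
        exact mul_mem (Subalgebra.prod_mem _ fun r' _ => hb r') (hbr r hr')
      | zero => rw [mul_zero]; exact zero_mem _
      | add u v _ _ hu hv => rw [mul_add]; exact add_mem hu hv
      | smul c u _ hu =>
        rw [mul_smul_comm]
        exact Subalgebra.smul_mem _ hu c
    intro z hz
    exact key z (by rw [hG]; exact hz)

/-- **Converse of S12575.** If `O_Q` is a localisation of `O_P[y]` then `v_Q(g'(y)) = d(Q|P)`. -/
theorem ord_derivative_minpoly_eq_diffExp_of_loc [FiniteDimensional K K']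
    [Algebra.IsSeparable K K']
    (hK : IsFunctionField k K) (hg : IsGeometric k K)
    {P : Place k K} {Q : Place k K'} {e : ℕ} (he : IsOverWith Q P e)
    (φ : K →ₐ[k] F⸨X⸩) (hφ : IsExpansionAt P.1 φ) (ψ : K' →ₐ[k] F'⸨X⸩) (hψ : IsExpansionAt Q.1 ψ)
    {x : K} (hx : vDiff φ 1 x ≠ 0) (hx' : vDiff ψ 1 (algebraMap K K' x) ≠ 0)
    [P.1.HasExtension Q.1]
    (hf : Function.Surjective (algebraMap (IsLocalRing.ResidueField P.O)
      (IsLocalRing.ResidueField Q.O)))
    [Algebra P.O K'] [IsScalarTower P.O K K']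
    {y : K'} (hy : IntermediateField.adjoin K ({y} : Set K') = ⊤) (hyi : IsIntegral P.O y)
    (hloc : ∀ z : K', Q.1 z ≤ 1 → ∃ a ∈ Algebra.adjoin P.O ({y} : Set K'),
      ∃ b ∈ Algebra.adjoin P.O ({y} : Set K'), Q.1 b = 1 ∧ z * b = a) :
    Q.ord (aeval y (derivative (minpoly K y))) = diffExp φ ψ e x := by
  have hQP : IsOver Q P := ⟨e, he⟩
  obtain ⟨hle, -⟩ := diffExp_le_ord_derivative_minpoly hK hg he φ hφ ψ hψ hx hx' hf hy hyi
  refine le_antisymm ?_ hle
  obtain ⟨hdual, -⟩ := traceDual_min_valuation_eq_diffExp hK hg he φ hφ ψ hψ hx hx' hf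
  obtain ⟨s, hs, hs1, hsr⟩ := exists_conductor_unit_of_loc hK hQP hloc
  set δ := aeval y (derivative (minpoly K y)) with hδ
  have hδ0 : δ ≠ 0 :=
    (Algebra.IsSeparable.isSeparable K y).aeval_derivative_ne_zero (minpoly.aeval K y)
  have h1 := hdual (δ⁻¹ * s) (fun z hz => by
    have := trace_inv_mul_le_one P hy hyi (hsr z hz) (one_mem _)
    rwa [mul_one, ← mul_assoc] at this)
  rw [map_mul, hs1, mul_one, map_inv₀, val_eq_exp_neg_ord Q hδ0, ← exp_neg, neg_neg,
    exp_le_exp] at h1
  exact h1

end Groth.Agent.Lib.Helper18.FF
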