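import Groth.Agent.Lib.Helper18.FF.Degree3

/-! # Principal divisors and linear equivalence -/

set_option autoImplicit false
set_option linter.style.haveILetI false

namespace Groth.Agent.Lib.Helper18.FF

open FunFld WithZero

universe u v

variable {k : Type u} {K : Type v} [Field k] [Field K] [Algebra k K]

theorem div_mul (hK : IsFunctionField k K) {x y : K} (hx : x ≠ 0) (hy : y ≠ 0) :
    FunFld.div k (x * y) = FunFld.div k x + FunFld.div k y := by
  ext P
  rw [Finsupp.add_apply, div_apply hK, div_apply hK, div_apply hK, ord_mul P hx hy]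

theorem div_inv (hK : IsFunctionField k K) (x : K) :
    FunFld.div k x⁻¹ = -FunFld.div k x := by
  ext P
  rw [Finsupp.neg_apply, div_apply hK, div_apply hK, ord_inv]

theorem div_one (hK : IsFunctionField k K) : FunFld.div k (1 : K) = 0 := by
  ext P
  rw [div_apply hK, Finsupp.zero_apply, Place.ord, map_one, log_one, neg_zero]

theorem mem_L_iff_div (hK : IsFunctionField k K) (D : Divisor k K) {x : K} (hx : x ≠ 0) :
    x ∈ L D ↔ 0 ≤ D + FunFld.div k x := by
  constructor
  · intro h P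
    have := (val_le_exp_iff P hx (D P)).mp (h P)
    rw [Finsupp.add_apply, div_apply hK, Finsupp.zero_apply]
    omega
  · intro h P
    have := h P
    rw [Finsupp.add_apply, div_apply hK, Finsupp.zero_apply] at this
    rw [val_le_exp_iff P hx (D P)]
    omega

theorem mul_mem_L_iff (hK : IsFunctionField k K) (D : Divisor k K) (x y : K) (hx : x ≠ 0) :
    x * y ∈ L D ↔ y ∈ L (D + FunFld.div k x) := by
  rcases eq_or_ne y 0 with rfl | hy
  · simp
  · rw [mem_L_iff_div hK D (mul_ne_zero hx hy), mem_L_iff_div hK _ hy, div_mul hK hx hy, add_assoc]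

/-- Multiplication by `x ≠ 0` as a linear equivalence `L(D + (x)) ≃ L(D)`. -/
noncomputable def mulLEquiv (hK : IsFunctionField k K) (D : Divisor k K) {x : K} (hx : x ≠ 0) :
    L (D + FunFld.div k x) ≃ₗ[k] L D where
  toFun y := ⟨x * y.1, (mul_mem_L_iff hK D x y.1 hx).mpr y.2⟩
  map_add' y z := by ext; simp [mul_add]
  map_smul' c y := by ext; simp
  invFun y := ⟨x⁻¹ * y.1, (mul_mem_L_iff hK D x _ hx).mp (by
    rw [← mul_assoc, mul_inv_cancel₀ hx, one_mul]; exact y.2)⟩
  left_inv y := by ext; simp [← mul_assoc, inv_mul_cancel₀ hx]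
  right_inv y := by ext; simp [← mul_assoc, mul_inv_cancel₀ hx]

theorem ell_add_div (hK : IsFunctionField k K) (D : Divisor k K) {x : K} (hx : x ≠ 0) :
    ell (D + FunFld.div k x) = ell D :=
  (mulLEquiv hK D hx).finrank_eq

theorem deg_add_div (hK : IsFunctionField k K) (D : Divisor k K) (x : K) :
    (D + FunFld.div k x).deg = D.deg := by
  rw [deg_add, deg_div_eq_zero hK, add_zero]

theorem exists_ne_zero_mem_L_of_ell_pos {D : Divisor k K} (h : 0 < ell D) :
    ∃ x : K, x ≠ 0 ∧ x ∈ L D := by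
  haveI : Nontrivial (L D) := Module.nontrivial_of_finrank_pos (R := k) h
  obtain ⟨y, hy⟩ := exists_ne (0 : L D)
  exact ⟨y.1, fun h0 => hy (Subtype.ext h0), y.2⟩

theorem L_ne_bot_iff (hK : IsFunctionField k K) (D : Divisor k K) :
    L D ≠ ⊥ ↔ ∃ x : K, x ≠ 0 ∧ 0 ≤ D + FunFld.div k x := by
  rw [Submodule.ne_bot_iff]
  constructor
  · rintro ⟨x, hx, hx0⟩
    exact ⟨x, hx0, (mem_L_iff_div hK D hx0).mp hx⟩
  · rintro ⟨x, hx0, hx⟩
    exact ⟨x, (mem_L_iff_div hK D hx0).mpr hx, hx0⟩

theorem ell_pos_iff (hK : IsFunctionField k K) (D : Divisor k K) :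
    0 < ell D ↔ ∃ x : K, x ≠ 0 ∧ x ∈ L D := by
  constructor
  · exact exists_ne_zero_mem_L_of_ell_pos
  · rintro ⟨x, hx0, hx⟩
    haveI := finiteDimensional_L hK D
    haveI : Nontrivial (L D) := ⟨⟨⟨x, hx⟩, 0, fun h => hx0 (congrArg Subtype.val h)⟩⟩
    exact Module.finrank_pos

end Groth.Agent.Lib.Helper18.FF
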