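import Groth.Agent.Lib.Helper18.FF.GenusOne

/-! # Special divisors, divisors of degree one in positive genus -/

set_option autoImplicit false
set_option linter.style.haveILetI false

namespace Groth.Agent.Lib.Helper18.FF

open FunFld WithZero IntermediateField

universe u v

variable {k : Type u} {K : Type v} [Field k] [Field K] [Algebra k K]

theorem one_mem_L_of_nonneg {D : Divisor k K} (h : 0 ≤ D) : (1 : K) ∈ L D := by
  intro P
  rw [map_one, ← exp_zero, exp_le_exp]
  exact h P

theorem ell_pos_of_nonneg (hK : IsFunctionField k K) {D : Divisor k K} (h : 0 ≤ D) : 0 < ell D :=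
  (ell_pos_iff hK D).mpr ⟨1, one_ne_zero, one_mem_L_of_nonneg h⟩

/-- An effective divisor of degree `< g` is special. -/
theorem exists_weil_of_effective_deg_lt_genus (hK : IsFunctionField k K) (D : Divisor k K)
    (hD : 0 ≤ D) (hdeg : D.deg < genus k K) :
    ∃ ω : Module.Dual k (adele k K), ω ≠ 0 ∧ ω ∈ WD D := by
  obtain ⟨hfin, hrk⟩ := finrank_WD hK D
  haveI := hfin
  unfold delta at hrk
  have h1 : (1 : ℤ) ≤ (ell D : ℤ) := by exact_mod_cast ell_pos_of_nonneg hK hD
  have hpos : 0 < Module.finrank k (WD D) := by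
    have : (0 : ℤ) < (Module.finrank k (WD D) : ℤ) := by linarith
    exact_mod_cast this
  haveI : Nontrivial (WD D) := Module.nontrivial_of_finrank_pos (R := k) hpos
  obtain ⟨ω, hω⟩ := exists_ne (0 : WD D)
  exact ⟨ω, fun h => hω (Subtype.ext h), ω.2⟩

/-- If `ℓ(P) ≥ 2` for a rational place `P` then the genus is zero. -/
theorem genus_eq_zero_of_two_le_ell_single (hK : IsFunctionField k K) {P : Place k K}
    (hP : P.deg = 1) (h2 : 2 ≤ ell (Finsupp.single P 1 : Divisor k K)) : genus k K = 0 := by
  refine ((genus_zero_and_exists_deg_one_iff hK).mpr ((exists_simple_pole_iff hK).mp ?_)).1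
  obtain ⟨x, hxL, hxk⟩ : ∃ x ∈ L (Finsupp.single P 1 : Divisor k K),
      x ∉ Set.range (algebraMap k K) := by
    by_contra hcon
    push Not at hcon
    have hle : L (Finsupp.single P 1 : Divisor k K) ≤ L (0 : Divisor k K) := by
      intro x hx
      rw [L_zero_eq_one hK, Submodule.mem_one]
      exact hcon x hx
    haveI := finiteDimensional_L_zero hK
    have := Submodule.finrank_mono hle
    have h0 := ell_zero hK (k := k) (K := K)
    unfold ell at h2 h0
    omega
  have hx0 : x ≠ 0 := by rintro rfl; exact hxk ⟨0, map_zero _⟩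
  obtain ⟨Q, hQ⟩ := exists_pole hK hxk
  have hQP : Q = P := by
    by_contra hne
    have := hxL Q
    rw [Finsupp.single_eq_of_ne hne, exp_zero] at this
    exact absurd hQ (not_lt.mpr this)
  subst hQP
  refine ⟨x, Q, hP, ?_, ?_⟩
  · have h3 := (one_lt_val_iff_ord_neg Q hx0).mp hQ
    have h4 := (val_le_exp_iff Q hx0 _).mp (hxL Q)
    rw [Finsupp.single_eq_same] at h4
    omega
  · intro R hR
    have := hxL R
    rw [Finsupp.single_eq_of_ne hR, exp_zero] at this
    exact (val_le_one_iff_ord_nonneg R hx0).mp this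

/-- In positive genus, divisors of degree one have `ℓ ≤ 1`. -/
theorem ell_le_one_of_deg_eq_one (hK : IsFunctionField k K) (hg : 0 < genus k K) {E : Divisor k K}
    (hE : E.deg = 1) : ell E ≤ 1 := by
  by_contra hlt
  push Not at hlt
  obtain ⟨f, hf0, hf⟩ := exists_ne_zero_mem_L_of_ell_pos (D := E) (by omega)
  have h1 := (mem_L_iff_div hK _ hf0).mp hf
  obtain ⟨P, hPE, hPdeg⟩ := exists_single_of_nonneg_of_deg_eq_one hK h1 (by rw [deg_add_div hK, hE])
  have h2 : ell (Finsupp.single P 1 : Divisor k K) = ell E := by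
    rw [← hPE, ell_add_div hK E hf0]
  have := genus_eq_zero_of_two_le_ell_single hK hPdeg (by omega)
  omega

end Groth.Agent.Lib.Helper18.FF

namespace Groth.Agent.Lib.Helper18.FF

open FunFld WithZero IntermediateField

universe u v

variable {k : Type u} {K : Type v} [Field k] [Field K] [Algebra k K]

/-- `ℓ(D) ≤ deg D + 1` whenever `L(D) ≠ 0`; in general for `deg D ≥ -1`. -/
theorem ell_le_deg_add_one (hK : IsFunctionField k K) {D : Divisor k K} (h : -1 ≤ D.deg) :
    (ell D : ℤ) ≤ D.deg + 1 := by
  by_cases hpos : 0 < ell D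
  · obtain ⟨f, hf0, hf⟩ := exists_ne_zero_mem_L_of_ell_pos hpos
    have h1 := (mem_L_iff_div hK _ hf0).mp hf
    have h2 := ell_sub_ell_le hK h1
    rw [ell_zero hK, deg_zero, ell_add_div hK D hf0, deg_add_div hK] at h2
    push_cast at h2
    linarith
  · have : ell D = 0 := by omega
    rw [this]
    push_cast
    linarith

end Groth.Agent.Lib.Helper18.FF
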