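import Groth.Agent.Lib.Helper18.Tate.WeilDiff3
import Groth.Agent.Lib.Helper18.Hasse.Normalize
import Groth.Agent.Lib.Helper24.FFExt.DiffExp
import Groth.Agent.Lib.Helper24.FFExt.SepConst
import Groth.Prelude.Def_W4bk4goldsch45p2

/-! # Divisors of differentials `u dv` and of projective maps under linear changes (helper18) -/

set_option autoImplicit false
set_option linter.style.haveILetI false

namespace Groth.Agent.Lib.Helper18.FF

open FunFld WithZero LocRes Groth.Agent.Lib.Helper18.Tate

universe u v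

variable {k : Type u} {K : Type v} [Field k] [Field K] [Algebra k K]

section Diff

variable [IsAlgClosed k]

/-- The value of the divisor of `u dv` at a place. -/
theorem divDiff_apply' (hK : IsFunctionField k K)
    (Φ : Place k K → (K →ₐ[k] LaurentSeries k))
    (hΦ : ∀ P : Place k K, IsExpansionAt P.1 (Φ P)) {u v : K} (hu : u ≠ 0)
    (hv : KaehlerDifferential.D k K v ≠ 0) (P : Place k K) :
    divDiff Φ u v P = ordDiff (Φ P) u v := by
  have hg := Groth.Agent.Lib.Helper24.FFExt.isGeometric_of_perfectField hK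
  have hne : ∀ P, vDiff (Φ P) u v ≠ 0 := fun P =>
    vDiff_ne_zero_of_D_ne_zero hK hg P (Φ P) (hΦ P) hu hv
  have hfin := finite_support_ordDiff' (fun _ => k) Φ hK hΦ u v hne
    (fun _ => ⟨1, by rw [Algebra.trace_self_apply]; exact one_ne_zero⟩)
  unfold divDiff
  rw [dif_pos hfin]
  rfl

/-- If `a dx = b dx'` then the orders of the two differentials agree. -/
theorem ordDiff_congr (hK : IsFunctionField k K) (P : Place k K)
    (Φ : K →ₐ[k] LaurentSeries k) {a b x x' : K} (ha : a ≠ 0)
    (h : a • KaehlerDifferential.D k K x = b • KaehlerDifferential.D k K x') :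
    ordDiff Φ a x = ordDiff Φ b x' := by
  have h1 : KaehlerDifferential.D k K x = (a⁻¹ * b) • KaehlerDifferential.D k K x' := by
    rw [mul_smul, ← h, smul_smul, inv_mul_cancel₀ ha, one_smul]
  have h2 := Groth.Agent.Lib.Helper24.FFExt.D_exp_eq_of_D_eq_smul Φ h1
  unfold ordDiff vDiff
  rw [h2, ← mul_assoc, ← map_mul, ← mul_assoc, mul_inv_cancel₀ ha, one_mul]

/-- Orders of `g u dv`. -/
theorem ordDiff_mul_left (P : Place k K) (Φ : K →ₐ[k] LaurentSeries k)
    (hΦ : IsExpansionAt P.1 Φ) {g u v : K} (hg : g ≠ 0) (hne : vDiff Φ u v ≠ 0) :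
    ordDiff Φ (g * u) v = P.ord g + ordDiff Φ u v := by
  have h1 := vDiff_mul_left hΦ g u v
  unfold ordDiff
  rw [h1, WithZero.log_mul ((Valuation.ne_zero_iff _).mpr hg) hne]
  unfold Place.ord
  ring

end Diff

section Map

/-- For a tuple with an entry `1`, the divisor of the map is the largest valuation of an entry. -/
theorem exp_mapDiv_eq_sup (hK : IsFunctionField k K) {ι : Type*} [Fintype ι] [Nonempty ι]
    (φ : ι → K) {i0 : ι} (h0 : φ i0 = 1) (P : Place k K) :
    exp (mapDiv k φ P) = Finset.univ.sup' Finset.univ_nonempty (fun i => P.1 (φ i)) := by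
  apply le_antisymm
  · obtain ⟨i₁, hi₁⟩ := exists_mapDiv_eq hK φ P
    rcases eq_or_ne (φ i₁) 0 with h | h
    · have h1 : mapDiv k φ P = 0 := by
        rw [hi₁, h]
        unfold Place.ord
        rw [map_zero, WithZero.log_zero, neg_zero, neg_zero]
      rw [h1, exp_zero]
      refine le_trans (le_of_eq ?_) (Finset.le_sup' (fun i => P.1 (φ i)) (Finset.mem_univ i0))
      rw [h0, map_one]
    · rw [hi₁, ← val_eq_exp_neg_ord P h]
      exact Finset.le_sup' (fun i => P.1 (φ i)) (Finset.mem_univ i₁)
  · refine Finset.sup'_le _ _ fun i _ => ?_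
    exact mem_L_mapDiv hK φ i P

/-- A `k`-linear combination has valuation at most the largest valuation of the entries. -/
theorem val_comb_le_sup (P : Place k K) {ι : Type*} [Fintype ι] [Nonempty ι] (c : ι → k)
    (u : ι → K) :
    P.1 (∑ j, algebraMap k K (c j) * u j) ≤
      Finset.univ.sup' Finset.univ_nonempty (fun j => P.1 (u j)) := by
  refine P.1.map_sum_le fun j _ => ?_
  rw [map_mul]
  refine le_trans (mul_le_mul' (val_algebraMap_le P (c j)) le_rfl) ?_
  rw [one_mul]
  exact Finset.le_sup' (fun j => P.1 (u j)) (Finset.mem_univ j)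

/-- Invertible linear changes do not change the largest valuation. -/
theorem sup_val_comb_eq (P : Place k K) {n : ℕ} (A : Matrix (Fin (n + 1)) (Fin (n + 1)) k)
    (hA : A.det ≠ 0) (u φ : Fin (n + 1) → K)
    (hu : ∀ i, ∑ j, algebraMap k K (A i j) * u j = φ i) :
    Finset.univ.sup' Finset.univ_nonempty (fun i => P.1 (φ i)) =
      Finset.univ.sup' Finset.univ_nonempty (fun j => P.1 (u j)) := by
  apply le_antisymm
  · refine Finset.sup'_le _ _ fun i _ => ?_
    rw [← hu i]
    exact val_comb_le_sup P (fun j => A i j) u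
  · refine Finset.sup'_le _ _ fun j _ => ?_
    have hinv : ∑ i, algebraMap k K (A⁻¹ j i) * φ i = u j := by
      have hdet : IsUnit A.det := isUnit_iff_ne_zero.mpr hA
      calc ∑ i, algebraMap k K (A⁻¹ j i) * φ i
          = ∑ i, algebraMap k K (A⁻¹ j i) * ∑ l, algebraMap k K (A i l) * u l := by
            refine Finset.sum_congr rfl fun i _ => ?_
            rw [hu i]
        _ = ∑ l, (∑ i, algebraMap k K (A⁻¹ j i * A i l)) * u l := by
            simp_rw [Finset.mul_sum, Finset.sum_mul]
            rw [Finset.sum_comm]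
            refine Finset.sum_congr rfl fun l _ => Finset.sum_congr rfl fun i _ => ?_
            rw [map_mul]
            ring
        _ = ∑ l, algebraMap k K ((A⁻¹ * A) j l) * u l := by
            refine Finset.sum_congr rfl fun l _ => ?_
            rw [Matrix.mul_apply, map_sum]
        _ = u j := by
            rw [Matrix.nonsing_inv_mul A hdet]
            simp [Matrix.one_apply]
    rw [← hinv]
    exact val_comb_le_sup P (fun i => A⁻¹ j i) φ

/-- Scaling a tuple scales the largest valuation. -/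
theorem sup_val_smul (P : Place k K) {ι : Type*} [Fintype ι] [Nonempty ι] (g : K) (hg : g ≠ 0)
    (ψ : ι → K) :
    Finset.univ.sup' Finset.univ_nonempty (fun i => P.1 (g * ψ i)) =
      P.1 g * Finset.univ.sup' Finset.univ_nonempty (fun i => P.1 (ψ i)) := by
  apply le_antisymm
  · refine Finset.sup'_le _ _ fun i _ => ?_
    rw [map_mul]
    exact mul_le_mul' le_rfl (Finset.le_sup' (fun i => P.1 (ψ i)) (Finset.mem_univ i))
  · obtain ⟨i, -, hi⟩ := Finset.exists_mem_eq_sup' Finset.univ_nonempty (fun i => P.1 (ψ i))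
    rw [hi, ← map_mul]
    exact Finset.le_sup' (fun i => P.1 (g * ψ i)) (Finset.mem_univ i)

/-- The divisor of a plane map under a change of projective coordinates. -/
theorem mapDiv_coord_change (hK : IsFunctionField k K) (x y : K)
    (A : Matrix (Fin 3) (Fin 3) k) (hA : A.det ≠ 0)
    (u : Fin 3 → K) (hu : ∀ i, ∑ j, algebraMap k K (A i j) * u j = ![(1 : K), x, y] i)
    (hu0 : u 0 ≠ 0) (P : Place k K) :
    mapDiv k ![(1 : K), x, y] P = mapDiv k ![(1 : K), u 1 / u 0, u 2 / u 0] P - P.ord (u 0) := by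
  have h1 := exp_mapDiv_eq_sup hK ![(1 : K), x, y] (i0 := 0) rfl P
  have h2 := exp_mapDiv_eq_sup hK ![(1 : K), u 1 / u 0, u 2 / u 0] (i0 := 0) rfl P
  have h3 := sup_val_comb_eq P A hA u ![(1 : K), x, y] hu
  have h4 : (fun j => P.1 (u j)) = fun j => P.1 (u 0 * ![(1 : K), u 1 / u 0, u 2 / u 0] j) := by
    funext j
    fin_cases j
    · simp
    · simp [mul_div_cancel₀ _ hu0]
    · simp [mul_div_cancel₀ _ hu0]
  rw [h4, sup_val_smul P (u 0) hu0, ← h2, ← h1, val_eq_exp_neg_ord P hu0, ← exp_add,
    exp_inj] at h3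
  omega

end Map

end Groth.Agent.Lib.Helper18.FF
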