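import Groth.Agent.Lib.Helper18.FF.Exists
import Groth.Agent.Lib.Helper18.FF.Residue
import Mathlib.LinearAlgebra.FiniteDimensional.Lemmas

/-! # The spaces `L(D)`: finite-dimensionality and the bound `ℓ(D₂) - ℓ(D₁) ≤ deg D₂ - deg D₁` -/

set_option autoImplicit false

namespace Groth.Agent.Lib.Helper18.FF

open FunFld IntermediateField WithZero

universe u v

variable {k : Type u} {K : Type v} [Field k] [Field K] [Algebra k K]

/-! ### Degrees of divisors -/

theorem deg_add (D E : Divisor k K) : (D + E).deg = D.deg + E.deg := by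
  unfold Divisor.deg
  exact Finsupp.sum_add_index' (fun _ => by simp) (fun _ _ _ => by ring)

theorem deg_zero : (0 : Divisor k K).deg = 0 := by
  unfold Divisor.deg; simp

theorem deg_single (P : Place k K) (n : ℤ) : Divisor.deg (Finsupp.single P n : Divisor k K) = n * P.deg := by
  unfold Divisor.deg
  rw [Finsupp.sum_single_index]
  simp

theorem deg_neg (D : Divisor k K) : (-D).deg = -D.deg := by
  have h := deg_add D (-D)
  rw [add_neg_cancel, deg_zero] at h
  linarith

theorem deg_sub (D E : Divisor k K) : (D - E).deg = D.deg - E.deg := by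
  rw [sub_eq_add_neg, deg_add, deg_neg, sub_eq_add_neg]

/-! ### `L(D)` -/

theorem mem_L {D : Divisor k K} {x : K} : x ∈ L D ↔ ∀ P : Place k K, P.1 x ≤ exp (D P) := Iff.rfl

theorem L_mono {D₁ D₂ : Divisor k K} (h : D₁ ≤ D₂) : L D₁ ≤ L D₂ := by
  intro x hx P
  exact (hx P).trans (exp_le_exp.mpr (h P))

/-- The map `L(D + P) → κ(P)`, `x ↦ (t x)(P)` for `t` of order `D(P) + 1` at `P`. -/
theorem exists_linearMap_ker (D : Divisor k K) (P : Place k K) :
    ∃ φ : L (D + Finsupp.single P 1) →ₗ[k] IsLocalRing.ResidueField P.O,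
      LinearMap.ker φ = Submodule.comap (L (D + Finsupp.single P 1)).subtype (L D) := by
  classical
  obtain ⟨t, ht⟩ := exists_val_eq_exp P (-(D P + 1))
  have hmem : ∀ x : L (D + Finsupp.single P 1), P.1 (t * (x : K)) ≤ 1 := by
    intro x
    have := x.2 P
    rw [Finsupp.add_apply, Finsupp.single_eq_same] at this
    rw [map_mul, ht]
    calc exp (-(D P + 1)) * P.1 (x : K) ≤ exp (-(D P + 1)) * exp (D P + 1) :=
          mul_le_mul' le_rfl this
      _ = 1 := by rw [← exp_add]; simp
  let φ : L (D + Finsupp.single P 1) →ₗ[k] IsLocalRing.ResidueField P.O :=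
    { toFun := fun x => res P (t * (x : K)) (hmem x)
      map_add' := fun x y => by
        rw [← res_add P (t * (x : K)) (t * (y : K)) (hmem x) (hmem y)]
        exact res_congr P (by push_cast; ring) _ _
      map_smul' := fun c x => by
        have h1 := res_smul P c (t * (x : K)) (hmem x)
        rw [RingHom.id_apply]
        refine Eq.trans (res_congr P ?_ _ _) h1
        push_cast
        rw [mul_smul_comm] }
  refine ⟨φ, ?_⟩
  ext x
  rw [LinearMap.mem_ker, Submodule.mem_comap]
  change res P (t * (x : K)) (hmem x) = 0 ↔ (x : K) ∈ L D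
  rw [res_eq_zero_iff, map_mul, ht]
  constructor
  · intro h Q
    by_cases hQ : Q = P
    · subst hQ
      rcases eq_or_ne (x : K) 0 with h0 | h0
      · rw [h0, map_zero]; exact zero_le'
      · rw [val_eq_exp_neg_ord Q h0, ← exp_add, ← exp_zero, exp_lt_exp] at h
        rw [val_eq_exp_neg_ord Q h0, exp_le_exp]
        omega
    · have := x.2 Q
      rw [Finsupp.add_apply, Finsupp.single_eq_of_ne hQ, add_zero] at this
      exact this
  · intro h
    have h1 := h P
    calc exp (-(D P + 1)) * P.1 (x : K) ≤ exp (-(D P + 1)) * exp (D P) := mul_le_mul' le_rfl h1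
      _ < 1 := by rw [← exp_add, ← exp_zero, exp_lt_exp]; omega

theorem finiteDimensional_L_add_single (hK : IsFunctionField k K) (D : Divisor k K) (P : Place k K)
    (h : FiniteDimensional k (L D)) :
    FiniteDimensional k (L (D + Finsupp.single P 1)) ∧ ell (D + Finsupp.single P 1) ≤ ell D + P.deg := by
  classical
  haveI := finiteDimensional_residueField hK P
  obtain ⟨φ, hφ⟩ := exists_linearMap_ker D P
  have hle : L D ≤ L (D + Finsupp.single P 1) := by
    apply L_mono
    intro Q
    rw [Finsupp.add_apply]
    have : (0 : ℤ) ≤ (Finsupp.single P (1 : ℤ)) Q := by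
      by_cases hQ : Q = P
      · subst hQ; simp
      · rw [Finsupp.single_eq_of_ne hQ]
    linarith
  -- the kernel is isomorphic to `L D`
  let e : LinearMap.ker φ ≃ₗ[k] L D := by
    rw [hφ]
    exact Submodule.comapSubtypeEquivOfLe hle
  haveI : FiniteDimensional k (LinearMap.ker φ) := Module.Finite.equiv e.symm
  haveI : FiniteDimensional k (LinearMap.range φ) := inferInstance
  haveI hfin : FiniteDimensional k (L (D + Finsupp.single P 1)) := by
    haveI : FiniteDimensional k (L (D + Finsupp.single P 1) ⧸ LinearMap.ker φ) :=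
      Module.Finite.equiv φ.quotKerEquivRange.symm
    exact Module.Finite.of_submodule_quotient (LinearMap.ker φ)
  refine ⟨hfin, ?_⟩
  have h1 := LinearMap.finrank_range_add_finrank_ker φ
  have h2 : Module.finrank k (LinearMap.ker φ) = ell D := LinearEquiv.finrank_eq e
  have h3 : Module.finrank k (LinearMap.range φ) ≤ P.deg := Submodule.finrank_le _
  unfold ell at *
  omega

end Groth.Agent.Lib.Helper18.FF
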