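import Groth.Agent.Lib.Helper18.FF.Degree3
import Mathlib.FieldTheory.IsAlgClosed.Basic

/-! # Vanishing-sequence weights of linear series over an algebraically closed field -/

set_option autoImplicit false
set_option linter.style.haveILetI false

namespace Groth.Agent.Lib.Helper18.FF

open FunFld WithZero

universe u v w

variable {k : Type u} {K : Type v} [Field k] [Field K] [Algebra k K]

/-- Over an algebraically closed constant field every place has degree one. -/
theorem deg_eq_one_of_isAlgClosed [IsAlgClosed k] (hK : IsFunctionField k K) (P : Place k K) :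
    P.deg = 1 := by
  have h1 := finiteDimensional_residueField hK P
  letI alg : Algebra k (IsLocalRing.ResidueField P.O) := IsLocalRing.ResidueField.algebra P.O
  have h2 : @Algebra.IsIntegral k (IsLocalRing.ResidueField P.O) _ _ alg :=
    @Algebra.IsIntegral.of_finite k (IsLocalRing.ResidueField P.O) _ _ alg h1
  have hbij : Function.Bijective (@algebraMap k (IsLocalRing.ResidueField P.O) _ _ alg) :=
    @IsAlgClosed.algebraMap_bijective_of_isIntegral k (IsLocalRing.ResidueField P.O) _ _ _ _ alg h2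
  have e := (LinearEquiv.ofBijective
    (@Algebra.linearMap k (IsLocalRing.ResidueField P.O) _ _ alg) hbij).finrank_eq
  rw [Module.finrank_self] at e
  exact e.symm

/-- Two distinct places of degree one impose independent conditions: the spaces vanishing to
order `a` at `A` and to order `b` at `B` meet trivially once `a + b > deg D`. -/
theorem inf_L_single_le (D : Divisor k K) (A B : Place k K) (hAB : A ≠ B) (a b : ℤ) :
    L (D - Finsupp.single A a) ⊓ L (D - Finsupp.single B b) ≤
      L (D - Finsupp.single A a - Finsupp.single B b) := by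
  intro x hx P
  obtain ⟨h1, h2⟩ := hx
  by_cases hP : P = A
  · subst hP
    have := h1 P
    simpa [Finsupp.single_apply, hAB.symm, Ne.symm hAB] using this
  · have := h2 P
    simpa [Finsupp.single_apply, hP, Ne.symm hP] using this

theorem weight_sum_le [IsAlgClosed k] (hK : IsFunctionField k K) (D : Divisor k K) (d r : ℕ)
    (hD : D.deg = d) (V : Submodule k K) (hV : V ≤ L D) (hVr : Module.finrank k V = r + 1)
    (A B : Place k K) (hAB : A ≠ B) :
    (∑ j ∈ Finset.range d, Module.finrank k ↥(V ⊓ L (D - Finsupp.single A ((j : ℤ) + 1)))) +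
      (∑ j ∈ Finset.range d, Module.finrank k ↥(V ⊓ L (D - Finsupp.single B ((j : ℤ) + 1)))) ≤
      (r + 1) * d := by
  haveI := finiteDimensional_L hK D
  haveI : FiniteDimensional k V := Submodule.finiteDimensional_of_le hV
  rw [← Finset.sum_range_reflect
    (fun j => Module.finrank k ↥(V ⊓ L (D - Finsupp.single B ((j : ℤ) + 1)))) d,
    ← Finset.sum_add_distrib]
  calc _ ≤ ∑ _j ∈ Finset.range d, (r + 1) := Finset.sum_le_sum ?_
    _ = (r + 1) * d := by simp [mul_comm]
  intro j hj
  have hj' := Finset.mem_range.mp hj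
  set U₁ := V ⊓ L (D - Finsupp.single A ((j : ℤ) + 1)) with hU₁
  set U₂ := V ⊓ L (D - Finsupp.single B (((d - 1 - j : ℕ) : ℤ) + 1)) with hU₂
  have hinf : U₁ ⊓ U₂ = ⊥ := by
    rw [eq_bot_iff]
    have h1 : U₁ ⊓ U₂ ≤ L (D - Finsupp.single A ((j : ℤ) + 1)) ⊓
        L (D - Finsupp.single B (((d - 1 - j : ℕ) : ℤ) + 1)) :=
      inf_le_inf inf_le_right inf_le_right
    refine h1.trans ((inf_L_single_le D A B hAB _ _).trans ?_)
    rw [L_eq_bot_of_deg_neg hK]
    rw [deg_sub, deg_sub, deg_single, deg_single, deg_eq_one_of_isAlgClosed hK A,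
      deg_eq_one_of_isAlgClosed hK B, hD]
    push_cast
    omega
  have hsup : U₁ ⊔ U₂ ≤ V := sup_le inf_le_left inf_le_left
  have h2 := Submodule.finrank_sup_add_finrank_inf_eq U₁ U₂
  rw [hinf, finrank_bot, add_zero] at h2
  have h3 := Submodule.finrank_mono hsup
  rw [hVr] at h3
  show Module.finrank k U₁ + Module.finrank k U₂ ≤ r + 1
  omega

/-- Summing the compatibility conditions of two aspects at a node. -/
theorem compat_sum {K₁ : Type v} {K₂ : Type w} [Field K₁] [Field K₂] [Algebra k K₁] [Algebra k K₂]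
    (V₁ : Submodule k K₁) (D₁ : Divisor k K₁) (B : Place k K₁)
    (V₂ : Submodule k K₂) (D₂ : Divisor k K₂) (A : Place k K₂) (d r : ℕ)
    (h : ∀ m : ℕ, m ≤ d + 1 →
      Module.finrank k ↥(V₁ ⊓ L (D₁ - Finsupp.single B (m : ℤ))) +
        Module.finrank k ↥(V₂ ⊓ L (D₂ - Finsupp.single A ((d : ℤ) + 1 - m))) = r + 1) :
    (∑ j ∈ Finset.range d, Module.finrank k ↥(V₁ ⊓ L (D₁ - Finsupp.single B ((j : ℤ) + 1)))) +
      (∑ j ∈ Finset.range d, Module.finrank k ↥(V₂ ⊓ L (D₂ - Finsupp.single A ((j : ℤ) + 1)))) =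
      (r + 1) * d := by
  rw [← Finset.sum_range_reflect
    (fun j => Module.finrank k ↥(V₂ ⊓ L (D₂ - Finsupp.single A ((j : ℤ) + 1)))) d,
    ← Finset.sum_add_distrib]
  calc _ = ∑ _j ∈ Finset.range d, (r + 1) := Finset.sum_congr rfl ?_
    _ = (r + 1) * d := by simp [mul_comm]
  intro j hj
  have hj' := Finset.mem_range.mp hj
  have h1 := h (j + 1) (by omega)
  have e2 : (d : ℤ) + 1 - ((j + 1 : ℕ) : ℤ) = ((d - 1 - j : ℕ) : ℤ) + 1 := by omega
  have e1 : ((j + 1 : ℕ) : ℤ) = (j : ℤ) + 1 := by push_cast; ring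
  rw [e2, e1] at h1
  exact h1

end Groth.Agent.Lib.Helper18.FF
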