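import Groth.Agent.Lib.Helper18.FF.AdjCore
import Groth.Agent.Lib.Helper18.FF.AdjointChange
import Groth.Agent.Lib.Helper18.FF.Degree3
import Groth.Agent.Lib.Helper18.FF.Weights
import Groth.Agent.Lib.Helper18.FF.LSpace

/-! # Preparations for the adjoint divisor at a finite place (helper18) -/

set_option autoImplicit false
set_option linter.style.haveILetI false

namespace Groth.Agent.Lib.Helper18.FF

open FunFld WithZero LocRes IntermediateField Groth.Agent.Lib.Helper24.FFExt

universe u v

variable {k : Type u} {K : Type v} [Field k] [Field K] [Algebra k K]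

/-- In a rational function field `k(t)`, an element `t` generating the field is a uniformizer at
every place where it vanishes. -/
theorem val_eq_exp_neg_one_of_adjoin_eq_top [IsAlgClosed k] (hK : IsFunctionField k K) {t : K}
    (htop : IntermediateField.adjoin k ({t} : Set K) = ⊤) (P : Place k K) (hP : P.1 t < 1)
    (ht0 : t ≠ 0) : P.1 t = exp (-1 : ℤ) := by
  classical
  have htt : Transcendental k t := transcendental_of_val_ne_one hK P ht0 hP.ne
  have hdeg : (zeroDiv (k := k) t).deg = 1 := by
    rw [deg_zeroDiv_eq hK htt, htop]
    have : Module.finrank (⊤ : IntermediateField k K) K = 1 := by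
      rw [IntermediateField.finrank_top]
    exact_mod_cast this
  have hord : 0 < P.ord t := by
    rw [val_eq_exp_neg_ord P ht0, ← exp_zero, exp_lt_exp] at hP
    omega
  have hPdeg : P.deg = 1 := deg_eq_one_of_isAlgClosed hK P
  -- `zeroDiv t ≥ (ord_P t) P`
  have hle : Finsupp.single P (P.ord t) ≤ zeroDiv (k := k) t := by
    intro R
    by_cases hR : R = P
    · subst hR
      rw [Finsupp.single_eq_same, zeroDiv_apply hK]
      omega
    · rw [Finsupp.single_eq_of_ne hR]
      exact zeroDiv_nonneg t R
  have h1 : 0 ≤ (zeroDiv (k := k) t - Finsupp.single P (P.ord t)).deg :=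
    deg_nonneg_of_nonneg (sub_nonneg.mpr hle)
  rw [deg_sub, hdeg, deg_single, hPdeg] at h1
  have h2 : P.ord t = 1 := by
    push_cast at h1
    omega
  rw [val_eq_exp_neg_ord P ht0, h2]

/-- `Q` over `P` gives the Mathlib extension-of-valuations instance. -/
theorem hasExtension_of_isOverWith {K' : Type v} [Field K'] [Algebra K K'] [Algebra k K']
    {Q : Place k K'} {P : Place k K} {e : ℕ} (he : IsOverWith Q P e) : P.1.HasExtension Q.1 := by
  have hepos : 0 < e := isOverWith_pos he
  refine ⟨fun r s => ?_⟩
  rw [Valuation.comap_apply, Valuation.comap_apply, he r, he s]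
  constructor
  · intro h
    exact pow_le_pow_left' h e
  · intro h
    by_contra hcon
    push Not at hcon
    have := pow_lt_pow_left₀ hcon zero_le' hepos.ne'
    exact absurd h (not_le.mpr this)

end Groth.Agent.Lib.Helper18.FF
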