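import Groth.Agent.Lib.Helper18.FF.AdjFin1
import Groth.Agent.Lib.Helper18.FF.ProjMap

/-! # The local ring of a plane map at a finite place as a localisation of `O_P[y]` (helper18) -/

set_option autoImplicit false
set_option linter.style.haveILetI false

namespace Groth.Agent.Lib.Helper18.FF

open FunFld WithZero LocRes IntermediateField Polynomial Groth.Agent.Lib.Helper24.FFExt

universe u v

variable {k : Type u} {K : Type v} [Field k] [Field K] [Algebra k K]

/-- A polynomial in an integral element not vanishing at its residue constant is a unit. -/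
theorem val_aeval_eq_one_of_eval_ne_zero (Q : Place k K) {x : K} {α : k}
    (hα : Q.1 (x - algebraMap k K α) < 1) {q : k[X]} (hq : q.eval α ≠ 0) :
    Q.1 (aeval x q) = 1 := by
  have hx1 : Q.1 x ≤ 1 := by
    have : x = (x - algebraMap k K α) + algebraMap k K α := by ring
    rw [this]
    exact (Valuation.map_add _ _ _).trans (max_le hα.le (val_algebraMap_le Q α))
  have hle : ∀ p : k[X], Q.1 (aeval x p) ≤ 1 := by
    intro p
    induction p using Polynomial.induction_on' with
    | add p q hp hq => rw [map_add]; exact (Valuation.map_add _ _ _).trans (max_le hp hq)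
    | monomial n a =>
      rw [aeval_monomial, map_mul, map_pow]
      exact mul_le_one' (val_algebraMap_le Q a) (pow_le_one' hx1 n)
  obtain ⟨q', hq'⟩ : (X - C α) ∣ q - C (q.eval α) := by
    rw [dvd_iff_isRoot, IsRoot.def, eval_sub, eval_C, sub_self]
  have hdecomp : aeval x q = (x - algebraMap k K α) * aeval x q' + algebraMap k K (q.eval α) := by
    have h1 : q = (X - C α) * q' + C (q.eval α) := by rw [← hq']; ring
    conv_lhs => rw [h1]
    rw [map_add, map_mul, map_sub, aeval_X, aeval_C, aeval_C]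
  rw [hdecomp]
  have h2 : Q.1 ((x - algebraMap k K α) * aeval x q') < 1 := by
    rw [map_mul]
    exact lt_of_le_of_lt (mul_le_mul' le_rfl (hle q')) (by rwa [mul_one])
  rw [Valuation.map_add_eq_of_lt_right Q.1 (by rw [val_algebraMap Q hq]; exact h2),
    val_algebraMap Q hq]

/-- Elements of `k(x)` integral at a finite place are fractions of polynomials in `x` with
denominator a unit at the place. -/
theorem exists_fraction_of_val_le_one (Q : Place k K) {x : K} {α : k}
    (hα : Q.1 (x - algebraMap k K α) < 1) (hxα : x - algebraMap k K α ≠ 0) {c : K}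
    (hc : c ∈ IntermediateField.adjoin k ({x} : Set K)) (hc1 : Q.1 c ≤ 1) :
    ∃ p q : k[X], Q.1 (aeval x q) = 1 ∧ aeval x q * c = aeval x p := by
  classical
  rw [IntermediateField.mem_adjoin_simple_iff] at hc
  obtain ⟨r, s, rfl⟩ := hc
  by_cases hs0 : aeval x s = 0
  · exact ⟨0, 1, by rw [map_one, map_one], by rw [hs0, div_zero, mul_zero, map_zero]⟩
  by_cases hr0 : r = 0
  · exact ⟨0, 1, by rw [map_one, map_one], by rw [hr0, map_zero, zero_div, mul_zero]⟩
  have hs0' : s ≠ 0 := fun h => hs0 (by rw [h, map_zero])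
  obtain ⟨m, r₁, hr₁, hr₁d⟩ : ∃ (m : ℕ) (r₁ : k[X]), r = (X - C α) ^ m * r₁ ∧ ¬ (X - C α) ∣ r₁ :=
    ⟨_, Polynomial.exists_eq_pow_rootMultiplicity_mul_and_not_dvd r hr0 α⟩
  obtain ⟨n, s₁, hs₁, hs₁d⟩ : ∃ (n : ℕ) (s₁ : k[X]), s = (X - C α) ^ n * s₁ ∧ ¬ (X - C α) ∣ s₁ :=
    ⟨_, Polynomial.exists_eq_pow_rootMultiplicity_mul_and_not_dvd s hs0' α⟩
  have hr₁e : r₁.eval α ≠ 0 := fun h => hr₁d (dvd_iff_isRoot.mpr h)
  have hs₁e : s₁.eval α ≠ 0 := fun h => hs₁d (dvd_iff_isRoot.mpr h)
  have hr₁v := val_aeval_eq_one_of_eval_ne_zero Q hα hr₁e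
  have hs₁v := val_aeval_eq_one_of_eval_ne_zero Q hα hs₁e
  set t := x - algebraMap k K α with ht
  have hrx : aeval x r = t ^ m * aeval x r₁ := by
    conv_lhs => rw [hr₁]
    rw [map_mul, map_pow, map_sub, aeval_X, aeval_C]
  have hsx : aeval x s = t ^ n * aeval x s₁ := by
    conv_lhs => rw [hs₁]
    rw [map_mul, map_pow, map_sub, aeval_X, aeval_C]
  have hs₁0 : aeval x s₁ ≠ 0 := fun h => by rw [h, map_zero] at hs₁v; exact zero_ne_one hs₁v
  have hnm : n ≤ m := by
    by_contra hcon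
    push Not at hcon
    have hval : Q.1 (aeval x r / aeval x s) = (Q.1 t ^ (n - m))⁻¹ := by
      rw [hrx, hsx, map_div₀, map_mul, map_mul, map_pow, map_pow, hr₁v, hs₁v, mul_one, mul_one]
      have htv : Q.1 t ≠ 0 := (Valuation.ne_zero_iff _).mpr hxα
      obtain ⟨d, rfl⟩ : ∃ d, n = m + d := ⟨n - m, by omega⟩
      rw [Nat.add_sub_cancel_left, pow_add, div_mul_eq_div_div, div_self (pow_ne_zero _ htv),
        one_div]
    rw [hval] at hc1
    have hlt : Q.1 t ^ (n - m) < 1 := pow_lt_one' hα (by omega)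
    have hne : Q.1 t ^ (n - m) ≠ 0 := pow_ne_zero _ ((Valuation.ne_zero_iff _).mpr hxα)
    have : 1 < (Q.1 t ^ (n - m))⁻¹ := (one_lt_inv₀ (zero_lt_iff.mpr hne)).mpr hlt
    exact absurd hc1 (not_le.mpr this)
  refine ⟨(X - C α) ^ (m - n) * r₁, s₁, hs₁v, ?_⟩
  rw [map_mul, map_pow, map_sub, aeval_X, aeval_C, hrx, hsx]
  obtain ⟨d, rfl⟩ : ∃ d, m = n + d := ⟨m - n, by omega⟩
  rw [Nat.add_sub_cancel_left, pow_add]
  have htn : t ^ n ≠ 0 := pow_ne_zero _ hxα
  field_simp
  rw [ht]
  ring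

section Loc

variable {x y : K} (P : Place k ↥(IntermediateField.adjoin k ({x} : Set K))) (Q : Place k K)
  [Algebra P.O K] [IsScalarTower P.O ↥(IntermediateField.adjoin k ({x} : Set K)) K]

/-- The chart algebra `k[x, y]` of the plane map `(1 : x : y)` at the index `0`. -/
theorem x_mem_chart (x y : K) :
    x ∈ Algebra.adjoin k (Set.range fun i => ![(1 : K), x, y] i / ![(1 : K), x, y] 0) :=
  Algebra.subset_adjoin ⟨1, by simp⟩

theorem y_mem_chart (x y : K) :
    y ∈ Algebra.adjoin k (Set.range fun i => ![(1 : K), x, y] i / ![(1 : K), x, y] 0) :=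
  Algebra.subset_adjoin ⟨2, by simp⟩

theorem aeval_x_mem_chart (x y : K) (p : k[X]) :
    aeval x p ∈ Algebra.adjoin k (Set.range fun i => ![(1 : K), x, y] i / ![(1 : K), x, y] 0) := by
  have h1 := Polynomial.aeval_mem_adjoin_singleton k x (p := p)
  exact (Algebra.adjoin_le (Set.singleton_subset_iff.mpr (x_mem_chart x y))) h1

/-- Clearing denominators in `O_P[y]`. -/
theorem exists_mul_mem_chart (hQP : IsOver Q P) {α : k}
    (hα : Q.1 (x - algebraMap k K α) < 1) (hxα : x - algebraMap k K α ≠ 0) {a : K}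
    (ha : a ∈ Algebra.adjoin P.O ({y} : Set K)) :
    ∃ q : k[X], Q.1 (aeval x q) = 1 ∧ aeval x q * a ∈
      Algebra.adjoin k (Set.range fun i => ![(1 : K), x, y] i / ![(1 : K), x, y] 0) := by
  induction ha using Algebra.adjoin_induction with
  | mem a ha =>
    rw [Set.mem_singleton_iff] at ha
    subst ha
    exact ⟨1, by rw [map_one, map_one], by rw [map_one, one_mul]; exact y_mem_chart x a⟩
  | algebraMap c =>
    have hc : algebraMap P.O K c =
        algebraMap ↥(IntermediateField.adjoin k ({x} : Set K)) K (c : ↥(IntermediateField.adjoin k ({x} : Set K))) := by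
      rw [IsScalarTower.algebraMap_apply P.O ↥(IntermediateField.adjoin k ({x} : Set K)) K]
      rfl
    have hc1 : Q.1 (algebraMap P.O K c) ≤ 1 := by
      rw [hc, isOver_le_one_iff hQP]
      exact c.2
    have hmem : algebraMap P.O K c ∈ IntermediateField.adjoin k ({x} : Set K) := by
      rw [hc]
      exact (c : ↥(IntermediateField.adjoin k ({x} : Set K))).2
    obtain ⟨p, q, hq, hpq⟩ := exists_fraction_of_val_le_one Q hα hxα hmem hc1
    exact ⟨q, hq, by rw [hpq]; exact aeval_x_mem_chart x y p⟩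
  | add a b _ _ ha hb =>
    obtain ⟨q₁, hq₁, h₁⟩ := ha
    obtain ⟨q₂, hq₂, h₂⟩ := hb
    refine ⟨q₁ * q₂, by rw [map_mul, map_mul, hq₁, hq₂, one_mul], ?_⟩
    have : aeval x (q₁ * q₂) * (a + b) =
        aeval x q₂ * (aeval x q₁ * a) + aeval x q₁ * (aeval x q₂ * b) := by
      rw [map_mul]; ring
    rw [this]
    exact add_mem (mul_mem (aeval_x_mem_chart x y q₂) h₁) (mul_mem (aeval_x_mem_chart x y q₁) h₂)
  | mul a b _ _ ha hb =>
    obtain ⟨q₁, hq₁, h₁⟩ := ha
    obtain ⟨q₂, hq₂, h₂⟩ := hb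
    refine ⟨q₁ * q₂, by rw [map_mul, map_mul, hq₁, hq₂, one_mul], ?_⟩
    have : aeval x (q₁ * q₂) * (a * b) = (aeval x q₁ * a) * (aeval x q₂ * b) := by
      rw [map_mul]; ring
    rw [this]
    exact mul_mem h₁ h₂

/-- The chart algebra lies in `O_P[y]` at a finite place. -/
theorem chart_le_adjoin (hx1 : P.1 ⟨x, mem_adjoin_simple_self k x⟩ ≤ 1) {a : K}
    (ha : a ∈ Algebra.adjoin k (Set.range fun i => ![(1 : K), x, y] i / ![(1 : K), x, y] 0)) :
    a ∈ Algebra.adjoin P.O ({y} : Set K) := by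
  induction ha using Algebra.adjoin_induction with
  | mem a ha =>
    obtain ⟨i, rfl⟩ := ha
    have h0 : ![(1 : K), x, y] 0 = 1 := rfl
    show ![(1 : K), x, y] i / ![(1 : K), x, y] 0 ∈ Algebra.adjoin P.O ({y} : Set K)
    rw [h0, _root_.div_one]
    fin_cases i
    · show (1 : K) ∈ Algebra.adjoin P.O ({y} : Set K)
      exact one_mem _
    · show x ∈ Algebra.adjoin P.O ({y} : Set K)
      exact algebraMap_mem_adjoin (K := ↥(IntermediateField.adjoin k ({x} : Set K))) (K' := K)
        (P := P) ({y} : Set K) (c := ⟨x, mem_adjoin_simple_self k x⟩) hx1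
    · show y ∈ Algebra.adjoin P.O ({y} : Set K)
      exact Algebra.subset_adjoin rfl
  | algebraMap c =>
    have h1 : algebraMap k K c = algebraMap ↥(IntermediateField.adjoin k ({x} : Set K)) K
        (algebraMap k ↥(IntermediateField.adjoin k ({x} : Set K)) c) := rfl
    rw [h1]
    exact algebraMap_mem_adjoin (K := ↥(IntermediateField.adjoin k ({x} : Set K))) (K' := K)
      (P := P) ({y} : Set K) (P.2.1 c)
  | add a b _ _ ha hb => exact add_mem ha hb
  | mul a b _ _ ha hb => exact mul_mem ha hb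

/-- At a finite place, the plane map `(1 : x : y)` is nonsingular exactly when `O_Q` is the
localisation of `O_P[y]` at `Q`, `P` the place of `k(x)` below `Q`. -/
theorem loc_iff_isNonsingularAt (hQP : IsOver Q P) (hy1 : Q.1 y ≤ 1) {α : k}
    (hα : Q.1 (x - algebraMap k K α) < 1) (hxα : x - algebraMap k K α ≠ 0) :
    (∀ z : K, Q.1 z ≤ 1 → ∃ a ∈ Algebra.adjoin P.O ({y} : Set K),
      ∃ b ∈ Algebra.adjoin P.O ({y} : Set K), Q.1 b = 1 ∧ z * b = a) ↔
    IsNonsingularAt ![(1 : K), x, y] Q := by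
  have hx1 : Q.1 x ≤ 1 := by
    have : x = (x - algebraMap k K α) + algebraMap k K α := by ring
    rw [this]
    exact (Valuation.map_add _ _ _).trans (max_le hα.le (val_algebraMap_le Q α))
  have hPx : P.1 ⟨x, mem_adjoin_simple_self k x⟩ ≤ 1 := by
    rw [← isOver_le_one_iff hQP]
    exact hx1
  have hmax : ∀ i, Q.1 (![(1 : K), x, y] i) ≤ Q.1 (![(1 : K), x, y] 0) := by
    intro i
    fin_cases i
    · exact le_rfl
    · simpa using hx1
    · simpa using hy1
  constructor
  · intro hloc z hz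
    obtain ⟨a, ha, b, hb, hb1, hzb⟩ := hloc z hz
    obtain ⟨qa, hqa, hA⟩ := exists_mul_mem_chart P Q hQP hα hxα ha
    obtain ⟨qb, hqb, hB⟩ := exists_mul_mem_chart P Q hQP hα hxα hb
    refine ⟨0, by simp, hmax, aeval x qb * (aeval x qa * a),
      mul_mem (aeval_x_mem_chart x y qb) hA, aeval x qa * (aeval x qb * b),
      mul_mem (aeval_x_mem_chart x y qa) hB, ?_, ?_⟩
    · rw [map_mul, map_mul, hqa, hqb, hb1, one_mul, one_mul]
    · rw [← hzb]; ring
  · intro hns z hz
    obtain ⟨u, hu, w, hw, hw1, hzw⟩ := inLocRing_index ![(1 : K), x, y] Q (hns z hz) 0 (by simp) hmax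
    exact ⟨u, chart_le_adjoin P hPx hu, w, chart_le_adjoin P hPx hw, hw1, hzw⟩

end Loc

end Groth.Agent.Lib.Helper18.FF
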