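import Groth.Agent.Lib.Helper18.FF.PlaneDegree
import Mathlib.Algebra.MvPolynomial.PDeriv
import Mathlib.FieldTheory.Minpoly.Field

/-! # A bivariate relation of minimal degree is a constant multiple of the minimal polynomial
(helper18) -/

set_option autoImplicit false
set_option linter.style.haveILetI false

namespace Groth.Agent.Lib.Helper18.FF

open Polynomial IntermediateField
open scoped Polynomial.Bivariate

variable {k K : Type*} [Field k] [Field K] [Algebra k K]

/-- The `Y`-derivative through the bivariate equivalence. -/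
theorem derivative_equivMvPolynomial_symm (g : MvPolynomial (Fin 2) k) :
    derivative ((Polynomial.Bivariate.equivMvPolynomial k).symm g) =
      (Polynomial.Bivariate.equivMvPolynomial k).symm (MvPolynomial.pderiv 1 g) := by
  have hX0 : (Polynomial.Bivariate.equivMvPolynomial k).symm (MvPolynomial.X 0) = C X := by
    rw [AlgEquiv.symm_apply_eq]; simp
  have hX1 : (Polynomial.Bivariate.equivMvPolynomial k).symm (MvPolynomial.X 1) = X := by
    rw [AlgEquiv.symm_apply_eq]; simp
  have hC : ∀ a : k, (Polynomial.Bivariate.equivMvPolynomial k).symm (MvPolynomial.C a) =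
      C (C a) := by
    intro a
    rw [AlgEquiv.symm_apply_eq]; simp
  induction g using MvPolynomial.induction_on with
  | C a => rw [hC, derivative_C, MvPolynomial.pderiv_C, map_zero]
  | add p q hp hq => rw [map_add, derivative_add, hp, hq, map_add, map_add]
  | mul_X p i hp =>
    rw [map_mul, derivative_mul, hp, MvPolynomial.pderiv_mul, map_add, map_mul, map_mul]
    fin_cases i
    · have : MvPolynomial.pderiv (1 : Fin 2) (MvPolynomial.X (0 : Fin 2) : MvPolynomial (Fin 2) k) = 0 := by
        rw [MvPolynomial.pderiv_X, Pi.single_eq_of_ne (by decide)]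
      simp only [Fin.zero_eta]
      rw [hX0, derivative_C, this, map_zero]
    · have : MvPolynomial.pderiv (1 : Fin 2) (MvPolynomial.X (1 : Fin 2) : MvPolynomial (Fin 2) k) = 1 := by
        rw [MvPolynomial.pderiv_X, Pi.single_eq_same]
      simp only [Fin.mk_one]
      rw [hX1, derivative_X, this, map_one]

/-- The coefficients of the bivariate form have degree bounded by the total degree. -/
theorem natDegree_coeff_equivMvPolynomial_symm_le (g : MvPolynomial (Fin 2) k) (j : ℕ) :
    (((Polynomial.Bivariate.equivMvPolynomial k).symm g).coeff j).natDegree + j ≤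
      g.totalDegree ∨ ((Polynomial.Bivariate.equivMvPolynomial k).symm g).coeff j = 0 := by
  classical
  by_cases h0 : ((Polynomial.Bivariate.equivMvPolynomial k).symm g).coeff j = 0
  · exact Or.inr h0
  left
  have h00 : (Polynomial.Bivariate.equivMvPolynomial k).symm g =
      MvPolynomial.aeval ![(C X : k[X][Y]), (X : k[X][Y])] g := rfl
  have hterm : ∀ d : Fin 2 →₀ ℕ,
      (algebraMap k k[X][Y]) (MvPolynomial.coeff d g) *
        ∏ i, (![(C X : k[X][Y]), (X : k[X][Y])] i) ^ d i =
      C ((algebraMap k k[X]) (MvPolynomial.coeff d g) * X ^ d 0) * X ^ d 1 := by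
    intro d
    rw [Fin.prod_univ_two]
    simp only [Matrix.cons_val_zero, Matrix.cons_val_one]
    rw [C_mul, C_pow, IsScalarTower.algebraMap_apply k k[X] k[X][Y], Polynomial.algebraMap_apply,
      Algebra.algebraMap_self_apply]
    ring
  have hcoeff : ((Polynomial.Bivariate.equivMvPolynomial k).symm g).coeff j =
      ∑ d ∈ g.support, if j = d 1 then (algebraMap k k[X]) (MvPolynomial.coeff d g) * X ^ d 0
        else 0 := by
    rw [h00, MvPolynomial.aeval_def, MvPolynomial.eval₂_eq', Polynomial.finset_sum_coeff]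
    refine Finset.sum_congr rfl fun d _ => ?_
    rw [hterm, coeff_C_mul_X_pow]
  rw [hcoeff] at h0 ⊢
  have hdeg : (∑ d ∈ g.support, if j = d 1 then
      (algebraMap k k[X]) (MvPolynomial.coeff d g) * X ^ d 0 else 0).natDegree ≤
      g.totalDegree - j := by
    refine Polynomial.natDegree_sum_le_of_forall_le _ _ fun d hd => ?_
    split_ifs with hj
    · rw [Polynomial.algebraMap_apply, Algebra.algebraMap_self_apply]
      refine (natDegree_C_mul_X_pow_le _ _).trans ?_
      have h2 := MvPolynomial.le_totalDegree hd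
      rw [Finsupp.sum_fintype _ _ (fun _ => rfl), Fin.sum_univ_two] at h2
      omega
    · simp
  -- `j ≤ totalDegree` since some term is nonzero
  have hjle : j ≤ g.totalDegree := by
    by_contra hcon
    push Not at hcon
    apply h0
    refine Finset.sum_eq_zero fun d hd => ?_
    rw [if_neg]
    intro hj
    have h2 := MvPolynomial.le_totalDegree hd
    rw [Finsupp.sum_fintype _ _ (fun _ => rfl), Fin.sum_univ_two] at h2
    omega
  omega

end Groth.Agent.Lib.Helper18.FF

namespace Groth.Agent.Lib.Helper18.FF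

open Polynomial IntermediateField
open scoped Polynomial.Bivariate

variable {k K : Type*} [Field k] [Field K] [Algebra k K]

/-- A nonzero bivariate relation `g(x, y) = 0` whose total degree is at most `[K : k(x)]` is, as a
polynomial in `Y`, a constant multiple of the minimal polynomial of `y` over `k(x)`; in particular
`g_Y(x, y)` is a constant multiple of the derivative of the minimal polynomial at `y`. -/
theorem exists_const_pderiv_eq {x y : K} (hx : Transcendental k x)
    (hyi : IsIntegral k⟮x⟯ y) {N : ℕ} (hN : (minpoly k⟮x⟯ y).natDegree = N)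
    (g : MvPolynomial (Fin 2) k) (hg0 : g ≠ 0) (hgxy : MvPolynomial.aeval ![x, y] g = 0)
    (hgdeg : g.totalDegree ≤ N) :
    ∃ c : k, c ≠ 0 ∧ MvPolynomial.aeval ![x, y] (MvPolynomial.pderiv 1 g) =
      algebraMap k K c * aeval y (derivative (minpoly k⟮x⟯ y)) := by
  classical
  set e := Polynomial.Bivariate.equivMvPolynomial k with he
  let x₀ : k⟮x⟯ := ⟨x, mem_adjoin_simple_self k x⟩
  let ρ : k[X] →+* k⟮x⟯ := (Polynomial.aeval x₀ : k[X] →ₐ[k] k⟮x⟯).toRingHom
  have hρ : ∀ q : k[X], ((ρ q : k⟮x⟯) : K) = Polynomial.aeval x q := fun q => by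
    show ((Polynomial.aeval x₀ q : k⟮x⟯) : K) = _
    rw [← IntermediateField.algebraMap_apply, ← Polynomial.aeval_algebraMap_apply]
    rfl
  have hρinj : Function.Injective ρ := by
    rw [injective_iff_map_eq_zero]
    intro q hq
    have h2 := congrArg (fun z : k⟮x⟯ => (z : K)) hq
    simp only [hρ] at h2
    by_contra hne
    exact hx ⟨q, hne, h2⟩
  have hev : ∀ p : k[X][Y], Polynomial.aeval y (p.map ρ) = aevalAeval x y p := by
    intro p
    have : ((Polynomial.aeval y : k⟮x⟯[X] →ₐ[k⟮x⟯] K).toRingHom.comp (Polynomial.mapRingHom ρ)) =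
        (aevalAeval x y : k[X][Y] →ₐ[k] K).toRingHom := by
      apply Polynomial.ringHom_ext
      · intro a
        simp only [RingHom.coe_comp, Function.comp_apply, coe_mapRingHom, map_C,
          AlgHom.toRingHom_eq_coe, RingHom.coe_coe, aeval_C, aevalAeval_C]
        rw [IntermediateField.algebraMap_apply, hρ]
      · simp
    exact congrArg (fun φ : k[X][Y] →+* K => φ p) this
  set G : k⟮x⟯[X] := (e.symm g).map ρ with hG
  have hGroot : Polynomial.aeval y G = 0 := by
    rw [hG, hev, ← mvAeval_eq_aevalAeval, hgxy]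
  have hsymm0 : e.symm g ≠ 0 := fun h => hg0 (by
    have := congrArg e h
    rwa [AlgEquiv.apply_symm_apply, map_zero] at this)
  have hG0 : G ≠ 0 := by
    rw [hG, Ne, ← Polynomial.map_zero ρ]
    exact fun h => hsymm0 (Polynomial.map_injective ρ hρinj h)
  have hGdeg : G.natDegree ≤ N :=
    (natDegree_map_le).trans ((natDegree_equivMvPolynomial_symm_le g).trans hgdeg)
  obtain ⟨q, hq⟩ := minpoly.dvd k⟮x⟯ y hGroot
  have hmonic : (minpoly k⟮x⟯ y).Monic := minpoly.monic hyi
  have hq0 : q ≠ 0 := fun h => hG0 (by rw [hq, h, mul_zero])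
  have hqdeg : q.natDegree = 0 := by
    have h1 : G.natDegree = (minpoly k⟮x⟯ y).natDegree + q.natDegree := by
      rw [hq, natDegree_mul hmonic.ne_zero hq0]
    omega
  obtain ⟨c', hc'⟩ : ∃ c' : k⟮x⟯, q = C c' := ⟨q.coeff 0, eq_C_of_natDegree_eq_zero hqdeg⟩
  have hc'0 : c' ≠ 0 := fun h => hq0 (by rw [hc', h, map_zero])
  -- the leading coefficient is a constant of `k`
  have hcoeffN : G.coeff N = c' := by
    rw [hq, hc', mul_comm, coeff_C_mul, ← hN, hmonic.coeff_natDegree, mul_one]
  have hcoeffN' : G.coeff N = ρ ((e.symm g).coeff N) := by rw [hG, coeff_map]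
  have hne : (e.symm g).coeff N ≠ 0 := by
    intro h
    rw [hcoeffN', h, map_zero] at hcoeffN
    exact hc'0 hcoeffN.symm
  have hdeg0 : ((e.symm g).coeff N).natDegree = 0 := by
    have hdis := natDegree_coeff_equivMvPolynomial_symm_le g N
    rw [← he] at hdis
    rcases hdis with h | h
    · omega
    · exact absurd h hne
  obtain ⟨c, hc⟩ : ∃ c : k, (e.symm g).coeff N = C c := ⟨_, eq_C_of_natDegree_eq_zero hdeg0⟩
  have hc0 : c ≠ 0 := fun h => hne (by rw [hc, h, map_zero])
  have hc'c : c' = algebraMap k k⟮x⟯ c := by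
    rw [← hcoeffN, hcoeffN', hc]
    show (Polynomial.aeval x₀ (C c) : k⟮x⟯) = _
    rw [aeval_C]
  refine ⟨c, hc0, ?_⟩
  have h1 : MvPolynomial.aeval ![x, y] (MvPolynomial.pderiv 1 g) =
      Polynomial.aeval y (derivative G) := by
    rw [mvAeval_eq_aevalAeval, ← derivative_equivMvPolynomial_symm, ← hev, hG, derivative_map]
  rw [h1, hq, hc', derivative_mul, derivative_C, mul_zero, add_zero, map_mul, aeval_C, hc'c,
    mul_comm]
  rfl

end Groth.Agent.Lib.Helper18.FF
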