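import Groth.Agent.Lib.Helper18.FF.PlaneSetup

/-! # Plane models: generic coordinates with a prescribed generic constant -/

set_option autoImplicit false
set_option linter.style.haveILetI false

namespace Groth.Agent.Lib.Helper18.FF

open FunFld WithZero IntermediateField

universe u v

variable {k : Type u} {K : Type v} [Field k] [Field K] [Algebra k K]

/-- A generic constant can be chosen outside any finite set. -/
theorem plane_exists_generic_avoiding [Infinite k] (hK : IsFunctionField k K) (x y : K)
    (S : Finset k) :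
    ∃ c : k, c ∉ S ∧ ∀ P : Place k K, 0 < mapDiv k ![(1 : K), x, y] P →
      P.1 (x + c • y) = exp (mapDiv k ![(1 : K), x, y] P) := by
  classical
  have hch : ∀ P : Place k K, ∃ c₀ : k, 0 < mapDiv k ![(1 : K), x, y] P →
      ∀ c : k, c ≠ c₀ → P.1 (x + c • y) = exp (mapDiv k ![(1 : K), x, y] P) := by
    intro P
    by_cases hP : 0 < mapDiv k ![(1 : K), x, y] P
    · obtain ⟨c₀, h⟩ := plane_generic hK x y P hP
      exact ⟨c₀, fun _ => h⟩
    · exact ⟨0, fun h => absurd h hP⟩
  choose c₀ hc₀ using hch
  obtain ⟨c, hc⟩ := Infinite.exists_notMem_finset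
    (S ∪ ((mapDiv k ![(1 : K), x, y]).support.image c₀))
  rw [Finset.mem_union, not_or] at hc
  refine ⟨c, hc.1, fun P hP => hc₀ P hP c ?_⟩
  rintro rfl
  exact hc.2 (Finset.mem_image_of_mem _ (Finsupp.mem_support_iff.mpr hP.ne'))

/-- Generic coordinates for a plane model, for a given generic constant. -/
theorem plane_setup_of (hK : IsFunctionField k K) (x y : K)
    (hxy : IntermediateField.adjoin k ({x, y} : Set K) = ⊤) (c : k)
    (hc : ∀ P : Place k K, 0 < mapDiv k ![(1 : K), x, y] P →
      P.1 (x + c • y) = exp (mapDiv k ![(1 : K), x, y] P)) :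
    ∃ (u : K) (N : ℕ), u = x + c • y ∧
      poleDiv (k := k) u = mapDiv k ![(1 : K), x, y] ∧ Transcendental k u ∧
      (mapDiv k ![(1 : K), x, y]).deg = N ∧ 1 ≤ N ∧
      LinearIndependent (IntermediateField.adjoin k ({u} : Set K))
        (fun j : Fin N => y ^ (j : ℕ)) ∧
      N = Module.finrank (IntermediateField.adjoin k ({u} : Set K)) K ∧
      (minpoly (IntermediateField.adjoin k ({u} : Set K)) y).natDegree = N := by
  classical
  obtain ⟨E, hEdef⟩ : ∃ E : Divisor k K, E = mapDiv k ![(1 : K), x, y] := ⟨_, rfl⟩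
  rw [← hEdef]
  have hE0 : 0 ≤ E := hEdef ▸ plane_nonneg hK x y
  have hxE : x ∈ L E := hEdef ▸ plane_x_mem hK x y
  have hyE : y ∈ L E := hEdef ▸ plane_y_mem hK x y
  rw [← hEdef] at hc
  obtain ⟨u, hu⟩ : ∃ u : K, u = x + c • y := ⟨_, rfl⟩
  rw [← hu] at hc
  have huE : u ∈ L E := by
    rw [hu]
    exact Submodule.add_mem _ hxE (Submodule.smul_mem _ c hyE)
  have hpole : poleDiv (k := k) u = E := poleDiv_eq_of_attained hK hE0 huE hc
  have hEne : ∃ P, 0 < E P := by
    by_contra hcon
    push Not at hcon
    have hE0' : E = 0 := by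
      ext P
      exact le_antisymm (hcon P) (hE0 P)
    rw [hE0', L_zero_eq_one hK] at hxE hyE
    obtain ⟨a, rfl⟩ := Submodule.mem_one.mp hxE
    obtain ⟨b, rfl⟩ := Submodule.mem_one.mp hyE
    obtain ⟨t, ht, -⟩ := hK.1
    have hmem : t ∈ IntermediateField.adjoin k ({algebraMap k K a, algebraMap k K b} : Set K) := by
      rw [hxy]
      trivial
    have hbot : IntermediateField.adjoin k ({algebraMap k K a, algebraMap k K b} : Set K) = ⊥ := by
      rw [IntermediateField.adjoin_eq_bot_iff]
      rintro z (rfl | rfl)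
      · exact IntermediateField.algebraMap_mem _ _
      · exact IntermediateField.algebraMap_mem _ _
    rw [hbot, IntermediateField.mem_bot] at hmem
    obtain ⟨c', rfl⟩ := hmem
    exact ht (isAlgebraic_algebraMap c')
  obtain ⟨P₀, hP₀⟩ := hEne
  have hu0 : u ≠ 0 := by
    intro h
    have := hc P₀ hP₀
    rw [h, map_zero] at this
    exact exp_ne_zero this.symm
  have hut : Transcendental k u := transcendental_of_val_ne_one hK P₀ hu0 (by
    rw [hc P₀ hP₀]
    intro h
    rw [← exp_zero, exp_injective.eq_iff] at h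
    omega)
  have hdeg : E.deg = Module.finrank (IntermediateField.adjoin k ({u} : Set K)) K := by
    rw [← hpole]
    exact deg_poleDiv_eq hK hut
  haveI := finiteDimensional_adjoin_of_transcendental hK hut
  have hFy : IntermediateField.adjoin (IntermediateField.adjoin k ({u} : Set K)) ({y} : Set K)
      = ⊤ := by
    rw [← IntermediateField.restrictScalars_eq_top_iff (K := k),
      IntermediateField.adjoin_adjoin_left, eq_top_iff, ← hxy]
    refine IntermediateField.adjoin_le_iff.mpr ?_
    rintro z (rfl | rfl)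
    · have hz : z = u - c • y := by
        rw [hu]
        ring
      rw [hz]
      have h1 : u ∈ IntermediateField.adjoin k ({u} ∪ {y} : Set K) :=
        IntermediateField.subset_adjoin k _ (Or.inl rfl)
      have h2 : y ∈ IntermediateField.adjoin k ({u} ∪ {y} : Set K) :=
        IntermediateField.subset_adjoin k _ (Or.inr rfl)
      exact sub_mem h1 (IntermediateField.smul_mem _ h2)
    · exact IntermediateField.subset_adjoin k _ (Or.inr rfl)
  have hint : IsIntegral (IntermediateField.adjoin k ({u} : Set K)) y :=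
    Algebra.IsIntegral.isIntegral y
  obtain ⟨N, hN⟩ : ∃ N : ℕ,
      N = (minpoly (IntermediateField.adjoin k ({u} : Set K)) y).natDegree := ⟨_, rfl⟩
  have hNfin : N = Module.finrank (IntermediateField.adjoin k ({u} : Set K)) K := by
    rw [hN, ← IntermediateField.adjoin.finrank hint, hFy, IntermediateField.finrank_top']
  have hli' : LinearIndependent (IntermediateField.adjoin k ({u} : Set K))
      (fun j : Fin N => y ^ (j : ℕ)) := by
    subst hN
    exact linearIndependent_pow (K := IntermediateField.adjoin k ({u} : Set K)) y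
  have hEN : E.deg = (N : ℤ) := by rw [hdeg, hNfin]
  have hNpos : 1 ≤ N := by
    rw [hNfin]
    exact Module.finrank_pos
  exact ⟨u, N, hu, hpole, hut, hEN, hNpos, hli', hNfin, hN.symm⟩

end Groth.Agent.Lib.Helper18.FF
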