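import Mathlib

/-! # The determinant trick for a subalgebra of a valued field -/

set_option autoImplicit false
set_option linter.style.haveILetI false

namespace Groth.Agent.Lib.Helper18.FF

universe u v

variable {k : Type u} {K : Type v} [Field k] [Field K] [Algebra k K]

/-- Determinant trick: if `s i * b i ∈ t * ∑ A b j + A` with `s i` units and `t` a non-unit for
the valuation `v`, then a single unit `c ∈ A` multiplies all `b j` into `A`. -/
theorem det_trick {Γ : Type*} [LinearOrderedCommGroupWithZero Γ] (v : Valuation K Γ)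
    (A : Subalgebra k K) (hA : ∀ a ∈ A, v a ≤ 1) {r : ℕ} (b : Fin r → K)
    (s : Fin r → A) (hs : ∀ i, v (s i : K) = 1) (a : Fin r → Fin r → A) (e : Fin r → A)
    (t : A) (ht : v (t : K) < 1)
    (hrel : ∀ i, (s i : K) * b i = (t : K) * ∑ j, (a i j : K) * b j + (e i : K)) :
    ∃ c ∈ A, v c = 1 ∧ ∀ j, c * b j ∈ A := by
  classical
  obtain ⟨N, hN⟩ : ∃ N : Matrix (Fin r) (Fin r) A, N = Matrix.diagonal s - t • Matrix.of a :=
    ⟨_, rfl⟩
  let f : A →+* K := A.val.toRingHom
  have hf : ∀ x : A, f x = (x : K) := fun _ => rfl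
  have hNb : (f.mapMatrix N).mulVec b = fun i => (e i : K) := by
    ext i
    simp only [Matrix.mulVec, dotProduct, RingHom.mapMatrix_apply, Matrix.map_apply, hN,
      Matrix.sub_apply, Matrix.smul_apply, Matrix.of_apply, Matrix.diagonal_apply, map_sub,
      smul_eq_mul, map_mul, sub_mul, Finset.sum_sub_distrib, hf]
    have h2 : ∑ j, ((t * a i j : A) : K) * b j = (t : K) * ∑ j, (a i j : K) * b j := by
      rw [Finset.mul_sum]
      refine Finset.sum_congr rfl fun j _ => ?_
      rw [MulMemClass.coe_mul, mul_assoc]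
    have h1 : ∑ j, ((if i = j then s i else 0 : A) : K) * b j = (s i : K) * b i := by
      rw [Finset.sum_eq_single i]
      · rw [if_pos rfl]
      · intro j _ hj
        rw [if_neg (Ne.symm hj), ZeroMemClass.coe_zero, zero_mul]
      · intro h
        exact absurd (Finset.mem_univ i) h
    rw [h1, h2, hrel i]
    ring
  have hcram : ∀ j, (N.det : K) * b j = ∑ i, ((Matrix.adjugate N j i : A) : K) * (e i : K) := by
    intro j
    have h1 : (Matrix.adjugate (f.mapMatrix N)).mulVec ((f.mapMatrix N).mulVec b) =
        (f.mapMatrix N).det • b := by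
      rw [Matrix.mulVec_mulVec, Matrix.adjugate_mul, Matrix.smul_mulVec, Matrix.one_mulVec]
    rw [hNb, ← RingHom.map_det, ← RingHom.map_adjugate] at h1
    have h2 := congrFun h1 j
    simp only [Matrix.mulVec, dotProduct, RingHom.mapMatrix_apply, Matrix.map_apply, hf,
      Pi.smul_apply, smul_eq_mul] at h2
    exact h2.symm
  let I : Ideal A :=
    { carrier := {x | v (x : K) < 1}
      add_mem' := by
        intro x y hx hy
        exact lt_of_le_of_lt (Valuation.map_add _ _ _) (max_lt hx hy)
      zero_mem' := by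
        change v ((0 : A) : K) < 1
        rw [ZeroMemClass.coe_zero, map_zero]
        exact zero_lt_one
      smul_mem' := by
        intro c x hx
        change v ((c * x : A) : K) < 1
        rw [MulMemClass.coe_mul, map_mul]
        calc v (c : K) * v (x : K) ≤ 1 * v (x : K) := mul_le_mul_left (hA _ c.2) _
          _ = v (x : K) := one_mul _
          _ < 1 := hx }
  have hqt : Ideal.Quotient.mk I t = 0 := Ideal.Quotient.eq_zero_iff_mem.mpr ht
  have hqN : (Ideal.Quotient.mk I).mapMatrix N =
      Matrix.diagonal (fun i => Ideal.Quotient.mk I (s i)) := by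
    ext i j
    simp only [RingHom.mapMatrix_apply, Matrix.map_apply, hN, Matrix.sub_apply,
      Matrix.smul_apply, Matrix.of_apply, Matrix.diagonal_apply, map_sub, smul_eq_mul, map_mul,
      hqt, zero_mul, sub_zero]
    split_ifs <;> simp
  have hq : Ideal.Quotient.mk I N.det = Ideal.Quotient.mk I (∏ i, s i) := by
    rw [RingHom.map_det, hqN, Matrix.det_diagonal, map_prod]
  have hmem : N.det - ∏ i, s i ∈ I := Ideal.Quotient.eq.mp hq
  have hmem' : v ((N.det - ∏ i, s i : A) : K) < 1 := hmem
  have hprod : v ((∏ i, s i : A) : K) = 1 := by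
    rw [SubmonoidClass.coe_finset_prod, map_prod]
    exact Finset.prod_eq_one fun i _ => hs i
  refine ⟨(N.det : K), N.det.2, ?_, fun j => ?_⟩
  · have h3 : (N.det : K) = ((∏ i, s i : A) : K) + ((N.det - ∏ i, s i : A) : K) := by
      push_cast
      ring
    rw [h3, Valuation.map_add_eq_of_lt_left, hprod]
    rw [hprod]
    exact hmem'
  · rw [hcram j]
    exact Subalgebra.sum_mem _ fun i _ => Subalgebra.mul_mem _ (Subtype.property _)
      (Subtype.property _)

end Groth.Agent.Lib.Helper18.FF
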