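import Groth.Agent.Lib.Helper18.FF.DistinctOrders
import Mathlib.Algebra.Polynomial.Degree.SmallDegree

/-! # Weierstrass form of a genus-one function field -/

set_option autoImplicit false
set_option linter.style.haveILetI false

namespace Groth.Agent.Lib.Helper18.FF

open FunFld WithZero IntermediateField

universe u v

variable {k : Type u} {K : Type v} [Field k] [Field K] [Algebra k K]

theorem mem_L_single_iff {P : Place k K} {n : ℤ} {z : K} :
    z ∈ L (Finsupp.single P n : Divisor k K) ↔ P.1 z ≤ exp n ∧ ∀ Q : Place k K, Q ≠ P → Q.1 z ≤ 1 := by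
  constructor
  · intro h
    refine ⟨by simpa using h P, fun Q hQ => ?_⟩
    have := h Q
    rwa [Finsupp.single_eq_of_ne hQ, exp_zero] at this
  · rintro ⟨h1, h2⟩ Q
    by_cases hQ : Q = P
    · subst hQ; simpa using h1
    · rw [Finsupp.single_eq_of_ne hQ, exp_zero]; exact h2 Q hQ

theorem ell_single_of_genus_one (hK : IsFunctionField k K) (hg : genus k K = 1) {P : Place k K}
    (hP : P.deg = 1) {n : ℕ} (hn : 1 ≤ n) : ell (Finsupp.single P (n : ℤ) : Divisor k K) = n := by
  have h := ell_eq_of_deg_ge hK (Finsupp.single P (n : ℤ) : Divisor k K) (by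
    rw [deg_single, hP, hg]; push_cast; omega)
  rw [deg_single, hP, hg] at h
  have : (ell (Finsupp.single P (n : ℤ) : Divisor k K) : ℤ) = n := by rw [h]; push_cast; ring
  exact_mod_cast this

theorem not_isGap_of_genus_one (hK : IsFunctionField k K) (hg : genus k K = 1) {P : Place k K}
    (hP : P.deg = 1) {n : ℕ} (hn : 2 ≤ n) : ¬ IsGap P n := by
  intro h
  have h1 := ell_single_of_genus_one hK hg hP (n := n) (by omega)
  have h2 := ell_single_of_genus_one hK hg hP (n := n - 1) (by omega)
  rw [IsGap] at h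
  have e : ((n : ℤ) - 1) = ((n - 1 : ℕ) : ℤ) := by omega
  rw [e] at h
  unfold ell at h1 h2
  rw [h] at h1
  omega

/-- Monomials `x^i y^j` in elements with poles of exact order `2` and `3` at `P`. -/
theorem val_monomial {P : Place k K} {x y : K} (hx : P.1 x = exp (2 : ℤ)) (hy : P.1 y = exp (3 : ℤ))
    (i j : ℕ) : P.1 (x ^ i * y ^ j) = exp ((2 * i + 3 * j : ℕ) : ℤ) := by
  rw [map_mul, map_pow, map_pow, hx, hy, ← exp_nsmul, ← exp_nsmul, ← exp_add]
  congr 1
  push_cast
  simp only [nsmul_eq_mul]
  ring

theorem val_monomial_le_one {Q : Place k K} {x y : K} (hx : Q.1 x ≤ 1) (hy : Q.1 y ≤ 1)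
    (i j : ℕ) : Q.1 (x ^ i * y ^ j) ≤ 1 := by
  rw [map_mul, map_pow, map_pow]
  exact mul_le_one' (pow_le_one' hx i) (pow_le_one' hy j)

/-- Weierstrass form of a function field of genus one with a rational place. -/
theorem genus_one_weierstrass_form (hK : IsFunctionField k K) (hg : genus k K = 1)
    (P₀ : Place k K) (hP : P₀.deg = 1) :
    ∃ x y : K, x ∈ L (Finsupp.single P₀ 2 : Divisor k K) ∧ y ∈ L (Finsupp.single P₀ 3 : Divisor k K) ∧
      P₀.ord x = -2 ∧ P₀.ord y = -3 ∧
      IntermediateField.adjoin k ({x, y} : Set K) = ⊤ ∧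
      ∃ f g : Polynomial k, f.natDegree ≤ 1 ∧ g.natDegree = 3 ∧
        y ^ 2 + Polynomial.aeval x f * y + Polynomial.aeval x g = 0 := by
  classical
  obtain ⟨x, hxL, hxP⟩ := exists_of_not_isGap (not_isGap_of_genus_one hK hg hP (n := 2) le_rfl)
  obtain ⟨y, hyL, hyP⟩ := exists_of_not_isGap (not_isGap_of_genus_one hK hg hP (n := 3) (by norm_num))
  have e2 : ((2 : ℕ) : ℤ) = 2 := by norm_num
  have e3 : ((3 : ℕ) : ℤ) = 3 := by norm_num
  rw [e2] at hxL hxP
  rw [e3] at hyL hyP
  have hx0 : x ≠ 0 := by rintro rfl; rw [map_zero] at hxP; exact exp_ne_zero hxP.symm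
  have hy0 : y ≠ 0 := by rintro rfl; rw [map_zero] at hyP; exact exp_ne_zero hyP.symm
  have hxord : P₀.ord x = -2 := ord_eq_of_val_eq_exp P₀ hxP
  have hyord : P₀.ord y = -3 := ord_eq_of_val_eq_exp P₀ hyP
  have hxQ := (mem_L_single_iff.mp hxL).2
  have hyQ := (mem_L_single_iff.mp hyL).2
  refine ⟨x, y, hxL, hyL, hxord, hyord, ?_, ?_⟩
  · -- `K = k(x, y)` by degrees
    have htrx : Transcendental k x := by
      apply transcendental_of_val_ne_one hK P₀ hx0
      rw [hxP]; intro h; rw [← exp_zero, exp_inj] at h; omega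
    have htry : Transcendental k y := by
      apply transcendental_of_val_ne_one hK P₀ hy0
      rw [hyP]; intro h; rw [← exp_zero, exp_inj] at h; omega
    have hdx := deg_poleDiv_eq hK htrx
    have hdy := deg_poleDiv_eq hK htry
    rw [poleDiv_eq_single hK (n := 2) (by rw [e2]; exact hxL) (by rw [hxord]; norm_num),
      deg_single, hP] at hdx
    rw [poleDiv_eq_single hK (n := 3) (by rw [e3]; exact hyL) (by rw [hyord]; norm_num),
      deg_single, hP] at hdy
    have hdx' : Module.finrank (IntermediateField.adjoin k ({x} : Set K)) K = 2 := by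
      have : ((Module.finrank (IntermediateField.adjoin k ({x} : Set K)) K : ℕ) : ℤ) = 2 := by
        rw [← hdx]; norm_num
      exact_mod_cast this
    have hdy' : Module.finrank (IntermediateField.adjoin k ({y} : Set K)) K = 3 := by
      have : ((Module.finrank (IntermediateField.adjoin k ({y} : Set K)) K : ℕ) : ℤ) = 3 := by
        rw [← hdy]; norm_num
      exact_mod_cast this
    have hle1 : IntermediateField.adjoin k ({x} : Set K) ≤ IntermediateField.adjoin k ({x, y} : Set K) :=
      IntermediateField.adjoin.mono _ _ _ (by intro z hz; rw [Set.mem_singleton_iff] at hz; simp [hz])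
    have hle2 : IntermediateField.adjoin k ({y} : Set K) ≤ IntermediateField.adjoin k ({x, y} : Set K) :=
      IntermediateField.adjoin.mono _ _ _ (by intro z hz; rw [Set.mem_singleton_iff] at hz; simp [hz])
    have h1 := IntermediateField.finrank_dvd_of_le_left hle1 (L := K)
    have h2 := IntermediateField.finrank_dvd_of_le_left hle2 (L := K)
    rw [hdx'] at h1
    rw [hdy'] at h2
    have h3 : Module.finrank (IntermediateField.adjoin k ({x, y} : Set K)) K ∣ 1 := by
      have := Nat.dvd_sub h2 h1
      simpa using this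
    exact IntermediateField.finrank_eq_one_iff_eq_top.mp (Nat.dvd_one.mp h3)
  · -- the cubic relation from `ℓ(6 P₀) = 6`
    let a : Fin 7 → ℕ := ![0, 1, 0, 2, 1, 3, 0]
    let b : Fin 7 → ℕ := ![0, 0, 1, 0, 1, 0, 2]
    let v : Fin 7 → K := fun i => x ^ (a i) * y ^ (b i)
    have hvP : ∀ i, P₀.1 (v i) = exp ((2 * a i + 3 * b i : ℕ) : ℤ) := fun i =>
      val_monomial hxP hyP (a i) (b i)
    have hv0 : ∀ i, v i ≠ 0 := fun i => mul_ne_zero (pow_ne_zero _ hx0) (pow_ne_zero _ hy0)
    have hvL : ∀ i, v i ∈ L (Finsupp.single P₀ ((6 : ℕ) : ℤ) : Divisor k K) := by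
      intro i
      rw [mem_L_single_iff]
      refine ⟨?_, fun Q hQ => val_monomial_le_one (hxQ Q hQ) (hyQ Q hQ) _ _⟩
      rw [hvP, exp_le_exp, Nat.cast_le]
      fin_cases i <;> simp [a, b]
    have h6 := ell_single_of_genus_one hK hg hP (n := 6) (by norm_num)
    haveI := finiteDimensional_L hK (Finsupp.single P₀ ((6 : ℕ) : ℤ) : Divisor k K)
    have hnli : ¬ LinearIndependent k v := by
      intro hli
      have hli' : LinearIndependent k (fun i : Fin 7 =>
          (⟨v i, hvL i⟩ : L (Finsupp.single P₀ ((6 : ℕ) : ℤ) : Divisor k K))) :=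
        LinearIndependent.of_comp (Submodule.subtype _) hli
      have := hli'.fintype_card_le_finrank
      rw [Fintype.card_fin] at this
      unfold ell at h6
      omega
    obtain ⟨c, hc, i₁, hi₁⟩ := Fintype.not_linearIndependent_iff.mp hnli
    -- the coefficients of `y²` and `x³` are nonzero
    have hinj1 : Function.Injective (fun i : Fin 6 => P₀.1 (v (Fin.castSucc i))) := by
      intro i j hij
      simp only [hvP] at hij
      have := Nat.cast_injective (R := ℤ) (exp_injective hij)
      revert this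
      fin_cases i <;> fin_cases j <;> simp [a, b]
    have hinj2 : Function.Injective (fun i : Fin 6 => P₀.1 (v ((5 : Fin 7).succAbove i))) := by
      intro i j hij
      simp only [hvP] at hij
      have := Nat.cast_injective (R := ℤ) (exp_injective hij)
      revert this
      fin_cases i <;> fin_cases j <;> simp [a, b, Fin.succAbove]
    have hc6 : c 6 ≠ 0 := by
      intro h6'
      have hsum : ∑ i : Fin 6, c (Fin.castSucc i) • v (Fin.castSucc i) = 0 := by
        rw [Fin.sum_univ_castSucc] at hc
        have : c (Fin.last 6) = 0 := h6'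
        rw [this, zero_smul, add_zero] at hc
        exact hc
      have hall := eq_zero_of_sum_eq_zero_of_val_injective P₀ (fun i : Fin 6 => v (Fin.castSucc i))
        (fun i => hv0 _) hinj1 (fun i => c (Fin.castSucc i)) hsum
      apply hi₁
      rcases Fin.eq_castSucc_or_eq_last i₁ with ⟨j, rfl⟩ | rfl
      · exact hall j
      · exact h6'
    have hc5 : c 5 ≠ 0 := by
      intro h5'
      have hsum : ∑ i : Fin 6, c ((5 : Fin 7).succAbove i) • v ((5 : Fin 7).succAbove i) = 0 := by
        rw [Fin.sum_univ_succAbove _ (5 : Fin 7)] at hc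
        rw [h5', zero_smul, zero_add] at hc
        exact hc
      have hall := eq_zero_of_sum_eq_zero_of_val_injective P₀
        (fun i : Fin 6 => v ((5 : Fin 7).succAbove i))
        (fun i => hv0 _) hinj2 (fun i => c ((5 : Fin 7).succAbove i)) hsum
      apply hi₁
      rcases Fin.eq_self_or_eq_succAbove (5 : Fin 7) i₁ with rfl | ⟨j, rfl⟩
      · exact h5'
      · exact hall j
    -- normalise
    have hrel : algebraMap k K (c 0) + algebraMap k K (c 1) * x + algebraMap k K (c 2) * y +
        algebraMap k K (c 3) * x ^ 2 + algebraMap k K (c 4) * (x * y) +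
        algebraMap k K (c 5) * x ^ 3 + algebraMap k K (c 6) * y ^ 2 = 0 := by
      rw [Fin.sum_univ_seven] at hc
      simp only [v, a, b, Algebra.smul_def] at hc
      simpa using hc
    set d := (c 6)⁻¹ with hd
    have hdc : algebraMap k K d * algebraMap k K (c 6) = 1 := by
      rw [← map_mul, hd, inv_mul_cancel₀ hc6, map_one]
    refine ⟨Polynomial.C (d * c 4) * Polynomial.X + Polynomial.C (d * c 2),
      Polynomial.C (d * c 5) * Polynomial.X ^ 3 + Polynomial.C (d * c 3) * Polynomial.X ^ 2 +
        Polynomial.C (d * c 1) * Polynomial.X + Polynomial.C (d * c 0),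
      Polynomial.natDegree_linear_le, Polynomial.natDegree_cubic (mul_ne_zero (inv_ne_zero hc6) hc5), ?_⟩
    simp only [map_add, map_mul, Polynomial.aeval_C, Polynomial.aeval_X, map_pow]
    linear_combination (algebraMap k K d) * hrel + (y ^ 2) * (1 - 1) - y ^ 2 * hdc

end Groth.Agent.Lib.Helper18.FF
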