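import Groth.Agent.Lib.Helper18.FF.LinEquiv
import Groth.Agent.Lib.Helper18.FF.Weierstrass

/-! # Hyperplanes of `L(gA)` containing `L((g-2)A)` on an elliptic curve -/

set_option autoImplicit false
set_option linter.style.haveILetI false

namespace Groth.Agent.Lib.Helper18.FF

open FunFld WithZero

universe u v

variable {k : Type u} {K : Type v} [Field k] [Field K] [Algebra k K]

theorem single_mono' (P : Place k K) {m n : ℤ} (h : m ≤ n) :
    (Finsupp.single P m : Divisor k K) ≤ Finsupp.single P n := by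
  classical
  intro R
  simp only [Finsupp.single_apply]
  split_ifs <;> omega

theorem weight_at_pole [IsAlgClosed k] (hK : IsFunctionField k K) (hg1 : genus k K = 1)
    (g : ℕ) (h3 : 3 ≤ g) (A : Place k K)
    (V₁ : Submodule k K) (hlo : L (Finsupp.single A ((g : ℤ) - 2) : Divisor k K) ≤ V₁)
    (hhi : V₁ ≤ L (Finsupp.single A (g : ℤ) : Divisor k K))
    (hdim : Module.finrank k ↥V₁ + 1 = g) :
    ∃ ε : ℕ, ε ≤ 1 ∧
      (∑ n ∈ Finset.range (2 * g - 2), Module.finrank k
        ↥(V₁ ⊓ L (Finsupp.single A (2 * (g : ℤ) - 2) - Finsupp.single A ((n : ℤ) + 1) :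
          Divisor k K))) =
      (g - 1).choose 2 + (g - 1) ^ 2 + ε := by
  obtain ⟨h, rfl⟩ : ∃ h, g = h + 3 := ⟨g - 3, by omega⟩
  have hA := deg_eq_one_of_isAlgClosed hK A
  haveI := finiteDimensional_L hK (Finsupp.single A ((h + 3 : ℕ) : ℤ) : Divisor k K)
  haveI : FiniteDimensional k ↥V₁ := Submodule.finiteDimensional_of_le hhi
  obtain ⟨T, hT⟩ : ∃ T : ℕ → ℕ, ∀ m : ℕ,
      T m = Module.finrank k ↥(V₁ ⊓ L (Finsupp.single A (m : ℤ) : Divisor k K)) :=
    ⟨_, fun _ => rfl⟩
  have hell : ∀ m : ℕ, 1 ≤ m → Module.finrank k ↥(L (Finsupp.single A (m : ℤ) : Divisor k K)) = m :=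
    fun m hm => ell_single_of_genus_one hK hg1 hA hm
  -- low range
  have hTlow : ∀ m : ℕ, m ≤ h + 1 → T m = if m = 0 then 1 else m := by
    intro m hm
    have hle : L (Finsupp.single A (m : ℤ) : Divisor k K) ≤ V₁ :=
      (L_mono (single_mono' A (by push_cast; omega))).trans hlo
    rw [hT, inf_eq_right.mpr hle]
    by_cases hm0 : m = 0
    · rw [if_pos hm0, hm0, Nat.cast_zero, Finsupp.single_zero]
      exact ell_zero hK
    · rw [if_neg hm0]
      exact hell m (by omega)
  -- high range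
  have hThigh : ∀ m : ℕ, h + 3 ≤ m → T m = h + 2 := by
    intro m hm
    have hle : V₁ ≤ L (Finsupp.single A (m : ℤ) : Divisor k K) :=
      hhi.trans (L_mono (single_mono' A (by push_cast; omega)))
    rw [hT, inf_eq_left.mpr hle]
    omega
  -- middle
  have hTmid1 : h + 1 ≤ T (h + 2) := by
    rw [hT]
    have hle : L (Finsupp.single A ((h + 1 : ℕ) : ℤ) : Divisor k K) ≤
        V₁ ⊓ L (Finsupp.single A ((h + 2 : ℕ) : ℤ) : Divisor k K) := by
      refine le_inf ?_ (L_mono (single_mono' A (by push_cast; omega)))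
      refine le_trans (le_of_eq ?_) hlo
      congr 2
      push_cast; ring
    haveI : FiniteDimensional k
        ↥(V₁ ⊓ L (Finsupp.single A ((h + 2 : ℕ) : ℤ) : Divisor k K)) :=
      Submodule.finiteDimensional_of_le inf_le_left
    have := Submodule.finrank_mono hle
    rw [hell (h + 1) (by omega)] at this
    exact this
  have hTmid2 : T (h + 2) ≤ h + 2 := by
    rw [hT]
    have := Submodule.finrank_mono
      (inf_le_left : V₁ ⊓ L (Finsupp.single A ((h + 2 : ℕ) : ℤ) : Divisor k K) ≤ V₁)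
    omega
  refine ⟨T (h + 2) - (h + 1), by omega, ?_⟩
  -- rewrite the sum in terms of `T`
  have hsum1 : (∑ n ∈ Finset.range (2 * (h + 3) - 2), Module.finrank k
        ↥(V₁ ⊓ L (Finsupp.single A (2 * ((h + 3 : ℕ) : ℤ) - 2) - Finsupp.single A ((n : ℤ) + 1) :
          Divisor k K))) = ∑ n ∈ Finset.range (2 * (h + 3) - 2), T (2 * (h + 3) - 2 - 1 - n) := by
    apply Finset.sum_congr rfl
    intro n hn
    have hn' := Finset.mem_range.mp hn
    have e : 2 * ((h + 3 : ℕ) : ℤ) - 2 - ((n : ℤ) + 1) = ((2 * (h + 3) - 2 - 1 - n : ℕ) : ℤ) := by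
      omega
    rw [hT, ← Finsupp.single_sub, e]
  rw [hsum1, Finset.sum_range_reflect T (2 * (h + 3) - 2)]
  have e : 2 * (h + 3) - 2 = (h + 2) + 1 + (h + 1) := by omega
  rw [e, Finset.sum_range_add, Finset.sum_range_succ]
  have hs1 : ∑ x ∈ Finset.range (h + 2), T x = 1 + ∑ x ∈ Finset.range (h + 2), x := by
    rw [Finset.sum_range_succ' T, Finset.sum_range_succ' (fun x => x)]
    rw [hTlow 0 (by omega), if_pos rfl]
    have : ∑ x ∈ Finset.range (h + 1), T (x + 1) = ∑ x ∈ Finset.range (h + 1), (x + 1) := by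
      apply Finset.sum_congr rfl
      intro x hx
      have := Finset.mem_range.mp hx
      rw [hTlow (x + 1) (by omega), if_neg (by omega)]
    rw [this]
    ring
  have hs2 : ∑ x ∈ Finset.range (h + 1), T (h + 2 + 1 + x) = (h + 1) * (h + 2) := by
    rw [Finset.sum_congr rfl (fun x _ => hThigh (h + 2 + 1 + x) (by omega))]
    simp
  have hs3 := Finset.sum_range_id_mul_two (h + 2)
  rw [hs1, hs2, Nat.choose_two_right]
  have e2 : h + 3 - 1 = h + 2 := by omega
  have e3 : h + 2 - 1 = h + 1 := by omega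
  rw [e2, e3]
  rw [e3] at hs3
  have hs4 : (h + 2) * (h + 1) / 2 = ∑ i ∈ Finset.range (h + 2), i := by
    rw [← hs3, Nat.mul_div_cancel _ (by norm_num)]
  rw [hs4]
  have : (h + 2) ^ 2 = (h + 1) * (h + 2) + (h + 2) := by ring
  rw [this]
  omega


section offPole

variable [IsAlgClosed k] (hK : IsFunctionField k K) (hg1 : genus k K = 1) (A Q : Place k K)

include hK in
theorem deg_single_sub_single (a j : ℤ) :
    Divisor.deg (Finsupp.single A a - Finsupp.single Q j : Divisor k K) = a - j := by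
  rw [deg_sub, deg_single, deg_single, deg_eq_one_of_isAlgClosed hK A,
    deg_eq_one_of_isAlgClosed hK Q]
  push_cast; ring

include hK hg1 in
theorem ell_single_sub_single_of_pos (a j : ℤ) (h : 1 ≤ a - j) :
    (ell (Finsupp.single A a - Finsupp.single Q j : Divisor k K) : ℤ) = a - j := by
  have := ell_eq_of_deg_ge hK (Finsupp.single A a - Finsupp.single Q j : Divisor k K) (by
    rw [deg_single_sub_single hK, hg1]; push_cast; omega)
  rw [deg_single_sub_single hK, hg1] at this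
  rw [this]; push_cast; ring

include hK in
theorem ell_single_sub_single_of_neg (a j : ℤ) (h : a - j < 0) :
    ell (Finsupp.single A a - Finsupp.single Q j : Divisor k K) = 0 := by
  unfold ell
  rw [L_eq_bot_of_deg_neg hK _ (by rw [deg_single_sub_single hK]; exact h), finrank_bot]

include hK in
theorem ell_single_sub_single_self_le (a : ℤ) :
    ell (Finsupp.single A a - Finsupp.single Q a : Divisor k K) ≤ 1 := by
  have := ell_le_deg_add_one hK (D := (Finsupp.single A a - Finsupp.single Q a : Divisor k K))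
    (by rw [deg_single_sub_single hK]; omega)
  rw [deg_single_sub_single hK, sub_self] at this
  exact_mod_cast this

omit [IsAlgClosed k] in
theorem div_pow (hK : IsFunctionField k K) {x : K} (hx : x ≠ 0) (n : ℕ) :
    FunFld.div k (x ^ n) = n • FunFld.div k x := by
  induction n with
  | zero => rw [pow_zero, div_one hK, zero_smul]
  | succ n ih => rw [pow_succ, div_mul hK (pow_ne_zero n hx) hx, ih, succ_nsmul]

include hK hg1 in
/-- `g(A - Q)` and `(g-2)(A - Q)` are not both principal when `g` is odd and `Q ≠ A`. -/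
theorem not_both_torsion (hQ : Q ≠ A) (m : ℕ)
    (h1 : 0 < ell (Finsupp.single A ((2 * m + 1 : ℕ) : ℤ) -
      Finsupp.single Q ((2 * m + 1 : ℕ) : ℤ) : Divisor k K))
    (h2 : 0 < ell (Finsupp.single A ((2 * m + 1 : ℕ) - 2 : ℤ) -
      Finsupp.single Q ((2 * m + 1 : ℕ) - 2 : ℤ) : Divisor k K)) : False := by
  classical
  obtain ⟨f₁, hf₁0, hf₁⟩ := exists_div_of_deg_zero_of_ell_pos hK
    (by rw [deg_single_sub_single hK, sub_self]) h1
  obtain ⟨f₂, hf₂0, hf₂⟩ := exists_div_of_deg_zero_of_ell_pos hK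
    (by rw [deg_single_sub_single hK, sub_self]) h2
  have e₁ : FunFld.div k f₁ = Finsupp.single Q ((2 * m + 1 : ℕ) : ℤ) -
      Finsupp.single A ((2 * m + 1 : ℕ) : ℤ) := by
    have : FunFld.div k f₁ = (Finsupp.single A ((2 * m + 1 : ℕ) : ℤ) -
      Finsupp.single Q ((2 * m + 1 : ℕ) : ℤ) + FunFld.div k f₁) +
      (Finsupp.single Q ((2 * m + 1 : ℕ) : ℤ) - Finsupp.single A ((2 * m + 1 : ℕ) : ℤ)) := by
      abel
    rw [this, hf₁, zero_add]
  have e₂ : FunFld.div k f₂ = Finsupp.single Q ((2 * m + 1 : ℕ) - 2 : ℤ) -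
      Finsupp.single A ((2 * m + 1 : ℕ) - 2 : ℤ) := by
    have : FunFld.div k f₂ = (Finsupp.single A ((2 * m + 1 : ℕ) - 2 : ℤ) -
      Finsupp.single Q ((2 * m + 1 : ℕ) - 2 : ℤ) + FunFld.div k f₂) +
      (Finsupp.single Q ((2 * m + 1 : ℕ) - 2 : ℤ) - Finsupp.single A ((2 * m + 1 : ℕ) - 2 : ℤ)) := by
      abel
    rw [this, hf₂, zero_add]
  have hw0 : f₁ * f₂⁻¹ ≠ 0 := mul_ne_zero hf₁0 (inv_ne_zero hf₂0)
  have ez : FunFld.div k (f₁ * ((f₁ * f₂⁻¹) ^ m)⁻¹) =
      Finsupp.single Q (1 : ℤ) - Finsupp.single A (1 : ℤ) := by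
    rw [div_mul hK hf₁0 (inv_ne_zero (pow_ne_zero m hw0)), div_inv hK, div_pow hK hw0,
      div_mul hK hf₁0 (inv_ne_zero hf₂0), div_inv hK, e₁, e₂]
    ext R
    simp only [Finsupp.add_apply, Finsupp.sub_apply, Finsupp.neg_apply, Finsupp.smul_apply,
      Finsupp.single_apply, smul_eq_mul, nsmul_eq_mul]
    split_ifs <;> push_cast <;> ring
  have hA1 : ell (Finsupp.single A (1 : ℤ) : Divisor k K) = 1 := by
    have h1 := ell_le_one_of_deg_eq_one hK (by omega : 0 < genus k K)
      (E := (Finsupp.single A (1 : ℤ) : Divisor k K))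
      (by rw [deg_single, deg_eq_one_of_isAlgClosed hK A]; norm_num)
    have h2 := ell_pos_of_nonneg hK (single_nonneg' A (by norm_num : (0 : ℤ) ≤ 1))
    omega
  have hnn : (0 : Divisor k K) ≤ Finsupp.single A (1 : ℤ) +
      FunFld.div k (f₁ * ((f₁ * f₂⁻¹) ^ m)⁻¹) := by
    rw [ez]
    have : Finsupp.single A (1 : ℤ) + (Finsupp.single Q (1 : ℤ) - Finsupp.single A (1 : ℤ)) =
        (Finsupp.single Q (1 : ℤ) : Divisor k K) := by abel
    rw [this]
    exact single_nonneg' Q (by norm_num)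
  have hz := div_eq_zero_of_nonneg_of_ell_eq_one hK (single_nonneg' A (by norm_num)) hA1
    (mul_ne_zero hf₁0 (inv_ne_zero (pow_ne_zero m hw0))) hnn
  rw [ez] at hz
  have := DFunLike.congr_fun hz Q
  simp only [Finsupp.sub_apply, Finsupp.single_apply, Finsupp.zero_apply, if_neg hQ.symm,
    if_true] at this
  omega

end offPole


theorem weight_off_pole [IsAlgClosed k] (hK : IsFunctionField k K) (hg1 : genus k K = 1)
    (g : ℕ) (hodd : Odd g) (h3 : 3 ≤ g) (A : Place k K)
    (V₁ : Submodule k K) (hlo : L (Finsupp.single A ((g : ℤ) - 2) : Divisor k K) ≤ V₁)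
    (hhi : V₁ ≤ L (Finsupp.single A (g : ℤ) : Divisor k K))
    (hdim : Module.finrank k ↥V₁ + 1 = g) (Q : Place k K) (hQ : Q ≠ A) :
    (∑ n ∈ Finset.range (2 * g - 2), Module.finrank k
        ↥(V₁ ⊓ L (Finsupp.single A (2 * (g : ℤ) - 2) - Finsupp.single Q ((n : ℤ) + 1) :
          Divisor k K))) ≤ (g - 1).choose 2 + 2 := by
  classical
  obtain ⟨m, hm⟩ := hodd
  obtain ⟨h, rfl⟩ : ∃ h, g = h + 3 := ⟨g - 3, by omega⟩
  have hA := deg_eq_one_of_isAlgClosed hK A
  haveI := finiteDimensional_L hK (Finsupp.single A ((h + 3 : ℕ) : ℤ) : Divisor k K)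
  haveI : FiniteDimensional k ↥V₁ := Submodule.finiteDimensional_of_le hhi
  have e2 : ((h + 3 : ℕ) : ℤ) - 2 = ((h + 1 : ℕ) : ℤ) := by push_cast; ring
  rw [e2] at hlo
  have hell1 : Module.finrank k ↥(L (Finsupp.single A ((h + 1 : ℕ) : ℤ) : Divisor k K)) = h + 1 :=
    ell_single_of_genus_one hK hg1 hA (by omega)
  -- the torsion numbers
  have ht := ell_single_sub_single_self_le hK A Q ((h + 3 : ℕ) : ℤ)
  have ht' := ell_single_sub_single_self_le hK A Q ((h + 1 : ℕ) : ℤ)
  have htt' : ell (Finsupp.single A ((h + 3 : ℕ) : ℤ) - Finsupp.single Q ((h + 3 : ℕ) : ℤ) :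
      Divisor k K) + ell (Finsupp.single A ((h + 1 : ℕ) : ℤ) -
      Finsupp.single Q ((h + 1 : ℕ) : ℤ) : Divisor k K) ≤ 1 := by
    by_contra hcon
    push Not at hcon
    have h1 : 0 < ell (Finsupp.single A ((h + 3 : ℕ) : ℤ) - Finsupp.single Q ((h + 3 : ℕ) : ℤ) :
      Divisor k K) := by omega
    have h2 : 0 < ell (Finsupp.single A ((h + 1 : ℕ) : ℤ) -
      Finsupp.single Q ((h + 1 : ℕ) : ℤ) : Divisor k K) := by omega
    rw [← e2] at h2
    rw [hm] at h1 h2
    exact not_both_torsion hK hg1 A Q hQ m h1 h2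
  -- `U j ≤ dim (V₁ ∩ X j)`
  have hF1 : ∀ j : ℕ, Module.finrank k ↥(V₁ ⊓ L (Finsupp.single A (2 * ((h + 3 : ℕ) : ℤ) - 2) -
      Finsupp.single Q (j : ℤ) : Divisor k K)) ≤
      Module.finrank k ↥(V₁ ⊓ L (Finsupp.single A ((h + 3 : ℕ) : ℤ) -
        Finsupp.single Q (j : ℤ) : Divisor k K)) := by
    intro j
    haveI : FiniteDimensional k ↥(V₁ ⊓ L (Finsupp.single A ((h + 3 : ℕ) : ℤ) -
        Finsupp.single Q (j : ℤ) : Divisor k K)) := Submodule.finiteDimensional_of_le inf_le_left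
    apply Submodule.finrank_mono
    rintro x ⟨hxV, hx⟩
    refine ⟨hxV, L_inf_le ?_ ⟨hhi hxV, hx⟩⟩
    intro R
    simp only [Finsupp.sub_apply, Finsupp.single_apply]
    by_cases hRA : A = R
    · have hRQ : ¬ Q = R := fun h' => hQ (h'.trans hRA.symm)
      simp only [if_pos hRA, if_neg hRQ]
      push_cast
      omega
    · by_cases hRQ : Q = R
      · simp only [if_neg hRA, if_pos hRQ]
        omega
      · simp only [if_neg hRA, if_neg hRQ]
        omega
  have hB1 : ∀ j : ℕ, Module.finrank k ↥(V₁ ⊓ L (Finsupp.single A ((h + 3 : ℕ) : ℤ) -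
        Finsupp.single Q (j : ℤ) : Divisor k K)) ≤
      ell (Finsupp.single A ((h + 3 : ℕ) : ℤ) - Finsupp.single Q (j : ℤ) : Divisor k K) := by
    intro j
    haveI := finiteDimensional_L hK (Finsupp.single A ((h + 3 : ℕ) : ℤ) -
      Finsupp.single Q (j : ℤ) : Divisor k K)
    exact Submodule.finrank_mono inf_le_right
  have hB2 : ∀ j : ℕ, ell (Finsupp.single A ((h + 1 : ℕ) : ℤ) - Finsupp.single Q (j : ℤ) :
        Divisor k K) + 2 ≤
      ell (Finsupp.single A ((h + 3 : ℕ) : ℤ) - Finsupp.single Q (j : ℤ) : Divisor k K) →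
      Module.finrank k ↥(V₁ ⊓ L (Finsupp.single A ((h + 3 : ℕ) : ℤ) -
        Finsupp.single Q (j : ℤ) : Divisor k K)) + 1 ≤
      ell (Finsupp.single A ((h + 3 : ℕ) : ℤ) - Finsupp.single Q (j : ℤ) : Divisor k K) := by
    intro j hj
    by_contra hcon
    push Not at hcon
    haveI := finiteDimensional_L hK (Finsupp.single A ((h + 3 : ℕ) : ℤ) -
      Finsupp.single Q (j : ℤ) : Divisor k K)
    haveI := finiteDimensional_L hK (Finsupp.single A ((h + 1 : ℕ) : ℤ) : Divisor k K)
    haveI := finiteDimensional_L hK (Finsupp.single A ((h + 1 : ℕ) : ℤ) -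
      Finsupp.single Q (j : ℤ) : Divisor k K)
    have heq : V₁ ⊓ L (Finsupp.single A ((h + 3 : ℕ) : ℤ) - Finsupp.single Q (j : ℤ) :
        Divisor k K) = L (Finsupp.single A ((h + 3 : ℕ) : ℤ) - Finsupp.single Q (j : ℤ) :
        Divisor k K) := by
      apply Submodule.eq_of_le_of_finrank_eq inf_le_right
      have := hB1 j
      have h' : Module.finrank k ↥(L (Finsupp.single A ((h + 3 : ℕ) : ℤ) -
        Finsupp.single Q (j : ℤ) : Divisor k K)) = ell (Finsupp.single A ((h + 3 : ℕ) : ℤ) -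
        Finsupp.single Q (j : ℤ) : Divisor k K) := rfl
      omega
    have hXV : L (Finsupp.single A ((h + 3 : ℕ) : ℤ) - Finsupp.single Q (j : ℤ) :
        Divisor k K) ≤ V₁ := inf_eq_right.mp heq
    have h1 := Submodule.finrank_sup_add_finrank_inf_eq
      (L (Finsupp.single A ((h + 3 : ℕ) : ℤ) - Finsupp.single Q (j : ℤ) : Divisor k K))
      (L (Finsupp.single A ((h + 1 : ℕ) : ℤ) : Divisor k K))
    have h2 : Module.finrank k ↥(L (Finsupp.single A ((h + 3 : ℕ) : ℤ) -
        Finsupp.single Q (j : ℤ) : Divisor k K) ⊔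
        L (Finsupp.single A ((h + 1 : ℕ) : ℤ) : Divisor k K)) ≤ Module.finrank k ↥V₁ :=
      Submodule.finrank_mono (sup_le hXV hlo)
    have h3 : Module.finrank k ↥(L (Finsupp.single A ((h + 3 : ℕ) : ℤ) -
        Finsupp.single Q (j : ℤ) : Divisor k K) ⊓
        L (Finsupp.single A ((h + 1 : ℕ) : ℤ) : Divisor k K)) ≤
        Module.finrank k ↥(L (Finsupp.single A ((h + 1 : ℕ) : ℤ) - Finsupp.single Q (j : ℤ) :
          Divisor k K)) := by
      apply Submodule.finrank_mono
      apply L_inf_le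
      intro R
      simp only [Finsupp.sub_apply, Finsupp.single_apply]
      by_cases hRA : A = R
      · have hRQ : ¬ Q = R := fun h' => hQ (h'.trans hRA.symm)
        simp only [if_pos hRA, if_neg hRQ]
        push_cast
        omega
      · by_cases hRQ : Q = R
        · simp only [if_neg hRA, if_pos hRQ]
          omega
        · simp only [if_neg hRA, if_neg hRQ]
          omega
    have h4 : Module.finrank k ↥(L (Finsupp.single A ((h + 3 : ℕ) : ℤ) -
        Finsupp.single Q (j : ℤ) : Divisor k K)) = ell (Finsupp.single A ((h + 3 : ℕ) : ℤ) -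
        Finsupp.single Q (j : ℤ) : Divisor k K) := rfl
    have h5 : Module.finrank k ↥(L (Finsupp.single A ((h + 1 : ℕ) : ℤ) -
        Finsupp.single Q (j : ℤ) : Divisor k K)) = ell (Finsupp.single A ((h + 1 : ℕ) : ℤ) -
        Finsupp.single Q (j : ℤ) : Divisor k K) := rfl
    omega
  -- the individual bounds
  obtain ⟨U, hU⟩ : ∃ U : ℕ → ℕ, ∀ n : ℕ, U n = Module.finrank k
      ↥(V₁ ⊓ L (Finsupp.single A (2 * ((h + 3 : ℕ) : ℤ) - 2) - Finsupp.single Q ((n : ℤ) + 1) :
        Divisor k K)) := ⟨_, fun _ => rfl⟩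
  have hUle : ∀ n : ℕ, U n ≤ Module.finrank k ↥(V₁ ⊓ L (Finsupp.single A ((h + 3 : ℕ) : ℤ) -
        Finsupp.single Q ((n + 1 : ℕ) : ℤ) : Divisor k K)) := by
    intro n
    have e : ((n + 1 : ℕ) : ℤ) = (n : ℤ) + 1 := by push_cast; ring
    rw [hU, ← e]
    exact hF1 (n + 1)
  have hx : ∀ j : ℕ, j ≤ h + 2 → ell (Finsupp.single A ((h + 3 : ℕ) : ℤ) -
      Finsupp.single Q (j : ℤ) : Divisor k K) = h + 3 - j := by
    intro j hj
    have := ell_single_sub_single_of_pos hK hg1 A Q ((h + 3 : ℕ) : ℤ) (j : ℤ)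
      (by push_cast; omega)
    have h' : (ell (Finsupp.single A ((h + 3 : ℕ) : ℤ) -
      Finsupp.single Q (j : ℤ) : Divisor k K) : ℤ) = ((h + 3 - j : ℕ) : ℤ) := by
      rw [this]; push_cast; omega
    exact_mod_cast h'
  have hy : ∀ j : ℕ, j ≤ h → ell (Finsupp.single A ((h + 1 : ℕ) : ℤ) -
      Finsupp.single Q (j : ℤ) : Divisor k K) = h + 1 - j := by
    intro j hj
    have := ell_single_sub_single_of_pos hK hg1 A Q ((h + 1 : ℕ) : ℤ) (j : ℤ)
      (by push_cast; omega)
    have h' : (ell (Finsupp.single A ((h + 1 : ℕ) : ℤ) -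
      Finsupp.single Q (j : ℤ) : Divisor k K) : ℤ) = ((h + 1 - j : ℕ) : ℤ) := by
      rw [this]; push_cast; omega
    exact_mod_cast h'
  have hU1 : ∀ n : ℕ, n < h → U n ≤ h + 1 - n := by
    intro n hn
    have h1 := hB2 (n + 1) (by rw [hy (n + 1) (by omega), hx (n + 1) (by omega)]; omega)
    rw [hx (n + 1) (by omega)] at h1
    have := hUle n
    omega
  have hU2 : U h ≤ 1 + ell (Finsupp.single A ((h + 1 : ℕ) : ℤ) -
      Finsupp.single Q ((h + 1 : ℕ) : ℤ) : Divisor k K) := by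
    have := hUle h
    by_cases h0 : ell (Finsupp.single A ((h + 1 : ℕ) : ℤ) -
      Finsupp.single Q ((h + 1 : ℕ) : ℤ) : Divisor k K) = 0
    · have h1 := hB2 (h + 1) (by rw [h0, hx (h + 1) (by omega)]; omega)
      rw [hx (h + 1) (by omega)] at h1
      omega
    · have h1 := hB1 (h + 1)
      rw [hx (h + 1) (by omega)] at h1
      omega
  have hU3 : U (h + 1) ≤ 1 := by
    have := hUle (h + 1)
    have h1 := hB1 (h + 1 + 1)
    rw [hx (h + 1 + 1) (by omega)] at h1
    omega
  have hU4 : U (h + 2) ≤ ell (Finsupp.single A ((h + 3 : ℕ) : ℤ) -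
      Finsupp.single Q ((h + 3 : ℕ) : ℤ) : Divisor k K) := by
    have := hUle (h + 2)
    have h1 := hB1 (h + 2 + 1)
    exact this.trans h1
  have hU5 : ∀ n : ℕ, h + 3 ≤ n → U n = 0 := by
    intro n hn
    have := hUle n
    have h1 := hB1 (n + 1)
    rw [ell_single_sub_single_of_neg hK A Q _ _ (by push_cast; omega)] at h1
    omega
  -- sum up
  have hsum : (∑ n ∈ Finset.range (2 * (h + 3) - 2), Module.finrank k
        ↥(V₁ ⊓ L (Finsupp.single A (2 * ((h + 3 : ℕ) : ℤ) - 2) - Finsupp.single Q ((n : ℤ) + 1) :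
          Divisor k K))) = ∑ n ∈ Finset.range (2 * (h + 3) - 2), U n :=
    Finset.sum_congr rfl (fun n _ => (hU n).symm)
  rw [hsum]
  have e : 2 * (h + 3) - 2 = h + 1 + 1 + 1 + (h + 1) := by omega
  rw [e, Finset.sum_range_add, Finset.sum_range_succ, Finset.sum_range_succ, Finset.sum_range_succ]
  have hs0 : ∑ x ∈ Finset.range (h + 1), U (h + 1 + 1 + 1 + x) = 0 :=
    Finset.sum_eq_zero (fun x _ => hU5 _ (by omega))
  have hs1 : ∑ x ∈ Finset.range h, U x ≤ ∑ x ∈ Finset.range h, (x + 2) := by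
    rw [← Finset.sum_range_reflect (fun x => x + 2) h]
    apply Finset.sum_le_sum
    intro x hx'
    have := Finset.mem_range.mp hx'
    have := hU1 x this
    omega
  have hs2 : ∑ x ∈ Finset.range h, (x + 2) = (∑ x ∈ Finset.range h, x) + 2 * h := by
    rw [Finset.sum_add_distrib]
    simp [mul_comm]
  have hs3 := Finset.sum_range_id_mul_two (h + 2)
  have hs4 : (h + 3 - 1).choose 2 = ∑ i ∈ Finset.range (h + 2), i := by
    have e3 : h + 3 - 1 = h + 2 := by omega
    rw [e3, Nat.choose_two_right, ← hs3, Nat.mul_div_cancel _ (by norm_num)]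
  have hs5 : ∑ i ∈ Finset.range (h + 2), i = (∑ i ∈ Finset.range h, i) + h + (h + 1) := by
    rw [Finset.sum_range_succ, Finset.sum_range_succ]
  rw [hs4, hs5, hs0]
  omega

end Groth.Agent.Lib.Helper18.FF
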