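import Groth.Agent.Lib.Helper18.FF.TwoPoint

/-! # A small toolkit for linear equivalence arguments -/

set_option autoImplicit false
set_option linter.style.haveILetI false

namespace Groth.Agent.Lib.Helper18.FF

open FunFld WithZero

universe u v

variable {k : Type u} {K : Type v} [Field k] [Field K] [Algebra k K]

/-- A divisor of degree zero with `ℓ > 0` is principal (up to sign). -/
theorem exists_div_of_deg_zero_of_ell_pos (hK : IsFunctionField k K) {E : Divisor k K}
    (hdeg : E.deg = 0) (hℓ : 0 < ell E) : ∃ f : K, f ≠ 0 ∧ E + FunFld.div k f = 0 := by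
  obtain ⟨f, hf0, hf⟩ := exists_ne_zero_mem_L_of_ell_pos hℓ
  have h1 := (mem_L_iff_div hK _ hf0).mp hf
  exact ⟨f, hf0, eq_zero_of_nonneg_of_deg_le hK h1 (by rw [deg_add_div hK, hdeg])⟩

/-- A divisor of degree one with `ℓ > 0` is equivalent to a place. -/
theorem exists_place_of_deg_one_of_ell_pos (hK : IsFunctionField k K) {E : Divisor k K}
    (hdeg : E.deg = 1) (hℓ : 0 < ell E) :
    ∃ f : K, f ≠ 0 ∧ ∃ R : Place k K, E + FunFld.div k f = Finsupp.single R 1 := by
  obtain ⟨f, hf0, hf⟩ := exists_ne_zero_mem_L_of_ell_pos hℓ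
  have h1 := (mem_L_iff_div hK _ hf0).mp hf
  obtain ⟨R, hR, -⟩ := exists_single_of_nonneg_of_deg_eq_one hK h1 (by rw [deg_add_div hK, hdeg])
  exact ⟨f, hf0, R, hR⟩

theorem div_algebraMap (hK : IsFunctionField k K) (c : k) :
    FunFld.div k (algebraMap k K c) = 0 := by
  ext P
  rw [div_apply hK, ord_algebraMap, Finsupp.zero_apply]

/-- If `E ≥ 0` and `ℓ(E) = 1` then `L(E)` consists of constants. -/
theorem div_eq_zero_of_mem_L_of_ell_eq_one (hK : IsFunctionField k K) {E : Divisor k K}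
    (hE : 0 ≤ E) (hℓ : ell E = 1) {f : K} (hf : f ∈ L E) : FunFld.div k f = 0 := by
  haveI := finiteDimensional_L hK E
  have h1 : (1 : K) ∈ L E := one_mem_L_of_nonneg hE
  obtain ⟨c, hc⟩ := exists_smul_eq_of_finrank_le_one (U := L E) (by
    have : Module.finrank k ↥(L E) = ell E := rfl
    omega) hf h1 one_ne_zero
  rw [hc, Algebra.smul_def, mul_one, div_algebraMap hK]

/-- If `E + div f ≥ 0`, `E ≥ 0` and `ℓ(E) = 1` then `div f = 0`. -/
theorem div_eq_zero_of_nonneg_of_ell_eq_one (hK : IsFunctionField k K) {E : Divisor k K}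
    (hE : 0 ≤ E) (hℓ : ell E = 1) {f : K} (hf0 : f ≠ 0) (hf : 0 ≤ E + FunFld.div k f) :
    FunFld.div k f = 0 :=
  div_eq_zero_of_mem_L_of_ell_eq_one hK hE hℓ ((mem_L_iff_div hK E hf0).mpr hf)

/-- In genus two a divisor of degree two with `ℓ ≥ 2` is canonical. -/
theorem exists_div_of_deg_two_of_ell_two (hK : IsFunctionField k K) (hg : genus k K = 2)
    {C : Divisor k K} (hC : IsCanonical k K C) {E : Divisor k K} (hdeg : E.deg = 2)
    (hℓ : 2 ≤ ell E) : ∃ h : K, h ≠ 0 ∧ C - E + FunFld.div k h = 0 := by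
  have hrr := riemann_roch hK hC E
  rw [hdeg, hg] at hrr
  have hdC := deg_canonical hK hC
  rw [hg] at hdC
  apply exists_div_of_deg_zero_of_ell_pos hK
  · rw [deg_sub, hdC, hdeg]; norm_num
  · have : (2 : ℤ) ≤ ell E := by exact_mod_cast hℓ
    have : (0 : ℤ) < ell (C - E) := by push_cast at hrr; linarith
    exact_mod_cast this

theorem single_nonneg' (P : Place k K) {n : ℤ} (hn : 0 ≤ n) :
    (0 : Divisor k K) ≤ Finsupp.single P n := by
  classical
  intro R
  simp only [Finsupp.coe_zero, Pi.zero_apply, Finsupp.single_apply]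
  split_ifs <;> omega

end Groth.Agent.Lib.Helper18.FF
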