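import Groth.Agent.Lib.Helper18.FF.Backbone

/-! # Pencils on a rational curve with a cusp -/

set_option autoImplicit false
set_option linter.style.haveILetI false

namespace Groth.Agent.Lib.Helper18.FF

open FunFld WithZero

universe u v

variable {k : Type u} {K : Type v} [Field k] [Field K] [Algebra k K]

theorem sum_range_ite_lt (d a : ℕ) (h : a ≤ d) :
    ∑ j ∈ Finset.range d, (if j < a then 1 else 0) = a := by
  rw [Finset.sum_boole]
  have : (Finset.range d).filter (fun j => j < a) = Finset.range a := by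
    ext j
    simp only [Finset.mem_filter, Finset.mem_range]
    omega
  rw [this]
  simp

/-- Vanishing order of a member of `L(D)` at a place. -/
theorem mem_L_sub_single_iff (hK : IsFunctionField k K) (D : Divisor k K) {f : K} (hf0 : f ≠ 0)
    (hfD : f ∈ L D) (P : Place k K) (n : ℤ) :
    f ∈ L (D - Finsupp.single P n) ↔ n ≤ (D + FunFld.div k f) P := by
  have h0 := (mem_L_iff_div hK D hf0).mp hfD
  rw [mem_L_iff_div hK _ hf0]
  constructor
  · intro h
    have := h P
    simp only [Finsupp.coe_zero, Pi.zero_apply, Finsupp.add_apply, Finsupp.sub_apply,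
      Finsupp.single_eq_same] at this ⊢
    omega
  · intro h R
    have h1 := h0 R
    simp only [Finsupp.coe_zero, Pi.zero_apply, Finsupp.add_apply, Finsupp.sub_apply] at h h1 ⊢
    by_cases hR : R = P
    · subst hR
      rw [Finsupp.single_eq_same]
      omega
    · rw [Finsupp.single_eq_of_ne hR]
      omega

/-- The degree of a divisor supported at two places. -/
theorem deg_of_support_pair (E : Divisor k K) (P P' : Place k K) (hPP' : P ≠ P')
    (hE : ∀ R : Place k K, R ≠ P → R ≠ P' → E R = 0) :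
    E.deg = E P * P.deg + E P' * P'.deg := by
  have : E = Finsupp.single P (E P) + Finsupp.single P' (E P') := by
    ext R
    rw [Finsupp.add_apply]
    by_cases h1 : R = P
    · subst h1
      rw [Finsupp.single_eq_same, Finsupp.single_eq_of_ne hPP', add_zero]
    · by_cases h2 : R = P'
      · subst h2
        rw [Finsupp.single_eq_same, Finsupp.single_eq_of_ne h1, zero_add]
      · rw [Finsupp.single_eq_of_ne h1, Finsupp.single_eq_of_ne h2, hE R h1 h2, add_zero]
  conv_lhs => rw [this]
  rw [deg_add, deg_single, deg_single]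

/-- The weight of the pencil spanned by `f, g` at `P` is at least the sum of their orders. -/
theorem wsum_pair_ge (D : Divisor k K) (d : ℕ) (P : Place k K) (f g : K)
    (hW2 : Module.finrank k ↥(Submodule.span k ({f, g} : Set K)) = 2)
    (hf0 : f ≠ 0) (hg0 : g ≠ 0) (a a' : ℕ) (ha : a ≤ d) (ha' : a' ≤ d)
    (hf : f ∈ L (D - Finsupp.single P (a : ℤ))) (hg : g ∈ L (D - Finsupp.single P (a' : ℤ))) :
    a + a' ≤ wsum (Submodule.span k ({f, g} : Set K)) D d P := by
  haveI : FiniteDimensional k ↥(Submodule.span k ({f, g} : Set K)) :=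
    FiniteDimensional.span_of_finite k (Set.toFinite _)
  have hfW : f ∈ Submodule.span k ({f, g} : Set K) := Submodule.subset_span (by simp)
  have hgW : g ∈ Submodule.span k ({f, g} : Set K) := Submodule.subset_span (by simp)
  unfold wsum
  calc a + a' = ∑ j ∈ Finset.range d, ((if j < a then 1 else 0) + (if j < a' then 1 else 0)) := by
        rw [Finset.sum_add_distrib, sum_range_ite_lt d a ha, sum_range_ite_lt d a' ha']
    _ ≤ _ := Finset.sum_le_sum ?_
  intro j _
  have hmono : ∀ n : ℕ, j < n →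
      L (D - Finsupp.single P (n : ℤ)) ≤ L (D - Finsupp.single P ((j : ℤ) + 1)) := by
    intro n hn
    apply L_mono
    intro R
    simp only [Finsupp.sub_apply]
    by_cases hR : R = P
    · subst hR
      rw [Finsupp.single_eq_same, Finsupp.single_eq_same]
      omega
    · rw [Finsupp.single_eq_of_ne hR, Finsupp.single_eq_of_ne hR]
  have hpos : ∀ x : K, x ≠ 0 → x ∈ Submodule.span k ({f, g} : Set K) →
      x ∈ L (D - Finsupp.single P ((j : ℤ) + 1)) →
      1 ≤ Module.finrank k
        ↥(Submodule.span k ({f, g} : Set K) ⊓ L (D - Finsupp.single P ((j : ℤ) + 1))) := by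
    intro x hx0 hxW hxL
    exact Module.finrank_pos_iff_exists_ne_zero.mpr
      ⟨⟨x, ⟨hxW, hxL⟩⟩, fun h => hx0 (congrArg Subtype.val h)⟩
  by_cases h1 : j < a
  · by_cases h2 : j < a'
    · rw [if_pos h1, if_pos h2]
      have : Submodule.span k ({f, g} : Set K) ≤ L (D - Finsupp.single P ((j : ℤ) + 1)) := by
        rw [Submodule.span_le]
        intro x hx
        rcases hx with rfl | hx
        · exact hmono a h1 hf
        · rw [Set.mem_singleton_iff] at hx
          subst hx
          exact hmono a' h2 hg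
      rw [inf_eq_left.mpr this, hW2]
    · rw [if_pos h1, if_neg h2]
      exact hpos f hf0 hfW (hmono a h1 hf)
  · by_cases h2 : j < a'
    · rw [if_neg h1, if_pos h2]
      exact hpos g hg0 hgW (hmono a' h2 hg)
    · rw [if_neg h1, if_neg h2]
      exact Nat.zero_le _


/-- Data of a member of `L(D)` whose divisor of zeros is supported on `{P, P'}`. -/
theorem exists_orders (hK : IsFunctionField k K) [IsAlgClosed k] (D : Divisor k K) (d : ℕ)
    (hD : D.deg = d) (P P' : Place k K) (hPP' : P ≠ P') (f : K) (hf0 : f ≠ 0) (hfD : f ∈ L D)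
    (hfs : ∀ R : Place k K, R ≠ P → R ≠ P' → (FunFld.div k f + D) R = 0) :
    ∃ a b : ℕ, a + b = d ∧ f ∈ L (D - Finsupp.single P (a : ℤ)) ∧
      f ∈ L (D - Finsupp.single P' (b : ℤ)) := by
  have h0 := (mem_L_iff_div hK D hf0).mp hfD
  have hdeg := deg_of_support_pair (D + FunFld.div k f) P P' hPP'
    (fun R h1 h2 => by rw [add_comm]; exact hfs R h1 h2)
  rw [deg_add_div hK, hD, deg_eq_one_of_isAlgClosed hK P, deg_eq_one_of_isAlgClosed hK P',
    Nat.cast_one, mul_one, mul_one] at hdeg
  have hP0 : 0 ≤ (D + FunFld.div k f) P := h0 P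
  have hP'0 : 0 ≤ (D + FunFld.div k f) P' := h0 P'
  obtain ⟨a, ha⟩ := Int.eq_ofNat_of_zero_le hP0
  obtain ⟨b, hb⟩ := Int.eq_ofNat_of_zero_le hP'0
  refine ⟨a, b, ?_, ?_, ?_⟩
  · rw [ha, hb] at hdeg
    exact_mod_cast hdeg.symm
  · rw [mem_L_sub_single_iff hK D hf0 hfD, ha]
  · rw [mem_L_sub_single_iff hK D hf0 hfD, hb]

/-- On a rational curve, a `g^r_d` with a cusp at `Q` has, up to scalars, at most one member
vanishing only at two given places other than `Q`. -/
theorem pencil_unique [IsAlgClosed k] [CharZero k] (hK : IsFunctionField k K)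
    (hg0 : genus k K = 0) (d r : ℕ) (D : Divisor k K) (hD : D.deg = d)
    (V : Submodule k K) (hV : V ≤ L D) (hVr : Module.finrank k ↥V = r + 1)
    (Q : Place k K) (hcusp : r ≤ Module.finrank k ↥(V ⊓ L (D - Finsupp.single Q ((2 : ℤ)))))
    (P P' : Place k K) (hPP' : P ≠ P') (hP : P ≠ Q) (hP' : P' ≠ Q)
    (f g : K) (hf : f ∈ V) (hg : g ∈ V) (hf0 : f ≠ 0) (hg0' : g ≠ 0)
    (hfs : ∀ R : Place k K, R ≠ P → R ≠ P' → (FunFld.div k f + D) R = 0)
    (hgs : ∀ R : Place k K, R ≠ P → R ≠ P' → (FunFld.div k g + D) R = 0) :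
    ∃ c : k, g = c • f := by
  by_contra hcon
  push Not at hcon
  have hli : LinearIndependent k ![f, g] :=
    (LinearIndependent.pair_iff' hf0).mpr (fun c hc => hcon c hc.symm)
  have hW2 : Module.finrank k ↥(Submodule.span k ({f, g} : Set K)) = 2 := by
    have := finrank_span_eq_card hli
    rw [Matrix.range_cons_cons_empty] at this
    simpa using this
  set W := Submodule.span k ({f, g} : Set K) with hWdef
  have hWV : W ≤ V := by
    rw [hWdef, Submodule.span_le]
    intro x hx
    rcases hx with rfl | hx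
    · exact hf
    · rw [Set.mem_singleton_iff] at hx
      subst hx
      exact hg
  have hWL : W ≤ L D := hWV.trans hV
  haveI : FiniteDimensional k ↥W := FiniteDimensional.span_of_finite k (Set.toFinite _)
  haveI := finiteDimensional_L hK D
  haveI : FiniteDimensional k ↥V := Submodule.finiteDimensional_of_le hV
  -- the pencil still has a cusp at `Q`
  have hWQ : 1 ≤ Module.finrank k ↥(W ⊓ L (D - Finsupp.single Q ((2 : ℤ)))) := by
    have h1 := Submodule.finrank_sup_add_finrank_inf_eq W
      (V ⊓ L (D - Finsupp.single Q ((2 : ℤ))))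
    have h2 : Module.finrank k ↥(W ⊔ (V ⊓ L (D - Finsupp.single Q ((2 : ℤ))))) ≤
        Module.finrank k ↥V := Submodule.finrank_mono (sup_le hWV inf_le_left)
    have h3 : W ⊓ (V ⊓ L (D - Finsupp.single Q ((2 : ℤ)))) =
        W ⊓ L (D - Finsupp.single Q ((2 : ℤ))) := by
      rw [← inf_assoc, inf_eq_left.mpr hWV]
    rw [h3] at h1
    omega
  have hQw := wsum_cusp_ge hK D d 1 hD W hWL Q hWQ
  have htau : tau 1 = 1 := by decide
  have hpl := plucker3 hK hg0 D d 1 hD W hWL hW2 P P' Q hPP' hP hP'
  obtain ⟨a, b, hab, hfa, hfb⟩ := exists_orders hK D d hD P P' hPP' f hf0 (hV hf) hfs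
  obtain ⟨a', b', hab', hga, hgb⟩ := exists_orders hK D d hD P P' hPP' g hg0' (hV hg) hgs
  have h1 := wsum_pair_ge D d P f g hW2 hf0 hg0' a a' (by omega) (by omega) hfa hga
  have h2 := wsum_pair_ge D d P' f g hW2 hf0 hg0' b b' (by omega) (by omega) hfb hgb
  rw [← hWdef] at h1 h2
  omega

/-- The same without assuming `P ≠ P'`. -/
theorem pencil_unique' [IsAlgClosed k] [CharZero k] (hK : IsFunctionField k K)
    (hg0 : genus k K = 0) (d r : ℕ) (D : Divisor k K) (hD : D.deg = d)
    (V : Submodule k K) (hV : V ≤ L D) (hVr : Module.finrank k ↥V = r + 1)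
    (Q : Place k K) (hcusp : r ≤ Module.finrank k ↥(V ⊓ L (D - Finsupp.single Q ((2 : ℤ)))))
    (P P' : Place k K) (hP : P ≠ Q) (hP' : P' ≠ Q)
    (f g : K) (hf : f ∈ V) (hg : g ∈ V) (hf0 : f ≠ 0) (hg0' : g ≠ 0)
    (hfs : ∀ R : Place k K, R ≠ P → R ≠ P' → (FunFld.div k f + D) R = 0)
    (hgs : ∀ R : Place k K, R ≠ P → R ≠ P' → (FunFld.div k g + D) R = 0) :
    ∃ c : k, g = c • f := by
  classical
  by_cases hPP' : P = P'
  · subst hPP'
    haveI := infinite_places hK
    obtain ⟨P'', hP''⟩ := Infinite.exists_notMem_finset ({P, Q} : Finset (Place k K))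
    simp only [Finset.mem_insert, Finset.mem_singleton, not_or] at hP''
    exact pencil_unique hK hg0 d r D hD V hV hVr Q hcusp P P'' (Ne.symm hP''.1) hP hP''.2 f g hf hg
      hf0 hg0' (fun R h1 _ => hfs R h1 h1) (fun R h1 _ => hgs R h1 h1)
  · exact pencil_unique hK hg0 d r D hD V hV hVr Q hcusp P P' hPP' hP hP' f g hf hg hf0 hg0' hfs hgs

end Groth.Agent.Lib.Helper18.FF
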