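import Groth.Agent.Lib.Helper18.FF.Sections2

/-! # Vanishing conditions at two places -/

set_option autoImplicit false
set_option linter.style.haveILetI false

namespace Groth.Agent.Lib.Helper18.FF

open FunFld WithZero

universe u v

variable {k : Type u} {K : Type v} [Field k] [Field K] [Algebra k K]

/-- `L D₁ ⊓ L D₂ ≤ L D₃` as soon as `min D₁ D₂ ≤ D₃` pointwise. -/
theorem L_inf_le {D₁ D₂ D₃ : Divisor k K} (h : ∀ R, min (D₁ R) (D₂ R) ≤ D₃ R) :
    L D₁ ⊓ L D₂ ≤ L D₃ := by
  rintro x ⟨h1, h2⟩ R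
  rcases le_total (D₁ R) (D₂ R) with h' | h'
  · exact (h1 R).trans (exp_le_exp.mpr (by have := h R; rwa [min_eq_left h'] at this))
  · exact (h2 R).trans (exp_le_exp.mpr (by have := h R; rwa [min_eq_right h'] at this))

/-- If a subspace of dimension at most one contains two nonzero vectors they are proportional. -/
theorem exists_smul_eq_of_finrank_le_one {U : Submodule k K} [FiniteDimensional k U]
    (hU : Module.finrank k ↥U ≤ 1) {x y : K} (hx : x ∈ U) (hy : y ∈ U) (hy0 : y ≠ 0) :
    ∃ c : k, x = c • y := by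
  have h1 : Module.finrank k ↥U = 1 := by
    have : 0 < Module.finrank k ↥U :=
      Module.finrank_pos_iff_exists_ne_zero.mpr ⟨⟨y, hy⟩, fun h => hy0 (congrArg Subtype.val h)⟩
    omega
  obtain ⟨c, hc⟩ := (finrank_eq_one_iff_of_nonzero' (⟨y, hy⟩ : U)
    (fun h => hy0 (congrArg Subtype.val h))).mp h1 ⟨x, hx⟩
  exact ⟨c, (congrArg Subtype.val hc).symm⟩


/-- `V(-mP-nQ)`. -/
noncomputable def Wmn (V : Submodule k K) (D : Divisor k K) (P Q : Place k K) (m n : ℤ) : Submodule k K :=
  V ⊓ L (D - Finsupp.single P m - Finsupp.single Q n)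

section Wmn

variable (V : Submodule k K) (D : Divisor k K) (P Q : Place k K)

theorem Wmn_mono {m n m' n' : ℤ} (hm : m ≤ m') (hn : n ≤ n') :
    Wmn V D P Q m' n' ≤ Wmn V D P Q m n := by
  classical
  refine inf_le_inf_left V (L_mono ?_)
  intro R
  simp only [Finsupp.sub_apply, Finsupp.single_apply]
  split_ifs <;> omega

theorem Wmn_inf_le (hPQ : P ≠ Q) (m n m' n' : ℤ) :
    Wmn V D P Q m n ⊓ Wmn V D P Q m' n' ≤ Wmn V D P Q (max m m') (max n n') := by
  classical
  rintro x ⟨⟨hxV, h1⟩, ⟨-, h2⟩⟩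
  refine ⟨hxV, L_inf_le ?_ ⟨h1, h2⟩⟩
  intro R
  simp only [Finsupp.sub_apply, Finsupp.single_apply]
  by_cases hRP : P = R
  · have hRQ : ¬ Q = R := fun h => hPQ (hRP.trans h.symm)
    simp only [if_pos hRP, if_neg hRQ]
    omega
  · by_cases hRQ : Q = R
    · simp only [if_neg hRP, if_pos hRQ]
      omega
    · simp only [if_neg hRP, if_neg hRQ]
      omega

theorem finrank_Wmn_le_succ_left (hK : IsFunctionField k K) (hP : P.deg = 1) (m n : ℤ) :
    Module.finrank k ↥(Wmn V D P Q m n) ≤ Module.finrank k ↥(Wmn V D P Q (m + 1) n) + 1 := by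
  have := finrank_inf_L_add_single_le hK V
    (D - Finsupp.single P (m + 1) - Finsupp.single Q n) hP
  have e : D - Finsupp.single P (m + 1) - Finsupp.single Q n + Finsupp.single P 1 =
      D - Finsupp.single P m - Finsupp.single Q n := by
    rw [Finsupp.single_add]; abel
  rw [e] at this
  exact this

theorem finrank_Wmn_le_succ_right (hK : IsFunctionField k K) (hQ : Q.deg = 1) (m n : ℤ) :
    Module.finrank k ↥(Wmn V D P Q m n) ≤ Module.finrank k ↥(Wmn V D P Q m (n + 1)) + 1 := by
  have := finrank_inf_L_add_single_le hK V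
    (D - Finsupp.single P m - Finsupp.single Q (n + 1)) hQ
  have e : D - Finsupp.single P m - Finsupp.single Q (n + 1) + Finsupp.single Q 1 =
      D - Finsupp.single P m - Finsupp.single Q n := by
    rw [Finsupp.single_add]; abel
  rw [e] at this
  exact this

/-- The dimension formula for two of the spaces `V(-mP-nQ)`. -/
theorem finrank_Wmn_add_le [FiniteDimensional k V] (hPQ : P ≠ Q) (m n m' n' m₀ n₀ : ℤ)
    (hm : m₀ ≤ m) (hm' : m₀ ≤ m') (hn : n₀ ≤ n) (hn' : n₀ ≤ n') :
    Module.finrank k ↥(Wmn V D P Q m n) + Module.finrank k ↥(Wmn V D P Q m' n') ≤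
      Module.finrank k ↥(Wmn V D P Q m₀ n₀) +
        Module.finrank k ↥(Wmn V D P Q (max m m') (max n n')) := by
  haveI hfd : ∀ a b : ℤ, FiniteDimensional k ↥(Wmn V D P Q a b) := fun a b =>
    Submodule.finiteDimensional_of_le (inf_le_left : Wmn V D P Q a b ≤ V)
  have h1 := Submodule.finrank_sup_add_finrank_inf_eq (Wmn V D P Q m n) (Wmn V D P Q m' n')
  have h2 : Module.finrank k ↥(Wmn V D P Q m n ⊔ Wmn V D P Q m' n') ≤
      Module.finrank k ↥(Wmn V D P Q m₀ n₀) :=
    Submodule.finrank_mono (sup_le (Wmn_mono V D P Q hm hn) (Wmn_mono V D P Q hm' hn'))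
  have h3 : Module.finrank k ↥(Wmn V D P Q m n ⊓ Wmn V D P Q m' n') ≤
      Module.finrank k ↥(Wmn V D P Q (max m m') (max n n')) :=
    Submodule.finrank_mono (Wmn_inf_le V D P Q hPQ m n m' n')
  omega

end Wmn

/-- Equivalence of the two descriptions of a special ramification pair. -/
theorem special_iff [IsAlgClosed k] (hK : IsFunctionField k K) (D : Divisor k K)
    (V : Submodule k K) (hVD : V ≤ L D) (P Q : Place k K) (hPQ : P ≠ Q) (a b : ℤ) :
    ((2 ≤ Module.finrank k ↥(Wmn V D P Q a (b - 1)) ∨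
        1 ≤ Module.finrank k ↥(Wmn V D P Q a (b + 1))) ∧
      (2 ≤ Module.finrank k ↥(Wmn V D P Q (a - 1) b) ∨
        1 ≤ Module.finrank k ↥(Wmn V D P Q (a + 1) b))) ↔
    (1 ≤ Module.finrank k ↥(Wmn V D P Q (a + 1) (b + 1)) ∨
      3 ≤ Module.finrank k ↥(Wmn V D P Q (a - 1) (b - 1)) ∨
      (1 ≤ Module.finrank k ↥(Wmn V D P Q a (b + 1)) ∧
        2 ≤ Module.finrank k ↥(Wmn V D P Q (a - 1) b)) ∨
      (1 ≤ Module.finrank k ↥(Wmn V D P Q (a + 1) b) ∧
        2 ≤ Module.finrank k ↥(Wmn V D P Q a (b - 1)))) := by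
  haveI := finiteDimensional_L hK D
  haveI : FiniteDimensional k V := Submodule.finiteDimensional_of_le hVD
  haveI hfd : ∀ m n : ℤ, FiniteDimensional k ↥(Wmn V D P Q m n) := fun m n =>
    Submodule.finiteDimensional_of_le (inf_le_left : Wmn V D P Q m n ≤ V)
  have hP1 := deg_eq_one_of_isAlgClosed hK P
  have hQ1 := deg_eq_one_of_isAlgClosed hK Q
  have mono : ∀ {m n m' n' : ℤ}, m ≤ m' → n ≤ n' →
      Module.finrank k ↥(Wmn V D P Q m' n') ≤ Module.finrank k ↥(Wmn V D P Q m n) :=
    fun hm hn => Submodule.finrank_mono (Wmn_mono V D P Q hm hn)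
  have dP := finrank_Wmn_le_succ_left V D P Q hK hP1
  have dQ := finrank_Wmn_le_succ_right V D P Q hK hQ1
  constructor
  · rintro ⟨hA, hB⟩
    rcases hA with hA1 | hA2
    · rcases hB with hB1 | hB2
      · -- `A1 ∧ B1`
        have h := finrank_Wmn_add_le V D P Q hPQ a (b - 1) (a - 1) b (a - 1) (b - 1)
          (by omega) le_rfl le_rfl (by omega)
        rw [max_eq_left (by omega : a - 1 ≤ a), max_eq_right (by omega : b - 1 ≤ b)] at h
        by_cases h11 : Module.finrank k ↥(Wmn V D P Q a b) ≤ 1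
        · right; left; omega
        · right; right; right
          have := dP a b
          exact ⟨by omega, hA1⟩
      · right; right; right; exact ⟨hB2, hA1⟩
    · rcases hB with hB1 | hB2
      · right; right; left; exact ⟨hA2, hB1⟩
      · -- `A2 ∧ B2`
        have h := finrank_Wmn_add_le V D P Q hPQ a (b + 1) (a + 1) b a b
          le_rfl (by omega) (by omega) le_rfl
        rw [max_eq_right (by omega : a ≤ a + 1), max_eq_left (by omega : b ≤ b + 1)] at h
        by_cases h22 : 1 ≤ Module.finrank k ↥(Wmn V D P Q (a + 1) (b + 1))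
        · left; exact h22
        · right; right; right
          have := mono (le_refl a) (by omega : b - 1 ≤ b)
          exact ⟨hB2, by omega⟩
  · rintro (h | h | ⟨h1, h2⟩ | ⟨h1, h2⟩)
    · have h1 := mono (by omega : a ≤ a + 1) (le_refl (b + 1))
      have h2 := mono (le_refl (a + 1)) (by omega : b ≤ b + 1)
      exact ⟨Or.inr (by omega), Or.inr (by omega)⟩
    · have h1 := dP (a - 1) (b - 1)
      have h2 := dQ (a - 1) (b - 1)
      rw [sub_add_cancel] at h1 h2
      exact ⟨Or.inl (by omega), Or.inl (by omega)⟩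
    · exact ⟨Or.inr h1, Or.inl h2⟩
    · exact ⟨Or.inl h2, Or.inr h1⟩

end Groth.Agent.Lib.Helper18.FF
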