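import Groth.Agent.Lib.Helper18.FF.LocRing
import Groth.Agent.Lib.Helper18.FF.Pencil
import Groth.Agent.Lib.Helper18.FF.GenusOneHyp
import Groth.Agent.Lib.Helper18.FF.TwoPoint
import Groth.Agent.Lib.Helper18.FF.DetTrick
import Groth.Agent.Lib.Helper18.FF.LinEquiv

/-! # A criterion for a complete linear system to be an embedding at a place -/

set_option autoImplicit false
set_option linter.style.haveILetI false

namespace Groth.Agent.Lib.Helper18.FF

open FunFld WithZero

universe u v

variable {k : Type u} {K : Type v} [Field k] [Field K] [Algebra k K]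

theorem mul_mem_L {D₁ D₂ : Divisor k K} {x y : K} (hx : x ∈ L D₁) (hy : y ∈ L D₂) :
    x * y ∈ L (D₁ + D₂) := by
  intro R
  rw [map_mul, Finsupp.add_apply, exp_add]
  exact mul_le_mul' (hx R) (hy R)

/-- Base-point-free pencil trick: if `s ∈ L(E)` has pole divisor exactly `E` then
`L((n+2)E) = L((n+1)E) + s L((n+1)E)` as soon as the dimensions allow it. -/
theorem pencil_step (hK : IsFunctionField k K) {E : Divisor k K} (hE : 0 ≤ E) {s : K}
    (hs0 : s ≠ 0) (hs : s ∈ L E) (hsE : ∀ R, 0 < E R → (FunFld.div k s) R = - E R) {n : ℕ}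
    (h3 : ell ((n + 2) • E) + ell (n • E) ≤ 2 * ell ((n + 1) • E)) {z : K}
    (hz : z ∈ L ((n + 2) • E)) :
    ∃ a ∈ L ((n + 1) • E), ∃ y ∈ L ((n + 1) • E), z = a + s * y := by
  classical
  obtain ⟨d, hd⟩ : ∃ d : Divisor k K, d = FunFld.div k s := ⟨_, rfl⟩
  have hdE : ∀ R, - E R ≤ d R := by
    have h := (mem_L_iff_div hK E hs0).mp hs
    intro R
    have := h R
    rw [Finsupp.add_apply, ← hd, Finsupp.zero_apply] at this
    linarith
  have hsE' : ∀ R, 0 < E R → d R = - E R := by rw [hd]; exact hsE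
  haveI := finiteDimensional_L hK ((n + 1) • E)
  haveI := finiteDimensional_L hK ((n + 1) • E - d)
  haveI := finiteDimensional_L hK ((n + 2) • E)
  have hinv : FunFld.div k s⁻¹ = -d := by rw [div_inv hK, hd]
  have hfin1 : ell ((n + 1) • E - d) = ell ((n + 1) • E) := by
    have := ell_add_div hK ((n + 1) • E) (inv_ne_zero hs0)
    rw [hinv, ← sub_eq_add_neg] at this
    exact this
  have hfin2 : ell (n • E - d) = ell (n • E) := by
    have := ell_add_div hK (n • E) (inv_ne_zero hs0)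
    rw [hinv, ← sub_eq_add_neg] at this
    exact this
  have hinf : L ((n + 1) • E) ⊓ L ((n + 1) • E - d) ≤ L (n • E - d) := by
    refine L_inf_le (fun R => ?_)
    simp only [Finsupp.sub_apply, Finsupp.smul_apply, nsmul_eq_mul]
    push_cast
    rcases (hE R).eq_or_lt with h0 | hpos
    · have h0' : E R = 0 := h0.symm
      rw [h0']
      simp
    · rw [hsE' R hpos]
      have : (0 : ℤ) ≤ E R := hE R
      refine (min_le_left _ _).trans ?_
      linarith
  have hsup : L ((n + 1) • E) ⊔ L ((n + 1) • E - d) ≤ L ((n + 2) • E) := by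
    refine sup_le (L_mono ?_) (L_mono ?_)
    · intro R
      simp only [Finsupp.smul_apply, nsmul_eq_mul]
      push_cast
      have : (0 : ℤ) ≤ E R := hE R
      nlinarith
    · intro R
      simp only [Finsupp.sub_apply, Finsupp.smul_apply, nsmul_eq_mul]
      push_cast
      have := hdE R
      linarith
  have hdim := Submodule.finrank_sup_add_finrank_inf_eq (L ((n + 1) • E)) (L ((n + 1) • E - d))
  have hinfdim : Module.finrank k ↥(L ((n + 1) • E) ⊓ L ((n + 1) • E - d)) ≤ ell (n • E) := by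
    haveI := finiteDimensional_L hK (n • E - d)
    exact (Submodule.finrank_mono hinf).trans_eq hfin2
  have heq : L ((n + 1) • E) ⊔ L ((n + 1) • E - d) = L ((n + 2) • E) := by
    refine Submodule.eq_of_le_of_finrank_le hsup ?_
    unfold ell at h3 hfin1 hinfdim
    omega
  rw [← heq] at hz
  obtain ⟨a, ha, b, hb, rfl⟩ := Submodule.mem_sup.mp hz
  refine ⟨a, ha, s⁻¹ * b, ?_, by field_simp⟩
  rw [mul_mem_L_iff hK _ _ _ (inv_ne_zero hs0), hinv, ← sub_eq_add_neg]
  exact hb

/-- All `L(nE)` lie in the module generated by `L((n₀+1)E)` over any subalgebra containing `L(E)`. -/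
theorem mem_span_of_mem_L (hK : IsFunctionField k K) {E : Divisor k K} (hE : 0 ≤ E) {s : K}
    (hs0 : s ≠ 0) (hs : s ∈ L E) (hsE : ∀ R, 0 < E R → (FunFld.div k s) R = - E R) (n₀ : ℕ)
    (h3 : ∀ n, n₀ ≤ n → ell ((n + 2) • E) + ell (n • E) ≤ 2 * ell ((n + 1) • E))
    (A : Subalgebra k K) (hsA : s ∈ A) (n : ℕ) {z : K} (hz : z ∈ L (n • E)) :
    z ∈ Submodule.span A (L ((n₀ + 1) • E) : Set K) := by
  induction n generalizing z with
  | zero =>
    refine Submodule.subset_span (L_mono ?_ hz)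
    intro R
    simp only [Finsupp.smul_apply, nsmul_eq_mul]
    push_cast
    have : (0 : ℤ) ≤ E R := hE R
    nlinarith
  | succ n ih =>
    by_cases hn : n + 1 ≤ n₀ + 1
    · refine Submodule.subset_span (L_mono ?_ hz)
      intro R
      simp only [Finsupp.smul_apply, nsmul_eq_mul]
      have : (0 : ℤ) ≤ E R := hE R
      have h2 : ((n + 1 : ℕ) : ℤ) ≤ ((n₀ + 1 : ℕ) : ℤ) := by exact_mod_cast hn
      exact mul_le_mul_of_nonneg_right h2 this
    · obtain ⟨m, rfl⟩ : ∃ m, n = m + 1 := ⟨n - 1, by omega⟩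
      have hm : n₀ ≤ m := by omega
      obtain ⟨a, ha, y, hy, rfl⟩ := pencil_step hK hE hs0 hs hsE (h3 m hm) hz
      refine Submodule.add_mem _ (ih ha) ?_
      have := Submodule.smul_mem _ (⟨s, hsA⟩ : A) (ih hy)
      exact this

/-- Killing poles away from `P` by multiplying with sections that are units at `P`. -/
theorem exists_killer [IsAlgClosed k] (hK : IsFunctionField k K) {E : Divisor k K}
    (P : Place k K) (A : Subalgebra k K)
    (hv : ∀ Q, Q ≠ P → ∃ v ∈ A, v ∈ L (E - Finsupp.single Q 1) ∧ P.1 v = 1) :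
    ∀ (m : ℕ) (Z : Divisor k K), 0 ≤ Z → Z P = 0 → Z.deg = m →
      ∃ s ∈ A, P.1 s = 1 ∧ ∃ n : ℕ, s ∈ L (n • E - Z) := by
  intro m
  induction m with
  | zero =>
    intro Z hZ _ hdeg
    have hZ0 : Z = 0 := eq_zero_of_nonneg_of_deg_le hK hZ (by rw [hdeg]; simp)
    refine ⟨1, Subalgebra.one_mem _, map_one _, 0, ?_⟩
    rw [hZ0, zero_smul, sub_zero]
    exact one_mem_L_of_nonneg le_rfl
  | succ m ih =>
    intro Z hZ hZP hdeg
    have hZne : Z ≠ 0 := by
      rintro rfl
      rw [deg_zero] at hdeg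
      have : (0 : ℤ) < ((m + 1 : ℕ) : ℤ) := by exact_mod_cast Nat.succ_pos m
      omega
    obtain ⟨Q, hQ⟩ : ∃ Q, Z Q ≠ 0 := by
      by_contra hcon
      push Not at hcon
      exact hZne (Finsupp.ext hcon)
    have hQpos : 0 < Z Q := lt_of_le_of_ne (hZ Q) (Ne.symm hQ)
    have hQP : Q ≠ P := by
      rintro rfl
      exact hQ hZP
    obtain ⟨Z', hZ'⟩ : ∃ Z' : Divisor k K, Z' = Z - Finsupp.single Q 1 := ⟨_, rfl⟩
    have hZ'nn : 0 ≤ Z' := by
      intro R
      rw [hZ', Finsupp.sub_apply, Finsupp.zero_apply]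
      by_cases hR : R = Q
      · subst hR
        rw [Finsupp.single_eq_same]
        omega
      · rw [Finsupp.single_eq_of_ne hR, sub_zero]
        exact hZ R
    have hZ'P : Z' P = 0 := by
      rw [hZ', Finsupp.sub_apply, hZP, Finsupp.single_eq_of_ne hQP.symm, sub_zero]
    have hZ'deg : Z'.deg = m := by
      rw [hZ', deg_sub, hdeg, deg_single, deg_eq_one_of_isAlgClosed hK Q]
      push_cast
      ring
    obtain ⟨s', hs'A, hs'P, n', hs'L⟩ := ih Z' hZ'nn hZ'P hZ'deg
    obtain ⟨v, hvA, hvL, hvP⟩ := hv Q hQP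
    refine ⟨s' * v, Subalgebra.mul_mem _ hs'A hvA, by rw [map_mul, hs'P, hvP, one_mul], n' + 1, ?_⟩
    have := mul_mem_L hs'L hvL
    have heq : n' • E - Z' + (E - Finsupp.single Q 1) = (n' + 1) • E - Z := by
      rw [hZ', succ_nsmul]
      abel
    rw [heq] at this
    exact this

/-- If `P` is not a base point of `L(F)`, some section attains the bound at `P`. -/
theorem exists_section_val (hK : IsFunctionField k K) {F : Divisor k K} (P : Place k K)
    (h : ell (F - Finsupp.single P 1) < ell F) :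
    ∃ x ∈ L F, x ≠ 0 ∧ P.1 x = exp (F P) := by
  have hex : ∃ x ∈ L F, x ∉ L (F - Finsupp.single P 1) := by
    by_contra hcon
    push Not at hcon
    haveI := finiteDimensional_L hK (F - Finsupp.single P 1)
    have hle : L F ≤ L (F - Finsupp.single P 1) := hcon
    have := Submodule.finrank_mono hle
    unfold ell at h
    omega
  obtain ⟨x, hx, hxn⟩ := hex
  have hx0 : x ≠ 0 := by
    rintro rfl
    exact hxn (Submodule.zero_mem _)
  refine ⟨x, hx, hx0, ?_⟩
  rw [mem_L_sub_single_iff hK F hx0 hx P 1] at hxn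
  have h0 := (mem_L_iff_div hK F hx0).mp hx P
  rw [Finsupp.zero_apply] at h0
  rw [Finsupp.add_apply, div_apply hK] at hxn h0
  rw [val_eq_exp_neg_ord P hx0]
  congr 1
  omega

/-- The criterion in normalized form: `E` effective, not containing `P`. -/
theorem inLocRing_normalized [IsAlgClosed k] (hK : IsFunctionField k K) (P : Place k K)
    {E : Divisor k K} (hE : 0 ≤ E) (hEP : E P = 0)
    (h1 : ∀ Q, ell (E - Finsupp.single Q 1) < ell E)
    (h2 : ∀ Q, ell (E - Finsupp.single Q 1 - Finsupp.single P 1) < ell (E - Finsupp.single Q 1))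
    (n₀ : ℕ) (h3 : ∀ n, n₀ ≤ n → ell ((n + 2) • E) + ell (n • E) ≤ 2 * ell ((n + 1) • E))
    {z : K} (hz : P.1 z ≤ 1) :
    ∃ u ∈ Algebra.adjoin k (L E : Set K), ∃ w ∈ Algebra.adjoin k (L E : Set K),
      P.1 w = 1 ∧ z * w = u := by
  classical
  haveI : Infinite k := IsAlgClosed.instInfinite
  obtain ⟨A, hAdef⟩ : ∃ A : Subalgebra k K, A = Algebra.adjoin k (L E : Set K) := ⟨_, rfl⟩
  rw [← hAdef]
  have hLA : ∀ x ∈ L E, x ∈ A := fun x hx => by rw [hAdef]; exact Algebra.subset_adjoin hx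
  have hAle : ∀ a ∈ A, P.1 a ≤ 1 := by
    intro a ha
    rw [hAdef] at ha
    induction ha using Algebra.adjoin_induction with
    | mem x hx =>
      have := hx P
      rwa [hEP, exp_zero] at this
    | algebraMap c => exact val_algebraMap_le P c
    | add x y _ _ hx hy => exact (Valuation.map_add _ _ _).trans (max_le hx hy)
    | mul x y _ _ hx hy =>
      rw [map_mul]
      exact mul_le_one' hx hy
  have hsubE : ∀ Q : Place k K, E - Finsupp.single Q 1 ≤ E := fun Q =>
    sub_le_self _ (single_nonneg' Q (by norm_num))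
  -- the section `s` with pole divisor exactly `E`
  obtain ⟨s, hs⟩ := Submodule.exists_forall_notMem_of_forall_ne_top
    (fun i : ↥(insert P E.support) =>
      Submodule.comap (L E).subtype (L (E - Finsupp.single i.1 1))) (by
    intro i htop
    rw [Submodule.comap_subtype_eq_top] at htop
    haveI := finiteDimensional_L hK (E - Finsupp.single i.1 1)
    have h4 := Submodule.finrank_mono htop
    have h5 := h1 i.1
    unfold ell at h5
    omega)
  have hs' : ∀ R, R ∈ insert P E.support → (s : K) ∉ L (E - Finsupp.single R 1) :=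
    fun R hR => hs ⟨R, hR⟩
  have hs0 : (s : K) ≠ 0 := by
    intro h
    apply hs' P (Finset.mem_insert_self _ _)
    rw [h]
    exact Submodule.zero_mem _
  have hsE : ∀ R, 0 < E R → (FunFld.div k (s : K)) R = - E R := by
    intro R hR
    have hmem : R ∈ insert P E.support :=
      Finset.mem_insert_of_mem (Finsupp.mem_support_iff.mpr hR.ne')
    have hnot := hs' R hmem
    rw [mem_L_sub_single_iff hK E hs0 s.2 R 1] at hnot
    have h0 := (mem_L_iff_div hK E hs0).mp s.2 R
    rw [Finsupp.zero_apply] at h0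
    rw [Finsupp.add_apply] at hnot h0
    omega
  -- sections through `Q` not vanishing (to higher order) at `P`
  have hsec : ∀ Q, ∃ x ∈ L (E - Finsupp.single Q 1), x ≠ 0 ∧
      P.1 x = exp ((E - Finsupp.single Q 1 : Divisor k K) P) := fun Q =>
    exists_section_val hK P (h2 Q)
  obtain ⟨t, htL, ht0, htP⟩ := hsec P
  have htP' : P.1 t = exp (-1 : ℤ) := by
    rw [htP, Finsupp.sub_apply, hEP, Finsupp.single_eq_same]
    rfl
  have htA : t ∈ A := hLA t (L_mono (hsubE P) htL)
  have hv : ∀ Q, Q ≠ P → ∃ v ∈ A, v ∈ L (E - Finsupp.single Q 1) ∧ P.1 v = 1 := by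
    intro Q hQ
    obtain ⟨x, hxL, hx0, hxP⟩ := hsec Q
    refine ⟨x, hLA x (L_mono (hsubE Q) hxL), hxL, ?_⟩
    rw [hxP, Finsupp.sub_apply, hEP, Finsupp.single_eq_of_ne hQ.symm, sub_zero, exp_zero]
  -- a basis of `M = L((n₀+1)E)`
  obtain ⟨M, hM⟩ : ∃ M : Submodule k K, M = L ((n₀ + 1) • E) := ⟨_, rfl⟩
  haveI : FiniteDimensional k M := by rw [hM]; exact finiteDimensional_L hK _
  obtain ⟨r, hr⟩ : ∃ r : ℕ, r = Module.finrank k M := ⟨_, rfl⟩
  let bb : Module.Basis (Fin r) k M := (Module.finBasis k M).reindex (finCongr hr.symm)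
  obtain ⟨b, hb⟩ : ∃ b : Fin r → K, ∀ j, b j = (bb j : K) := ⟨_, fun _ => rfl⟩
  have hbP : ∀ j, P.1 (b j) ≤ 1 := by
    intro j
    have h4 : (bb j : K) ∈ L ((n₀ + 1) • E) := by
      rw [← hM]
      exact (bb j).2
    have h5 := h4 P
    rw [Finsupp.smul_apply, hEP, smul_zero, exp_zero] at h5
    rw [hb]
    exact h5
  have hMspan : ∀ x ∈ M, x ∈ Submodule.span A (Set.range b) := by
    intro x hx
    have h := bb.sum_repr ⟨x, hx⟩
    have h' : x = ∑ j, (bb.repr ⟨x, hx⟩ j) • b j := by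
      have h6 := congrArg Subtype.val h
      rw [Submodule.coe_sum] at h6
      simp only [Submodule.coe_smul] at h6
      refine h6.symm.trans ?_
      exact Finset.sum_congr rfl fun j _ => by rw [hb]
    obtain ⟨cf, hcf⟩ : ∃ cf : Fin r → k, x = ∑ j, cf j • b j :=
      ⟨fun j => bb.repr ⟨x, hx⟩ j, h'⟩
    rw [hcf]
    refine Submodule.sum_mem _ fun j _ => ?_
    rw [← algebraMap_smul A (cf j) (b j)]
    exact Submodule.smul_mem _ _ (Submodule.subset_span ⟨j, rfl⟩)
  have hgen : ∀ n : ℕ, ∀ y ∈ L (n • E), ∃ a : Fin r → A, y = ∑ j, (a j : K) * b j := by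
    intro n y hy
    have h := mem_span_of_mem_L hK hE hs0 s.2 hsE n₀ h3 A (hLA _ s.2) n hy
    rw [← hM] at h
    have h' : y ∈ Submodule.span A (Set.range b) := (Submodule.span_le.mpr hMspan) h
    obtain ⟨a, ha⟩ := (Submodule.mem_span_range_iff_exists_fun A).mp h'
    refine ⟨a, ?_⟩
    rw [← ha]
    rfl
  -- killing poles
  have hkill : ∀ y, P.1 y ≤ 1 →
      ∃ σ ∈ A, P.1 σ = 1 ∧ ∃ a : Fin r → A, σ * y = ∑ j, (a j : K) * b j := by
    intro y hy
    have hZnn := poleDiv_nonneg (k := k) y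
    have hZP : poleDiv (k := k) y P = 0 := by
      rw [poleDiv_apply hK]
      rcases eq_or_ne y 0 with rfl | hy0
      · rw [ord_zero]
        simp
      · have := (val_le_one_iff_ord_nonneg P hy0).mp hy
        omega
    have hdeg : (poleDiv (k := k) y).deg = (((poleDiv (k := k) y).deg.toNat : ℕ) : ℤ) :=
      (Int.toNat_of_nonneg (deg_nonneg_of_nonneg hZnn)).symm
    obtain ⟨σ, hσA, hσP, n, hσL⟩ := exists_killer hK P A hv _ _ hZnn hZP hdeg
    have hy' : y ∈ L (poleDiv (k := k) y) := fun R => val_le_exp_poleDiv hK y R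
    have h7 := mul_mem_L hσL hy'
    rw [sub_add_cancel] at h7
    obtain ⟨a, ha⟩ := hgen n _ h7
    exact ⟨σ, hσA, hσP, a, ha⟩
  -- the determinant trick
  have hPdeg := deg_eq_one_of_isAlgClosed hK P
  have hci : ∀ i, ∃ c : k, P.1 (b i - algebraMap k K c) < 1 := fun i =>
    exists_const_sub_lt_one hK hPdeg (hbP i)
  choose c hc using hci
  have hzi : ∀ i, P.1 ((b i - algebraMap k K (c i)) / t) ≤ 1 := by
    intro i
    rw [map_div₀, htP']
    have h8 := (zm0_lt_one_iff _).mp (hc i)
    exact (div_le_one₀ (zero_lt_iff.mpr exp_ne_zero)).mpr h8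
  choose σ hσA hσP a ha using fun i => hkill _ (hzi i)
  obtain ⟨cdet, hcA, hcP, hcb⟩ := det_trick P.1 A hAle b (fun i => ⟨σ i, hσA i⟩)
    (fun i => hσP i) a
    (fun i => ⟨σ i * algebraMap k K (c i),
      Subalgebra.mul_mem _ (hσA i) (Subalgebra.algebraMap_mem _ _)⟩) ⟨t, htA⟩
    (by
      change P.1 t < 1
      rw [htP', ← exp_zero, exp_lt_exp]
      norm_num)
    (by
      intro i
      change σ i * b i = t * ∑ j, (a i j : K) * b j + σ i * algebraMap k K (c i)
      rw [← ha i]
      field_simp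
      ring)
  obtain ⟨σz, hσzA, hσzP, az, haz⟩ := hkill z hz
  refine ⟨∑ j, (az j : K) * (cdet * b j),
    Subalgebra.sum_mem _ (fun j _ => Subalgebra.mul_mem _ (az j).2 (hcb j)), cdet * σz,
    Subalgebra.mul_mem _ hcA hσzA, by rw [map_mul, hcP, hσzP, one_mul], ?_⟩
  calc z * (cdet * σz) = cdet * (σz * z) := by ring
    _ = cdet * ∑ j, (az j : K) * b j := by rw [haz]
    _ = ∑ j, (az j : K) * (cdet * b j) := by
      rw [Finset.mul_sum]
      exact Finset.sum_congr rfl fun j _ => by ring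

theorem val_le_of_mem_span {ι : Type*} (P : Place k K) (φ : ι → K) (γ : ℤᵐ⁰)
    (h : ∀ i, P.1 (φ i) ≤ γ) {z : K} (hz : z ∈ Submodule.span k (Set.range φ)) : P.1 z ≤ γ := by
  induction hz using Submodule.span_induction with
  | mem x hx =>
    obtain ⟨i, rfl⟩ := hx
    exact h i
  | zero => rw [map_zero]; exact zero_le'
  | add x y _ _ hx hy => exact (Valuation.map_add _ _ _).trans (max_le hx hy)
  | smul c x _ hx => exact (val_smul_le P c x).trans hx

/-- **Embedding criterion.** The complete linear system `|D|` is an embedding at `P` as soon as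
`D - Q` has no base point at `Q` and at `P`, for every place `Q`, and the dimensions `ℓ(nD)`
eventually grow linearly. -/
theorem isNonsingularAt_of_ell [IsAlgClosed k] (hK : IsFunctionField k K) (P : Place k K)
    (D : Divisor k K)
    (h1 : ∀ Q, ell (D - Finsupp.single Q 1) < ell D)
    (h2 : ∀ Q, ell (D - Finsupp.single Q 1 - Finsupp.single P 1) < ell (D - Finsupp.single Q 1))
    (n₀ : ℕ) (h3 : ∀ n, n₀ ≤ n → ell ((n + 2) • D) + ell (n • D) ≤ 2 * ell ((n + 1) • D))
    {n : ℕ} (φ : Fin (n + 1) → K) (hφ : LinearIndependent k φ)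
    (hspan : Submodule.span k (Set.range φ) = L D) : IsNonsingularAt φ P := by
  intro z hz
  obtain ⟨j, hj⟩ := Finite.exists_max (fun i => P.1 (φ i))
  have hj0 : φ j ≠ 0 := hφ.ne_zero j
  have hφL : ∀ i, φ i ∈ L D := fun i => by
    rw [← hspan]
    exact Submodule.subset_span ⟨i, rfl⟩
  obtain ⟨E, hEdef⟩ : ∃ E : Divisor k K, E = D + FunFld.div k (φ j) := ⟨_, rfl⟩
  have hE : 0 ≤ E := by
    rw [hEdef]
    exact (mem_L_iff_div hK D hj0).mp (hφL j)
  have hEP : E P = 0 := by
    obtain ⟨x, hxL, hx0, hxP⟩ := exists_section_val hK P (h1 P)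
    have h4 : P.1 x ≤ P.1 (φ j) := val_le_of_mem_span P φ _ hj (by rw [hspan]; exact hxL)
    have h5 : P.1 (φ j) ≤ exp (D P) := hφL j P
    have h6 : P.1 (φ j) = exp (D P) := le_antisymm h5 (hxP ▸ h4)
    have h7 := ord_eq_of_val_eq_exp P h6
    rw [hEdef, Finsupp.add_apply, div_apply hK, h7]
    ring
  have hell : ∀ F : Divisor k K, ell (F + FunFld.div k (φ j)) = ell F := fun F =>
    ell_add_div hK F hj0
  have hE1 : ∀ Q, ell (E - Finsupp.single Q 1) < ell E := by
    intro Q
    have h8 : E - Finsupp.single Q 1 = (D - Finsupp.single Q 1) + FunFld.div k (φ j) := by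
      rw [hEdef]
      abel
    rw [h8, hell, hEdef, hell]
    exact h1 Q
  have hE2 : ∀ Q, ell (E - Finsupp.single Q 1 - Finsupp.single P 1) <
      ell (E - Finsupp.single Q 1) := by
    intro Q
    have h8 : E - Finsupp.single Q 1 = (D - Finsupp.single Q 1) + FunFld.div k (φ j) := by
      rw [hEdef]
      abel
    have h9 : E - Finsupp.single Q 1 - Finsupp.single P 1 =
        (D - Finsupp.single Q 1 - Finsupp.single P 1) + FunFld.div k (φ j) := by
      rw [hEdef]
      abel
    rw [h9, hell, h8, hell]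
    exact h2 Q
  have hE3 : ∀ m, n₀ ≤ m → ell ((m + 2) • E) + ell (m • E) ≤ 2 * ell ((m + 1) • E) := by
    have hsm : ∀ m : ℕ, ell (m • E) = ell (m • D) := by
      intro m
      rw [hEdef, smul_add, ← div_pow hK hj0 m]
      exact ell_add_div hK _ (pow_ne_zero m hj0)
    intro m hm
    rw [hsm, hsm, hsm]
    exact h3 m hm
  obtain ⟨u, hu, w, hw, hwP, hzw⟩ := inLocRing_normalized hK P hE hEP hE1 hE2 n₀ hE3 hz
  have hle : Algebra.adjoin k (L E : Set K) ≤
      Algebra.adjoin k (Set.range fun i => φ i / φ j) := by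
    refine Algebra.adjoin_le ?_
    intro x hx
    have h8 : φ j * x ∈ L D := (mul_mem_L_iff hK D (φ j) x hj0).mpr (by rw [← hEdef]; exact hx)
    rw [← hspan] at h8
    have h9 := div_mem_adjoin_of_mem_span φ j h8
    rwa [mul_div_cancel_left₀ x hj0] at h9
  exact ⟨j, hj0, hj, u, hle hu, w, hle hw, hwP, hzw⟩

end Groth.Agent.Lib.Helper18.FF
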