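import Groth.Agent.Lib.Helper18.FF.RatPlaces2
import Groth.Agent.Lib.Helper18.Poly.Wronskian
import Mathlib.RingTheory.Coprime.Lemmas

/-! # The Plücker inequality on a curve of genus zero in characteristic zero -/

set_option autoImplicit false
set_option linter.style.haveILetI false

namespace Groth.Agent.Lib.Helper18.FF

open FunFld WithZero Polynomial Groth.Agent.Lib.Helper18.Wronsk

universe u v

variable {k : Type u} {K : Type v} [Field k] [Field K] [Algebra k K]

theorem infinite_places [Infinite k] (hK : IsFunctionField k K) : Infinite (Place k K) := by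
  obtain ⟨t, ht, -⟩ := hK.1
  have hnc : ∀ a : k, t - algebraMap k K a ∉ Set.range (algebraMap k K) := by
    rintro a ⟨c, hc⟩
    apply ht
    have : t = algebraMap k K (c + a) := by rw [map_add, hc]; ring
    rw [this]
    exact isAlgebraic_algebraMap _
  choose Pz hPz using fun a => exists_zero hK (hnc a)
  refine Infinite.of_injective Pz ?_
  intro a b hab
  by_contra hne
  have h1 := hPz a
  have h2 := hPz b
  rw [hab] at h1
  have h3 : (Pz b).1 ((t - algebraMap k K a) - (t - algebraMap k K b)) < 1 :=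
    (Valuation.map_sub _ _ _).trans_lt (max_lt h1 h2)
  have h4 : (t - algebraMap k K a) - (t - algebraMap k K b) = algebraMap k K (b - a) := by
    rw [map_sub]; ring
  rw [h4, val_algebraMap (Pz b) (sub_ne_zero.mpr (Ne.symm hne))] at h3
  exact lt_irrefl _ h3

theorem strictMono_fin_add_le {n : ℕ} (m : Fin n → ℕ) (hm : StrictMono m) :
    ∀ (t : ℕ) (i j : Fin n), (j : ℕ) = i + t → m i + t ≤ m j := by
  intro t
  induction t with
  | zero =>
    intro i j hij
    have : i = j := Fin.ext (by omega)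
    rw [this]; omega
  | succ t ih =>
    intro i j hij
    have hlt : (i : ℕ) + t < n := by have := j.2; omega
    have h1 := ih i ⟨i + t, hlt⟩ rfl
    have h2 : m ⟨i + t, hlt⟩ < m j := hm (by rw [Fin.lt_def]; simp; omega)
    omega

theorem sum_fin_id (r : ℕ) : (∑ i : Fin (r + 1), (i : ℕ)) * 2 = r * (r + 1) := by
  rw [Fin.sum_univ_eq_sum_range (fun i => i) (r + 1), Finset.sum_range_id_mul_two]
  simp [mul_comm]

theorem sum_fin_rev (r : ℕ) : ∑ i : Fin (r + 1), (r - (i : ℕ)) = ∑ i : Fin (r + 1), (i : ℕ) := by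
  rw [Fin.sum_univ_eq_sum_range (fun i => r - i) (r + 1),
    Fin.sum_univ_eq_sum_range (fun i => i) (r + 1)]
  exact Finset.sum_range_reflect (fun i => i) (r + 1)

/-- A function with divisor `D - d P∞` in genus zero. -/
theorem exists_div_eq_sub_single (hK : IsFunctionField k K) (hg : genus k K = 0)
    (D : Divisor k K) (d : ℕ) (hD : D.deg = d) {Pinf : Place k K} (hPinf : Pinf.deg = 1) :
    ∃ h : K, h ≠ 0 ∧ FunFld.div k h = D - Finsupp.single Pinf (d : ℤ) := by
  set E : Divisor k K := Finsupp.single Pinf (d : ℤ) with hE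
  have hdeg : (E - D).deg = 0 := by rw [deg_sub, hE, deg_single, hPinf, hD]; ring
  have h1 := ell_eq_of_deg_ge hK (E - D) (by rw [hdeg, hg]; norm_num)
  rw [hdeg, hg] at h1
  have h2 : 0 < ell (E - D) := by
    have : (0 : ℤ) < (ell (E - D) : ℤ) := by rw [h1]; norm_num
    exact_mod_cast this
  obtain ⟨u, hu0, hu⟩ := exists_ne_zero_mem_L_of_ell_pos h2
  have h3 := (mem_L_iff_div hK _ hu0).mp hu
  have h4 := eq_zero_of_nonneg_of_deg_le hK h3 (by rw [deg_add_div hK, hdeg])
  refine ⟨u, hu0, ?_⟩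
  have : FunFld.div k u = -(E - D) := eq_neg_of_add_eq_zero_right h4
  rw [this]; abel

section main

variable [IsAlgClosed k] [CharZero k]

/-- The **Plücker inequality** for a `g^r_d` on a curve of genus zero in characteristic zero:
the weights at finitely many points add up to at most `(r+1)(d-r)`. -/
theorem plucker (hK : IsFunctionField k K) (hg : genus k K = 0) (D : Divisor k K) (d r : ℕ)
    (hD : D.deg = d) (V : Submodule k K) (hV : V ≤ L D) (hVr : Module.finrank k V = r + 1)
    (S : Finset (Place k K)) :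
    (∑ P ∈ S, ∑ j ∈ Finset.range d,
      Module.finrank k ↥(V ⊓ L (D - Finsupp.single P ((j : ℤ) + 1)))) + r * (r + 1) ≤
      (r + 1) * d + S.card * (r * (r + 1) / 2) := by
  classical
  haveI := infinite_places hK
  obtain ⟨Pinf, hPinfS⟩ := Infinite.exists_notMem_finset S
  have hdeg1 : ∀ P : Place k K, P.deg = 1 := deg_eq_one_of_isAlgClosed hK
  obtain ⟨x, hx1, hx2⟩ := exists_simple_pole_at hK hg (hdeg1 Pinf)
  have hx : IsCoord Pinf x := ⟨hx1, hx2⟩
  have htr := IsCoord_transcendental hK hx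
  have hinjx : Function.Injective (aeval (R := k) x) := transcendental_iff_injective.mp htr
  obtain ⟨h, hh0, hhdiv⟩ := exists_div_eq_sub_single hK hg D d hD (hdeg1 Pinf)
  set E : Divisor k K := Finsupp.single Pinf (d : ℤ) with hE
  set T : ℕ := ∑ i : Fin (r + 1), (i : ℕ) with hT
  have hT2 : T * 2 = r * (r + 1) := sum_fin_id r
  have hTdiv : r * (r + 1) / 2 = T := by omega
  -- transport of elements of `V` to polynomials
  have hval : ∀ (P : Place k K) (b : K), b ≠ 0 → P.1 (h * b) = exp (E P - D P) * P.1 b := by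
    intro P b _
    rw [map_mul, val_eq_exp_neg_ord P hh0]
    congr 2
    have := congrArg (fun F : Divisor k K => F P) hhdiv
    simp only [div_apply hK, Finsupp.sub_apply] at this
    rw [this, hE]; ring
  have hpoly : ∀ b ∈ V, ∃ f : k[X], aeval x f = h * b := by
    intro b hb
    apply exists_aeval_eq_of_mem_L hK hg (hdeg1 Pinf) hx d
    rw [mul_mem_L_iff hK _ h b hh0, hhdiv]
    have : Finsupp.single Pinf (d : ℤ) + (D - Finsupp.single Pinf (d : ℤ)) = D := by abel
    rw [this]
    exact hV hb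
  -- data at each place
  have hdata : ∀ P : Place k K, ∃ (f : Fin (r + 1) → k[X]) (m : Fin (r + 1) → ℕ) (b : Fin (r + 1) → K),
      StrictMono m ∧ (∀ i, m i ≤ d) ∧ (∀ i, aeval x (f i) = h * b i) ∧
      Submodule.span k (Set.range b) = V ∧ (∀ i, b i ∈ V) ∧
      (∀ i, P.1 (aeval x (f i)) = exp (E P - (m i : ℤ))) ∧ (∀ i, f i ≠ 0) ∧
      ∑ i, m i = ∑ j ∈ Finset.range d,
        Module.finrank k ↥(V ⊓ L (D - Finsupp.single P ((j : ℤ) + 1))) := by
    intro P
    obtain ⟨b, m, hbV, hbval, hm, hmd, -, hspan, hsum⟩ :=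
      exists_adapted_basis hK (hdeg1 P) D d hD V hV r hVr
    choose f hf using fun i => hpoly (b i) (hbV i)
    have hb0 : ∀ i, b i ≠ 0 := by
      intro i h0
      have := hbval i
      rw [h0, map_zero] at this
      exact exp_ne_zero this.symm
    refine ⟨f, m, b, hm, hmd, hf, hspan, hbV, fun i => ?_, fun i h0 => ?_, hsum⟩
    · rw [hf, hval P (b i) (hb0 i), hbval, ← exp_add]
      congr 1; ring
    · have := hf i
      rw [h0, map_zero] at this
      exact mul_ne_zero hh0 (hb0 i) this.symm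
  -- the reference family at infinity
  obtain ⟨g, m₀, b₀, hm₀, hm₀d, hg₀, -, hb₀V, hg₀val, hg₀ne, -⟩ := hdata Pinf
  have hgdeg : ∀ i, (g i).natDegree + m₀ i = d := by
    intro i
    have h1 := hg₀val i
    rw [val_inf_aeval hx (hg₀ne i), hE, Finsupp.single_eq_same, exp_inj] at h1
    have := hm₀d i
    omega
  have hginj : Function.Injective fun i => (g i).natDegree := by
    intro i j hij
    apply hm₀.injective
    have h1 := hgdeg i
    have h2 := hgdeg j
    simp only at hij
    omega
  obtain ⟨hW0, hWdeg⟩ := wr_ne_zero_of_natDegree_injective g hg₀ne hginj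
  have hm₀lo : ∀ i : Fin (r + 1), (i : ℕ) ≤ m₀ i := by
    intro i
    have := strictMono_fin_add_le m₀ hm₀ (i : ℕ) ⟨0, Nat.succ_pos r⟩ i (by simp)
    omega
  have hm₀hi : ∀ i : Fin (r + 1), m₀ i + (r - (i : ℕ)) ≤ d := by
    intro i
    have := strictMono_fin_add_le m₀ hm₀ (r - (i : ℕ)) i (Fin.last r) (by
      have := i.2; simp; omega)
    exact this.trans (hm₀d _)
  have hsumdeg : ∑ i, (g i).natDegree + ∑ i, m₀ i = (r + 1) * d := by
    rw [← Finset.sum_add_distrib, Finset.sum_congr rfl (fun i _ => hgdeg i)]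
    simp
  have hsum_m₀ : T ≤ ∑ i, m₀ i := Finset.sum_le_sum fun i _ => hm₀lo i
  have hsum_deg : T ≤ ∑ i, (g i).natDegree := by
    rw [hT, ← sum_fin_rev r]
    refine Finset.sum_le_sum fun i _ => ?_
    have h1 := hgdeg i
    have h2 := hm₀hi i
    omega
  -- data at the places of `S`
  choose f m b hm hmd hf hspan hbV hfval hfne hsum using hdata
  have hPne : ∀ P ∈ S, P ≠ Pinf := fun P hP h => hPinfS (h ▸ hP)
  have hex_a : ∀ P : Place k K, ∃ a : k, P ≠ Pinf → P.1 (x - algebraMap k K a) < 1 := by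
    intro P
    by_cases hP : P = Pinf
    · exact ⟨0, fun h => absurd hP h⟩
    · obtain ⟨a, ha⟩ := exists_const_sub_lt_one hK (hdeg1 P) (IsCoord_val_le_one hx hP)
      exact ⟨a, fun _ => ha⟩
  choose a ha using hex_a
  have ha_inj : ∀ P ∈ S, ∀ Q ∈ S, a P = a Q → P = Q := by
    intro P hP Q hQ hPQ
    have h1 := ha P (hPne P hP)
    have h2 := ha Q (hPne Q hQ)
    rw [← hPQ] at h2
    exact ((IsCoord_zero_unique hK (hdeg1 Pinf) (IsCoord_sub hx (a P)) h1).2 Q h2).symm
  have hdvd : ∀ P ∈ S, (X - C (a P)) ^ (∑ i, m P i - T) ∣ wr g := by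
    intro P hP
    have hPinf' := hPne P hP
    have hpow : ∀ i, (X - C (a P)) ^ (m P i) ∣ f P i := by
      intro i
      apply pow_dvd_of_val_aeval_le hK (hdeg1 Pinf) hx hPinf' (ha P hPinf')
      rw [hfval P i, hE, Finsupp.single_eq_of_ne hPinf', zero_sub]
    have h1 := pow_dvd_wr (f P) (a P) (m P) hpow
    -- express `g` through `f P`
    have hcomb : ∀ i, ∃ c : Fin (r + 1) → k, ∑ l, c l • b P l = b₀ i := by
      intro i
      have : b₀ i ∈ Submodule.span k (Set.range (b P)) := by rw [hspan P]; exact hb₀V i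
      exact (Submodule.mem_span_range_iff_exists_fun k).mp this
    choose A hA using hcomb
    have hgA : ∀ i, g i = ∑ l, C (A i l) * f P l := by
      intro i
      apply hinjx
      rw [hg₀ i, ← hA i, map_sum, Finset.mul_sum]
      refine Finset.sum_congr rfl fun l _ => ?_
      rw [map_mul, aeval_C, hf P l, Algebra.smul_def]; ring
    rw [wr_linear_comb (f P) g (Matrix.of A) hgA]
    exact Dvd.dvd.mul_left h1 _
  have hprod : ∏ P ∈ S, (X - C (a P)) ^ (∑ i, m P i - T) ∣ wr g := by
    apply Finset.prod_dvd_of_coprime _ hdvd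
    intro P hP Q hQ hPQ
    have hne : a P ≠ a Q := fun h => hPQ (ha_inj P hP Q hQ h)
    exact (isCoprime_X_sub_C_of_isUnit_sub (sub_ne_zero.mpr hne).isUnit).pow
  have hdegprod : (∏ P ∈ S, (X - C (a P)) ^ (∑ i, m P i - T)).natDegree =
      ∑ P ∈ S, (∑ i, m P i - T) := by
    rw [natDegree_prod_of_monic _ _ fun P _ => (monic_X_sub_C (a P)).pow _]
    refine Finset.sum_congr rfl fun P _ => ?_
    rw [natDegree_pow, natDegree_X_sub_C, mul_one]
  have hle := natDegree_le_of_dvd hprod hW0
  rw [hdegprod] at hle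
  -- arithmetic
  have hfin : ∑ P ∈ S, ∑ i, m P i ≤ ∑ P ∈ S, (∑ i, m P i - T) + S.card * T := by
    rw [Finset.card_eq_sum_ones, Finset.sum_mul, ← Finset.sum_add_distrib]
    refine Finset.sum_le_sum fun P _ => ?_
    omega
  have hrew : ∑ P ∈ S, ∑ j ∈ Finset.range d,
      Module.finrank k ↥(V ⊓ L (D - Finsupp.single P ((j : ℤ) + 1))) = ∑ P ∈ S, ∑ i, m P i :=
    Finset.sum_congr rfl fun P _ => (hsum P).symm
  rw [hrew, hTdiv]
  omega

end main

end Groth.Agent.Lib.Helper18.FF
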