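import Groth.Agent.Lib.Helper18.FF.AdjFin2
import Groth.Agent.Lib.Helper18.FF.AdjFin3
import Groth.Agent.Lib.Helper18.FF.PlaneSetup2
import Groth.Agent.Lib.Helper18.Hasse.StrongGenus
import Groth.Agent.Lib.Helper18.Hasse.TaylorExp
import Groth.Agent.Lib.Helper24.FFExt.Geometric
import Groth.Agent.Lib.Helper24.FFExt.Kaehler
import Groth.Agent.Lib.Helper24.FFExt.Under
import Groth.Agent.Lib.Helper24.FFExt.IntClosure

/-! # The adjoint divisor of a plane map at a finite place, generic coordinates (helper18) -/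

set_option autoImplicit false
set_option linter.style.haveILetI false

namespace Groth.Agent.Lib.Helper18.FF

open FunFld WithZero LocRes IntermediateField Groth.Agent.Lib.Helper24.FFExt
  Groth.Agent.Lib.Helper18.Tate Groth.Agent.Lib.Helper18.Hasse

universe u v

variable {k : Type u} {K : Type v} [Field k] [Field K] [Algebra k K]

/-- Over an algebraically closed constant field all residue field extensions are trivial. -/
theorem residue_surjective_of_isAlgClosed [IsAlgClosed k] {K' : Type v} [Field K'] [Algebra K K']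
    [Algebra k K'] [IsScalarTower k K K'] (hK' : IsFunctionField k K') {P : Place k K}
    {Q : Place k K'} [P.1.HasExtension Q.1] :
    Function.Surjective (algebraMap (IsLocalRing.ResidueField P.O)
      (IsLocalRing.ResidueField Q.O)) := by
  intro ybar
  obtain ⟨⟨w, hw⟩, rfl⟩ := IsLocalRing.residue_surjective ybar
  have hw' : Q.1 w ≤ 1 := (Valuation.mem_valuationSubring_iff _ _).mp hw
  obtain ⟨a, ha⟩ := exists_const_sub_lt_one hK' (deg_eq_one_of_isAlgClosed hK' Q) hw'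
  let c : P.O := ⟨algebraMap k K a, (Valuation.mem_valuationSubring_iff _ _).mpr (P.2.1 a)⟩
  refine ⟨IsLocalRing.residue P.O c, ?_⟩
  rw [Valuation.HasExtension.algebraMap_residue_eq_residue_algebraMap P.1 Q.1]
  rw [eq_comm, ← sub_eq_zero, ← map_sub, IsLocalRing.residue_eq_zero_iff]
  refine (Valuation.mem_maximalIdeal_iff (v := Q.1)).mpr ?_
  have h4 : ((⟨w, hw⟩ - algebraMap P.O Q.O c : Q.O) : K') = w - algebraMap K K' c.1 := by
    rw [← Valuation.HasExtension.coe_algebraMap_valuationSubring_eq P.1 Q.1]; rfl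
  rw [h4]
  show Q.1 (w - algebraMap K K' (algebraMap k K a)) < 1
  rw [← IsScalarTower.algebraMap_apply]
  exact ha

/-- **The adjoint divisor at a finite place, in generic coordinates.** -/
theorem plane_finite_core [IsAlgClosed k] (hK : IsFunctionField k K) (x y : K)
    (hxy : IntermediateField.adjoin k ({x, y} : Set K) = ⊤)
    (hgen : ∀ P : Place k K, 0 < mapDiv k ![(1 : K), x, y] P →
      P.1 x = exp (mapDiv k ![(1 : K), x, y] P))
    (hdx : KaehlerDifferential.D k K x ≠ 0)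
    (g : MvPolynomial (Fin 2) k) (hg0 : g ≠ 0) (hgxy : MvPolynomial.aeval ![x, y] g = 0)
    (hgdeg : (g.totalDegree : ℤ) ≤ (mapDiv k ![(1 : K), x, y]).deg)
    (Q : Place k K) (hQx : Q.1 x ≤ 1)
    (ΦQ : K →ₐ[k] LaurentSeries k) (hΦQ : IsExpansionAt Q.1 ΦQ) :
    MvPolynomial.aeval ![x, y] (MvPolynomial.pderiv 1 g) ≠ 0 ∧
    ordDiff ΦQ 1 x ≤ Q.ord (MvPolynomial.aeval ![x, y] (MvPolynomial.pderiv 1 g)) ∧
    (Q.ord (MvPolynomial.aeval ![x, y] (MvPolynomial.pderiv 1 g)) = ordDiff ΦQ 1 x ↔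
      IsNonsingularAt ![(1 : K), x, y] Q) := by
  classical
  have hg := isGeometric_of_perfectField hK
  obtain ⟨u, N, hu, hpole, hut, hdegN, hN1, hli, hNfin, hNmin⟩ :=
    plane_setup_of hK x y hxy 0 (by simpa using hgen)
  have hux : u = x := by rw [hu, zero_smul, add_zero]
  subst hux
  obtain ⟨hxt, hfd, hsep⟩ := isSeparable_of_D_ne_zero' hK hg hdx
  haveI := hfd
  haveI := hsep
  have hK₀ : IsFunctionField k ↥k⟮u⟯ :=
    isFunctionField_intermediateField hK k⟮u⟯ ⟨u, mem_adjoin_simple_self k u, hxt⟩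
  have hg₀ := isGeometric_of_perfectField hK₀
  obtain ⟨P, hQP⟩ := exists_isOver (K := ↥k⟮u⟯) (K' := K) hK₀ Q
  obtain ⟨e, he⟩ := hQP
  have hQP : IsOver Q P := ⟨e, he⟩
  haveI := hasExtension_of_isOverWith he
  letI algPO : Algebra P.O K := ((algebraMap ↥k⟮u⟯ K).comp P.O.subtype).toAlgebra
  haveI : IsScalarTower P.O ↥k⟮u⟯ K := IsScalarTower.of_algebraMap_eq (fun _ => rfl)
  have hf := residue_surjective_of_isAlgClosed (K := ↥k⟮u⟯) hK (P := P) (Q := Q)
  -- `y` is integral at `Q` and integral over `O_P`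
  have hfinite : ∀ Q' : Place k K, Q'.1 u ≤ 1 → Q'.1 y ≤ 1 := by
    intro Q' hQ'
    have h0 : mapDiv k ![(1 : K), u, y] Q' = 0 := by
      refine le_antisymm ?_ (plane_nonneg hK u y Q')
      by_contra hcon
      push Not at hcon
      have := hgen Q' hcon
      rw [this, ← exp_zero, exp_le_exp] at hQ'
      omega
    have := plane_y_mem hK u y Q'
    rwa [h0, exp_zero] at this
  have hQy : Q.1 y ≤ 1 := hfinite Q hQx
  let u₀ : ↥k⟮u⟯ := ⟨u, mem_adjoin_simple_self k u⟩
  have hPu : P.1 u₀ ≤ 1 := by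
    rw [← isOver_le_one_iff hQP]
    exact hQx
  have hyi : IsIntegral P.O y := by
    apply isIntegral_of_forall_isOver hK₀ P
    intro Q' hQ'
    apply hfinite
    have : Q'.1 (algebraMap ↥k⟮u⟯ K u₀) ≤ 1 := (isOver_le_one_iff hQ' u₀).mpr hPu
    exact this
  have hytop : IntermediateField.adjoin ↥k⟮u⟯ ({y} : Set K) = ⊤ := by
    rw [← IntermediateField.restrictScalars_eq_top_iff (K := k),
      IntermediateField.adjoin_adjoin_left, ← hxy]
    congr 1
  -- expansions
  obtain ⟨s₀, H₀, hH₀⟩ := exists_hasse hK₀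
  obtain ⟨φ, hφ⟩ := exists_expansion hK₀ hH₀ P
  -- differentials
  have hdu₀ : KaehlerDifferential.D k ↥k⟮u⟯ u₀ ≠ 0 := by
    intro h0
    apply hdx
    have := congrArg (KaehlerDifferential.map k k ↥k⟮u⟯ K) h0
    rwa [KaehlerDifferential.map_D, map_zero] at this
  have hvx : vDiff φ 1 u₀ ≠ 0 :=
    vDiff_ne_zero_of_D_ne_zero hK₀ hg₀ P φ hφ one_ne_zero hdu₀
  have hvx' : vDiff ΦQ 1 (algebraMap ↥k⟮u⟯ K u₀) ≠ 0 :=
    vDiff_ne_zero_of_D_ne_zero hK hg Q ΦQ hΦQ one_ne_zero hdx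
  -- the place `P` is `u = α`
  obtain ⟨α, hα⟩ := exists_const_sub_lt_one hK (deg_eq_one_of_isAlgClosed hK Q) hQx
  have huα : u - algebraMap k K α ≠ 0 := by
    intro h
    apply hdx
    rw [sub_eq_zero.mp h]
    exact (KaehlerDifferential.D k K).map_algebraMap α
  have hPα : P.1 (u₀ - algebraMap k ↥k⟮u⟯ α) < 1 := by
    rw [← isOver_lt_one_iff hQP]
    exact hα
  have hu₀α : u₀ - algebraMap k ↥k⟮u⟯ α ≠ 0 := by
    intro h
    apply huα
    have := congrArg (algebraMap ↥k⟮u⟯ K) h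
    rwa [map_zero] at this
  have htop₀ : IntermediateField.adjoin k ({u₀ - algebraMap k ↥k⟮u⟯ α} : Set ↥k⟮u⟯) = ⊤ := by
    have h1 : IntermediateField.adjoin k ({u₀} : Set ↥k⟮u⟯) = ⊤ := by
      apply IntermediateField.map_injective (IntermediateField.val k⟮u⟯)
      rw [IntermediateField.adjoin_map, Set.image_singleton, ← AlgHom.fieldRange_eq_map,
        IntermediateField.fieldRange_val]
      rfl
    rw [eq_top_iff, ← h1, IntermediateField.adjoin_le_iff, Set.singleton_subset_iff]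
    have hmem : (u₀ - algebraMap k ↥k⟮u⟯ α) + algebraMap k ↥k⟮u⟯ α ∈
        IntermediateField.adjoin k ({u₀ - algebraMap k ↥k⟮u⟯ α} : Set ↥k⟮u⟯) :=
      add_mem (IntermediateField.mem_adjoin_simple_self k _)
        (IntermediateField.algebraMap_mem _ α)
    rwa [sub_add_cancel] at hmem
  have hunif : P.1 (u₀ - algebraMap k ↥k⟮u⟯ α) = exp (-1 : ℤ) :=
    val_eq_exp_neg_one_of_adjoin_eq_top hK₀ htop₀ P hPα hu₀α
  have hord0 : ordDiff φ 1 u₀ = 0 := by
    have h1 : ordDiff φ 1 (u₀ - algebraMap k ↥k⟮u⟯ α) = 0 := ordDiff_uniformizer P.1 φ hφ hunif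
    rw [← h1]
    refine ordDiff_congr hK₀ P φ one_ne_zero ?_
    rw [map_sub, (KaehlerDifferential.D k ↥k⟮u⟯).map_algebraMap, sub_zero]
  have hdiff : diffExp φ ΦQ e u₀ = ordDiff ΦQ 1 u := by
    unfold diffExp
    rw [hord0, mul_zero, sub_zero]
    rfl
  -- the relation and the minimal polynomial
  have hyiK : IsIntegral ↥k⟮u⟯ y := Algebra.IsIntegral.isIntegral y
  have hgdeg' : g.totalDegree ≤ N := by
    rw [hdegN] at hgdeg
    exact_mod_cast hgdeg
  obtain ⟨c, hc0, hc⟩ := exists_const_pderiv_eq hut hyiK hNmin g hg0 hgxy hgdeg'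
  set δ := Polynomial.aeval y (Polynomial.derivative (minpoly ↥k⟮u⟯ y)) with hδ
  have hδ0 : δ ≠ 0 :=
    (Algebra.IsSeparable.isSeparable ↥k⟮u⟯ y).aeval_derivative_ne_zero (minpoly.aeval ↥k⟮u⟯ y)
  have hcK : algebraMap k K c ≠ 0 := (map_ne_zero _).mpr hc0
  have hordδ : Q.ord (MvPolynomial.aeval ![u, y] (MvPolynomial.pderiv 1 g)) = Q.ord δ := by
    rw [hc, ord_mul Q hcK hδ0, ord_algebraMap, zero_add]
  obtain ⟨hle, himp⟩ :=
    diffExp_le_ord_derivative_minpoly hK₀ hg₀ he φ hφ ΦQ hΦQ hvx hvx' hf hytop hyi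
  refine ⟨by rw [hc]; exact mul_ne_zero hcK hδ0, ?_, ?_⟩
  · rw [hordδ, ← hdiff]
    exact hle
  · rw [hordδ, ← hdiff, ← loc_iff_isNonsingularAt P Q hQP hQy hα huα]
    constructor
    · exact himp
    · intro hloc
      exact ord_derivative_minpoly_eq_diffExp_of_loc hK₀ hg₀ he φ hφ ΦQ hΦQ hvx hvx' hf hytop hyi
        hloc

end Groth.Agent.Lib.Helper18.FF
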