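import Groth.Agent.Lib.Helper18.FF.PlaneDegree
import Groth.Agent.Lib.Helper20.CoordChange
import Mathlib.RingTheory.MvPolynomial.Homogeneous
import Mathlib.Algebra.MvPolynomial.Funext

/-! # Dehomogenisation, linear substitutions and homogenisation of ternary forms (helper18) -/

set_option autoImplicit false
set_option linter.style.haveILetI false

namespace Groth.Agent.Lib.Helper18.FF

open MvPolynomial

variable {k : Type*} [Field k]

/-- Dehomogenisation `H(1, X, Y)`. -/
noncomputable def dehom (H : MvPolynomial (Fin 3) k) : MvPolynomial (Fin 2) k :=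
  aeval ![(1 : MvPolynomial (Fin 2) k), X 0, X 1] H

theorem aeval_dehom {K : Type*} [CommRing K] [Algebra k K] (a b : K) (H : MvPolynomial (Fin 3) k) :
    aeval ![a, b] (dehom H) = aeval ![(1 : K), a, b] H := by
  unfold dehom
  rw [comp_aeval_apply]
  have : (fun i => aeval ![a, b] (![(1 : MvPolynomial (Fin 2) k), X 0, X 1] i)) =
      ![(1 : K), a, b] := by
    funext i
    fin_cases i <;> simp
  rw [this]

theorem pderiv_dehom (H : MvPolynomial (Fin 3) k) :
    pderiv 1 (dehom H) = dehom (pderiv 2 H) := by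
  unfold dehom
  rw [Groth.Agent.Lib.Helper20.CoordChange.deriv_aeval (pderiv (1 : Fin 2))
    ![(1 : MvPolynomial (Fin 2) k), X 0, X 1] H, Fin.sum_univ_three]
  simp only [Matrix.cons_val_zero, Matrix.cons_val_one, Matrix.cons_val_two, Matrix.tail_cons,
    Matrix.head_cons]
  have h0 : pderiv (1 : Fin 2) (1 : MvPolynomial (Fin 2) k) = 0 := pderiv_one
  have h1 : pderiv (1 : Fin 2) (X (0 : Fin 2) : MvPolynomial (Fin 2) k) = 0 := by
    rw [pderiv_X, Pi.single_eq_of_ne (by decide)]
  have h2 : pderiv (1 : Fin 2) (X (1 : Fin 2) : MvPolynomial (Fin 2) k) = 1 := by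
    rw [pderiv_X, Pi.single_eq_same]
  rw [h0, h1, h2, smul_zero, smul_zero, zero_add, zero_add, smul_eq_mul, mul_one]

theorem totalDegree_dehom_le (H : MvPolynomial (Fin 3) k) :
    (dehom H).totalDegree ≤ H.totalDegree := by
  unfold dehom
  refine totalDegree_aeval_le_of_linear _ (fun i => ?_) H
  fin_cases i
  · simp
  · simp
  · simp

/-- The value of the `Y`-derivative of the dehomogenisation. -/
theorem aeval_pderiv_dehom {K : Type*} [CommRing K] [Algebra k K] (a b : K)
    (H : MvPolynomial (Fin 3) k) :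
    aeval ![a, b] (pderiv 1 (dehom H)) = aeval ![(1 : K), a, b] (pderiv 2 H) := by
  rw [pderiv_dehom, aeval_dehom]

/-- Linear substitution `H(AX)`. -/
noncomputable def lin (A : Matrix (Fin 3) (Fin 3) k) (H : MvPolynomial (Fin 3) k) :
    MvPolynomial (Fin 3) k :=
  aeval (fun i : Fin 3 => ∑ j, C (A i j) * X j) H

theorem lin_isHomogeneous (A : Matrix (Fin 3) (Fin 3) k) {H : MvPolynomial (Fin 3) k} {e : ℕ}
    (hH : H.IsHomogeneous e) : (lin A H).IsHomogeneous e := by
  have h := hH.aeval (fun i : Fin 3 => ∑ j, C (A i j) * X j) (n := 1) (fun i =>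
    IsHomogeneous.sum _ _ _ fun j _ => isHomogeneous_C_mul_X (A i j) j)
  rw [one_mul] at h
  exact h

theorem lin_lin (A B : Matrix (Fin 3) (Fin 3) k) (H : MvPolynomial (Fin 3) k) :
    lin B (lin A H) = lin (A * B) H := by
  unfold lin
  rw [comp_aeval_apply]
  congr 1
  congr 1
  funext i
  simp only [map_sum, map_mul, aeval_C, aeval_X, algebraMap_eq]
  simp only [Finset.mul_sum]
  rw [Finset.sum_comm]
  refine Finset.sum_congr rfl fun l _ => ?_
  rw [Matrix.mul_apply, map_sum, Finset.sum_mul]
  refine Finset.sum_congr rfl fun j _ => ?_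
  rw [map_mul]
  ring

theorem lin_one (H : MvPolynomial (Fin 3) k) : lin 1 H = H := by
  unfold lin
  have : (fun i : Fin 3 => ∑ j, C ((1 : Matrix (Fin 3) (Fin 3) k) i j) * X j) =
      (X : Fin 3 → MvPolynomial (Fin 3) k) := by
    funext i
    rw [Finset.sum_eq_single i]
    · rw [Matrix.one_apply_eq, map_one, one_mul]
    · intro j _ hj
      rw [Matrix.one_apply_ne hj.symm, map_zero, zero_mul]
    · intro h
      exact absurd (Finset.mem_univ _) h
  rw [this, aeval_X_left_apply]

theorem lin_ne_zero {A : Matrix (Fin 3) (Fin 3) k} (hA : A.det ≠ 0) {H : MvPolynomial (Fin 3) k}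
    (hH : H ≠ 0) : lin A H ≠ 0 := by
  intro h0
  apply hH
  have h1 : lin A⁻¹ (lin A H) = H := by
    rw [lin_lin, Matrix.mul_nonsing_inv A (isUnit_iff_ne_zero.mpr hA), lin_one]
  rw [← h1, h0]
  unfold lin
  rw [map_zero]

/-- Evaluation of a linear substitution. -/
theorem aeval_lin {K : Type*} [CommRing K] [Algebra k K] (A : Matrix (Fin 3) (Fin 3) k)
    (w : Fin 3 → K) (H : MvPolynomial (Fin 3) k) :
    aeval w (lin A H) = aeval (fun i => ∑ j, algebraMap k K (A i j) * w j) H := by
  unfold lin
  rw [comp_aeval_apply]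
  congr 1
  congr 1
  funext i
  simp only [map_sum, map_mul, aeval_C, aeval_X]

/-- A nonzero ternary form has a nonzero dehomogenisation. -/
theorem dehom_ne_zero [Infinite k] {H : MvPolynomial (Fin 3) k} {e : ℕ} (hH : H.IsHomogeneous e)
    (h0 : H ≠ 0) : dehom H ≠ 0 := by
  intro hd
  apply h0
  have hX : (X 0 : MvPolynomial (Fin 3) k) * H = 0 := by
    apply MvPolynomial.funext
    intro r
    rw [map_mul, eval_X, map_zero]
    rcases eq_or_ne (r 0) 0 with hr | hr
    · rw [hr, zero_mul]
    · have h1 : r = fun i => r 0 * ![(1 : k), r 1 / r 0, r 2 / r 0] i := by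
        funext i
        fin_cases i
        · simp
        · simp [mul_div_cancel₀ _ hr]
        · simp [mul_div_cancel₀ _ hr]
      have h2 : eval r H = aeval r H := rfl
      rw [h2, h1, Groth.Agent.Lib.Helper20.CoordChange.aeval_smul_of_homogeneous H e hH,
        ← aeval_dehom, hd, map_zero, mul_zero, mul_zero]
  rcases mul_eq_zero.mp hX with h | h
  · exact absurd h (X_ne_zero 0)
  · exact h

/-- Homogenisation of a bivariate polynomial in degree `totalDegree`. -/
noncomputable def hom (f : MvPolynomial (Fin 2) k) : MvPolynomial (Fin 3) k :=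
  ∑ d ∈ Finset.range (f.totalDegree + 1),
    X 0 ^ (f.totalDegree - d) * rename Fin.succ (homogeneousComponent d f)

theorem hom_isHomogeneous (f : MvPolynomial (Fin 2) k) : (hom f).IsHomogeneous f.totalDegree := by
  unfold hom
  refine IsHomogeneous.sum _ _ _ fun d hd => ?_
  have hd' : d ≤ f.totalDegree := by
    have := Finset.mem_range.mp hd
    omega
  have h1 : (X 0 ^ (f.totalDegree - d) : MvPolynomial (Fin 3) k).IsHomogeneous
      (f.totalDegree - d) := isHomogeneous_X_pow 0 _
  have h2 : (rename Fin.succ (homogeneousComponent d f) : MvPolynomial (Fin 3) k).IsHomogeneous d :=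
    (homogeneousComponent_isHomogeneous d f).rename_isHomogeneous
  have h3 := h1.mul h2
  rwa [Nat.sub_add_cancel hd'] at h3

theorem dehom_rename_succ (p : MvPolynomial (Fin 2) k) : dehom (rename Fin.succ p) = p := by
  unfold dehom
  rw [aeval_rename]
  have : (![(1 : MvPolynomial (Fin 2) k), X 0, X 1] ∘ Fin.succ) = X := by
    funext i
    fin_cases i <;> simp
  rw [this, aeval_X_left_apply]

theorem dehom_hom (f : MvPolynomial (Fin 2) k) : dehom (hom f) = f := by
  have h1 : dehom (hom f) = ∑ d ∈ Finset.range (f.totalDegree + 1), homogeneousComponent d f := by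
    unfold hom
    have : ∀ H : MvPolynomial (Fin 3) k, dehom H =
        aeval ![(1 : MvPolynomial (Fin 2) k), X 0, X 1] H := fun _ => rfl
    rw [this, map_sum]
    refine Finset.sum_congr rfl fun d _ => ?_
    rw [map_mul, map_pow, aeval_X, Matrix.cons_val_zero, one_pow, one_mul, ← this,
      dehom_rename_succ]
  rw [h1, sum_homogeneousComponent]

end Groth.Agent.Lib.Helper18.FF
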