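import Groth.Agent.Lib.Helper18.FF.DistinctOrders
import Groth.Agent.Lib.Helper18.LinAlg.Flag

/-! # Bases of a linear series adapted to a rational place -/

set_option autoImplicit false
set_option linter.style.haveILetI false

namespace Groth.Agent.Lib.Helper18.FF

open FunFld WithZero Groth.Agent.Lib.Helper18.LinAlg

universe u v

variable {k : Type u} {K : Type v} [Field k] [Field K] [Algebra k K]

/-- Imposing one more vanishing condition at a rational place drops the dimension by at most one. -/
theorem finrank_inf_L_add_single_le (hK : IsFunctionField k K) (V : Submodule k K)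
    (D : Divisor k K) {P : Place k K} (hP : P.deg = 1) :
    Module.finrank k ↥(V ⊓ L (D + Finsupp.single P 1)) ≤ Module.finrank k ↥(V ⊓ L D) + 1 := by
  haveI := finiteDimensional_residueField hK P
  haveI := finiteDimensional_L hK (D + Finsupp.single P 1)
  haveI : FiniteDimensional k ↥(V ⊓ L (D + Finsupp.single P 1)) :=
    Submodule.finiteDimensional_of_le inf_le_right
  obtain ⟨φ, hφ⟩ := exists_linearMap_ker D P
  let ψ : ↥(V ⊓ L (D + Finsupp.single P 1)) →ₗ[k] IsLocalRing.ResidueField P.O :=
    φ.comp (Submodule.inclusion inf_le_right)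
  have h1 := LinearMap.finrank_range_add_finrank_ker ψ
  have h2 : Module.finrank k (LinearMap.range ψ) ≤ P.deg := Submodule.finrank_le _
  -- the kernel embeds into `V ⊓ L D`
  have hker : ∀ v : LinearMap.ker ψ, ((v : ↥(V ⊓ L (D + Finsupp.single P 1))) : K) ∈ V ⊓ L D := by
    intro v
    refine ⟨v.1.2.1, ?_⟩
    have hv : φ (Submodule.inclusion inf_le_right v.1) = 0 := v.2
    have hmem : Submodule.inclusion inf_le_right v.1 ∈ LinearMap.ker φ := hv
    rw [hφ, Submodule.mem_comap] at hmem
    exact hmem
  let ι : LinearMap.ker ψ →ₗ[k] ↥(V ⊓ L D) :=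
    { toFun := fun v => ⟨_, hker v⟩
      map_add' := fun _ _ => rfl
      map_smul' := fun _ _ => rfl }
  have hι : Function.Injective ι := by
    intro v w hvw
    have : ((v : ↥(V ⊓ L (D + Finsupp.single P 1))) : K) = w := congrArg (fun z : ↥(V ⊓ L D) => (z : K)) hvw
    exact Subtype.ext (Subtype.ext this)
  haveI := finiteDimensional_L hK D
  haveI : FiniteDimensional k ↥(V ⊓ L D) := Submodule.finiteDimensional_of_le inf_le_right
  have h3 := LinearMap.finrank_le_finrank_of_injective hι
  omega

/-- A basis of a `g^r_d` with strictly increasing vanishing orders at a rational place. -/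
theorem exists_adapted_basis (hK : IsFunctionField k K) {P : Place k K} (hP : P.deg = 1)
    (D : Divisor k K) (d : ℕ) (hD : D.deg = d) (V : Submodule k K) (hV : V ≤ L D) (r : ℕ)
    (hVr : Module.finrank k V = r + 1) :
    ∃ (b : Fin (r + 1) → K) (m : Fin (r + 1) → ℕ),
      (∀ i, b i ∈ V) ∧ (∀ i, P.1 (b i) = exp (D P - (m i : ℤ))) ∧ StrictMono m ∧ (∀ i, m i ≤ d) ∧
      LinearIndependent k b ∧ Submodule.span k (Set.range b) = V ∧
      ∑ i, m i = ∑ j ∈ Finset.range d,
        Module.finrank k ↥(V ⊓ L (D - Finsupp.single P ((j : ℤ) + 1))) := by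
  haveI := finiteDimensional_L hK D
  haveI hVfin : FiniteDimensional k V := Submodule.finiteDimensional_of_le hV
  let U : ℕ → Submodule k K := fun j => V ⊓ L (D - Finsupp.single P (j : ℤ))
  have hanti : Antitone U := by
    intro i j hij
    refine inf_le_inf_left V (L_mono ?_)
    exact sub_le_sub_left (single_mono P (by exact_mod_cast hij)) D
  have hU0 : U 0 = V := by
    show V ⊓ L (D - Finsupp.single P ((0 : ℕ) : ℤ)) = V
    rw [Nat.cast_zero, Finsupp.single_zero, sub_zero]
    exact inf_eq_left.mpr hV
  have hUN : U (d + 1) = ⊥ := by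
    show V ⊓ L (D - Finsupp.single P ((d + 1 : ℕ) : ℤ)) = ⊥
    rw [eq_bot_iff]
    refine inf_le_right.trans ?_
    rw [L_eq_bot_of_deg_neg hK]
    rw [deg_sub, deg_single, hP, hD]
    push_cast; omega
  haveI : FiniteDimensional k (U 0) := by rw [hU0]; exact hVfin
  have hdrop : ∀ j, Module.finrank k (U j) ≤ Module.finrank k (U (j + 1)) + 1 := by
    intro j
    have := finrank_inf_L_add_single_le hK V (D - Finsupp.single P ((j + 1 : ℕ) : ℤ)) hP
    have e : D - Finsupp.single P ((j + 1 : ℕ) : ℤ) + Finsupp.single P 1 =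
        D - Finsupp.single P (j : ℤ) := by
      rw [sub_add, ← Finsupp.single_sub]; push_cast; congr 2; ring
    rw [e] at this
    exact this
  obtain ⟨b, m, hb1, hb2, hm, hmN, hsum⟩ := exists_flag_family' U (d + 1) hanti hUN hdrop (r + 1)
    (by rw [hU0]; exact hVr)
  have hbV : ∀ i, b i ∈ V := fun i => (hb1 i).1
  have hval : ∀ i, P.1 (b i) = exp (D P - (m i : ℤ)) := by
    intro i
    have h1 : b i ∈ L (D - Finsupp.single P (m i : ℤ)) := (hb1 i).2
    have h2 : b i ∉ L (D - Finsupp.single P ((m i + 1 : ℕ) : ℤ)) := fun h => hb2 i ⟨hbV i, h⟩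
    have h3 : ¬ ∀ Q : Place k K, Q.1 (b i) ≤
        exp ((D - Finsupp.single P ((m i + 1 : ℕ) : ℤ) : Divisor k K) Q) := h2
    push Not at h3
    obtain ⟨Q, hQ⟩ := h3
    have hQP : Q = P := by
      by_contra hne
      have := h1 Q
      rw [Finsupp.sub_apply, Finsupp.single_eq_of_ne hne] at this hQ
      exact absurd hQ (not_lt.mpr this)
    subst hQP
    have h4 := h1 Q
    rw [Finsupp.sub_apply, Finsupp.single_eq_same] at h4 hQ
    have hb0 : b i ≠ 0 := by
      intro h0; rw [h0, map_zero] at hQ; exact absurd hQ (not_lt.mpr zero_le')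
    rw [val_eq_exp_neg_ord Q hb0] at h4 hQ ⊢
    rw [exp_le_exp] at h4
    rw [exp_lt_exp] at hQ
    push_cast at hQ
    congr 1
    omega
  have hb0 : ∀ i, b i ≠ 0 := by
    intro i h0
    have := hval i
    rw [h0, map_zero] at this
    exact exp_ne_zero this.symm
  have hinj : Function.Injective (fun i => P.1 (b i)) := by
    intro i j hij
    simp only [hval] at hij
    have := exp_injective hij
    apply hm.injective
    omega
  have hli : LinearIndependent k b := linearIndependent_of_val_injective P b hb0 hinj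
  have hspan : Submodule.span k (Set.range b) = V := by
    apply Submodule.eq_of_le_of_finrank_eq
    · rw [Submodule.span_le]
      rintro _ ⟨i, rfl⟩
      exact hbV i
    · rw [finrank_span_eq_card hli, Fintype.card_fin, hVr]
  refine ⟨b, m, hbV, hval, hm, fun i => Nat.lt_succ_iff.mp (hmN i), hli, hspan, ?_⟩
  rw [hsum, Finset.sum_range_succ]
  have : Module.finrank k (U (d + 1)) = 0 := by rw [hUN, finrank_bot]
  rw [show Module.finrank k ↥(U (d + 1)) = 0 from this, add_zero]
  refine Finset.sum_congr rfl fun j _ => ?_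
  show Module.finrank k ↥(V ⊓ L (D - Finsupp.single P ((j + 1 : ℕ) : ℤ))) = _
  push_cast
  rfl

end Groth.Agent.Lib.Helper18.FF
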