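import Groth.Agent.Lib.Helper18.FF.Chart
import Groth.Agent.Lib.Helper18.FF.Flag

/-! # Codimension-two conditions for projective maps -/

set_option autoImplicit false
set_option linter.style.haveILetI false

namespace Groth.Agent.Lib.Helper18.FF

open FunFld WithZero

universe u v

variable {k : Type u} {K : Type v} [Field k] [Field K] [Algebra k K]

/-- An entry of least order at `P` attains the bound given by the divisor of the map. -/
theorem val_eq_exp_mapDiv_of_max (hK : IsFunctionField k K) {ι : Type*} [Fintype ι] [Nonempty ι]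
    (φ : ι → K) (hφ0 : ∀ i, φ i ≠ 0) (P : Place k K) (j : ι)
    (hjmax : ∀ i, P.1 (φ i) ≤ P.1 (φ j)) : P.1 (φ j) = exp (mapDiv k φ P) := by
  obtain ⟨i₀, hi₀⟩ := exists_mapDiv_eq hK φ P
  refine le_antisymm (mem_L_mapDiv hK φ j P) ?_
  rw [hi₀, ← val_eq_exp_neg_ord P (hφ0 i₀)]
  exact hjmax i₀

theorem finrank_lt_iff_exists_notMem {U' U : Submodule k K} [FiniteDimensional k U]
    (hle : U' ≤ U) : Module.finrank k U' < Module.finrank k U ↔ ∃ w ∈ U, w ∉ U' := by
  constructor
  · intro h
    by_contra hcon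
    push Not at hcon
    have hUU' : U ≤ U' := hcon
    have heq : U' = U := le_antisymm hle hUU'
    rw [heq] at h
    exact lt_irrefl _ h
  · rintro ⟨w, hw, hwn⟩
    exact Submodule.finrank_lt_finrank_of_lt (lt_of_le_of_ne hle (by
      rintro rfl
      exact hwn hw))

/-- The codimension-two condition in terms of sections. -/
theorem codim_two_iff [IsAlgClosed k] (hK : IsFunctionField k K) {ι : Type*} [Fintype ι]
    [Nonempty ι] (φ : ι → K) (hφ0 : ∀ i, φ i ≠ 0) (P Q : Place k K) :
    Module.finrank k ↥(Submodule.span k (Set.range φ) ⊓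
        L (mapDiv k φ - Finsupp.single P 1 - Finsupp.single Q 1)) + 2 =
      Module.finrank k ↥(Submodule.span k (Set.range φ)) ↔
    ∃ w ∈ Submodule.span k (Set.range φ), w ∈ L (mapDiv k φ - Finsupp.single Q 1) ∧
      w ∉ L (mapDiv k φ - Finsupp.single P 1 - Finsupp.single Q 1) := by
  classical
  obtain ⟨W, hW⟩ : ∃ W : Submodule k K, W = Submodule.span k (Set.range φ) := ⟨_, rfl⟩
  obtain ⟨D, hD⟩ : ∃ D : Divisor k K, D = mapDiv k φ := ⟨_, rfl⟩
  rw [← hW, ← hD]
  have hWL : W ≤ L D := by
    rw [hW, hD]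
    exact Submodule.span_le.mpr (by
      rintro _ ⟨i, rfl⟩
      exact mem_L_mapDiv hK φ i)
  haveI := finiteDimensional_L hK D
  haveI : FiniteDimensional k W := Submodule.finiteDimensional_of_le hWL
  have hPdeg := deg_eq_one_of_isAlgClosed hK P
  have hQdeg := deg_eq_one_of_isAlgClosed hK Q
  have h1 := finrank_inf_L_add_single_le hK W (D - Finsupp.single Q 1) hQdeg
  rw [sub_add_cancel, inf_eq_left.mpr hWL] at h1
  have h2 := finrank_inf_L_add_single_le hK W (D - Finsupp.single P 1 - Finsupp.single Q 1) hPdeg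
  have heq : D - Finsupp.single P 1 - Finsupp.single Q 1 + Finsupp.single P 1 =
      D - Finsupp.single Q 1 := by abel
  rw [heq] at h2
  -- `W ∩ L(D - Q)` is a proper subspace of `W`
  have h3 : Module.finrank k ↥(W ⊓ L (D - Finsupp.single Q 1)) < Module.finrank k W := by
    rw [finrank_lt_iff_exists_notMem inf_le_left]
    obtain ⟨i₀, hi₀⟩ := exists_mapDiv_eq hK φ Q
    refine ⟨φ i₀, by rw [hW]; exact Submodule.subset_span ⟨i₀, rfl⟩, fun h => ?_⟩
    have h4 : φ i₀ ∈ L (D - Finsupp.single Q 1) := h.2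
    rw [hD, mem_L_sub_single_iff hK _ (hφ0 i₀) (mem_L_mapDiv hK φ i₀) Q 1, Finsupp.add_apply,
      div_apply hK, hi₀] at h4
    omega
  have hle : W ⊓ L (D - Finsupp.single P 1 - Finsupp.single Q 1) ≤
      W ⊓ L (D - Finsupp.single Q 1) := by
    refine inf_le_inf_left _ (L_mono ?_)
    have : D - Finsupp.single P 1 - Finsupp.single Q 1 =
        D - Finsupp.single Q 1 - Finsupp.single P 1 := by abel
    rw [this]
    exact sub_le_self _ (single_nonneg' P (by norm_num))
  haveI : FiniteDimensional k ↥(W ⊓ L (D - Finsupp.single Q 1)) :=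
    Submodule.finiteDimensional_of_le inf_le_left
  have h5 := finrank_lt_iff_exists_notMem hle
  have h6 := Submodule.finrank_mono hle
  constructor
  · intro h
    have hlt : Module.finrank k ↥(W ⊓ L (D - Finsupp.single P 1 - Finsupp.single Q 1)) <
        Module.finrank k ↥(W ⊓ L (D - Finsupp.single Q 1)) := by omega
    obtain ⟨w, hw, hwn⟩ := h5.mp hlt
    exact ⟨w, hw.1, hw.2, fun h' => hwn ⟨hw.1, h'⟩⟩
  · rintro ⟨w, hwW, hwQ, hwn⟩
    have hlt := h5.mpr ⟨w, ⟨hwW, hwQ⟩, fun h' => hwn h'.2⟩
    omega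

/-- Dividing all entries by one of them does not change the local ring. -/
theorem inLocRing_div_iff {ι : Type*} (φ : ι → K) (j : ι) (hj : φ j ≠ 0) (P : Place k K) (z : K) :
    InLocRing (fun i => φ i / φ j) P z ↔ InLocRing φ P z := by
  have hv : P.1 (φ j) ≠ 0 := (Valuation.ne_zero_iff _).mpr hj
  have hfun : ∀ j' : ι, φ j' ≠ 0 →
      (fun i => (φ i / φ j) / (φ j' / φ j)) = fun i => φ i / φ j' := by
    intro j' hj'
    funext i
    field_simp
  constructor
  · rintro ⟨j', hj'0, hj'max, u, hu, w, hw, hwP, hzw⟩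
    have hj'0' : φ j' ≠ 0 := fun h => hj'0 (by simp [h])
    rw [hfun j' hj'0'] at hu hw
    refine ⟨j', hj'0', fun i => ?_, u, hu, w, hw, hwP, hzw⟩
    have := hj'max i
    simp only [map_div₀] at this
    exact (div_le_div_iff_of_pos_right (zero_lt_iff.mpr hv)).mp this
  · rintro ⟨j', hj'0, hj'max, u, hu, w, hw, hwP, hzw⟩
    refine ⟨j', div_ne_zero hj'0 hj, fun i => ?_, u, ?_, w, ?_, hwP, hzw⟩
    · simp only [map_div₀]
      exact (div_le_div_iff_of_pos_right (zero_lt_iff.mpr hv)).mpr (hj'max i)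
    · rw [hfun j' hj'0]
      exact hu
    · rw [hfun j' hj'0]
      exact hw

/-- A section not vanishing to higher order at `P` attains the bound there. -/
theorem val_eq_exp_of_mem_of_not_mem (hK : IsFunctionField k K) {F : Divisor k K} {P : Place k K}
    {w : K} (hw : w ∈ L F) (hwn : w ∉ L (F - Finsupp.single P 1)) : P.1 w = exp (F P) := by
  have hw0 : w ≠ 0 := by
    rintro rfl
    exact hwn (Submodule.zero_mem _)
  rw [mem_L_sub_single_iff hK F hw0 hw P 1] at hwn
  have h0 := (mem_L_iff_div hK F hw0).mp hw P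
  rw [Finsupp.zero_apply] at h0
  rw [Finsupp.add_apply, div_apply hK] at hwn h0
  rw [val_eq_exp_neg_ord P hw0]
  congr 1
  omega

/-- A section vanishing at `P` relative to `F`. -/
theorem mem_L_sub_single_of_val_le {F : Divisor k K} {P : Place k K} {w : K} (hw : w ∈ L F)
    (hP : P.1 w ≤ exp (F P - 1)) : w ∈ L (F - Finsupp.single P 1) := by
  classical
  intro R
  rw [Finsupp.sub_apply]
  by_cases hR : R = P
  · subst hR
    rw [Finsupp.single_eq_same]
    exact hP
  · rw [Finsupp.single_eq_of_ne hR, sub_zero]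
    exact hw R

theorem mul_mem_span_of_mem_span_div {ι : Type*} (φ : ι → K) (j : ι) (hj : φ j ≠ 0) {t : K}
    (ht : t ∈ Submodule.span k (Set.range fun i => φ i / φ j)) :
    φ j * t ∈ Submodule.span k (Set.range φ) := by
  induction ht using Submodule.span_induction with
  | mem x hx =>
    obtain ⟨i, rfl⟩ := hx
    rw [mul_div_cancel₀ _ hj]
    exact Submodule.subset_span ⟨i, rfl⟩
  | zero => rw [mul_zero]; exact Submodule.zero_mem _
  | add x y _ _ hx hy => rw [mul_add]; exact Submodule.add_mem _ hx hy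
  | smul c x _ hx => rw [mul_smul_comm]; exact Submodule.smul_mem _ c hx

end Groth.Agent.Lib.Helper18.FF
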