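import Groth.Agent.Lib.Helper18.FF.AdjointChange
import Groth.Agent.Lib.Helper18.FF.Codim
import Groth.Agent.Lib.Helper18.FF.ProjMap

/-! # Transfer of nonsingularity and generation under projective coordinate changes (helper18) -/

set_option autoImplicit false
set_option linter.style.haveILetI false

namespace Groth.Agent.Lib.Helper18.FF

open FunFld WithZero LocRes IntermediateField

universe u v

variable {k : Type u} {K : Type v} [Field k] [Field K] [Algebra k K]

/-- Inverting a linear change of tuples. -/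
theorem comb_inv {n : ℕ} (A : Matrix (Fin (n + 1)) (Fin (n + 1)) k)
    (hA : A.det ≠ 0) (u φ : Fin (n + 1) → K)
    (hu : ∀ i, ∑ j, algebraMap k K (A i j) * u j = φ i) (j : Fin (n + 1)) :
    ∑ i, algebraMap k K (A⁻¹ j i) * φ i = u j := by
  have hdet : IsUnit A.det := isUnit_iff_ne_zero.mpr hA
  calc ∑ i, algebraMap k K (A⁻¹ j i) * φ i
      = ∑ i, algebraMap k K (A⁻¹ j i) * ∑ l, algebraMap k K (A i l) * u l := by
        refine Finset.sum_congr rfl fun i _ => ?_
        rw [hu i]
    _ = ∑ l, (∑ i, algebraMap k K (A⁻¹ j i * A i l)) * u l := by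
        simp_rw [Finset.mul_sum, Finset.sum_mul]
        rw [Finset.sum_comm]
        refine Finset.sum_congr rfl fun l _ => Finset.sum_congr rfl fun i _ => ?_
        rw [map_mul]
        ring
    _ = ∑ l, algebraMap k K ((A⁻¹ * A) j l) * u l := by
        refine Finset.sum_congr rfl fun l _ => ?_
        rw [Matrix.mul_apply, map_sum]
    _ = u j := by
        rw [Matrix.nonsing_inv_mul A hdet]
        simp [Matrix.one_apply]

/-- Clearing denominators: if `r` and all `r t_i` lie in a subalgebra `S`, a high power of `r`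
carries each polynomial in the `t_i` into `S`. -/
theorem exists_pow_mul_mem_of_linear {ι : Type*} (t : ι → K) (S : Subalgebra k K) (r : K)
    (hr : r ∈ S) (ht : ∀ i, r * t i ∈ S) {a : K} (ha : a ∈ Algebra.adjoin k (Set.range t)) :
    ∃ d : ℕ, ∀ e : ℕ, d ≤ e → r ^ e * a ∈ S := by
  induction ha using Algebra.adjoin_induction with
  | mem x hx =>
    obtain ⟨i, rfl⟩ := hx
    refine ⟨1, fun e he => ?_⟩
    obtain ⟨e', rfl⟩ : ∃ e', e = e' + 1 := ⟨e - 1, by omega⟩
    rw [pow_succ, mul_assoc]
    exact S.mul_mem (S.pow_mem hr e') (ht i)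
  | algebraMap c =>
    exact ⟨0, fun e _ => S.mul_mem (S.pow_mem hr e) (S.algebraMap_mem c)⟩
  | add x y _ _ hx hy =>
    obtain ⟨d₁, h₁⟩ := hx
    obtain ⟨d₂, h₂⟩ := hy
    refine ⟨max d₁ d₂, fun e he => ?_⟩
    rw [mul_add]
    exact S.add_mem (h₁ e (le_trans (le_max_left _ _) he)) (h₂ e (le_trans (le_max_right _ _) he))
  | mul x y _ _ hx hy =>
    obtain ⟨d₁, h₁⟩ := hx
    obtain ⟨d₂, h₂⟩ := hy
    refine ⟨d₁ + d₂, fun e he => ?_⟩
    obtain ⟨e', rfl⟩ : ∃ e', e = d₁ + e' := ⟨e - d₁, by omega⟩
    have : r ^ (d₁ + e') * (x * y) = (r ^ d₁ * x) * (r ^ e' * y) := by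
      rw [pow_add]
      ring
    rw [this]
    exact S.mul_mem (h₁ d₁ le_rfl) (h₂ e' (by omega))

/-- The local ring of a projective map is unchanged by an invertible linear change of the
coordinates (one direction). -/
theorem inLocRing_of_linear (P : Place k K) {n : ℕ} (A : Matrix (Fin (n + 1)) (Fin (n + 1)) k)
    (hA : A.det ≠ 0) (u φ : Fin (n + 1) → K)
    (hu : ∀ i, ∑ j, algebraMap k K (A i j) * u j = φ i) {z : K} (hz : InLocRing u P z) :
    InLocRing φ P z := by
  obtain ⟨j, hj0, hjmax, a, ha, w, hw, hwP, hzw⟩ := hz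
  obtain ⟨j', hj'max⟩ := Finite.exists_max (fun i => P.1 (φ i))
  have hsup := sup_val_comb_eq P A hA u φ hu
  have h1 : Finset.univ.sup' Finset.univ_nonempty (fun i => P.1 (φ i)) = P.1 (φ j') :=
    le_antisymm (Finset.sup'_le _ _ fun i _ => hj'max i)
      (Finset.le_sup' (fun i => P.1 (φ i)) (Finset.mem_univ j'))
  have h2 : Finset.univ.sup' Finset.univ_nonempty (fun i => P.1 (u i)) = P.1 (u j) :=
    le_antisymm (Finset.sup'_le _ _ fun i _ => hjmax i)
      (Finset.le_sup' (fun i => P.1 (u i)) (Finset.mem_univ j))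
  have hval : P.1 (φ j') = P.1 (u j) := by rw [← h1, ← h2, hsup]
  have hvj : P.1 (u j) ≠ 0 := (Valuation.ne_zero_iff _).mpr hj0
  have hj'0 : φ j' ≠ 0 := (Valuation.ne_zero_iff _).mp (hval ▸ hvj)
  have hinv := comb_inv A hA u φ hu
  obtain ⟨S, hS⟩ : ∃ S : Subalgebra k K, S = Algebra.adjoin k (Set.range fun i => φ i / φ j') :=
    ⟨_, rfl⟩
  have hgen : ∀ m, φ m / φ j' ∈ S := fun m => hS ▸ Algebra.subset_adjoin ⟨m, rfl⟩
  have hdiv : ∀ i, u i / φ j' ∈ S := by
    intro i
    rw [← hinv i, Finset.sum_div]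
    refine S.sum_mem fun m _ => ?_
    rw [mul_div_assoc]
    exact S.mul_mem (S.algebraMap_mem _) (hgen m)
  have hr : u j / φ j' ∈ S := hdiv j
  have ht : ∀ i, u j / φ j' * (u i / u j) ∈ S := by
    intro i
    have : u j / φ j' * (u i / u j) = u i / φ j' := by
      field_simp
    rw [this]
    exact hdiv i
  have hrP : P.1 (u j / φ j') = 1 := by
    rw [map_div₀, hval, div_self hvj]
  obtain ⟨d₁, h₁⟩ := exists_pow_mul_mem_of_linear (fun i => u i / u j) S (u j / φ j') hr ht ha
  obtain ⟨d₂, h₂⟩ := exists_pow_mul_mem_of_linear (fun i => u i / u j) S (u j / φ j') hr ht hw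
  refine ⟨j', hj'0, hj'max, (u j / φ j') ^ (d₁ + d₂) * a, hS ▸ h₁ _ (by omega),
    (u j / φ j') ^ (d₁ + d₂) * w, hS ▸ h₂ _ (by omega), ?_, ?_⟩
  · rw [map_mul, map_pow, hrP, one_pow, one_mul, hwP]
  · rw [← hzw]
    ring

/-- Nonsingularity of a projective map at a place is invariant under invertible linear changes. -/
theorem isNonsingularAt_linear_iff (P : Place k K) {n : ℕ}
    (A : Matrix (Fin (n + 1)) (Fin (n + 1)) k) (hA : A.det ≠ 0) (u φ : Fin (n + 1) → K)
    (hu : ∀ i, ∑ j, algebraMap k K (A i j) * u j = φ i) :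
    IsNonsingularAt φ P ↔ IsNonsingularAt u P := by
  have hA' : A⁻¹.det ≠ 0 := by
    have : IsUnit A⁻¹.det := (Matrix.isUnit_nonsing_inv_det_iff).mpr (isUnit_iff_ne_zero.mpr hA)
    exact this.ne_zero
  constructor
  · intro h z hz
    exact inLocRing_of_linear P A⁻¹ hA' φ u (comb_inv A hA u φ hu) (h z hz)
  · intro h z hz
    exact inLocRing_of_linear P A hA u φ hu (h z hz)

/-- Nonsingularity of a plane map at a place under a change of projective coordinates. -/
theorem isNonsingularAt_coord_change (P : Place k K) (x y : K)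
    (A : Matrix (Fin 3) (Fin 3) k) (hA : A.det ≠ 0)
    (u : Fin 3 → K) (hu : ∀ i, ∑ j, algebraMap k K (A i j) * u j = ![(1 : K), x, y] i)
    (hu0 : u 0 ≠ 0) :
    IsNonsingularAt ![(1 : K), u 1 / u 0, u 2 / u 0] P ↔ IsNonsingularAt ![(1 : K), x, y] P := by
  rw [isNonsingularAt_linear_iff P A hA u ![(1 : K), x, y] hu]
  have hfun : (fun i => u i / u 0) = ![(1 : K), u 1 / u 0, u 2 / u 0] := by
    funext i
    fin_cases i
    · simp [div_self hu0]
    · simp
    · simp
  rw [← hfun]
  unfold IsNonsingularAt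
  refine forall_congr' fun z => imp_congr_right fun _ => ?_
  exact inLocRing_div_iff u 0 hu0 P z

/-- The new affine coordinates still generate the function field. -/
theorem adjoin_coord_change (x y : K) (A : Matrix (Fin 3) (Fin 3) k)
    (u : Fin 3 → K) (hu : ∀ i, ∑ j, algebraMap k K (A i j) * u j = ![(1 : K), x, y] i)
    (hu0 : u 0 ≠ 0) (hxy : IntermediateField.adjoin k ({x, y} : Set K) = ⊤) :
    IntermediateField.adjoin k ({u 1 / u 0, u 2 / u 0} : Set K) = ⊤ := by
  obtain ⟨E, hE⟩ : ∃ E : IntermediateField k K,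
    E = IntermediateField.adjoin k ({u 1 / u 0, u 2 / u 0} : Set K) := ⟨_, rfl⟩
  rw [← hE]
  have hul : ∀ l, u l / u 0 ∈ E := by
    intro l
    fin_cases l
    · simp only [Fin.zero_eta, Fin.isValue]
      rw [div_self hu0]
      exact E.one_mem
    · exact hE ▸ IntermediateField.subset_adjoin k _ (Set.mem_insert _ _)
    · exact hE ▸ IntermediateField.subset_adjoin k _ (Set.mem_insert_of_mem _ rfl)
  have hφ : ∀ i, ![(1 : K), x, y] i / u 0 ∈ E := by
    intro i
    rw [← hu i, Finset.sum_div]
    refine E.sum_mem fun l _ => ?_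
    rw [mul_div_assoc]
    exact E.mul_mem (E.algebraMap_mem _) (hul l)
  have h0 : (1 : K) / u 0 ∈ E := hφ 0
  have hx : x ∈ E := by
    have h1 : x / u 0 ∈ E := hφ 1
    have : x = (x / u 0) / (1 / u 0) := by
      field_simp
    rw [this]
    exact E.div_mem h1 h0
  have hy : y ∈ E := by
    have h1 : y / u 0 ∈ E := hφ 2
    have : y = (y / u 0) / (1 / u 0) := by
      field_simp
    rw [this]
    exact E.div_mem h1 h0
  rw [eq_top_iff, ← hxy, IntermediateField.adjoin_le_iff]
  rintro z (rfl | rfl)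
  · exact hx
  · exact hy

/-- The intermediate field of elements with vanishing differential. -/
noncomputable def kerD (k : Type u) (K : Type v) [Field k] [Field K] [Algebra k K] :
    IntermediateField k K where
  carrier := {z | KaehlerDifferential.D k K z = 0}
  mul_mem' := by
    intro a b ha hb
    simp only [Set.mem_setOf_eq] at ha hb ⊢
    rw [Derivation.leibniz, ha, hb, smul_zero, smul_zero, add_zero]
  one_mem' := by
    simp only [Set.mem_setOf_eq]
    exact Derivation.map_one_eq_zero _
  add_mem' := by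
    intro a b ha hb
    simp only [Set.mem_setOf_eq] at ha hb ⊢
    rw [map_add, ha, hb, add_zero]
  zero_mem' := by
    simp only [Set.mem_setOf_eq]
    exact map_zero _
  algebraMap_mem' := by
    intro c
    simp only [Set.mem_setOf_eq]
    exact Derivation.map_algebraMap _ c
  inv_mem' := by
    intro a ha
    simp only [Set.mem_setOf_eq] at ha ⊢
    rw [Derivation.leibniz_inv, ha, smul_zero]

theorem not_D_eq_zero_of_adjoin {a b : K}
    (hab : IntermediateField.adjoin k ({a, b} : Set K) = ⊤) {x : K}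
    (hdx : KaehlerDifferential.D k K x ≠ 0) :
    ¬ (KaehlerDifferential.D k K a = 0 ∧ KaehlerDifferential.D k K b = 0) := by
  rintro ⟨ha, hb⟩
  apply hdx
  have hle : IntermediateField.adjoin k ({a, b} : Set K) ≤ kerD k K := by
    rw [IntermediateField.adjoin_le_iff]
    rintro z (rfl | rfl)
    · exact ha
    · exact hb
  rw [hab] at hle
  exact hle (IntermediateField.mem_top (x := x))

/-- For all but finitely many constants `c`, `d(a + c b) ≠ 0`. -/
theorem exists_finset_D_ne_zero {a b : K}
    (hab : IntermediateField.adjoin k ({a, b} : Set K) = ⊤) {x : K}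
    (hdx : KaehlerDifferential.D k K x ≠ 0) :
    ∃ S : Finset k, ∀ c : k, c ∉ S → KaehlerDifferential.D k K (a + c • b) ≠ 0 := by
  classical
  by_cases h : ∃ c₀ : k, KaehlerDifferential.D k K (a + c₀ • b) = 0
  · obtain ⟨c₀, hc₀⟩ := h
    refine ⟨{c₀}, fun c hc hcD => ?_⟩
    rw [Finset.mem_singleton] at hc
    have h1 : (c - c₀) • KaehlerDifferential.D k K b = 0 := by
      have e1 : KaehlerDifferential.D k K (a + c • b) =
          KaehlerDifferential.D k K a + c • KaehlerDifferential.D k K b := by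
        rw [map_add, Derivation.map_smul]
      have e2 : KaehlerDifferential.D k K (a + c₀ • b) =
          KaehlerDifferential.D k K a + c₀ • KaehlerDifferential.D k K b := by
        rw [map_add, Derivation.map_smul]
      rw [e1] at hcD
      rw [e2] at hc₀
      rw [sub_smul, ← sub_eq_zero.mpr (hcD.trans hc₀.symm)]
      abel
    have hb : KaehlerDifferential.D k K b = 0 := by
      rcases smul_eq_zero.mp h1 with h | h
      · exact absurd (sub_eq_zero.mp h) hc
      · exact h
    have ha : KaehlerDifferential.D k K a = 0 := by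
      rw [map_add, Derivation.map_smul, hb, smul_zero, add_zero] at hc₀
      exact hc₀
    exact not_D_eq_zero_of_adjoin hab hdx ⟨ha, hb⟩
  · push Not at h
    exact ⟨∅, fun c _ => h c⟩

end Groth.Agent.Lib.Helper18.FF
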