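import Groth.Agent.Lib.Helper18.FF.GaussKer2
import Mathlib.Algebra.MvPolynomial.Degrees
import Mathlib.Algebra.MvPolynomial.CommRing

/-! # Degree bookkeeping for plane curves under a shear -/

set_option autoImplicit false

namespace Groth.Agent.Lib.Helper18.FF

open Polynomial
open scoped Polynomial.Bivariate

variable {k : Type*} [Field k]

theorem totalDegree_aeval_le_of_linear {σ τ : Type*} [Fintype σ]
    (φ : σ → MvPolynomial τ k) (hφ : ∀ i, (φ i).totalDegree ≤ 1) (f : MvPolynomial σ k) :
    (MvPolynomial.aeval φ f).totalDegree ≤ f.totalDegree := by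
  classical
  rw [MvPolynomial.aeval_def, MvPolynomial.eval₂_eq']
  refine MvPolynomial.totalDegree_finsetSum_le fun d hd => ?_
  refine (MvPolynomial.totalDegree_mul _ _).trans ?_
  rw [MvPolynomial.algebraMap_eq, MvPolynomial.totalDegree_C, zero_add]
  refine (MvPolynomial.totalDegree_finsetProd _ _).trans ?_
  have h1 : ∑ i, ((φ i) ^ (d i)).totalDegree ≤ ∑ i, d i := by
    refine Finset.sum_le_sum fun i _ => ?_
    refine (MvPolynomial.totalDegree_pow _ _).trans ?_
    calc d i * (φ i).totalDegree ≤ d i * 1 := Nat.mul_le_mul_left _ (hφ i)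
      _ = d i := mul_one _
  refine h1.trans ?_
  have h2 := MvPolynomial.le_totalDegree hd
  rwa [Finsupp.sum_fintype _ _ (fun _ => rfl)] at h2

/-- The `Y`-degree of the bivariate form is at most the total degree. -/
theorem natDegree_equivMvPolynomial_symm_le (g : MvPolynomial (Fin 2) k) :
    ((Polynomial.Bivariate.equivMvPolynomial k).symm g).natDegree ≤ g.totalDegree := by
  classical
  have h0 : (Polynomial.Bivariate.equivMvPolynomial k).symm g =
      MvPolynomial.aeval ![(C X : k[X][Y]), (X : k[X][Y])] g := rfl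
  rw [h0, MvPolynomial.aeval_def, MvPolynomial.eval₂_eq']
  refine Polynomial.natDegree_sum_le_of_forall_le _ _ fun d hd => ?_
  rw [Fin.prod_univ_two]
  simp only [Matrix.cons_val_zero, Matrix.cons_val_one]
  have h1 : (algebraMap k k[X][Y]) (MvPolynomial.coeff d g) * ((C X : k[X][Y]) ^ d 0 * X ^ d 1) =
      C ((algebraMap k k[X]) (MvPolynomial.coeff d g) * X ^ d 0) * X ^ d 1 := by
    rw [C_mul, C_pow]
    rw [IsScalarTower.algebraMap_apply k k[X] k[X][Y], Polynomial.algebraMap_apply,
      Algebra.algebraMap_self_apply]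
    ring
  rw [h1]
  refine (natDegree_C_mul_X_pow_le _ _).trans ?_
  have h2 := MvPolynomial.le_totalDegree hd
  rw [Finsupp.sum_fintype _ _ (fun _ => rfl), Fin.sum_univ_two] at h2
  omega

/-- The shear `X₀ ↦ X₀ - c X₁`. -/
noncomputable def shear (c : k) : MvPolynomial (Fin 2) k →ₐ[k] MvPolynomial (Fin 2) k :=
  MvPolynomial.aeval
    ![MvPolynomial.X 0 - MvPolynomial.C c * MvPolynomial.X 1, MvPolynomial.X 1]

theorem shear_X0 (c : k) : shear c (MvPolynomial.X 0) =
    MvPolynomial.X 0 - MvPolynomial.C c * MvPolynomial.X 1 := by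
  simp [shear]

theorem shear_X1 (c : k) : shear c (MvPolynomial.X 1) = MvPolynomial.X 1 := by
  simp [shear]

theorem shear_comp (c : k) : (shear (-c)).comp (shear c) = AlgHom.id k _ := by
  apply MvPolynomial.algHom_ext
  intro i
  fin_cases i
  · simp [shear_X0, shear_X1]
  · simp [shear_X1]

theorem shear_shear (c : k) (f : MvPolynomial (Fin 2) k) : shear (-c) (shear c f) = f :=
  congrArg (fun φ : MvPolynomial (Fin 2) k →ₐ[k] MvPolynomial (Fin 2) k => φ f) (shear_comp c)

/-- The shear as an algebra equivalence. -/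
noncomputable def shearEquiv (c : k) : MvPolynomial (Fin 2) k ≃ₐ[k] MvPolynomial (Fin 2) k :=
  AlgEquiv.ofAlgHom (shear c) (shear (-c))
    (by have := shear_comp (-c); rwa [neg_neg] at this) (shear_comp c)

theorem irreducible_shear (c : k) {f : MvPolynomial (Fin 2) k} (hf : Irreducible f) :
    Irreducible (shear c f) :=
  (MulEquiv.irreducible_iff (shearEquiv c).toMulEquiv).mpr hf

theorem totalDegree_shear_le (c : k) (f : MvPolynomial (Fin 2) k) :
    (shear c f).totalDegree ≤ f.totalDegree := by
  refine totalDegree_aeval_le_of_linear _ (fun i => ?_) f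
  fin_cases i
  · show (MvPolynomial.X 0 - MvPolynomial.C c * MvPolynomial.X 1 :
      MvPolynomial (Fin 2) k).totalDegree ≤ 1
    refine (MvPolynomial.totalDegree_sub _ _).trans (max_le ?_ ?_)
    · rw [MvPolynomial.totalDegree_X]
    · refine (MvPolynomial.totalDegree_mul _ _).trans ?_
      rw [MvPolynomial.totalDegree_C, MvPolynomial.totalDegree_X, zero_add]
  · show (MvPolynomial.X 1 : MvPolynomial (Fin 2) k).totalDegree ≤ 1
    rw [MvPolynomial.totalDegree_X]

theorem aeval_shear {K : Type*} [Field K] [Algebra k K] (c : k) (u y : K)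
    (f : MvPolynomial (Fin 2) k) :
    MvPolynomial.aeval ![u, y] (shear c f) = MvPolynomial.aeval ![u - c • y, y] f := by
  have : (MvPolynomial.aeval ![u, y] : MvPolynomial (Fin 2) k →ₐ[k] K).comp (shear c) =
      MvPolynomial.aeval ![u - c • y, y] := by
    apply MvPolynomial.algHom_ext
    intro i
    fin_cases i
    · simp [shear_X0, Algebra.smul_def]
    · simp [shear_X1]
  exact congrArg (fun φ : MvPolynomial (Fin 2) k →ₐ[k] K => φ f) this

/-- The polynomial `c ↦` (coefficient of `Y ^ D` in `f(-cY, Y)`), `D` the total degree. -/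
noncomputable def topPoly (f : MvPolynomial (Fin 2) k) : k[X] :=
  (MvPolynomial.aeval ![-(C X : k[X][Y]) * X, (X : k[X][Y])] f).coeff f.totalDegree

theorem topPoly_ne_zero {f : MvPolynomial (Fin 2) k} (hf : f ≠ 0) : topPoly f ≠ 0 := by
  classical
  have hsupp : f.support.Nonempty := by
    rw [Finset.nonempty_iff_ne_empty, Ne, MvPolynomial.support_eq_empty]
    exact hf
  obtain ⟨d₀, hd₀, hd₀D⟩ := Finset.exists_mem_eq_sup f.support hsupp
    (fun s => s.sum fun _ e => e)
  have hD : f.totalDegree = d₀ 0 + d₀ 1 := by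
    rw [MvPolynomial.totalDegree, hd₀D, Finsupp.sum_fintype _ _ (fun _ => rfl),
      Fin.sum_univ_two]
  have hterm : ∀ d : Fin 2 →₀ ℕ,
      (algebraMap k k[X][Y]) (MvPolynomial.coeff d f) *
        ∏ i, (![-(C X : k[X][Y]) * X, (X : k[X][Y])] i) ^ d i =
      C (C (MvPolynomial.coeff d f * (-1) ^ d 0) * X ^ d 0) * X ^ (d 0 + d 1) := by
    intro d
    rw [Fin.prod_univ_two]
    simp only [Matrix.cons_val_zero, Matrix.cons_val_one]
    rw [IsScalarTower.algebraMap_apply k k[X] k[X][Y], Polynomial.algebraMap_apply,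
      Algebra.algebraMap_self_apply, Polynomial.algebraMap_apply,
      Algebra.algebraMap_self_apply]
    simp only [C_mul, C_pow, map_neg, map_one, mul_pow, neg_pow (C X : k[X][Y]), pow_add]
    ring
  have hcoeff : (topPoly f).coeff (d₀ 0) = MvPolynomial.coeff d₀ f * (-1) ^ d₀ 0 := by
    rw [topPoly, MvPolynomial.aeval_def, MvPolynomial.eval₂_eq']
    simp only [hterm]
    rw [Polynomial.finset_sum_coeff]
    simp only [coeff_C_mul_X_pow]
    rw [Polynomial.finset_sum_coeff]
    rw [Finset.sum_eq_single d₀]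
    · rw [if_pos hD, coeff_C_mul_X_pow, if_pos rfl]
    · intro d _ hne
      split_ifs with h1
      · rw [coeff_C_mul_X_pow, if_neg]
        intro h2
        apply hne
        ext i
        fin_cases i
        · exact h2.symm
        · show d 1 = d₀ 1
          rw [hD] at h1
          omega
      · rw [coeff_zero]
    · intro h
      exact absurd hd₀ h
  intro h0
  rw [h0, coeff_zero] at hcoeff
  have h1 : MvPolynomial.coeff d₀ f ≠ 0 := MvPolynomial.mem_support_iff.mp hd₀
  exact mul_ne_zero h1 (pow_ne_zero _ (by norm_num)) hcoeff.symm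

theorem totalDegree_le_natDegree_shear (c : k) (f : MvPolynomial (Fin 2) k)
    (hc : (topPoly f).eval c ≠ 0) :
    f.totalDegree ≤ ((Polynomial.Bivariate.equivMvPolynomial k).symm (shear c f)).natDegree := by
  classical
  set pg := (Polynomial.Bivariate.equivMvPolynomial k).symm (shear c f) with hpg
  -- specialize `X ↦ 0`
  have h1 : (pg.map (evalRingHom (0 : k))) =
      MvPolynomial.aeval ![-(C c : k[X]) * X, (X : k[X])] f := by
    have : ((Polynomial.mapAlgHom (Polynomial.aeval (0 : k) : k[X] →ₐ[k] k)).comp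
        ((Polynomial.Bivariate.equivMvPolynomial k).symm.toAlgHom.comp (shear c))) =
        MvPolynomial.aeval ![-(C c : k[X]) * X, (X : k[X])] := by
      apply MvPolynomial.algHom_ext
      intro i
      fin_cases i
      · simp [shear_X0]
      · simp [shear_X1]
    have h2 := congrArg (fun φ : MvPolynomial (Fin 2) k →ₐ[k] k[X] => φ f) this
    simp only [AlgHom.comp_apply] at h2
    rw [← h2]
    rfl
  have h3 : MvPolynomial.aeval ![-(C c : k[X]) * X, (X : k[X])] f =
      (MvPolynomial.aeval ![-(C X : k[X][Y]) * X, (X : k[X][Y])] f).map (evalRingHom c) := by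
    have : ((Polynomial.mapAlgHom (Polynomial.aeval (c : k) : k[X] →ₐ[k] k)).comp
        (MvPolynomial.aeval ![-(C X : k[X][Y]) * X, (X : k[X][Y])])) =
        MvPolynomial.aeval ![-(C c : k[X]) * X, (X : k[X])] := by
      apply MvPolynomial.algHom_ext
      intro i
      fin_cases i
      · simp
      · simp
    have h2 := congrArg (fun φ : MvPolynomial (Fin 2) k →ₐ[k] k[X] => φ f) this
    simp only [AlgHom.comp_apply] at h2
    rw [← h2]
    rfl
  have h4 : (pg.map (evalRingHom (0 : k))).coeff f.totalDegree ≠ 0 := by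
    rw [h1, h3, coeff_map]
    exact hc
  exact (le_natDegree_of_ne_zero h4).trans natDegree_map_le

end Groth.Agent.Lib.Helper18.FF
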