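import Groth.Agent.Lib.Helper18.FF.AdjFin4
import Groth.Agent.Lib.Helper18.FF.AdjHom
import Groth.Agent.Lib.Helper18.FF.AdjTransfer
import Groth.Agent.S12612
import Groth.Agent.S11070

/-! # The adjoint divisor of a plane map: reduction to generic finite coordinates (helper18) -/

set_option autoImplicit false
set_option linter.style.haveILetI false

namespace Groth.Agent.Lib.Helper18.FF

open FunFld WithZero LocRes IntermediateField Groth.Agent.Lib.Helper24.FFExt
  Groth.Agent.Lib.Helper18.Tate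

universe u v

variable {k : Type u} {K : Type v} [Field k] [Field K] [Algebra k K]

/-- The coefficient of the adjoint divisor at a place under a change of projective coordinates. -/
theorem adjoint_coeff_coord_change [IsAlgClosed k] (hK : IsFunctionField k K)
    (f : MvPolynomial (Fin 3) k) (e : ℕ) (hf : f.IsHomogeneous e)
    (x y : K) (hfxy : MvPolynomial.aeval ![(1 : K), x, y] f = 0)
    (hdx : KaehlerDifferential.D k K x ≠ 0)
    (he : (mapDiv k ![(1 : K), x, y]).deg = e)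
    (A : Matrix (Fin 3) (Fin 3) k) (hA : A.det ≠ 0)
    (u : Fin 3 → K) (hu : ∀ i, ∑ j, algebraMap k K (A i j) * u j = ![(1 : K), x, y] i)
    (hu0 : u 0 ≠ 0)
    (hfy : MvPolynomial.aeval ![(1 : K), x, y] (MvPolynomial.pderiv 2 f) ≠ 0)
    (hfy' : MvPolynomial.aeval ![(1 : K), u 1 / u 0, u 2 / u 0]
      (MvPolynomial.pderiv 2 (lin A f)) ≠ 0)
    (P : Place k K) (Φ : K →ₐ[k] LaurentSeries k) (hΦ : IsExpansionAt P.1 Φ) :
    ((mapDiv k ![(1 : K), x, y]).deg - 3) * mapDiv k ![(1 : K), x, y] P -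
        ordDiff Φ (MvPolynomial.aeval ![(1 : K), x, y] (MvPolynomial.pderiv 2 f))⁻¹ x =
      ((mapDiv k ![(1 : K), u 1 / u 0, u 2 / u 0]).deg - 3) *
          mapDiv k ![(1 : K), u 1 / u 0, u 2 / u 0] P -
        ordDiff Φ (MvPolynomial.aeval ![(1 : K), u 1 / u 0, u 2 / u 0]
          (MvPolynomial.pderiv 2 (lin A f)))⁻¹ (u 1 / u 0) := by
  classical
  have hres := Groth.Agent.S12612.result k K f e hf x y hfxy A hA u hu hu0 hfy hfy'
  change (MvPolynomial.aeval ![(1 : K), x, y] (MvPolynomial.pderiv 2 f))⁻¹ •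
      KaehlerDifferential.D k K x =
    (algebraMap k K A.det * (u 0)⁻¹ ^ ((e : ℤ) - 3) *
      (MvPolynomial.aeval ![(1 : K), u 1 / u 0, u 2 / u 0]
        (MvPolynomial.pderiv 2 (lin A f)))⁻¹) • KaehlerDifferential.D k K (u 1 / u 0) at hres
  obtain ⟨a, ha_def⟩ : ∃ a : K,
    a = (MvPolynomial.aeval ![(1 : K), x, y] (MvPolynomial.pderiv 2 f))⁻¹ := ⟨_, rfl⟩
  obtain ⟨a', ha'_def⟩ : ∃ a' : K, a' = (MvPolynomial.aeval ![(1 : K), u 1 / u 0, u 2 / u 0]
    (MvPolynomial.pderiv 2 (lin A f)))⁻¹ := ⟨_, rfl⟩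
  rw [← ha_def, ← ha'_def] at hres ⊢
  have ha : a ≠ 0 := ha_def ▸ inv_ne_zero hfy
  have ha' : a' ≠ 0 := ha'_def ▸ inv_ne_zero hfy'
  obtain ⟨g, hg_def⟩ : ∃ g : K, g = algebraMap k K A.det * (u 0)⁻¹ ^ ((e : ℤ) - 3) := ⟨_, rfl⟩
  rw [← hg_def] at hres
  have hc : algebraMap k K A.det ≠ 0 := (map_ne_zero _).mpr hA
  have hz : (u 0)⁻¹ ^ ((e : ℤ) - 3) ≠ 0 := zpow_ne_zero _ (inv_ne_zero hu0)
  have hg : g ≠ 0 := hg_def ▸ mul_ne_zero hc hz
  have hdx' : KaehlerDifferential.D k K (u 1 / u 0) ≠ 0 := by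
    intro h0
    rw [h0, smul_zero] at hres
    exact (smul_ne_zero ha hdx) hres
  have hgK := isGeometric_of_perfectField hK
  have hmap := mapDiv_coord_change hK x y A hA u hu hu0
  have hmapdiv : mapDiv k ![(1 : K), x, y] =
      mapDiv k ![(1 : K), u 1 / u 0, u 2 / u 0] - FunFld.div k (u 0) := by
    ext P'
    rw [Finsupp.sub_apply, div_apply hK, hmap P']
  have hdeg : (mapDiv k ![(1 : K), u 1 / u 0, u 2 / u 0]).deg =
      (mapDiv k ![(1 : K), x, y]).deg := by
    rw [hmapdiv, deg_sub, deg_div_eq_zero hK, sub_zero]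
  rw [hdeg, he, hmap P]
  have h1 : ordDiff Φ a x = ordDiff Φ (g * a') (u 1 / u 0) := ordDiff_congr hK P Φ ha hres
  have hne : vDiff Φ a' (u 1 / u 0) ≠ 0 :=
    vDiff_ne_zero_of_D_ne_zero hK hgK P Φ hΦ ha' hdx'
  rw [h1, ordDiff_mul_left P Φ hΦ hg hne]
  have h2 : P.ord g = -(((e : ℤ) - 3) * P.ord (u 0)) := by
    rw [hg_def, ord_mul P hc hz, ord_algebraMap, zero_add]
    unfold FunFld.Place.ord
    rw [map_zpow₀, map_inv₀, WithZero.log_zpow, WithZero.log_inv]
    ring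
  rw [h2]
  ring

/-- The degree of the divisor of a plane map is invariant under projective coordinate changes. -/
theorem deg_mapDiv_coord_change (hK : IsFunctionField k K) (x y : K)
    (A : Matrix (Fin 3) (Fin 3) k) (hA : A.det ≠ 0)
    (u : Fin 3 → K) (hu : ∀ i, ∑ j, algebraMap k K (A i j) * u j = ![(1 : K), x, y] i)
    (hu0 : u 0 ≠ 0) :
    (mapDiv k ![(1 : K), u 1 / u 0, u 2 / u 0]).deg = (mapDiv k ![(1 : K), x, y]).deg := by
  have hmap := mapDiv_coord_change hK x y A hA u hu hu0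
  have hmapdiv : mapDiv k ![(1 : K), x, y] =
      mapDiv k ![(1 : K), u 1 / u 0, u 2 / u 0] - FunFld.div k (u 0) := by
    ext P'
    rw [Finsupp.sub_apply, div_apply hK, hmap P']
  rw [hmapdiv, deg_sub, deg_div_eq_zero hK, sub_zero]

/-- **The adjoint divisor at a place**, given suitable new projective coordinates in which the
place is finite and the first affine coordinate is generic. -/
theorem adjoint_coeff_of_coords [IsAlgClosed k] (hK : IsFunctionField k K) (x y : K)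
    (hxy : IntermediateField.adjoin k ({x, y} : Set K) = ⊤)
    (f : MvPolynomial (Fin 2) k) (hf : Irreducible f) (hfxy : MvPolynomial.aeval ![x, y] f = 0)
    (Q : Place k K) (ΦQ : K →ₐ[k] LaurentSeries k) (hΦQ : IsExpansionAt Q.1 ΦQ)
    (hfy : MvPolynomial.aeval ![x, y] (MvPolynomial.pderiv 1 f) ≠ 0)
    (hdx : KaehlerDifferential.D k K x ≠ 0)
    (A : Matrix (Fin 3) (Fin 3) k) (hA : A.det ≠ 0)
    (u : Fin 3 → K) (hu : ∀ i, ∑ j, algebraMap k K (A i j) * u j = ![(1 : K), x, y] i)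
    (hu0 : u 0 ≠ 0) (hQ : Q.1 (u 1 / u 0) ≤ 1)
    (hgen : ∀ P : Place k K, 0 < mapDiv k ![(1 : K), u 1 / u 0, u 2 / u 0] P →
      P.1 (u 1 / u 0) = exp (mapDiv k ![(1 : K), u 1 / u 0, u 2 / u 0] P))
    (hdx' : KaehlerDifferential.D k K (u 1 / u 0) ≠ 0) :
    0 ≤ ((mapDiv k ![(1 : K), x, y]).deg - 3) * mapDiv k ![(1 : K), x, y] Q -
        ordDiff ΦQ (MvPolynomial.aeval ![x, y] (MvPolynomial.pderiv 1 f))⁻¹ x ∧
    (((mapDiv k ![(1 : K), x, y]).deg - 3) * mapDiv k ![(1 : K), x, y] Q -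
        ordDiff ΦQ (MvPolynomial.aeval ![x, y] (MvPolynomial.pderiv 1 f))⁻¹ x = 0 ↔
      IsNonsingularAt ![(1 : K), x, y] Q) := by
  classical
  haveI : Infinite k := IsAlgClosed.instInfinite
  have hgK := isGeometric_of_perfectField hK
  -- homogenisation
  have hF := hom_isHomogeneous f
  have hde := dehom_hom f
  have hFxy : MvPolynomial.aeval ![(1 : K), x, y] (hom f) = 0 := by
    rw [← aeval_dehom, hde]
    exact hfxy
  have hFy : MvPolynomial.aeval ![(1 : K), x, y] (MvPolynomial.pderiv 2 (hom f)) =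
      MvPolynomial.aeval ![x, y] (MvPolynomial.pderiv 1 f) := by
    rw [← aeval_pderiv_dehom, hde]
  have he : (mapDiv k ![(1 : K), x, y]).deg = f.totalDegree :=
    Groth.Agent.S11070.result k K hK x y hxy f hf hfxy
  have hF0 : hom f ≠ 0 := by
    intro h0
    apply hf.ne_zero
    rw [← hde, h0]
    unfold dehom
    rw [map_zero]
  have hF' := lin_isHomogeneous A hF
  have hF'0 : lin A (hom f) ≠ 0 := lin_ne_zero hA hF0
  have hg0 : dehom (lin A (hom f)) ≠ 0 := dehom_ne_zero hF' hF'0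
  -- the new relation vanishes
  have hwu : ∀ j, ![(1 : K), u 1 / u 0, u 2 / u 0] j = (u 0)⁻¹ * u j := by
    intro j
    fin_cases j
    · show (1 : K) = (u 0)⁻¹ * u 0
      rw [inv_mul_cancel₀ hu0]
    · show u 1 / u 0 = (u 0)⁻¹ * u 1
      rw [div_eq_inv_mul]
    · show u 2 / u 0 = (u 0)⁻¹ * u 2
      rw [div_eq_inv_mul]
  have hgxy : MvPolynomial.aeval ![u 1 / u 0, u 2 / u 0] (dehom (lin A (hom f))) = 0 := by
    rw [aeval_dehom, aeval_lin]
    have : (fun i => ∑ j, algebraMap k K (A i j) * ![(1 : K), u 1 / u 0, u 2 / u 0] j) =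
        fun i => (u 0)⁻¹ * ![(1 : K), x, y] i := by
      funext i
      rw [← hu i, Finset.mul_sum]
      refine Finset.sum_congr rfl fun j _ => ?_
      rw [hwu j]
      ring
    rw [this, Groth.Agent.Lib.Helper20.CoordChange.aeval_smul_of_homogeneous _ _ hF, hFxy,
      mul_zero]
  have hxy' := adjoin_coord_change x y A u hu hu0 hxy
  have hdeg := deg_mapDiv_coord_change hK x y A hA u hu hu0
  have hgdeg : ((dehom (lin A (hom f))).totalDegree : ℤ) ≤
      (mapDiv k ![(1 : K), u 1 / u 0, u 2 / u 0]).deg := by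
    rw [hdeg, he]
    exact_mod_cast le_trans (totalDegree_dehom_le _) hF'.totalDegree_le
  obtain ⟨hgy, hle, hiff⟩ := plane_finite_core hK (u 1 / u 0) (u 2 / u 0) hxy' hgen hdx'
    (dehom (lin A (hom f))) hg0 hgxy hgdeg Q hQ ΦQ hΦQ
  rw [aeval_pderiv_dehom] at hgy hle hiff
  have hcc := adjoint_coeff_coord_change hK (hom f) f.totalDegree hF x y hFxy hdx he A hA u hu hu0
    (hFy ▸ hfy) hgy Q ΦQ hΦQ
  rw [hFy] at hcc
  rw [hcc]
  -- the place is finite in the new coordinates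
  have hm0 : mapDiv k ![(1 : K), u 1 / u 0, u 2 / u 0] Q = 0 := by
    have h0 : (0 : ℤ) ≤ mapDiv k ![(1 : K), u 1 / u 0, u 2 / u 0] Q := plane_nonneg hK _ _ Q
    by_contra hne
    have hpos : 0 < mapDiv k ![(1 : K), u 1 / u 0, u 2 / u 0] Q := lt_of_le_of_ne h0 (Ne.symm hne)
    have h1 := hgen Q hpos
    rw [h1, ← exp_zero, exp_le_exp] at hQ
    omega
  rw [hm0, mul_zero, zero_sub]
  have hne1 : vDiff ΦQ 1 (u 1 / u 0) ≠ 0 :=
    vDiff_ne_zero_of_D_ne_zero hK hgK Q ΦQ hΦQ one_ne_zero hdx'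
  have h3 := ordDiff_mul_left Q ΦQ hΦQ (inv_ne_zero hgy) hne1
  rw [mul_one] at h3
  rw [h3, ord_inv]
  rw [isNonsingularAt_coord_change Q x y A hA u hu hu0] at hiff
  constructor
  · omega
  · rw [← hiff]
    constructor
    · intro h
      omega
    · intro h
      omega

end Groth.Agent.Lib.Helper18.FF
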