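import Groth.Agent.Lib.Helper18.FF.Finite
import Groth.Agent.Lib.Helper18.FF.Exists
import Groth.Agent.Lib.Helper29.IntegralDim
import Mathlib.RingTheory.NoetherNormalization
import Mathlib.RingTheory.KrullDimension.Polynomial
import Mathlib.RingTheory.KrullDimension.Field
import Mathlib.RingTheory.Algebraic.MvPolynomial
import Mathlib.FieldTheory.AlgebraicClosure

/-! # Valuation rings of the function field of an affine curve not containing the coordinate ring -/

set_option autoImplicit false
set_option linter.style.haveILetI false

namespace Groth.Agent.Lib.Helper18.FF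

open FunFld IntermediateField

universe u

section Noether

variable {k A : Type u} [Field k] [CommRing A] [Nontrivial A] [Algebra k A] [Algebra.FiniteType k A]

/-- Noether normalisation in dimension one. -/
theorem exists_noether_one (hA : ringKrullDim A = 1) :
    ∃ g : MvPolynomial (Fin 1) k →ₐ[k] A, Function.Injective g ∧ g.Finite := by
  obtain ⟨s, g, hinj, hfin⟩ := exists_finite_inj_algHom_of_fg k A
  have hs : s = 1 := by
    letI : Algebra (MvPolynomial (Fin s) k) A := g.toRingHom.toAlgebra
    haveI : Module.Finite (MvPolynomial (Fin s) k) A := hfin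
    haveI : Algebra.IsIntegral (MvPolynomial (Fin s) k) A := Algebra.IsIntegral.of_finite _ _
    have h1 := Groth.Agent.Lib.Helper29.ringKrullDim_eq_of_isIntegral_of_injective
      (A := MvPolynomial (Fin s) k) (A' := A) hinj
    rw [hA, MvPolynomial.ringKrullDim_of_isNoetherianRing, ringKrullDim_eq_zero_of_field,
      zero_add, Nat.card_fin] at h1
    exact_mod_cast h1.symm
  subst hs
  exact ⟨g, hinj, hfin⟩

end Noether

variable {k A F : Type u} [Field k] [CommRing A] [IsDomain A] [Algebra k A]
  [Algebra.FiniteType k A] [Field F] [Algebra A F] [IsFractionRing A F] [Algebra k F]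
  [IsScalarTower k A F]

/-- The function field of an affine curve is a function field of one variable over the algebraic
closure of the ground field in it. -/
theorem isFunctionField_algebraicClosure (hA : ringKrullDim A = 1) :
    IsFunctionField (algebraicClosure k F) F := by
  obtain ⟨g, hinj, hfin⟩ := exists_noether_one (k := k) (A := A) hA
  have hφ : Function.Injective (algebraMap A F) := IsFractionRing.injective A F
  set x : F := algebraMap A F (g (MvPolynomial.X 0)) with hx
  have htr : Transcendental k x := by
    rw [hx, transcendental_algebraMap_iff hφ]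
    have h0 := MvPolynomial.transcendental_X (R := k) (0 : Fin 1)
    intro h
    exact h0 ((isAlgebraic_algHom_iff g hinj).mp h)
  have htr' : Transcendental (algebraicClosure k F) x := htr.algebraicClosure
  refine ⟨⟨x, htr', ?_⟩, ?_⟩
  · -- finite dimensionality
    set K₁ := IntermediateField.adjoin (algebraicClosure k F) ({x} : Set F) with hK₁
    have hxK : x ∈ K₁ := IntermediateField.mem_adjoin_simple_self _ x
    -- the ring homomorphism `k[X] → K₁`
    let ψ : MvPolynomial (Fin 1) k →+* K₁ :=
      MvPolynomial.eval₂Hom ((algebraMap (algebraicClosure k F) K₁).comp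
        (algebraMap k (algebraicClosure k F))) (fun _ => ⟨x, hxK⟩)
    have hψ : (algebraMap K₁ F).comp ψ = (algebraMap A F).comp g.toRingHom := by
      apply MvPolynomial.ringHom_ext
      · intro c
        simp only [ψ, RingHom.comp_apply, MvPolynomial.eval₂Hom_C]
        have h1 : g.toRingHom (MvPolynomial.C c) = algebraMap k A c := by
          show g (MvPolynomial.C c) = _
          rw [← MvPolynomial.algebraMap_eq]; exact g.commutes c
        rw [h1, ← IsScalarTower.algebraMap_apply k A F]
        rfl
      · intro i
        simp only [ψ, RingHom.comp_apply, MvPolynomial.eval₂Hom_X']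
        have hi : i = 0 := Subsingleton.elim _ _
        subst hi
        rfl
    have hint : ∀ a : A, IsIntegral K₁ (algebraMap A F a) := by
      intro a
      obtain ⟨p, hpm, hp⟩ := hfin.to_isIntegral a
      refine ⟨p.map ψ, hpm.map ψ, ?_⟩
      rw [Polynomial.eval₂_map, hψ, ← Polynomial.hom_eval₂, hp, map_zero]
    obtain ⟨S, hS⟩ := (Algebra.FiniteType.out : (⊤ : Subalgebra k A).FG)
    let T : Set F := (algebraMap A F) '' (S : Set A)
    haveI : Finite T := (S.finite_toSet.image _).to_subtype
    haveI hfd : FiniteDimensional K₁ (IntermediateField.adjoin K₁ T) :=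
      IntermediateField.finiteDimensional_adjoin (fun z hz => by
        obtain ⟨a, -, rfl⟩ := hz
        exact hint a)
    have htop : IntermediateField.adjoin K₁ T = ⊤ := by
      rw [eq_top_iff]
      intro z _
      obtain ⟨a, b, hb, rfl⟩ := IsFractionRing.div_surjective (A := A) z
      have hmem : ∀ a : A, algebraMap A F a ∈ IntermediateField.adjoin K₁ T := by
        intro a
        have ha : a ∈ Algebra.adjoin k (S : Set A) := by rw [hS]; trivial
        induction ha using Algebra.adjoin_induction with
        | mem a ha => exact IntermediateField.subset_adjoin _ _ ⟨a, ha, rfl⟩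
        | algebraMap c =>
          rw [← IsScalarTower.algebraMap_apply k A F]
          exact (IntermediateField.adjoin K₁ T).algebraMap_mem
            (algebraMap (algebraicClosure k F) K₁ (algebraMap k (algebraicClosure k F) c))
        | add a b _ _ ha hb => rw [map_add]; exact add_mem ha hb
        | mul a b _ _ ha hb => rw [map_mul]; exact mul_mem ha hb
      exact div_mem (hmem a) (hmem b)
    rw [htop] at hfd
    exact (IntermediateField.topEquiv (F := K₁) (E := F)).toLinearEquiv.finiteDimensional
  · intro y hy
    have : IsAlgebraic k y := hy.restrictScalars k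
    exact ⟨⟨y, mem_algebraicClosure_iff.mpr this⟩, rfl⟩

/-- A valuation subring containing `k` contains the algebraic closure of `k`. -/
theorem algebraicClosure_le_of_le (O : ValuationSubring F)
    (hk : (algebraMap k F).range ≤ O.toSubring) (c : algebraicClosure k F) :
    algebraMap (algebraicClosure k F) F c ∈ O := by
  have hc : IsIntegral k (c : F) := (mem_algebraicClosure_iff.mp c.2).isIntegral
  obtain ⟨p, hpm, hp⟩ := hc
  let ι : k →+* O := (algebraMap k F).codRestrict O.toSubring (fun c => hk ⟨c, rfl⟩)
  have hint : IsIntegral O (c : F) := by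
    refine ⟨p.map ι, hpm.map ι, ?_⟩
    rw [Polynomial.eval₂_map]
    exact hp
  have hv : O.valuation.Integers O :=
    { hom_inj := Subtype.val_injective
      map_le_one := fun a => O.valuation_le_one a
      exists_of_le_one := fun {r} hr => ⟨⟨r, (O.valuation_le_one_iff r).mp hr⟩, rfl⟩ }
  exact (O.valuation_le_one_iff _).mp (hv.isIntegral_iff_v_le_one.mp hint)

theorem finite_valuationSubrings (hA : ringKrullDim A = 1) :
    {O : ValuationSubring F | (algebraMap k F).range ≤ O.toSubring ∧
        ¬ (algebraMap A F).range ≤ O.toSubring}.Finite := by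
  classical
  have hK := isFunctionField_algebraicClosure (k := k) (A := A) (F := F) hA
  obtain ⟨S, hS⟩ := (Algebra.FiniteType.out : (⊤ : Subalgebra k A).FG)
  have hfin : ∀ a : A, ((fun P : Place (algebraicClosure k F) F => P.O) ''
      {P | 1 < P.1 (algebraMap A F a)}).Finite := by
    intro a
    by_cases ha : Transcendental (algebraicClosure k F) (algebraMap A F a)
    · exact (finite_poles hK ha).image _
    · have : {P : Place (algebraicClosure k F) F | 1 < P.1 (algebraMap A F a)} = ∅ := by
        ext P
        simp only [Set.mem_setOf_eq, Set.mem_empty_iff_false, iff_false, not_lt]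
        rw [Transcendental, not_not] at ha
        obtain ⟨c, hc⟩ := hK.2 _ ha
        rw [← hc]
        exact P.2.1 c
      rw [this, Set.image_empty]
      exact Set.finite_empty
  refine (Set.Finite.biUnion S.finite_toSet (fun a _ => hfin a)).subset ?_
  rintro O ⟨hkO, hAO⟩
  have hk'O : ∀ c : algebraicClosure k F, algebraMap (algebraicClosure k F) F c ∈ O :=
    algebraicClosure_le_of_le O hkO
  -- some generator is not in `O`
  have hex : ∃ a ∈ S, algebraMap A F a ∉ O := by
    by_contra hcon
    push_neg at hcon
    apply hAO
    rintro _ ⟨a, rfl⟩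
    have ha : a ∈ Algebra.adjoin k (S : Set A) := by rw [hS]; trivial
    induction ha using Algebra.adjoin_induction with
    | mem a ha => exact hcon a ha
    | algebraMap c =>
      rw [← IsScalarTower.algebraMap_apply k A F]
      exact hkO ⟨c, rfl⟩
    | add a b _ _ ha hb => rw [map_add]; exact add_mem ha hb
    | mul a b _ _ ha hb => rw [map_mul]; exact mul_mem ha hb
  obtain ⟨a, haS, haO⟩ := hex
  simp only [Set.mem_iUnion, Set.mem_image, Set.mem_setOf_eq]
  set y : F := algebraMap A F a with hy
  have hy0 : y ≠ 0 := by
    intro h
    exact haO (h ▸ O.zero_mem)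
  have hyv : 1 < O.valuation y := by
    rw [← not_le, O.valuation_le_one_iff]
    exact haO
  have hyinv : O.valuation y⁻¹ < 1 := by
    rw [map_inv₀]
    exact inv_lt_one_of_one_lt₀ hyv
  obtain ⟨P, hP1, hP2⟩ := exists_place_of_valuationSubring hK O hk'O (inv_ne_zero hy0) hyinv
  refine ⟨a, haS, P, ?_, ?_⟩
  · have := hP2 _ hyinv
    rw [map_inv₀] at this
    exact (inv_lt_one₀ (zero_lt_iff.mpr ((Valuation.ne_zero_iff _).mpr hy0))).mp this
  · -- `P.O = O`
    ext z
    constructor
    · intro hz
      by_contra hzO
      have hz0 : z ≠ 0 := by
        intro h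
        exact hzO (h ▸ O.zero_mem)
      have h1 : 1 < O.valuation z := by
        rw [← not_le, O.valuation_le_one_iff]
        exact hzO
      have h2 : O.valuation z⁻¹ < 1 := by
        rw [map_inv₀]
        exact inv_lt_one_of_one_lt₀ h1
      have h3 := hP2 _ h2
      rw [map_inv₀] at h3
      have h4 : 1 < P.1 z :=
        (inv_lt_one₀ (zero_lt_iff.mpr ((Valuation.ne_zero_iff _).mpr hz0))).mp h3
      have h5 : P.1 z ≤ 1 := (Valuation.mem_valuationSubring_iff _ _).mp hz
      exact absurd h5 (not_le.mpr h4)
    · intro hz
      exact (Valuation.mem_valuationSubring_iff _ _).mpr (hP1 z hz)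

end Groth.Agent.Lib.Helper18.FF
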