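import Groth.Agent.Lib.Helper18.FF.LinEquiv
import Mathlib.FieldTheory.IsAlgClosed.Basic

/-! # Automorphisms of a function field and fixed places -/

set_option autoImplicit false
set_option linter.style.haveILetI false

namespace Groth.Agent.Lib.Helper18.FF

open FunFld WithZero

universe u v

variable {k : Type u} {K : Type v} [Field k] [Field K] [Algebra k K]

/-- Pull back a place along a `k`-automorphism. -/
def comapPlace (σ : K ≃ₐ[k] K) (P : Place k K) : Place k K :=
  ⟨P.1.comap (σ : K →+* K), fun c => by
      rw [Valuation.comap_apply]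
      have : (σ : K →+* K) (algebraMap k K c) = algebraMap k K c := σ.commutes c
      rw [this]
      exact P.2.1 c,
    fun γ => by
      obtain ⟨x, hx⟩ := P.2.2 γ
      refine ⟨σ.symm x, ?_⟩
      rw [Valuation.comap_apply]
      have : (σ : K →+* K) (σ.symm x) = x := σ.apply_symm_apply x
      rw [this, hx]⟩

theorem comapPlace_apply (σ : K ≃ₐ[k] K) (P : Place k K) (x : K) :
    (comapPlace σ P).1 x = P.1 (σ x) := rfl

theorem comapPlace_comapPlace_symm (σ : K ≃ₐ[k] K) (P : Place k K) :
    comapPlace σ (comapPlace σ.symm P) = P := by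
  apply Subtype.ext
  apply Valuation.ext
  intro x
  rw [comapPlace_apply, comapPlace_apply, AlgEquiv.symm_apply_apply]

theorem comapPlace_symm_comapPlace (σ : K ≃ₐ[k] K) (P : Place k K) :
    comapPlace σ.symm (comapPlace σ P) = P := by
  apply Subtype.ext
  apply Valuation.ext
  intro x
  rw [comapPlace_apply, comapPlace_apply, AlgEquiv.apply_symm_apply]

/-- `σ` fixes the place `P`. -/
def Fixes (σ : K ≃ₐ[k] K) (P : Place k K) : Prop := ∀ x : K, P.1 x < 1 → P.1 (σ x) < 1

theorem comapPlace_eq_of_fixes {σ : K ≃ₐ[k] K} {P : Place k K} (h : Fixes σ P) :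
    comapPlace σ P = P := by
  by_contra hne
  obtain ⟨y, hy1, hy2⟩ := exists_val_lt_one_gt_one (Ne.symm hne)
  have := h y hy1
  rw [← comapPlace_apply] at this
  exact absurd this (not_lt.mpr hy2.le)

theorem fixes_of_comapPlace_eq {σ : K ≃ₐ[k] K} {P : Place k K} (h : comapPlace σ P = P) :
    Fixes σ P := by
  intro x hx
  rw [← comapPlace_apply, h]
  exact hx

/-- At a fixed rational place, `σ x - x` vanishes for every `x` regular there. -/
theorem val_sub_lt_one_of_fixes (hK : IsFunctionField k K) {σ : K ≃ₐ[k] K} {Q : Place k K}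
    (hQ : Q.deg = 1) (h : Fixes σ Q) {x : K} (hx : Q.1 x ≤ 1) : Q.1 (σ x - x) < 1 := by
  obtain ⟨c, hc⟩ := exists_const_sub_lt_one hK hQ hx
  have h1 := h _ hc
  rw [map_sub, AlgEquiv.commutes] at h1
  have : σ x - x = (σ x - algebraMap k K c) - (x - algebraMap k K c) := by ring
  rw [this]
  exact lt_of_le_of_lt (Valuation.map_sub _ _ _) (max_lt h1 hc)


section algClosed

variable [IsAlgClosed k]

/-- A nonconstant function with a pole only at `P`, of order at most `g + 1`. -/
theorem exists_nonconst_mem_L (hK : IsFunctionField k K) (P : Place k K) :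
    ∃ x ∈ L (Finsupp.single P ((genus k K : ℤ) + 1) : Divisor k K), 1 < P.1 x := by
  have h1 := delta_le_genus hK (Finsupp.single P ((genus k K : ℤ) + 1) : Divisor k K)
  unfold delta at h1
  rw [deg_single, deg_eq_one_of_isAlgClosed hK P] at h1
  push_cast at h1
  have h2 : 2 ≤ ell (Finsupp.single P ((genus k K : ℤ) + 1) : Divisor k K) := by
    have : (2 : ℤ) ≤ (ell (Finsupp.single P ((genus k K : ℤ) + 1) : Divisor k K) : ℤ) := by
      linarith
    exact_mod_cast this
  haveI := finiteDimensional_L hK (Finsupp.single P ((genus k K : ℤ) + 1) : Divisor k K)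
  have hnot : ¬ L (Finsupp.single P ((genus k K : ℤ) + 1) : Divisor k K) ≤
      (1 : Submodule k K) := by
    intro hle
    have h3 : Module.finrank k ↥(1 : Submodule k K) = 1 := by
      rw [Submodule.one_eq_span]
      exact finrank_span_singleton one_ne_zero
    haveI : FiniteDimensional k ↥(1 : Submodule k K) := by
      rw [Submodule.one_eq_span]
      exact FiniteDimensional.span_singleton k (1 : K)
    have h4 := Submodule.finrank_mono hle
    have h5 : Module.finrank k ↥(L (Finsupp.single P ((genus k K : ℤ) + 1) : Divisor k K)) =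
      ell (Finsupp.single P ((genus k K : ℤ) + 1) : Divisor k K) := rfl
    omega
  obtain ⟨x, hxL, hx1⟩ := SetLike.not_le_iff_exists.mp hnot
  refine ⟨x, hxL, ?_⟩
  by_contra hle
  push Not at hle
  apply hx1
  rw [← L_zero_eq_one hK]
  intro Q
  rw [Finsupp.zero_apply, exp_zero]
  by_cases hQ : Q = P
  · rw [hQ]; exact hle
  · have := hxL Q
    rw [Finsupp.single_eq_of_ne hQ, exp_zero] at this
    exact this

/-- If `σ` fixes more than `2g + 2` places it fixes every place. -/
theorem all_fixed (hK : IsFunctionField k K) (σ : K ≃ₐ[k] K)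
    (h : ((2 * genus k K + 2 : ℕ) : ℕ∞) < Set.encard {P : Place k K | Fixes σ P})
    (P : Place k K) : Fixes σ P := by
  classical
  by_contra hP
  have hPP' : comapPlace σ.symm P ≠ P := by
    intro h'
    apply hP
    apply fixes_of_comapPlace_eq
    have := comapPlace_comapPlace_symm σ P
    rw [h'] at this
    exact this
  have hP'fix : ¬ Fixes σ (comapPlace σ.symm P) := by
    intro hf
    have := comapPlace_eq_of_fixes hf
    rw [comapPlace_comapPlace_symm] at this
    exact hPP' this.symm
  obtain ⟨x, hxL, hxP⟩ := exists_nonconst_mem_L hK P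
  have hσx : σ x ∈ L (Finsupp.single (comapPlace σ.symm P) ((genus k K : ℤ) + 1) :
      Divisor k K) := by
    intro Q
    have := hxL (comapPlace σ Q)
    rw [comapPlace_apply] at this
    refine this.trans (le_of_eq ?_)
    congr 1
    by_cases hQ : Q = comapPlace σ.symm P
    · rw [hQ, comapPlace_comapPlace_symm, Finsupp.single_eq_same, Finsupp.single_eq_same]
    · have hne : comapPlace σ Q ≠ P := by
        intro h'
        apply hQ
        rw [← h', comapPlace_symm_comapPlace]
      rw [Finsupp.single_eq_of_ne hne, Finsupp.single_eq_of_ne hQ]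
  -- a finite set of `2g + 3` fixed places
  obtain ⟨S', hS'sub, hS'card⟩ := Set.exists_subset_encard_eq (Order.add_one_le_of_lt h)
  have hS'fin : S'.Finite := by
    apply Set.finite_of_encard_le_coe (k := 2 * genus k K + 2 + 1)
    rw [hS'card]
    push_cast
    exact le_rfl
  set S : Finset (Place k K) := hS'fin.toFinset with hS
  have hScard : S.card = 2 * genus k K + 3 := by
    have := hS'fin.encard_eq_coe_toFinset_card
    rw [hS'card] at this
    have h' : ((2 * genus k K + 2 + 1 : ℕ) : ℕ∞) = (S.card : ℕ∞) := by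
      rw [← this]; push_cast; rfl
    have := Nat.cast_injective (R := ℕ∞) h'
    omega
  have hSfix : ∀ R ∈ S, Fixes σ R := fun R hR => hS'sub (hS'fin.mem_toFinset.mp hR)
  -- `y = σ x - x` lies in a space of negative degree
  have hy : σ x - x ∈ L ((Finsupp.single P ((genus k K : ℤ) + 1) +
      Finsupp.single (comapPlace σ.symm P) ((genus k K : ℤ) + 1) -
      ∑ Q ∈ S, Finsupp.single Q (1 : ℤ) : Divisor k K)) := by
    intro R
    have hsum : (∑ Q ∈ S, Finsupp.single Q (1 : ℤ) : Divisor k K) R = if R ∈ S then 1 else 0 := by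
      rw [Finsupp.finset_sum_apply]
      simp only [Finsupp.single_apply]
      rw [Finset.sum_ite_eq' S R]
    rw [Finsupp.sub_apply, Finsupp.add_apply, hsum]
    by_cases hR : R ∈ S
    · have hRfix := hSfix R hR
      have hRP : R ≠ P := fun h' => hP (h' ▸ hRfix)
      have hRP' : R ≠ comapPlace σ.symm P := fun h' => hP'fix (h' ▸ hRfix)
      rw [if_pos hR, Finsupp.single_eq_of_ne hRP, Finsupp.single_eq_of_ne hRP']
      have hxR : R.1 x ≤ 1 := by
        have := hxL R
        rwa [Finsupp.single_eq_of_ne hRP, exp_zero] at this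
      have := val_sub_lt_one_of_fixes hK (deg_eq_one_of_isAlgClosed hK R) hRfix hxR
      rw [zm0_lt_one_iff] at this
      simpa using this
    · rw [if_neg hR, sub_zero]
      have h1 := hxL R
      have h2 := hσx R
      have hn1 : (0 : ℤ) ≤ (Finsupp.single P ((genus k K : ℤ) + 1) : Divisor k K) R := by
        rw [Finsupp.single_apply]; split_ifs <;> omega
      have hn2 : (0 : ℤ) ≤ (Finsupp.single (comapPlace σ.symm P) ((genus k K : ℤ) + 1) :
          Divisor k K) R := by
        rw [Finsupp.single_apply]; split_ifs <;> omega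
      refine (Valuation.map_sub _ _ _).trans (max_le ?_ ?_)
      · exact h2.trans (exp_le_exp.mpr (by omega))
      · exact h1.trans (exp_le_exp.mpr (by omega))
  rw [L_eq_bot_of_deg_neg hK] at hy
  · have hσxx : σ x = x := sub_eq_zero.mp ((Submodule.mem_bot k).mp hy)
    have h1 : (comapPlace σ.symm P).1 x = P.1 x := by
      conv_lhs => rw [← hσxx]
      rw [← comapPlace_apply, comapPlace_comapPlace_symm]
    have h2 := hxL (comapPlace σ.symm P)
    rw [Finsupp.single_eq_of_ne hPP', exp_zero, h1] at h2
    exact absurd hxP (not_lt.mpr h2)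
  · rw [deg_sub, deg_add, deg_single, deg_single, deg_finset_sum, deg_eq_one_of_isAlgClosed hK P,
      deg_eq_one_of_isAlgClosed hK (comapPlace σ.symm P)]
    have : ∑ Q ∈ S, Divisor.deg (Finsupp.single Q (1 : ℤ) : Divisor k K) = S.card := by
      rw [Finset.sum_congr rfl (fun Q _ => by
        rw [deg_single, deg_eq_one_of_isAlgClosed hK Q]; norm_num : ∀ Q ∈ S,
        Divisor.deg (Finsupp.single Q (1 : ℤ) : Divisor k K) = 1)]
      simp
    rw [this, hScard]
    push_cast
    omega

/-- An automorphism fixing more than `2g + 2` places is the identity. -/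
theorem aut_eq_one (hK : IsFunctionField k K) (σ : K ≃ₐ[k] K)
    (h : ((2 * genus k K + 2 : ℕ) : ℕ∞) < Set.encard {P : Place k K | Fixes σ P}) : σ = 1 := by
  classical
  have hall := all_fixed hK σ h
  ext x
  rw [AlgEquiv.one_apply]
  by_contra hne
  have hy0 : σ x - x ≠ 0 := sub_ne_zero.mpr hne
  have hx0 : x ≠ 0 := by
    rintro rfl
    exact hne (map_zero σ)
  have hfin1 := finite_support_ord hK (σ x - x)
  have hfin2 := finite_support_ord hK x
  haveI : Infinite k := IsAlgClosed.instInfinite
  haveI := infinite_places hK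
  obtain ⟨Q, hQ⟩ := Infinite.exists_notMem_finset (hfin1.toFinset ∪ hfin2.toFinset)
  rw [Finset.mem_union, not_or, Set.Finite.mem_toFinset, Set.Finite.mem_toFinset,
    Function.mem_support, Function.mem_support, not_not, not_not] at hQ
  have hxQ : Q.1 x ≤ 1 := by
    rw [val_le_one_iff_ord_nonneg Q hx0, hQ.2]
  have := val_sub_lt_one_of_fixes hK (deg_eq_one_of_isAlgClosed hK Q) (hall Q) hxQ
  rw [val_lt_one_iff_ord_pos Q hy0, hQ.1] at this
  exact lt_irrefl _ this

end algClosed

end Groth.Agent.Lib.Helper18.FF
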