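import Groth.Agent.Lib.Helper18.FF.Cusp

/-! # Limit linear series on a chain of rational curves with cuspidal tails -/

set_option autoImplicit false
set_option linter.style.haveILetI false

namespace Groth.Agent.Lib.Helper18.FF

open FunFld WithZero

universe u v

section pluckerN

variable {k : Type u} {K : Type v} [Field k] [Field K] [Algebra k K] [IsAlgClosed k] [CharZero k]
variable (hK : IsFunctionField k K) (hg : genus k K = 0) (D : Divisor k K) (d r : ℕ)
  (hD : D.deg = d) (V : Submodule k K) (hV : V ≤ L D) (hVr : Module.finrank k V = r + 1)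

/-- The sum `∑_{n=1}^{d} dim V(-nP)`. -/
noncomputable def wsum (V : Submodule k K) (D : Divisor k K) (d : ℕ) (P : Place k K) : ℕ :=
  ∑ j ∈ Finset.range d, Module.finrank k ↥(V ⊓ L (D - Finsupp.single P ((j : ℤ) + 1)))

/-- `r(r+1)/2` as a sum. -/
def tau (r : ℕ) : ℕ := ∑ i : Fin (r + 1), (i : ℕ)

theorem tau_eq (r : ℕ) : r * (r + 1) / 2 = tau r := by
  have := sum_fin_id r
  unfold tau
  omega

theorem two_tau (r : ℕ) : tau r * 2 = r * (r + 1) := sum_fin_id r

include hK hg hD hV hVr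

theorem plucker1 (P : Place k K) : wsum V D d P + 2 * tau r ≤ (r + 1) * d + tau r := by
  have := plucker hK hg D d r hD V hV hVr {P}
  rw [Finset.sum_singleton, Finset.card_singleton, tau_eq] at this
  have h2 := two_tau r
  unfold wsum
  omega

theorem plucker2 (P₁ P₂ : Place k K) (h12 : P₁ ≠ P₂) :
    wsum V D d P₁ + wsum V D d P₂ + 2 * tau r ≤ (r + 1) * d + 2 * tau r := by
  have := weight_sum_le hK D d r hD V hV hVr P₁ P₂ h12
  unfold wsum
  omega

theorem plucker3 (P₁ P₂ P₃ : Place k K) (h12 : P₁ ≠ P₂) (h13 : P₁ ≠ P₃) (h23 : P₂ ≠ P₃) :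
    wsum V D d P₁ + wsum V D d P₂ + wsum V D d P₃ + 2 * tau r ≤ (r + 1) * d + 3 * tau r := by
  classical
  have := plucker hK hg D d r hD V hV hVr {P₁, P₂, P₃}
  have hcard : ({P₁, P₂, P₃} : Finset (Place k K)).card = 3 := by
    rw [Finset.card_insert_of_notMem, Finset.card_insert_of_notMem, Finset.card_singleton]
    · simpa using h23
    · simp only [Finset.mem_insert, Finset.mem_singleton, not_or]; exact ⟨h12, h13⟩
  rw [hcard, Finset.sum_insert (by
      simp only [Finset.mem_insert, Finset.mem_singleton, not_or]; exact ⟨h12, h13⟩),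
    Finset.sum_insert (by simpa using h23), Finset.sum_singleton, tau_eq] at this
  have h2 := two_tau r
  unfold wsum
  omega

theorem plucker4 (P₁ P₂ P₃ P₄ : Place k K) (h12 : P₁ ≠ P₂) (h13 : P₁ ≠ P₃) (h14 : P₁ ≠ P₄)
    (h23 : P₂ ≠ P₃) (h24 : P₂ ≠ P₄) (h34 : P₃ ≠ P₄) :
    wsum V D d P₁ + wsum V D d P₂ + wsum V D d P₃ + wsum V D d P₄ + 2 * tau r ≤
      (r + 1) * d + 4 * tau r := by
  classical
  have := plucker hK hg D d r hD V hV hVr {P₁, P₂, P₃, P₄}
  have hcard : ({P₁, P₂, P₃, P₄} : Finset (Place k K)).card = 4 := by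
    rw [Finset.card_insert_of_notMem, Finset.card_insert_of_notMem, Finset.card_insert_of_notMem,
      Finset.card_singleton]
    · simpa using h34
    · simp only [Finset.mem_insert, Finset.mem_singleton, not_or]; exact ⟨h23, h24⟩
    · simp only [Finset.mem_insert, Finset.mem_singleton, not_or]; exact ⟨h12, h13, h14⟩
  rw [hcard, Finset.sum_insert (by
      simp only [Finset.mem_insert, Finset.mem_singleton, not_or]; exact ⟨h12, h13, h14⟩),
    Finset.sum_insert (by
      simp only [Finset.mem_insert, Finset.mem_singleton, not_or]; exact ⟨h23, h24⟩),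
    Finset.sum_insert (by simpa using h34), Finset.sum_singleton, tau_eq] at this
  have h2 := two_tau r
  unfold wsum
  omega

omit hg hVr in
theorem wsum_cusp_ge (Q : Place k K)
    (hcusp : r ≤ Module.finrank k ↥(V ⊓ L (D - Finsupp.single Q (2 : ℤ)))) :
    r + tau r ≤ wsum V D d Q :=
  cusp_weight_ge hK (deg_eq_one_of_isAlgClosed hK Q) D d hD V hV r hcusp

end pluckerN


/-! ## Combinatorics of a chain -/

section chain

variable {N : ℕ} (r : ℕ) (T : Finset (Fin (N + 1)))

/-- `r` if `i` carries a tail, else `0`. -/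
def rI (i : Fin (N + 1)) : ℕ := if i ∈ T then r else 0

/-- `r` times the number of tails strictly to the left of `n`. -/
def rL (n : ℕ) : ℕ := r * (T.filter (fun j : Fin (N + 1) => (j : ℕ) < n)).card

/-- `r` times the number of tails at `n` or to the right of it. -/
def rG (n : ℕ) : ℕ := r * (T.filter (fun j : Fin (N + 1) => ¬ (j : ℕ) < n)).card

theorem rL_zero : rL r T 0 = 0 := by simp [rL]

theorem rG_top : rG r T (N + 1) = 0 := by
  unfold rG
  have : T.filter (fun j : Fin (N + 1) => ¬ (j : ℕ) < N + 1) = ∅ := by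
    apply Finset.filter_false_of_mem
    intro j _
    have := j.2
    omega
  rw [this, Finset.card_empty, mul_zero]

theorem rL_add_rG (n : ℕ) : rL r T n + rG r T n = r * T.card := by
  unfold rL rG
  rw [← mul_add, Finset.card_filter_add_card_filter_not]

theorem rL_succ (i : Fin (N + 1)) : rL r T ((i : ℕ) + 1) = rL r T i + rI r T i := by
  classical
  unfold rL rI
  by_cases hi : i ∈ T
  · rw [if_pos hi]
    have : T.filter (fun j : Fin (N + 1) => (j : ℕ) < (i : ℕ) + 1) =
        insert i (T.filter (fun j : Fin (N + 1) => (j : ℕ) < i)) := by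
      ext j
      simp only [Finset.mem_filter, Finset.mem_insert]
      constructor
      · rintro ⟨hj, hlt⟩
        by_cases hji : j = i
        · left; exact hji
        · right
          refine ⟨hj, ?_⟩
          have : (j : ℕ) ≠ i := fun h => hji (Fin.ext h)
          omega
      · rintro (rfl | ⟨hj, hlt⟩)
        · exact ⟨hi, by omega⟩
        · exact ⟨hj, by omega⟩
    rw [this, Finset.card_insert_of_notMem (by simp), mul_add, mul_one]
  · rw [if_neg hi, add_zero]
    have : T.filter (fun j : Fin (N + 1) => (j : ℕ) < (i : ℕ) + 1) =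
        T.filter (fun j : Fin (N + 1) => (j : ℕ) < i) := by
      ext j
      simp only [Finset.mem_filter]
      constructor
      · rintro ⟨hj, hlt⟩
        refine ⟨hj, ?_⟩
        have : (j : ℕ) ≠ i := fun h => hi (by rwa [← Fin.ext h])
        omega
      · rintro ⟨hj, hlt⟩
        exact ⟨hj, by omega⟩
    rw [this]

theorem rG_succ (i : Fin (N + 1)) : rG r T i = rG r T ((i : ℕ) + 1) + rI r T i := by
  have h1 := rL_add_rG r T i
  have h2 := rL_add_rG r T ((i : ℕ) + 1)
  have h3 := rL_succ r T i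
  omega

theorem r_erase (i : Fin (N + 1)) : r * (T.erase i).card + rI r T i = r * T.card := by
  classical
  unfold rI
  by_cases hi : i ∈ T
  · rw [if_pos hi, Finset.card_erase_of_mem hi]
    have : 0 < T.card := Finset.card_pos.mpr ⟨i, hi⟩
    obtain ⟨c, hc⟩ : ∃ c, T.card = c + 1 := ⟨T.card - 1, by omega⟩
    rw [hc, Nat.add_sub_cancel, mul_add, mul_one]
  · rw [if_neg hi, Finset.erase_eq_of_notMem hi, add_zero]

/-- `r |T| = rL i + rI i + rG (i+1)`. -/
theorem r_card_split (i : Fin (N + 1)) :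
    r * T.card = rL r T i + rI r T i + rG r T ((i : ℕ) + 1) := by
  have h1 := rL_add_rG r T i
  have h3 := rG_succ r T i
  omega

variable (a b : Fin (N + 1) → ℕ) (M τ : ℕ)
  (hnode : ∀ (n : ℕ) (h : n < N), b ⟨n, by omega⟩ + a ⟨n + 1, by omega⟩ = M)
  (hinner : ∀ i : Fin (N + 1), 0 < (i : ℕ) → (i : ℕ) < N → a i + b i + rI r T i ≤ M)

include hnode hinner in
theorem chain_left (hfirst : 0 < N → b ⟨0, by omega⟩ + rI r T ⟨0, by omega⟩ + τ ≤ M)
    (n : ℕ) (h0 : 0 < n) (hn : n < N + 1) : rL r T n + τ ≤ a ⟨n, hn⟩ := by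
  induction n with
  | zero => omega
  | succ n ih =>
    rcases Nat.eq_zero_or_pos n with rfl | hpos
    · have h1 := hnode 0 (by omega)
      have h2 := hfirst (by omega)
      have h3 := rL_succ r T (⟨0, by omega⟩ : Fin (N + 1))
      have h4 := rL_zero r T
      simp only [zero_add] at h1 h3 ⊢
      omega
    · have h1 := hnode n (by omega)
      have h2 := hinner ⟨n, by omega⟩ hpos (by simp only; omega)
      have h3 := rL_succ r T (⟨n, by omega⟩ : Fin (N + 1))
      have h4 := ih hpos (by omega)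
      simp only at h3
      omega

include hnode hinner in
theorem chain_right (hlast : 0 < N → a ⟨N, by omega⟩ + rI r T ⟨N, by omega⟩ + τ ≤ M)
    (m n : ℕ) (hmn : n + m + 1 = N) : rG r T (n + 1) + τ ≤ b ⟨n, by omega⟩ := by
  induction m generalizing n with
  | zero =>
    have hN : N = n + 1 := by omega
    subst hN
    have h1 := hnode n (by omega)
    have h2 := hlast (by omega)
    have h3 := rG_succ r T (⟨n + 1, by omega⟩ : Fin (n + 1 + 1))
    have h4 := rG_top r T
    simp only at h3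
    omega
  | succ m ih =>
    have h1 := hnode n (by omega)
    have h2 := hinner ⟨n + 1, by omega⟩ (by simp) (by simp only; omega)
    have h3 := rG_succ r T (⟨n + 1, by omega⟩ : Fin (N + 1))
    have h4 := ih (n + 1) (by omega)
    simp only at h3
    omega

end chain


/-! ## The backbone of a flag curve -/

section backbone

variable {k : Type u} [Field k] [IsAlgClosed k] [CharZero k]
  {N : ℕ} {Z : Fin (N + 1) → Type v} [∀ i, Field (Z i)] [∀ i, Algebra k (Z i)]
  (hZ : ∀ i, IsFunctionField k (Z i)) (hrat : ∀ i, genus k (Z i) = 0)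
  (d r : ℕ) (D : ∀ i, Divisor k (Z i)) (hD : ∀ i, (D i).deg = d)
  (V : ∀ i, Submodule k (Z i)) (hV : ∀ i, V i ≤ L (D i))
  (hVr : ∀ i, Module.finrank k ↥(V i) = r + 1)
  (A B : ∀ i, Place k (Z i))
  (hAB : ∀ i : Fin (N + 1), 0 < (i : ℕ) → (i : ℕ) < N → A i ≠ B i)
  (hcomp : ∀ (l : Fin N) (m : ℕ), m ≤ d + 1 →
    Module.finrank k ↥((V l.castSucc) ⊓
        L ((D l.castSucc) - Finsupp.single (B l.castSucc) ((m : ℤ)))) +
      Module.finrank k ↥((V l.succ) ⊓
        L ((D l.succ) - Finsupp.single (A l.succ) ((d : ℤ) + 1 - m))) = r + 1)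
  (T : Finset (Fin (N + 1))) (Q : ∀ i, Place k (Z i))
  (hQA : ∀ i ∈ T, 0 < (i : ℕ) → Q i ≠ A i) (hQB : ∀ i ∈ T, (i : ℕ) < N → Q i ≠ B i)
  (hcusp : ∀ i ∈ T, r ≤ Module.finrank k ↥((V i) ⊓ L ((D i) - Finsupp.single (Q i) ((2 : ℤ)))))

include hZ hD hV hVr in
/-- `r ≤ d` for a `g^r_d`. -/
theorem r_le_d (i : Fin (N + 1)) : r ≤ d := by
  haveI := finiteDimensional_L (hZ i) (D i)
  have h1 := Submodule.finrank_mono (hV i)
  have h2 := ell_le_deg_add_one (hZ i) (D := D i) (by rw [hD i]; omega)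
  rw [hVr i] at h1
  rw [hD i] at h2
  have h3 : Module.finrank k ↥(L (D i)) = ell (D i) := rfl
  omega

include hZ hrat hD hV hVr hcusp

theorem comp0 (i : Fin (N + 1)) : rI r T i + 2 * tau r ≤ (r + 1) * d := by
  unfold rI
  by_cases hi : i ∈ T
  · rw [if_pos hi]
    have h1 := plucker1 (hZ i) (hrat i) (D i) d r (hD i) (V i) (hV i) (hVr i) (Q i)
    have h2 := wsum_cusp_ge (hZ i) (D i) d r (hD i) (V i) (hV i) (Q i) (hcusp i hi)
    omega
  · rw [if_neg hi]
    have h1 := r_le_d hZ d r D hD V hV hVr i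
    have h2 := two_tau r
    have : r * (r + 1) ≤ d * (r + 1) := Nat.mul_le_mul_right _ h1
    rw [mul_comm d] at this
    omega

theorem comp1 (i : Fin (N + 1)) (P : Place k (Z i)) (hPQ : i ∈ T → P ≠ Q i) :
    wsum (V i) (D i) d P + rI r T i + 2 * tau r ≤ (r + 1) * d + tau r := by
  unfold rI
  by_cases hi : i ∈ T
  · rw [if_pos hi]
    have h1 := plucker2 (hZ i) (hrat i) (D i) d r (hD i) (V i) (hV i) (hVr i) P (Q i) (hPQ hi)
    have h2 := wsum_cusp_ge (hZ i) (D i) d r (hD i) (V i) (hV i) (Q i) (hcusp i hi)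
    omega
  · rw [if_neg hi]
    have h1 := plucker1 (hZ i) (hrat i) (D i) d r (hD i) (V i) (hV i) (hVr i) P
    omega

theorem comp2 (i : Fin (N + 1)) (P₁ P₂ : Place k (Z i)) (h12 : P₁ ≠ P₂)
    (h1Q : i ∈ T → P₁ ≠ Q i) (h2Q : i ∈ T → P₂ ≠ Q i) :
    wsum (V i) (D i) d P₁ + wsum (V i) (D i) d P₂ + rI r T i + 2 * tau r ≤
      (r + 1) * d + 2 * tau r := by
  unfold rI
  by_cases hi : i ∈ T
  · rw [if_pos hi]
    have h1 := plucker3 (hZ i) (hrat i) (D i) d r (hD i) (V i) (hV i) (hVr i) P₁ P₂ (Q i) h12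
      (h1Q hi) (h2Q hi)
    have h2 := wsum_cusp_ge (hZ i) (D i) d r (hD i) (V i) (hV i) (Q i) (hcusp i hi)
    omega
  · rw [if_neg hi]
    have h1 := plucker2 (hZ i) (hrat i) (D i) d r (hD i) (V i) (hV i) (hVr i) P₁ P₂ h12
    omega

theorem comp3 (i : Fin (N + 1)) (P₁ P₂ P₃ : Place k (Z i)) (h12 : P₁ ≠ P₂) (h13 : P₁ ≠ P₃)
    (h23 : P₂ ≠ P₃)
    (h1Q : i ∈ T → P₁ ≠ Q i) (h2Q : i ∈ T → P₂ ≠ Q i) (h3Q : i ∈ T → P₃ ≠ Q i) :
    wsum (V i) (D i) d P₁ + wsum (V i) (D i) d P₂ + wsum (V i) (D i) d P₃ + rI r T i +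
      2 * tau r ≤ (r + 1) * d + 3 * tau r := by
  unfold rI
  by_cases hi : i ∈ T
  · rw [if_pos hi]
    have h1 := plucker4 (hZ i) (hrat i) (D i) d r (hD i) (V i) (hV i) (hVr i) P₁ P₂ P₃ (Q i) h12
      h13 (h1Q hi) h23 (h2Q hi) (h3Q hi)
    have h2 := wsum_cusp_ge (hZ i) (D i) d r (hD i) (V i) (hV i) (Q i) (hcusp i hi)
    omega
  · rw [if_neg hi]
    have h1 := plucker3 (hZ i) (hrat i) (D i) d r (hD i) (V i) (hV i) (hVr i) P₁ P₂ P₃ h12 h13 h23
    omega

omit hZ hrat hD hV hVr hcusp in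
include hcomp in
theorem node_sum (n : ℕ) (h : n < N) :
    wsum (V ⟨n, by omega⟩) (D ⟨n, by omega⟩) d (B ⟨n, by omega⟩) +
      wsum (V ⟨n + 1, by omega⟩) (D ⟨n + 1, by omega⟩) d (A ⟨n + 1, by omega⟩) = (r + 1) * d :=
  compat_sum (V ⟨n, by omega⟩) (D ⟨n, by omega⟩) (B ⟨n, by omega⟩)
    (V ⟨n + 1, by omega⟩) (D ⟨n + 1, by omega⟩) (A ⟨n + 1, by omega⟩) d r
    (fun m hm => hcomp ⟨n, h⟩ m hm)

include hAB hcomp hQA hQB

/-- Weight at the left node of `Z_i` is at least `r · #{tails left of i}`. -/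
theorem left_bound (i : Fin (N + 1)) (hi0 : 0 < (i : ℕ)) :
    rL r T i + tau r ≤ wsum (V i) (D i) d (A i) := by
  have := chain_left r T (fun j => wsum (V j) (D j) d (A j)) (fun j => wsum (V j) (D j) d (B j))
    ((r + 1) * d) (tau r) (node_sum d r D V A B hcomp)
    (fun j hj0 hjN => by
      have := comp2 hZ hrat d r D hD V hV hVr T Q hcusp j (A j) (B j) (hAB j hj0 hjN)
        (fun hj => (hQA j hj hj0).symm) (fun hj => (hQB j hj hjN).symm)
      omega)
    (fun hN => by
      have := comp1 hZ hrat d r D hD V hV hVr T Q hcusp ⟨0, by omega⟩ (B ⟨0, by omega⟩)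
        (fun hj => (hQB _ hj hN).symm)
      omega)
    i hi0 i.2
  exact this

/-- Weight at the right node of `Z_i` is at least `r · #{tails right of i}`. -/
theorem right_bound (i : Fin (N + 1)) (hiN : (i : ℕ) < N) :
    rG r T ((i : ℕ) + 1) + tau r ≤ wsum (V i) (D i) d (B i) := by
  have := chain_right r T (fun j => wsum (V j) (D j) d (A j)) (fun j => wsum (V j) (D j) d (B j))
    ((r + 1) * d) (tau r) (node_sum d r D V A B hcomp)
    (fun j hj0 hjN => by
      have := comp2 hZ hrat d r D hD V hV hVr T Q hcusp j (A j) (B j) (hAB j hj0 hjN)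
        (fun hj => (hQA j hj hj0).symm) (fun hj => (hQB j hj hjN).symm)
      omega)
    (fun hN => by
      have := comp1 hZ hrat d r D hD V hV hVr T Q hcusp ⟨N, by omega⟩ (A ⟨N, by omega⟩)
        (fun hj => (hQA _ hj hN).symm)
      omega)
    (N - 1 - i) i (by omega)
  exact this

end backbone

end Groth.Agent.Lib.Helper18.FF
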