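import Groth.Prelude.Def_W4bk4goldsch23FF
import Mathlib.RingTheory.Valuation.Basic
import Mathlib.RingTheory.Algebraic.Basic

/-! # Function fields of one variable (Prelude `FunFld`): basic lemmas on places (helper18) -/

set_option autoImplicit false

namespace Groth.Agent.Lib.Helper18.FF

open FunFld WithZero

variable {k K : Type*} [Field k] [Field K] [Algebra k K]

theorem val_algebraMap (P : Place k K) {c : k} (hc : c ≠ 0) : P.1 (algebraMap k K c) = 1 := by
  apply le_antisymm (P.2.1 c)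
  have h1 := P.2.1 c⁻¹
  rw [map_inv₀, map_inv₀] at h1
  have hne : P.1 (algebraMap k K c) ≠ 0 := by
    rw [Valuation.ne_zero_iff]
    exact (map_ne_zero _).mpr hc
  exact (inv_le_one₀ (zero_lt_iff.mpr hne)).mp h1

theorem val_algebraMap_le (P : Place k K) (c : k) : P.1 (algebraMap k K c) ≤ 1 := P.2.1 c

theorem val_smul (P : Place k K) {c : k} (hc : c ≠ 0) (x : K) : P.1 (c • x) = P.1 x := by
  rw [Algebra.smul_def, map_mul, val_algebraMap P hc, one_mul]

theorem val_smul_le (P : Place k K) (c : k) (x : K) : P.1 (c • x) ≤ P.1 x := by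
  rw [Algebra.smul_def, map_mul]
  exact (mul_le_mul' (P.2.1 c) le_rfl).trans_eq (one_mul _)

theorem exists_val_eq_exp (P : Place k K) (n : ℤ) : ∃ t : K, P.1 t = exp n := P.2.2 (exp n)

theorem exists_uniformizer (P : Place k K) : ∃ t : K, P.1 t = exp (-1 : ℤ) := exists_val_eq_exp P (-1)

theorem val_eq_exp_neg_ord (P : Place k K) {x : K} (hx : x ≠ 0) : P.1 x = exp (-(P.ord x)) := by
  rw [Place.ord, neg_neg, exp_log]
  exact (Valuation.ne_zero_iff _).mpr hx

theorem ord_eq_of_val_eq_exp (P : Place k K) {x : K} {n : ℤ} (h : P.1 x = exp n) : P.ord x = -n := by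
  rw [Place.ord, h, log_exp]

theorem ord_zero (P : Place k K) : P.ord (0 : K) = 0 := by
  rw [Place.ord, map_zero, log_zero, neg_zero]

theorem ord_mul (P : Place k K) {x y : K} (hx : x ≠ 0) (hy : y ≠ 0) :
    P.ord (x * y) = P.ord x + P.ord y := by
  rw [Place.ord, Place.ord, Place.ord, map_mul, log_mul, neg_add]
  · exact (Valuation.ne_zero_iff _).mpr hx
  · exact (Valuation.ne_zero_iff _).mpr hy

theorem ord_inv (P : Place k K) (x : K) : P.ord x⁻¹ = -P.ord x := by
  rw [Place.ord, Place.ord, map_inv₀, log_inv]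

theorem ord_algebraMap (P : Place k K) (c : k) : P.ord (algebraMap k K c) = 0 := by
  by_cases hc : c = 0
  · rw [hc, map_zero, ord_zero]
  · rw [Place.ord, val_algebraMap P hc, log_one, neg_zero]

theorem val_le_one_iff_ord_nonneg (P : Place k K) {x : K} (hx : x ≠ 0) : P.1 x ≤ 1 ↔ 0 ≤ P.ord x := by
  rw [val_eq_exp_neg_ord P hx, ← exp_zero, exp_le_exp]
  omega

theorem val_lt_one_iff_ord_pos (P : Place k K) {x : K} (hx : x ≠ 0) : P.1 x < 1 ↔ 0 < P.ord x := by
  rw [val_eq_exp_neg_ord P hx, ← exp_zero, exp_lt_exp]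
  omega

theorem one_lt_val_iff_ord_neg (P : Place k K) {x : K} (hx : x ≠ 0) : 1 < P.1 x ↔ P.ord x < 0 := by
  rw [val_eq_exp_neg_ord P hx, ← exp_zero, exp_lt_exp]
  omega

theorem val_le_exp_iff (P : Place k K) {x : K} (hx : x ≠ 0) (n : ℤ) : P.1 x ≤ exp n ↔ -n ≤ P.ord x := by
  rw [val_eq_exp_neg_ord P hx, exp_le_exp]
  omega

/-- Elements of a function field not in `k` are transcendental. -/
theorem transcendental_of_not_mem (hK : IsFunctionField k K) {x : K}
    (hx : x ∉ Set.range (algebraMap k K)) : Transcendental k x :=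
  fun h => hx (hK.2 x h)

theorem not_mem_range_of_val_ne_one (P : Place k K) {x : K} (hx : x ≠ 0) (h : P.1 x ≠ 1) :
    x ∉ Set.range (algebraMap k K) := by
  rintro ⟨c, rfl⟩
  exact h (val_algebraMap P (by rintro rfl; simp at hx))

theorem transcendental_of_val_ne_one (hK : IsFunctionField k K) (P : Place k K) {x : K} (hx : x ≠ 0)
    (h : P.1 x ≠ 1) : Transcendental k x :=
  transcendental_of_not_mem hK (not_mem_range_of_val_ne_one P hx h)

end Groth.Agent.Lib.Helper18.FF
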