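import Groth.Agent.Lib.Helper18.FF.Weierstrass

/-! # The standard basis of `L(nP)` in genus one -/

set_option autoImplicit false
set_option linter.style.haveILetI false

namespace Groth.Agent.Lib.Helper18.FF

open FunFld WithZero

universe u v

variable {k : Type u} {K : Type v} [Field k] [Field K] [Algebra k K]

theorem basis_L_genus_one (hK : IsFunctionField k K) (hgen : genus k K = 1)
    (P : Place k K) (hP : P.deg = 1) (f g : K)
    (hf : f ∈ L (Finsupp.single P 2 : Divisor k K)) (hf2 : P.ord f = -2)
    (hg : g ∈ L (Finsupp.single P 3 : Divisor k K)) (hg3 : P.ord g = -3) (n : ℕ) (hn : 2 ≤ n) :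
    LinearIndependent k
        (Sum.elim (fun i : Fin (n / 2 + 1) => f ^ (i : ℕ))
          (fun i : Fin ((n - 1) / 2) => f ^ (i : ℕ) * g)) ∧
      Submodule.span k (Set.range
        (Sum.elim (fun i : Fin (n / 2 + 1) => f ^ (i : ℕ))
          (fun i : Fin ((n - 1) / 2) => f ^ (i : ℕ) * g))) =
        L (Finsupp.single P (n : ℤ) : Divisor k K) := by
  have hf0 : f ≠ 0 := by
    rintro rfl
    rw [ord_zero] at hf2
    omega
  have hg0 : g ≠ 0 := by
    rintro rfl
    rw [ord_zero] at hg3
    omega
  have hvf : P.1 f = exp (2 : ℤ) := by rw [val_eq_exp_neg_ord P hf0, hf2]; rfl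
  have hvg : P.1 g = exp (3 : ℤ) := by rw [val_eq_exp_neg_ord P hg0, hg3]; rfl
  obtain ⟨-, hfQ⟩ := mem_L_single_iff.mp hf
  obtain ⟨-, hgQ⟩ := mem_L_single_iff.mp hg
  set z : Fin (n / 2 + 1) ⊕ Fin ((n - 1) / 2) → K :=
    Sum.elim (fun i : Fin (n / 2 + 1) => f ^ (i : ℕ))
      (fun i : Fin ((n - 1) / 2) => f ^ (i : ℕ) * g) with hz
  have hvl : ∀ i : Fin (n / 2 + 1), P.1 (z (Sum.inl i)) = exp ((2 * (i : ℕ) : ℕ) : ℤ) := by
    intro i
    simp only [hz, Sum.elim_inl, map_pow, hvf]
    rw [← exp_nsmul]
    congr 1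
    push_cast
    ring
  have hvr : ∀ i : Fin ((n - 1) / 2), P.1 (z (Sum.inr i)) = exp ((2 * (i : ℕ) + 3 : ℕ) : ℤ) := by
    intro i
    simp only [hz, Sum.elim_inr, map_mul, map_pow, hvf, hvg]
    rw [← exp_nsmul, ← exp_add]
    congr 1
    push_cast
    ring
  have hz0 : ∀ i, z i ≠ 0 := by
    rintro (i | i)
    · exact pow_ne_zero _ hf0
    · exact mul_ne_zero (pow_ne_zero _ hf0) hg0
  have hinj : Function.Injective (fun i => P.1 (z i)) := by
    rintro (i | i) (j | j) hij
    · simp only [hvl] at hij
      have := exp_injective hij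
      congr 1
      apply Fin.ext
      omega
    · simp only [hvl, hvr] at hij
      have := exp_injective hij
      omega
    · simp only [hvl, hvr] at hij
      have := exp_injective hij
      omega
    · simp only [hvr] at hij
      have := exp_injective hij
      congr 1
      apply Fin.ext
      omega
  have hli : LinearIndependent k z := linearIndependent_of_val_injective P z hz0 hinj
  refine ⟨hli, ?_⟩
  haveI := finiteDimensional_L hK (Finsupp.single P (n : ℤ) : Divisor k K)
  have hle : Submodule.span k (Set.range z) ≤ L (Finsupp.single P (n : ℤ) : Divisor k K) := by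
    rw [Submodule.span_le]
    rintro _ ⟨i, rfl⟩
    rw [SetLike.mem_coe, mem_L_single_iff]
    rcases i with i | i
    · refine ⟨?_, fun Q hQ => ?_⟩
      · rw [hvl, exp_le_exp]
        have := i.2
        push_cast
        omega
      · simp only [hz, Sum.elim_inl, map_pow]
        exact pow_le_one' (hfQ Q hQ) _
    · refine ⟨?_, fun Q hQ => ?_⟩
      · rw [hvr, exp_le_exp]
        have := i.2
        push_cast
        omega
      · simp only [hz, Sum.elim_inr, map_mul, map_pow]
        exact mul_le_one' (pow_le_one' (hfQ Q hQ) _) (hgQ Q hQ)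
  apply Submodule.eq_of_le_of_finrank_eq hle
  rw [finrank_span_eq_card hli, Fintype.card_sum, Fintype.card_fin, Fintype.card_fin]
  have : Module.finrank k ↥(L (Finsupp.single P (n : ℤ) : Divisor k K)) =
      ell (Finsupp.single P (n : ℤ) : Divisor k K) := rfl
  rw [this, ell_single_of_genus_one hK hgen hP (by omega)]
  omega

end Groth.Agent.Lib.Helper18.FF
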