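import Groth.Agent.Lib.Helper18.FF.LinIndep
import Mathlib.RingTheory.Valuation.ValuationSubring

/-! # Valuation subrings of a function field containing the constants: chain bound, uniformizer -/

set_option autoImplicit false

namespace Groth.Agent.Lib.Helper18.FF

open FunFld IntermediateField

universe u v

variable {k : Type u} {K : Type v} [Field k] [Field K] [Algebra k K]

/-- A valuation subring containing the constants, as a subalgebra. -/
def vsSubalgebra (A : ValuationSubring K) (hkA : ∀ c : k, algebraMap k K c ∈ A) : Subalgebra k K :=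
  { A.toSubring with algebraMap_mem' := hkA }

theorem mem_vsSubalgebra (A : ValuationSubring K) (hkA : ∀ c : k, algebraMap k K c ∈ A) {z : K} :
    z ∈ vsSubalgebra A hkA ↔ z ∈ A := Iff.rfl

theorem vs_val_algebraMap (A : ValuationSubring K) (hkA : ∀ c : k, algebraMap k K c ∈ A) {c : k}
    (hc : c ≠ 0) : A.valuation (algebraMap k K c) = 1 := by
  apply le_antisymm ((A.valuation_le_one_iff _).mpr (hkA c))
  have h1 := (A.valuation_le_one_iff _).mpr (hkA c⁻¹)
  rw [map_inv₀, map_inv₀] at h1
  have hne : A.valuation (algebraMap k K c) ≠ 0 :=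
    (Valuation.ne_zero_iff _).mpr ((map_ne_zero _).mpr hc)
  exact (inv_le_one₀ (zero_lt_iff.mpr hne)).mp h1

theorem vs_val_smul_le (A : ValuationSubring K) (hkA : ∀ c : k, algebraMap k K c ∈ A) (c : k) (z : K) :
    A.valuation (c • z) ≤ A.valuation z := by
  rw [Algebra.smul_def, map_mul]
  exact (mul_le_mul' ((A.valuation_le_one_iff _).mpr (hkA c)) le_rfl).trans_eq (one_mul _)

theorem vs_val_smul (A : ValuationSubring K) (hkA : ∀ c : k, algebraMap k K c ∈ A) {c : k} (hc : c ≠ 0)
    (z : K) : A.valuation (c • z) = A.valuation z := by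
  rw [Algebra.smul_def, map_mul, vs_val_algebraMap A hkA hc, one_mul]

/-- **Chain bound.** Elements of `A` with strictly decreasing values, all bigger than the value of `y`, are
at most `[K : k(y)]` in number. -/
theorem chain_card_le (hK : IsFunctionField k K) (A : ValuationSubring K)
    (hkA : ∀ c : k, algebraMap k K c ∈ A) {y : K} (hy0 : y ≠ 0) (hy : A.valuation y < 1)
    (n : ℕ) (z : Fin n → K) (hz1 : ∀ i, A.valuation (z i) ≤ 1)
    (hdec : ∀ i j, i < j → A.valuation (z j) < A.valuation (z i))
    (hlast : ∀ i, A.valuation y < A.valuation (z i)) :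
    n ≤ Module.finrank (IntermediateField.adjoin k ({y} : Set K)) K := by
  classical
  have hyk : y ∉ Set.range (algebraMap k K) := by
    rintro ⟨c, rfl⟩
    have hc : c ≠ 0 := by rintro rfl; exact hy0 (map_zero _)
    rw [vs_val_algebraMap A hkA hc] at hy
    exact lt_irrefl _ hy
  have htr : Transcendental k y := transcendental_of_not_mem hK hyk
  haveI := finiteDimensional_adjoin_of_transcendental hK htr
  have := card_le_finrank_of_indep_mod htr (vsSubalgebra A hkA)
    ((A.valuation_le_one_iff _).mp hy.le) z (fun i => (A.valuation_le_one_iff _).mp (hz1 i)) ?_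
  · simpa using this
  rintro c ⟨ρ, hρ, hrel⟩
  have hρ' : A.valuation ρ ≤ 1 := (A.valuation_le_one_iff _).mpr hρ
  have key : ∀ (i : ℕ) (hi : i < n), c ⟨i, hi⟩ = 0 := by
    intro i
    induction i using Nat.strong_induction_on with
    | _ i ih =>
      intro hi
      by_contra hci
      have hdecomp : c ⟨i, hi⟩ • z ⟨i, hi⟩ =
          y * ρ - ∑ j ∈ Finset.univ.erase (⟨i, hi⟩ : Fin n), c j • z j := by
        rw [← hrel, ← Finset.add_sum_erase Finset.univ _ (Finset.mem_univ (⟨i, hi⟩ : Fin n))]
        ring
      have hlt : A.valuation (c ⟨i, hi⟩ • z ⟨i, hi⟩) < A.valuation (z ⟨i, hi⟩) := by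
        have hne : A.valuation (z ⟨i, hi⟩) ≠ 0 := ((zero_le').trans_lt (hlast ⟨i, hi⟩)).ne'
        rw [hdecomp]
        refine lt_of_le_of_lt (Valuation.map_sub _ _ _) (max_lt ?_ ?_)
        · rw [map_mul]
          exact lt_of_le_of_lt ((mul_le_mul' le_rfl hρ').trans_eq (mul_one _)) (hlast ⟨i, hi⟩)
        · refine Valuation.map_sum_lt _ hne ?_
          rintro ⟨j, hj⟩ hjne
          have hne' : j ≠ i := by
            intro h'; subst h'
            exact (Finset.ne_of_mem_erase hjne) rfl
          rcases lt_or_gt_of_ne hne' with hlt | hgt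
          · rw [ih j hlt hj, zero_smul, map_zero]
            exact zero_lt_iff.mpr hne
          · exact lt_of_le_of_lt (vs_val_smul_le A hkA _ _) (hdec ⟨i, hi⟩ ⟨j, hj⟩ hgt)
      rw [vs_val_smul A hkA hci] at hlt
      exact lt_irrefl _ hlt
  intro i
  exact key i.1 i.2

end Groth.Agent.Lib.Helper18.FF
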