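import Groth.Agent.Lib.Helper18.FF.MapDiv
import Groth.Agent.Lib.Helper18.FF.Embedding
import Groth.Agent.Lib.Helper18.FF.RiemannRoch

/-! # Plane models: the genus bound `g ≤ (d-1)(d-2)/2` -/

set_option autoImplicit false
set_option linter.style.haveILetI false

namespace Groth.Agent.Lib.Helper18.FF

open FunFld WithZero IntermediateField

universe u v

variable {k : Type u} {K : Type v} [Field k] [Field K] [Algebra k K]

/-- Powers of a transcendental element times a `k(x)`-independent family are `k`-linearly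
independent. -/
theorem linearIndependent_pow_mul {x : K} (hx : Transcendental k x) {N : ℕ}
    (b : Fin N → K) (hb : LinearIndependent (IntermediateField.adjoin k ({x} : Set K)) b) (l : ℕ) :
    LinearIndependent k (fun ij : Fin (l + 1) × Fin N => x ^ (ij.1 : ℕ) * b ij.2) := by
  classical
  rw [Fintype.linearIndependent_iff]
  intro a ha
  let c : Fin N → IntermediateField.adjoin k ({x} : Set K) := fun j =>
    ∑ i : Fin (l + 1), a (i, j) • (AdjoinSimple.gen k x) ^ (i : ℕ)
  have hc : ∀ j, ((c j : IntermediateField.adjoin k ({x} : Set K)) : K) =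
      ∑ i : Fin (l + 1), a (i, j) • x ^ (i : ℕ) := by
    intro j
    simp only [c, AddSubmonoidClass.coe_finset_sum, IntermediateField.coe_smul,
      SubmonoidClass.coe_pow, AdjoinSimple.coe_gen]
  have hsum : ∑ j, c j • b j = 0 := by
    rw [← ha, Fintype.sum_prod_type, Finset.sum_comm]
    refine Finset.sum_congr rfl fun j _ => ?_
    rw [IntermediateField.smul_def, hc j, smul_eq_mul, Finset.sum_mul]
    refine Finset.sum_congr rfl fun i _ => ?_
    rw [smul_mul_assoc]
  have hc0 := Fintype.linearIndependent_iff.mp hb c hsum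
  rintro ⟨i, j⟩
  have h1 : ∑ i : Fin (l + 1), a (i, j) • x ^ (i : ℕ) = 0 := by
    rw [← hc j, hc0 j]; rfl
  have h2 : Polynomial.aeval x (Polynomial.ofFn (l + 1) fun i => a (i, j)) = 0 := by
    rw [Polynomial.ofFn_eq_sum_monomial, map_sum, ← h1]
    refine Finset.sum_congr rfl fun i _ => ?_
    rw [Polynomial.aeval_monomial, Algebra.smul_def]
  have h3 : Polynomial.ofFn (l + 1) (fun i => a (i, j)) = 0 := by
    by_contra hne
    exact hx ⟨_, hne, h2⟩
  have h4 := congrArg (fun p => Polynomial.coeff p (i : ℕ)) h3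
  simp only [Polynomial.coeff_zero] at h4
  rw [Polynomial.ofFn_coeff_eq_val_of_lt _ i.2] at h4
  exact h4

theorem ord_one (P : Place k K) : P.ord (1 : K) = 0 := by
  rw [Place.ord, map_one, log_one, neg_zero]

theorem pow_mem_L {D : Divisor k K} {x : K} (hx : x ∈ L D) (n : ℕ) : x ^ n ∈ L (n • D) := by
  induction n with
  | zero =>
    rw [pow_zero, zero_smul]
    exact one_mem_L_of_nonneg le_rfl
  | succ n ih =>
    rw [pow_succ, succ_nsmul]
    exact mul_mem_L ih hx

section plane

variable (hK : IsFunctionField k K) (x y : K)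

include hK

theorem plane_nonneg : 0 ≤ mapDiv k ![(1 : K), x, y] := by
  intro P
  have h := neg_mapDiv_le hK ![(1 : K), x, y] P 0
  simp only [Matrix.cons_val_zero, ord_one] at h
  rw [Finsupp.zero_apply]
  omega

theorem plane_x_mem : x ∈ L (mapDiv k ![(1 : K), x, y]) :=
  mem_L_mapDiv hK ![(1 : K), x, y] 1

theorem plane_y_mem : y ∈ L (mapDiv k ![(1 : K), x, y]) :=
  mem_L_mapDiv hK ![(1 : K), x, y] 2

theorem plane_attained (P : Place k K) (hP : 0 < mapDiv k ![(1 : K), x, y] P) :
    P.1 x = exp (mapDiv k ![(1 : K), x, y] P) ∨ P.1 y = exp (mapDiv k ![(1 : K), x, y] P) := by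
  obtain ⟨i, hi⟩ := exists_mapDiv_eq hK ![(1 : K), x, y] P
  have key : ∀ z : K, mapDiv k ![(1 : K), x, y] P = -P.ord z →
      P.1 z = exp (mapDiv k ![(1 : K), x, y] P) := by
    intro z hz
    have hz0 : z ≠ 0 := by
      rintro rfl
      rw [ord_zero] at hz
      omega
    rw [val_eq_exp_neg_ord P hz0, hz]
  fin_cases i
  · simp only [Fin.zero_eta, Matrix.cons_val_zero, ord_one] at hi
    omega
  · left
    exact key x hi
  · right
    exact key y hi

/-- A generic combination `x + c y` has pole divisor exactly the divisor of the plane model. -/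
theorem plane_generic [Infinite k] (P : Place k K) (hP : 0 < mapDiv k ![(1 : K), x, y] P) :
    ∃ c₀ : k, ∀ c : k, c ≠ c₀ → P.1 (x + c • y) = exp (mapDiv k ![(1 : K), x, y] P) := by
  obtain ⟨γ, hγ⟩ : ∃ γ : ℤᵐ⁰, γ = exp (mapDiv k ![(1 : K), x, y] P) := ⟨_, rfl⟩
  rw [← hγ]
  have hx : P.1 x ≤ γ := hγ ▸ plane_x_mem hK x y P
  have hy : P.1 y ≤ γ := hγ ▸ plane_y_mem hK x y P
  have hatt : P.1 x = γ ∨ P.1 y = γ := hγ ▸ plane_attained hK x y P hP
  have hle : ∀ c : k, P.1 (x + c • y) ≤ γ := fun c =>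
    (Valuation.map_add _ _ _).trans (max_le hx ((val_smul_le P c y).trans hy))
  by_cases h : ∃ c₀ : k, P.1 (x + c₀ • y) < γ
  · obtain ⟨c₀, hc₀⟩ := h
    have hyγ : P.1 y = γ := by
      by_contra hne
      have hlt : P.1 y < γ := lt_of_le_of_ne hy hne
      have hxγ : P.1 x = γ := hatt.resolve_right hne
      have : P.1 (x + c₀ • y) = P.1 x :=
        Valuation.map_add_eq_of_lt_left _ (by rw [hxγ]; exact (val_smul_le P c₀ y).trans_lt hlt)
      rw [this, hxγ] at hc₀
      exact lt_irrefl _ hc₀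
    refine ⟨c₀, fun c hc => ?_⟩
    have hdec : x + c • y = (x + c₀ • y) + (c - c₀) • y := by
      rw [sub_smul]
      ring
    have hv : P.1 ((c - c₀) • y) = γ := by
      rw [val_smul P (sub_ne_zero.mpr hc), hyγ]
    rw [hdec, Valuation.map_add_eq_of_lt_right _ (by rw [hv]; exact hc₀), hv]
  · push Not at h
    exact ⟨0, fun c _ => le_antisymm (hle c) (h c)⟩

theorem plane_exists_generic [Infinite k] :
    ∃ c : k, c ≠ 0 ∧ ∀ P : Place k K, 0 < mapDiv k ![(1 : K), x, y] P →
      P.1 (x + c • y) = exp (mapDiv k ![(1 : K), x, y] P) := by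
  classical
  have hch : ∀ P : Place k K, ∃ c₀ : k, 0 < mapDiv k ![(1 : K), x, y] P →
      ∀ c : k, c ≠ c₀ → P.1 (x + c • y) = exp (mapDiv k ![(1 : K), x, y] P) := by
    intro P
    by_cases hP : 0 < mapDiv k ![(1 : K), x, y] P
    · obtain ⟨c₀, h⟩ := plane_generic hK x y P hP
      exact ⟨c₀, fun _ => h⟩
    · exact ⟨0, fun h => absurd h hP⟩
  choose c₀ hc₀ using hch
  obtain ⟨c, hc⟩ := Infinite.exists_notMem_finset
    (insert 0 ((mapDiv k ![(1 : K), x, y]).support.image c₀))
  rw [Finset.mem_insert, not_or] at hc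
  refine ⟨c, hc.1, fun P hP => hc₀ P hP c ?_⟩
  rintro rfl
  exact hc.2 (Finset.mem_image_of_mem _ (Finsupp.mem_support_iff.mpr hP.ne'))

/-- The pole divisor of a function attaining the bounds of an effective divisor `E`. -/
theorem poleDiv_eq_of_attained {E : Divisor k K} (hE : 0 ≤ E) {u : K} (hu : u ∈ L E)
    (hatt : ∀ P : Place k K, 0 < E P → P.1 u = exp (E P)) : poleDiv (k := k) u = E := by
  ext P
  rw [poleDiv_apply hK]
  have hEP : (0 : ℤ) ≤ E P := hE P
  rcases hEP.eq_or_lt with h0 | hpos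
  · have h0' : E P = 0 := h0.symm
    rw [h0']
    rcases eq_or_ne u 0 with rfl | hu0
    · rw [ord_zero]
      simp
    · have := (val_le_exp_iff P hu0 (E P)).mp (hu P)
      rw [h0'] at this
      omega
  · have h1 := ord_eq_of_val_eq_exp P (hatt P hpos)
    rw [h1, neg_neg]
    omega

end plane

theorem sum_range_sub_mul_two (N n : ℕ) (h : N ≤ n + 1) :
    (∑ j ∈ Finset.range N, (n + 1 - j)) * 2 + N * (N - 1) = 2 * N * (n + 1) := by
  have h1 : (∑ j ∈ Finset.range N, (n + 1 - j)) + ∑ j ∈ Finset.range N, j = N * (n + 1) := by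
    rw [← Finset.sum_add_distrib]
    have : ∀ j ∈ Finset.range N, (n + 1 - j) + j = n + 1 := by
      intro j hj
      have := Finset.mem_range.mp hj
      omega
    rw [Finset.sum_congr rfl this, Finset.sum_const, Finset.card_range, smul_eq_mul]
  have h2 := Finset.sum_range_id_mul_two N
  nlinarith

/-- **Genus bound for plane models.** -/
theorem plane_genus_le [Infinite k] (hK : IsFunctionField k K) (x y : K)
    (hxy : IntermediateField.adjoin k ({x, y} : Set K) = ⊤) :
    2 * (genus k K : ℤ) ≤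
      ((mapDiv k ![(1 : K), x, y]).deg - 1) * ((mapDiv k ![(1 : K), x, y]).deg - 2) := by
  classical
  obtain ⟨E, hEdef⟩ : ∃ E : Divisor k K, E = mapDiv k ![(1 : K), x, y] := ⟨_, rfl⟩
  rw [← hEdef]
  have hE0 : 0 ≤ E := hEdef ▸ plane_nonneg hK x y
  have hxE : x ∈ L E := hEdef ▸ plane_x_mem hK x y
  have hyE : y ∈ L E := hEdef ▸ plane_y_mem hK x y
  obtain ⟨c, hc0, hc⟩ := plane_exists_generic hK x y
  rw [← hEdef] at hc
  obtain ⟨u, hu⟩ : ∃ u : K, u = x + c • y := ⟨_, rfl⟩
  rw [← hu] at hc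
  have huE : u ∈ L E := by
    rw [hu]
    exact Submodule.add_mem _ hxE (Submodule.smul_mem _ c hyE)
  have hpole : poleDiv (k := k) u = E := poleDiv_eq_of_attained hK hE0 huE hc
  have hEne : ∃ P, 0 < E P := by
    by_contra hcon
    push Not at hcon
    have hE0' : E = 0 := by
      ext P
      exact le_antisymm (hcon P) (hE0 P)
    rw [hE0', L_zero_eq_one hK] at hxE hyE
    obtain ⟨a, rfl⟩ := Submodule.mem_one.mp hxE
    obtain ⟨b, rfl⟩ := Submodule.mem_one.mp hyE
    obtain ⟨t, ht, -⟩ := hK.1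
    have hmem : t ∈ IntermediateField.adjoin k ({algebraMap k K a, algebraMap k K b} : Set K) := by
      rw [hxy]
      trivial
    have hbot : IntermediateField.adjoin k ({algebraMap k K a, algebraMap k K b} : Set K) = ⊥ := by
      rw [IntermediateField.adjoin_eq_bot_iff]
      rintro z (rfl | rfl)
      · exact IntermediateField.algebraMap_mem _ _
      · exact IntermediateField.algebraMap_mem _ _
    rw [hbot, IntermediateField.mem_bot] at hmem
    obtain ⟨c', rfl⟩ := hmem
    exact ht (isAlgebraic_algebraMap c')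
  obtain ⟨P₀, hP₀⟩ := hEne
  have hu0 : u ≠ 0 := by
    intro h
    have := hc P₀ hP₀
    rw [h, map_zero] at this
    exact exp_ne_zero this.symm
  have hut : Transcendental k u := transcendental_of_val_ne_one hK P₀ hu0 (by
    rw [hc P₀ hP₀]
    intro h
    rw [← exp_zero, exp_injective.eq_iff] at h
    omega)
  have hdeg : E.deg = Module.finrank (IntermediateField.adjoin k ({u} : Set K)) K := by
    rw [← hpole]
    exact deg_poleDiv_eq hK hut
  haveI := finiteDimensional_adjoin_of_transcendental hK hut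
  have hFy : IntermediateField.adjoin (IntermediateField.adjoin k ({u} : Set K)) ({y} : Set K)
      = ⊤ := by
    rw [← IntermediateField.restrictScalars_eq_top_iff (K := k),
      IntermediateField.adjoin_adjoin_left, eq_top_iff, ← hxy]
    refine IntermediateField.adjoin_le_iff.mpr ?_
    rintro z (rfl | rfl)
    · have hz : z = u - c • y := by
        rw [hu]
        ring
      rw [hz]
      have h1 : u ∈ IntermediateField.adjoin k ({u} ∪ {y} : Set K) :=
        IntermediateField.subset_adjoin k _ (Or.inl rfl)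
      have h2 : y ∈ IntermediateField.adjoin k ({u} ∪ {y} : Set K) :=
        IntermediateField.subset_adjoin k _ (Or.inr rfl)
      exact sub_mem h1 (IntermediateField.smul_mem _ h2)
    · exact IntermediateField.subset_adjoin k _ (Or.inr rfl)
  have hint : IsIntegral (IntermediateField.adjoin k ({u} : Set K)) y :=
    Algebra.IsIntegral.isIntegral y
  obtain ⟨N, hN⟩ : ∃ N : ℕ,
      N = (minpoly (IntermediateField.adjoin k ({u} : Set K)) y).natDegree := ⟨_, rfl⟩
  have hNfin : N = Module.finrank (IntermediateField.adjoin k ({u} : Set K)) K := by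
    rw [hN, ← IntermediateField.adjoin.finrank hint, hFy, IntermediateField.finrank_top']
  have hli' : LinearIndependent (IntermediateField.adjoin k ({u} : Set K))
      (fun j : Fin N => y ^ (j : ℕ)) := by
    subst hN
    exact linearIndependent_pow (K := IntermediateField.adjoin k ({u} : Set K)) y
  have hEN : E.deg = (N : ℤ) := by rw [hdeg, hNfin]
  have hNpos : 1 ≤ N := by
    rw [hNfin]
    exact Module.finrank_pos
  obtain ⟨n, hn⟩ : ∃ n : ℕ, n = N + 2 * genus k K := ⟨_, rfl⟩
  have hm := linearIndependent_pow_mul hut (fun j : Fin N => y ^ (j : ℕ)) hli' n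
  let inj : (Σ j : Fin N, Fin (n + 1 - j)) → Fin (n + 1) × Fin N := fun p =>
    (⟨p.2, lt_of_lt_of_le p.2.2 (Nat.sub_le _ _)⟩, p.1)
  have hinj : Function.Injective inj := by
    rintro ⟨j, i⟩ ⟨j', i'⟩ h
    simp only [inj, Prod.mk.injEq, Fin.mk.injEq] at h
    obtain ⟨h1, rfl⟩ := h
    have : i = i' := Fin.ext h1
    rw [this]
  have hmemL : ∀ p : (Σ j : Fin N, Fin (n + 1 - j)),
      u ^ (p.2 : ℕ) * y ^ (p.1 : ℕ) ∈ L (n • E) := by
    intro p
    have h1 := mul_mem_L (pow_mem_L huE (p.2 : ℕ)) (pow_mem_L hyE (p.1 : ℕ))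
    rw [← add_smul] at h1
    refine L_mono ?_ h1
    intro R
    simp only [Finsupp.smul_apply, nsmul_eq_mul]
    have h2 : ((p.2 : ℕ) + (p.1 : ℕ) : ℕ) ≤ n := by
      have := p.2.2
      omega
    have h3 : (((p.2 : ℕ) + (p.1 : ℕ) : ℕ) : ℤ) ≤ (n : ℤ) := by exact_mod_cast h2
    exact mul_le_mul_of_nonneg_right h3 (hE0 R)
  let f : (Σ j : Fin N, Fin (n + 1 - j)) → ↥(L (n • E)) := fun p =>
    ⟨u ^ (p.2 : ℕ) * y ^ (p.1 : ℕ), hmemL p⟩
  have hfli : LinearIndependent k f :=
    LinearIndependent.of_comp (L (n • E)).subtype (hm.comp inj hinj)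
  haveI := finiteDimensional_L hK (n • E)
  have hcard := hfli.fintype_card_le_finrank
  have hcard2 : Fintype.card (Σ j : Fin N, Fin (n + 1 - j)) =
      ∑ j ∈ Finset.range N, (n + 1 - j) := by
    rw [Fintype.card_sigma]
    simp only [Fintype.card_fin]
    exact Fin.sum_univ_eq_sum_range (fun j => n + 1 - j) N
  have hsum := sum_range_sub_mul_two N n (by omega)
  have hrr := ell_eq_of_deg_ge hK (n • E) (by
    rw [deg_nsmul, hEN, hn]
    have h1 : (1 : ℤ) ≤ (N : ℤ) := by exact_mod_cast hNpos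
    have h2 : (0 : ℤ) ≤ (genus k K : ℤ) := Int.natCast_nonneg _
    push_cast
    nlinarith)
  rw [deg_nsmul, hEN] at hrr
  rw [hEN]
  obtain ⟨S, hS⟩ : ∃ S : ℕ, S = ∑ j ∈ Finset.range N, (n + 1 - j) := ⟨_, rfl⟩
  rw [hcard2, ← hS] at hcard
  rw [← hS] at hsum
  have hcardZ : (S : ℤ) ≤ (ell (n • E) : ℤ) := by
    unfold ell
    exact_mod_cast hcard
  have hsumZ : (S : ℤ) * 2 + (N : ℤ) * ((N : ℤ) - 1) = 2 * (N : ℤ) * ((n : ℤ) + 1) := by
    have h1 : ((N - 1 : ℕ) : ℤ) = (N : ℤ) - 1 := by
      rw [Nat.cast_sub hNpos]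
      simp
    have h2 : ((S * 2 + N * (N - 1) : ℕ) : ℤ) = ((2 * N * (n + 1) : ℕ) : ℤ) := by rw [hsum]
    push_cast at h2
    rw [h1] at h2
    exact h2
  rw [hrr] at hcardZ
  nlinarith

end Groth.Agent.Lib.Helper18.FF
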