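import Groth.Agent.Lib.Helper18.FF.EmbeddingCore
import Groth.Agent.Lib.Helper18.FF.ProjMap
import Groth.Agent.Lib.Helper18.FF.PlaneModel

/-! # The chart algebra of a projective map at a place -/

set_option autoImplicit false
set_option linter.style.haveILetI false

namespace Groth.Agent.Lib.Helper18.FF

open FunFld WithZero

universe u v

variable {k : Type u} {K : Type v} [Field k] [Field K] [Algebra k K]

/-- The chart algebra at an index `j` of least order at `P`: a pole divisor `E` away from `P`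
bounding the poles of the chart algebra, and a member of the algebra with pole divisor
exactly `E`. -/
theorem chart_setup [Infinite k] (hK : IsFunctionField k K) {n : ℕ} (φ : Fin (n + 1) → K)
    (hφ : LinearIndependent k φ) (P : Place k K) (j : Fin (n + 1))
    (hjmax : ∀ i, P.1 (φ i) ≤ P.1 (φ j)) :
    ∃ E : Divisor k K, 0 ≤ E ∧ E P = 0 ∧
      (∀ a ∈ Algebra.adjoin k (Set.range fun i => φ i / φ j), ∃ m : ℕ, a ∈ L (m • E)) ∧
      ∃ x ∈ Algebra.adjoin k (Set.range fun i => φ i / φ j), x ≠ 0 ∧ x ∈ L E ∧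
        ∀ R, 0 < E R → (FunFld.div k x) R = - E R := by
  classical
  have hφ0 : ∀ i, φ i ≠ 0 := fun i => hφ.ne_zero i
  obtain ⟨ψ, hψ⟩ : ∃ ψ : Fin (n + 1) → K, ψ = fun i => φ i / φ j := ⟨_, rfl⟩
  have hψ0 : ∀ i, ψ i ≠ 0 := fun i => by
    rw [hψ]
    exact div_ne_zero (hφ0 i) (hφ0 j)
  have hψj : ψ j = 1 := by
    rw [hψ]
    exact div_self (hφ0 j)
  have hψP : ∀ i, P.1 (ψ i) ≤ 1 := fun i => by
    rw [hψ, map_div₀]
    exact (div_le_one₀ (zero_lt_iff.mpr ((Valuation.ne_zero_iff _).mpr (hφ0 j)))).mpr (hjmax i)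
  rw [← hψ]
  obtain ⟨E, hEdef⟩ : ∃ E : Divisor k K, E = mapDiv k ψ := ⟨_, rfl⟩
  have hE : 0 ≤ E := by
    intro R
    have h := neg_mapDiv_le hK ψ R j
    rw [hψj, ord_one, ← hEdef] at h
    rw [Finsupp.zero_apply]
    omega
  have hψE : ∀ i, ψ i ∈ L E := fun i => hEdef ▸ mem_L_mapDiv hK ψ i
  have hatt : ∀ R : Place k K, ∃ i, E R = -R.ord (ψ i) := fun R =>
    hEdef ▸ exists_mapDiv_eq hK ψ R
  have hEP : E P = 0 := by
    obtain ⟨i, hi⟩ := hatt P
    have h1 := (val_le_one_iff_ord_nonneg P (hψ0 i)).mp (hψP i)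
    have h2 : (0 : ℤ) ≤ E P := hE P
    omega
  have hAL : ∀ a ∈ Algebra.adjoin k (Set.range ψ), ∃ m : ℕ, a ∈ L (m • E) := by
    intro a ha
    induction ha using Algebra.adjoin_induction with
    | mem y hy =>
      obtain ⟨i, rfl⟩ := hy
      exact ⟨1, by rw [one_smul]; exact hψE i⟩
    | algebraMap c =>
      refine ⟨0, ?_⟩
      rw [zero_smul, L_zero_eq_one hK]
      exact Submodule.mem_one.mpr ⟨c, rfl⟩
    | add y z _ _ hy hz =>
      obtain ⟨m₁, h₁⟩ := hy
      obtain ⟨m₂, h₂⟩ := hz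
      exact ⟨max m₁ m₂, Submodule.add_mem _
        (L_mono (nsmul_mono_of_nonneg hE (le_max_left _ _)) h₁)
        (L_mono (nsmul_mono_of_nonneg hE (le_max_right _ _)) h₂)⟩
    | mul y z _ _ hy hz =>
      obtain ⟨m₁, h₁⟩ := hy
      obtain ⟨m₂, h₂⟩ := hz
      refine ⟨m₁ + m₂, ?_⟩
      rw [add_smul]
      exact mul_mem_L h₁ h₂
  refine ⟨E, hE, hEP, hAL, ?_⟩
  -- the generic member
  have hnotmem : ∀ R : Place k K, ∃ i, ψ i ∉ L (E - Finsupp.single R 1) := by
    intro R
    obtain ⟨i, hi⟩ := hatt R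
    refine ⟨i, ?_⟩
    rw [mem_L_sub_single_iff hK E (hψ0 i) (hψE i) R 1, Finsupp.add_apply, div_apply hK, hi]
    omega
  obtain ⟨c, hc⟩ := Submodule.exists_forall_notMem_of_forall_ne_top
    (fun R : ↥(insert P E.support) =>
      Submodule.comap (Fintype.linearCombination k ψ) (L (E - Finsupp.single R.1 1))) (by
    intro R htop
    obtain ⟨i, hi⟩ := hnotmem R.1
    apply hi
    have hmem : (Pi.single i 1 : Fin (n + 1) → k) ∈
        Submodule.comap (Fintype.linearCombination k ψ) (L (E - Finsupp.single R.1 1)) := by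
      rw [htop]
      trivial
    rw [Submodule.mem_comap, Fintype.linearCombination_apply_single, one_smul] at hmem
    exact hmem)
  obtain ⟨x, hxdef⟩ : ∃ x : K, x = Fintype.linearCombination k ψ c := ⟨_, rfl⟩
  have hxsum : x = ∑ i, c i • ψ i := by rw [hxdef, Fintype.linearCombination_apply]
  have hxnot : ∀ R, R ∈ insert P E.support → x ∉ L (E - Finsupp.single R 1) := by
    intro R hR
    rw [hxdef]
    exact hc ⟨R, hR⟩
  have hx0 : x ≠ 0 := by
    rintro rfl
    exact hxnot P (Finset.mem_insert_self _ _) (Submodule.zero_mem _)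
  have hxE : x ∈ L E := by
    rw [hxsum]
    exact Submodule.sum_mem _ fun i _ => Submodule.smul_mem _ _ (hψE i)
  refine ⟨x, ?_, hx0, hxE, ?_⟩
  · rw [hxsum]
    refine Subalgebra.sum_mem _ fun i _ => Subalgebra.smul_mem _ ?_ _
    exact Algebra.subset_adjoin ⟨i, rfl⟩
  · intro R hR
    have hmem : R ∈ insert P E.support :=
      Finset.mem_insert_of_mem (Finsupp.mem_support_iff.mpr hR.ne')
    have hnot := hxnot R hmem
    rw [mem_L_sub_single_iff hK E hx0 hxE R 1] at hnot
    have h0 := (mem_L_iff_div hK E hx0).mp hxE R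
    rw [Finsupp.zero_apply] at h0
    rw [Finsupp.add_apply] at hnot h0
    omega

/-- **Chart criterion.** If the chart algebra at `P` contains a local parameter at `P` and
separates `P` from every other place at which it is regular, then every function regular at `P`
is a quotient of chart functions with denominator a unit at `P`. -/
theorem inLocRing_of_chart [IsAlgClosed k] (hK : IsFunctionField k K) {n : ℕ}
    (φ : Fin (n + 1) → K) (hφ : LinearIndependent k φ) (P : Place k K) (j : Fin (n + 1))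
    (hjmax : ∀ i, P.1 (φ i) ≤ P.1 (φ j))
    (ht : ∃ t ∈ Algebra.adjoin k (Set.range fun i => φ i / φ j), P.1 t = exp (-1 : ℤ))
    (hsep : ∀ Q : Place k K, Q ≠ P →
      (∀ a ∈ Algebra.adjoin k (Set.range fun i => φ i / φ j), Q.1 a ≤ 1) →
      ∃ w ∈ Algebra.adjoin k (Set.range fun i => φ i / φ j), P.1 w = 1 ∧ Q.1 w < 1)
    {z : K} (hz : P.1 z ≤ 1) :
    ∃ u ∈ Algebra.adjoin k (Set.range fun i => φ i / φ j),
      ∃ w ∈ Algebra.adjoin k (Set.range fun i => φ i / φ j), P.1 w = 1 ∧ z * w = u := by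
  classical
  haveI : Infinite k := IsAlgClosed.instInfinite
  obtain ⟨E, hE, hEP, hAL, x, hxA, hx0, hxE, hxdiv⟩ := chart_setup hK φ hφ P j hjmax
  obtain ⟨t, htA, htP⟩ := ht
  refine inLocRing_core hK P _ hE hEP hAL hxA hx0 hxE hxdiv htA htP ?_ hz
  intro Q hQ
  have hEQ : (0 : ℤ) ≤ E Q := hE Q
  rcases hEQ.eq_or_lt with h0 | hpos
  · have hreg : ∀ a ∈ Algebra.adjoin k (Set.range fun i => φ i / φ j), Q.1 a ≤ 1 := by
      intro a ha
      obtain ⟨m, hm⟩ := hAL a ha
      have := hm Q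
      rwa [Finsupp.smul_apply, ← h0, smul_zero, exp_zero] at this
    obtain ⟨w, hwA, hwP, hwQ⟩ := hsep Q hQ hreg
    obtain ⟨m, hm⟩ := hAL w hwA
    refine ⟨w, hwA, hwP, m, ?_⟩
    intro R
    rw [Finsupp.sub_apply]
    by_cases hR : R = Q
    · subst hR
      rw [Finsupp.single_eq_same, Finsupp.smul_apply, ← h0, smul_zero, zero_sub]
      exact (zm0_lt_one_iff _).mp hwQ
    · rw [Finsupp.single_eq_of_ne hR, sub_zero]
      exact hm R
  · refine ⟨1, Subalgebra.one_mem _, map_one _, 1, ?_⟩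
    rw [one_smul]
    intro R
    rw [map_one, ← exp_zero, exp_le_exp, Finsupp.sub_apply]
    by_cases hR : R = Q
    · subst hR
      rw [Finsupp.single_eq_same]
      omega
    · rw [Finsupp.single_eq_of_ne hR, sub_zero]
      exact hE R

end Groth.Agent.Lib.Helper18.FF
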