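import Mathlib.RingTheory.MvPolynomial.Homogeneous
import Mathlib.Algebra.MvPolynomial.CommRing
import Mathlib.Algebra.Polynomial.AlgebraMap
import Mathlib.Algebra.Ring.GeomSum
import Mathlib.RingTheory.Ideal.Operations
import Mathlib.RingTheory.Ideal.Maps
import Mathlib.Tactic.FieldSimp
import Mathlib.Tactic.Ring

/-! # Homogenization with respect to one variable, and relations of a projective tuple -/

set_option autoImplicit false

namespace Groth.Agent.Lib.Helper18.FF

open MvPolynomial

variable {k : Type*} [Field k] {σ : Type*} [Fintype σ]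

/-- Scaling the arguments of a homogeneous polynomial, in any commutative algebra. -/
theorem aeval_mul_of_isHomogeneous' {B : Type*} [CommRing B] [Algebra k B]
    {g : MvPolynomial σ k} {D : ℕ} (hg : g.IsHomogeneous D) (c : B) (v : σ → B) :
    aeval (fun i => c * v i) g = c ^ D * aeval v g := by
  rw [aeval_def, aeval_def, eval₂_eq', eval₂_eq', Finset.mul_sum]
  refine Finset.sum_congr rfl fun d hd => ?_
  have hd' : coeff d g ≠ 0 := mem_support_iff.mp hd
  have hdeg : ∑ i, d i = D := by
    rw [← Finsupp.degree_eq_sum]
    have := hg hd'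
    rw [← this, Finsupp.degree_eq_weight_one]
    rfl
  simp only [mul_pow, Finset.prod_mul_distrib, Finset.prod_pow_eq_pow_sum, hdeg]
  ring

/-- Evaluation of a homogeneous polynomial at `(φᵢ T)` in `K[T]`. -/
theorem aeval_CX_of_isHomogeneous {K : Type*} [Field K] [Algebra k K]
    {g : MvPolynomial σ k} {D : ℕ} (hg : g.IsHomogeneous D) (φ : σ → K) :
    aeval (fun i => Polynomial.C (φ i) * Polynomial.X) g =
      Polynomial.C (aeval φ g) * Polynomial.X ^ D := by
  have h1 : (fun i => Polynomial.C (φ i) * (Polynomial.X : Polynomial K)) =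
      fun i => Polynomial.X * Polynomial.C (φ i) := funext fun i => mul_comm _ _
  rw [h1, aeval_mul_of_isHomogeneous' hg]
  have h2 : aeval (fun i => (Polynomial.C (φ i) : Polynomial K)) g = Polynomial.C (aeval φ g) := by
    have := comp_aeval_apply (f := φ) (Polynomial.CAlgHom (R := k) (A := K)) g
    exact this.symm
  rw [h2, mul_comm]

/-- Homogenization with respect to the variable `j`. -/
noncomputable def homogenizeAt (j : σ) (G : MvPolynomial σ k) : MvPolynomial σ k :=
  ∑ d ∈ Finset.range (G.totalDegree + 1),
    homogeneousComponent d G * X j ^ (G.totalDegree - d)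

omit [Fintype σ] in
theorem homogenizeAt_isHomogeneous (j : σ) (G : MvPolynomial σ k) :
    (homogenizeAt j G).IsHomogeneous G.totalDegree := by
  refine IsHomogeneous.sum _ _ _ fun d hd => ?_
  have hd' : d ≤ G.totalDegree := by
    have := Finset.mem_range.mp hd; omega
  have h1 := (homogeneousComponent_isHomogeneous d G).mul
    ((isHomogeneous_X k j).pow (G.totalDegree - d))
  have : d + 1 * (G.totalDegree - d) = G.totalDegree := by omega
  rwa [this] at h1

omit [Fintype σ] in
theorem sub_homogenizeAt_mem (j : σ) (G : MvPolynomial σ k) :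
    G - homogenizeAt j G ∈ Ideal.span {(X j - 1 : MvPolynomial σ k)} := by
  have h1 : G - homogenizeAt j G = ∑ d ∈ Finset.range (G.totalDegree + 1),
      homogeneousComponent d G * (1 - X j ^ (G.totalDegree - d)) := by
    have e : G - homogenizeAt j G = (∑ d ∈ Finset.range (G.totalDegree + 1),
        homogeneousComponent d G) - homogenizeAt j G := by rw [sum_homogeneousComponent]
    rw [e, homogenizeAt, ← Finset.sum_sub_distrib]
    refine Finset.sum_congr rfl fun d _ => by ring
  rw [h1]
  refine Ideal.sum_mem _ fun d _ => Ideal.mul_mem_left _ _ ?_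
  rw [Ideal.mem_span_singleton]
  have := sub_dvd_pow_sub_pow (X j : MvPolynomial σ k) 1 (G.totalDegree - d)
  rw [one_pow] at this
  have h2 : (1 : MvPolynomial σ k) - X j ^ (G.totalDegree - d) =
      -(X j ^ (G.totalDegree - d) - 1) := by ring
  rw [h2]
  exact (dvd_neg).mpr this

omit [Fintype σ] in
theorem aeval_homogenizeAt {B : Type*} [CommRing B] [Algebra k B] (j : σ) (G : MvPolynomial σ k)
    (ψ : σ → B) (hψj : ψ j = 1) : aeval ψ (homogenizeAt j G) = aeval ψ G := by
  conv_rhs => rw [← sum_homogeneousComponent G]
  rw [homogenizeAt, map_sum, map_sum]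
  refine Finset.sum_congr rfl fun d _ => ?_
  rw [map_mul, map_pow, aeval_X, hψj, one_pow, mul_one]

/-- A relation of the chart `φ / φ j` lies in the ideal generated by the homogeneous relations
of `φ` and `X j - 1`. -/
theorem mem_sup_of_aeval_chart_eq_zero {K : Type*} [Field K] [Algebra k K] (φ : σ → K) (j : σ)
    (hφj : φ j ≠ 0) {G : MvPolynomial σ k} (hG : aeval (fun i => φ i / φ j) G = 0) :
    G ∈ RingHom.ker (aeval (R := k) fun i => Polynomial.C (φ i) * (Polynomial.X : Polynomial K)) ⊔
      Ideal.span {(X j - 1 : MvPolynomial σ k)} := by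
  have h1 : homogenizeAt j G ∈
      RingHom.ker (aeval (R := k) fun i => Polynomial.C (φ i) * (Polynomial.X : Polynomial K)) := by
    rw [RingHom.mem_ker, aeval_CX_of_isHomogeneous (homogenizeAt_isHomogeneous j G)]
    have h2 : (φ : σ → K) = fun i => φ j * (φ i / φ j) := by
      funext i; field_simp
    have h3 : aeval φ (homogenizeAt j G) = 0 := by
      rw [h2, aeval_mul_of_isHomogeneous' (homogenizeAt_isHomogeneous j G),
        aeval_homogenizeAt j G _ (div_self hφj), hG, mul_zero]
    rw [h3, map_zero, zero_mul]
  have h4 : G = homogenizeAt j G + (G - homogenizeAt j G) := by ring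
  rw [h4]
  exact Ideal.add_mem _ (Ideal.mem_sup_left h1) (Ideal.mem_sup_right (sub_homogenizeAt_mem j G))

end Groth.Agent.Lib.Helper18.FF
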