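import Groth.Agent.Lib.Helper18.FF.ChartS
import Groth.Agent.Lib.Helper18.FF.ProjMap

/-! # The Jacobian criterion for charts, and the bridge to `InLocRing` -/

set_option autoImplicit false

namespace Groth.Agent.Lib.Helper18.FF

open FunFld WithZero MvPolynomial

variable {k K : Type*} [Field k] [Field K] [Algebra k K] {ι : Type*} [Fintype ι] [DecidableEq ι]
variable {P : Place k K} {ψ : ι → K} {α : ι → k}

/-- The Jacobian criterion for a chart. -/
theorem IsChart.inO_iff_finrank [IsAlgClosed k] (hK : IsFunctionField k K) (h : IsChart P ψ α)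
    (hfield : IntermediateField.adjoin k (Set.range ψ) = ⊤) {κ : Type*} [Fintype κ]
    (F : κ → MvPolynomial ι k) (hF : ∀ l, aeval ψ (F l) = 0)
    (hker : ∀ G : MvPolynomial ι k, aeval ψ G = 0 → G ∈ Ideal.span (Set.range F)) :
    (∀ z, P.1 z ≤ 1 → InO ψ α z) ↔
      Module.finrank k (Submodule.span k (Set.range fun l => grad α (F l))) + 1 =
        Fintype.card ι := by
  classical
  constructor
  · exact h.finrank_grad_span_of_inO hK F hF hker
  · intro hrank
    set R := Submodule.span k (Set.range fun l => grad α (F l)) with hR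
    have hRne : R ≠ ⊤ := by
      intro htop
      have h1 : Module.finrank k R = Fintype.card ι := by
        rw [htop, finrank_top, Module.finrank_pi k]
      omega
    -- some basis vector is outside `R`
    obtain ⟨j₀, hj₀⟩ : ∃ j₀ : ι, (Pi.single j₀ 1 : ι → k) ∉ R := by
      by_contra hcon
      push Not at hcon
      apply hRne
      rw [eq_top_iff]
      intro c _
      have : c = ∑ i, c i • (Pi.single i 1 : ι → k) := by
        funext j
        simp [Finset.sum_apply, Pi.single_apply]
      rw [this]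
      exact Submodule.sum_mem _ fun i _ => Submodule.smul_mem _ _ (hcon i)
    have hsup : R ⊔ Submodule.span k {(Pi.single j₀ 1 : ι → k)} = ⊤ := by
      apply Submodule.eq_top_of_finrank_eq
      rw [Module.finrank_pi k]
      have hlt : R < R ⊔ Submodule.span k {(Pi.single j₀ 1 : ι → k)} := by
        refine lt_of_le_of_ne le_sup_left fun heq => hj₀ ?_
        rw [heq]
        exact Submodule.mem_sup_right (Submodule.mem_span_singleton_self _)
      have h1 := Submodule.finrank_lt_finrank_of_lt hlt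
      have h2 := Submodule.finrank_le (R ⊔ Submodule.span k {(Pi.single j₀ 1 : ι → k)})
      rw [Module.finrank_pi k] at h2
      omega
    have hdec : ∀ i, ∃ lam : k, (Pi.single i 1 - lam • Pi.single j₀ 1 : ι → k) ∈ R := by
      intro i
      have hmem : (Pi.single i 1 : ι → k) ∈ R ⊔ Submodule.span k {(Pi.single j₀ 1 : ι → k)} := by
        rw [hsup]; trivial
      obtain ⟨r, hr, s, hs, hrs⟩ := Submodule.mem_sup.mp hmem
      obtain ⟨lam, rfl⟩ := Submodule.mem_span_singleton.mp hs
      refine ⟨lam, ?_⟩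
      rw [← hrs, add_sub_cancel_right]
      exact hr
    choose lam hlam using hdec
    obtain ⟨W₀, U₀, hW₀, hrel⟩ := h.exists_principal_of_grad F hF j₀ lam hlam
    exact h.inO_of_principal hfield j₀ W₀ hW₀ U₀ hrel

section bridge

variable {φ : ι → K} {j : ι}

/-- `InLocRing` in terms of the chart at an index of least order. -/
theorem inLocRing_iff_inO (hφj : φ j ≠ 0) (hjmax : ∀ i, P.1 (φ i) ≤ P.1 (φ j))
    (h : IsChart P (fun i => φ i / φ j) α) (z : K) :
    InLocRing φ P z ↔ InO (fun i => φ i / φ j) α z := by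
  constructor
  · intro hz
    obtain ⟨u, hu, w, hw, hwP, hzw⟩ := inLocRing_index φ P hz j hφj hjmax
    rw [Algebra.adjoin_range_eq_range_aeval] at hu hw
    obtain ⟨U, rfl⟩ := hu
    obtain ⟨W, rfl⟩ := hw
    exact ⟨U, W, (h.val_aeval_eq_one_iff W).mp hwP, hzw⟩
  · rintro ⟨U, W, hW, hzW⟩
    refine ⟨j, hφj, hjmax, aeval (fun i => φ i / φ j) U, ?_, aeval (fun i => φ i / φ j) W, ?_,
      (h.val_aeval_eq_one_iff W).mpr hW, hzW⟩
    · rw [Algebra.adjoin_range_eq_range_aeval]; exact ⟨U, rfl⟩
    · rw [Algebra.adjoin_range_eq_range_aeval]; exact ⟨W, rfl⟩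

theorem isNonsingularAt_iff_inO (hφj : φ j ≠ 0) (hjmax : ∀ i, P.1 (φ i) ≤ P.1 (φ j))
    (h : IsChart P (fun i => φ i / φ j) α) :
    IsNonsingularAt φ P ↔ ∀ z, P.1 z ≤ 1 → InO (fun i => φ i / φ j) α z := by
  unfold IsNonsingularAt
  refine forall_congr' fun z => imp_congr_right fun _ => inLocRing_iff_inO hφj hjmax h z

/-- The chart at an index of least order exists over an algebraically closed constant
field. -/
theorem exists_isChart [IsAlgClosed k] (hK : IsFunctionField k K) (hφj : φ j ≠ 0)
    (hjmax : ∀ i, P.1 (φ i) ≤ P.1 (φ j)) :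
    ∃ α : ι → k, IsChart P (fun i => φ i / φ j) α := by
  have hdeg : P.deg = 1 := deg_eq_one_of_isAlgClosed hK P
  have h2 : P.1 (φ j) ≠ 0 := (Valuation.ne_zero_iff _).mpr hφj
  have hle : ∀ i, P.1 (φ i / φ j) ≤ 1 := fun i => by
    rw [map_div₀]
    exact (div_le_one₀ (zero_lt_iff.mpr h2)).mpr (hjmax i)
  choose α hα using fun i => exists_const_sub_lt_one hK hdeg (hle i)
  exact ⟨α, hα⟩

omit [Fintype ι] [DecidableEq ι] in
/-- The chart generates the function field when the standard ratios do. -/
theorem adjoin_chart_eq_top {i₀ : ι} (hφi₀ : φ i₀ ≠ 0) (hφj : φ j ≠ 0)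
    (hbir : IntermediateField.adjoin k (Set.range fun i => φ i / φ i₀) = ⊤) :
    IntermediateField.adjoin k (Set.range fun i => φ i / φ j) = ⊤ := by
  rw [eq_top_iff, ← hbir]
  refine IntermediateField.adjoin_le_iff.mpr ?_
  rintro _ ⟨i, rfl⟩
  have h1 : φ i / φ j ∈ IntermediateField.adjoin k (Set.range fun i => φ i / φ j) :=
    IntermediateField.subset_adjoin k _ ⟨i, rfl⟩
  have h2 : φ i₀ / φ j ∈ IntermediateField.adjoin k (Set.range fun i => φ i / φ j) :=
    IntermediateField.subset_adjoin k _ ⟨i₀, rfl⟩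
  have h3 : φ i / φ i₀ = (φ i / φ j) / (φ i₀ / φ j) := by
    field_simp
  show φ i / φ i₀ ∈ _
  rw [h3]
  exact div_mem h1 h2

end bridge

end Groth.Agent.Lib.Helper18.FF
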