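import Groth.Agent.Lib.Helper18.FF.ChartPlace

/-! # Charts at a place: a principal maximal ideal forces nonsingularity -/

set_option autoImplicit false

namespace Groth.Agent.Lib.Helper18.FF

open FunFld WithZero MvPolynomial

variable {k K : Type*} [Field k] [Field K] [Algebra k K] {ι : Type*} [Fintype ι] [DecidableEq ι]
variable {P : Place k K} {ψ : ι → K} {α : ι → k}

omit [DecidableEq ι] in
theorem IsChart.exists_power_decomp (h : IsChart P ψ α) (j₀ : ι)
    (W₀ : MvPolynomial ι k) (hW₀ : eval α W₀ ≠ 0) (U₀ : ι → MvPolynomial ι k)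
    (hrel : ∀ i, (ψ i - algebraMap k K (α i)) * aeval ψ W₀ =
      (ψ j₀ - algebraMap k K (α j₀)) * aeval ψ (U₀ i)) :
    ∀ (N : ℕ) (p : MvPolynomial ι k), aeval ψ p ≠ 0 → P.ord (aeval ψ p) ≤ N →
      ∃ (e : ℕ) (W V : MvPolynomial ι k), eval α W ≠ 0 ∧ eval α V ≠ 0 ∧
        aeval ψ p * aeval ψ W = (ψ j₀ - algebraMap k K (α j₀)) ^ e * aeval ψ V := by
  intro N
  induction N with
  | zero =>
    intro p hp0 hord
    by_cases hpα : eval α p = 0
    · exfalso
      have h1 := (h.val_aeval_lt_one_iff p).mpr hpα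
      have h2 := (val_lt_one_iff_ord_pos P hp0).mp h1
      have : P.ord (aeval ψ p) ≤ 0 := by exact_mod_cast hord
      omega
    · exact ⟨0, 1, p, by simp, hpα, by simp⟩
  | succ N ih =>
    intro p hp0 hord
    by_cases hpα : eval α p = 0
    · obtain ⟨c, hc⟩ := exists_decomp_of_eval_eq_zero hpα
      set x := ψ j₀ - algebraMap k K (α j₀) with hx
      set p' : MvPolynomial ι k := ∑ i, c i * U₀ i with hp'
      have hW₀1 : P.1 (aeval ψ W₀) = 1 := (h.val_aeval_eq_one_iff W₀).mpr hW₀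
      have hW₀ne : aeval ψ W₀ ≠ 0 := by
        intro h0; rw [h0, map_zero] at hW₀1; exact zero_ne_one hW₀1
      have hmul : aeval ψ p * aeval ψ W₀ = x * aeval ψ p' := by
        conv_lhs => rw [hc]
        rw [map_sum, Finset.sum_mul, hp', map_sum, Finset.mul_sum]
        refine Finset.sum_congr rfl fun i _ => ?_
        rw [map_mul, map_mul, aeval_ptGen, mul_assoc, hrel i]
        ring
      have hp'0 : aeval ψ p' ≠ 0 := by
        intro h0
        rw [h0, mul_zero] at hmul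
        exact mul_ne_zero hp0 hW₀ne hmul
      have hx0 : x ≠ 0 := by
        intro h0
        rw [h0, zero_mul] at hmul
        exact mul_ne_zero hp0 hW₀ne hmul
      have hxlt : P.1 x < 1 := h j₀
      have hxord : 0 < P.ord x := (val_lt_one_iff_ord_pos P hx0).mp hxlt
      have hW₀ord : P.ord (aeval ψ W₀) = 0 := by
        have := ord_eq_of_val_eq_exp P (x := aeval ψ W₀) (n := 0) (by rw [hW₀1, exp_zero])
        simpa using this
      have hord' : P.ord (aeval ψ p') ≤ N := by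
        have h1 := congrArg P.ord hmul
        rw [ord_mul P hp0 hW₀ne, ord_mul P hx0 hp'0, hW₀ord, add_zero] at h1
        have : P.ord (aeval ψ p) ≤ (N : ℤ) + 1 := by exact_mod_cast hord
        omega
      obtain ⟨e, W, V, hW, hV, hdec⟩ := ih p' hp'0 hord'
      refine ⟨e + 1, W₀ * W, V, by rw [map_mul]; exact mul_ne_zero hW₀ hW, hV, ?_⟩
      rw [map_mul, ← mul_assoc, hmul, mul_assoc, hdec, pow_succ]
      ring
    · exact ⟨0, 1, p, by simp, hpα, by simp⟩

omit [DecidableEq ι] in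
/-- If the maximal ideal of the chart's local ring is generated by one coordinate, the local
ring is the whole valuation ring. -/
theorem IsChart.inO_of_principal (h : IsChart P ψ α)
    (hfield : IntermediateField.adjoin k (Set.range ψ) = ⊤) (j₀ : ι)
    (W₀ : MvPolynomial ι k) (hW₀ : eval α W₀ ≠ 0) (U₀ : ι → MvPolynomial ι k)
    (hrel : ∀ i, (ψ i - algebraMap k K (α i)) * aeval ψ W₀ =
      (ψ j₀ - algebraMap k K (α j₀)) * aeval ψ (U₀ i))
    (z : K) (hz : P.1 z ≤ 1) : InO ψ α z := by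
  have hzmem : z ∈ IntermediateField.adjoin k (Set.range ψ) := by rw [hfield]; trivial
  obtain ⟨r, s, hrs⟩ := (IntermediateField.mem_adjoin_range_iff k ψ z).mp hzmem
  by_cases hs0 : aeval ψ s = 0
  · rw [hrs, hs0, div_zero]; exact inO_zero ψ α
  by_cases hr0 : aeval ψ r = 0
  · rw [hrs, hr0, zero_div]; exact inO_zero ψ α
  set x := ψ j₀ - algebraMap k K (α j₀) with hx
  obtain ⟨e, Wr, Vr, hWr, hVr, hdr⟩ := h.exists_power_decomp j₀ W₀ hW₀ U₀ hrel
    (P.ord (aeval ψ r)).toNat r hr0 (Int.self_le_toNat _)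
  obtain ⟨e', Ws, Vs, hWs, hVs, hds⟩ := h.exists_power_decomp j₀ W₀ hW₀ U₀ hrel
    (P.ord (aeval ψ s)).toNat s hs0 (Int.self_le_toNat _)
  have hzs : z * aeval ψ s = aeval ψ r := by rw [hrs, div_mul_cancel₀ _ hs0]
  have v1 : ∀ {W : MvPolynomial ι k}, eval α W ≠ 0 → P.1 (aeval ψ W) = 1 :=
    fun hW => (h.val_aeval_eq_one_iff _).mpr hW
  have hPr : P.1 (aeval ψ r) = P.1 x ^ e := by
    have := congrArg P.1 hdr
    rwa [map_mul, map_mul, map_pow, v1 hWr, v1 hVr, mul_one, mul_one] at this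
  have hPs : P.1 (aeval ψ s) = P.1 x ^ e' := by
    have := congrArg P.1 hds
    rwa [map_mul, map_mul, map_pow, v1 hWs, v1 hVs, mul_one, mul_one] at this
  have hWrne : aeval ψ Wr ≠ 0 := by
    intro h1; have := v1 hWr; rw [h1, map_zero] at this; exact zero_ne_one this
  have hWsne : aeval ψ Ws ≠ 0 := by
    intro h1; have := v1 hWs; rw [h1, map_zero] at this; exact zero_ne_one this
  have hxe : x ^ e ≠ 0 := by
    intro h0
    rw [h0, zero_mul] at hdr
    exact mul_ne_zero hr0 hWrne hdr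
  have hxe' : x ^ e' ≠ 0 := by
    intro h0
    rw [h0, zero_mul] at hds
    exact mul_ne_zero hs0 hWsne hds
  have hxlt : P.1 x < 1 := h j₀
  have hPz : P.1 z * P.1 x ^ e' = P.1 x ^ e := by
    rw [← hPs, ← hPr, ← map_mul, hzs]
  have hle : e' ≤ e := by
    by_contra hlt
    push Not at hlt
    obtain ⟨d, rfl⟩ : ∃ d, e' = e + (d + 1) := ⟨e' - e - 1, by omega⟩
    have hPxe : P.1 x ^ e ≠ 0 := by
      rw [← map_pow]; exact (Valuation.ne_zero_iff _).mpr hxe
    have h1 : P.1 z * P.1 x ^ (d + 1) = 1 := by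
      have : P.1 x ^ e * (P.1 z * P.1 x ^ (d + 1)) = P.1 x ^ e * 1 := by
        calc P.1 x ^ e * (P.1 z * P.1 x ^ (d + 1))
            = P.1 z * P.1 x ^ (e + (d + 1)) := by
              rw [pow_add (P.1 x) e (d + 1)]; exact mul_left_comm _ _ _
          _ = P.1 x ^ e := hPz
          _ = P.1 x ^ e * 1 := (mul_one _).symm
      exact mul_left_cancel₀ hPxe this
    have h2 : P.1 z * P.1 x ^ (d + 1) < 1 := by
      calc P.1 z * P.1 x ^ (d + 1) ≤ 1 * P.1 x ^ (d + 1) := mul_le_mul' hz le_rfl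
        _ = P.1 x ^ (d + 1) := one_mul _
        _ < 1 := pow_lt_one₀ zero_le' hxlt (by omega)
    rw [h1] at h2
    exact lt_irrefl _ h2
  obtain ⟨d, rfl⟩ : ∃ d, e = e' + d := ⟨e - e', by omega⟩
  refine ⟨ptGen α j₀ ^ d * Vr * Ws, Vs * Wr, by rw [map_mul]; exact mul_ne_zero hVs hWr, ?_⟩
  have key : x ^ e' * (z * aeval ψ (Vs * Wr)) = x ^ e' * aeval ψ (ptGen α j₀ ^ d * Vr * Ws) := by
    rw [map_mul, map_mul, map_mul, map_pow, aeval_ptGen]
    calc x ^ e' * (z * (aeval ψ Vs * aeval ψ Wr))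
        = z * (x ^ e' * aeval ψ Vs) * aeval ψ Wr := by ring
      _ = z * (aeval ψ s * aeval ψ Ws) * aeval ψ Wr := by rw [hds]
      _ = (z * aeval ψ s) * aeval ψ Wr * aeval ψ Ws := by ring
      _ = aeval ψ r * aeval ψ Wr * aeval ψ Ws := by rw [hzs]
      _ = x ^ (e' + d) * aeval ψ Vr * aeval ψ Ws := by rw [hdr]
      _ = x ^ e' * (x ^ d * aeval ψ Vr * aeval ψ Ws) := by rw [pow_add]; ring
  exact mul_left_cancel₀ hxe' key

end Groth.Agent.Lib.Helper18.FF
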