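import Groth.Agent.Lib.Helper18.FF.ChartN1
import Mathlib.LinearAlgebra.Matrix.Adjugate

/-! # Charts at a place: the Jacobian rank condition gives a principal maximal ideal -/

set_option autoImplicit false

namespace Groth.Agent.Lib.Helper18.FF

open FunFld WithZero MvPolynomial

variable {k K : Type*} [Field k] [Field K] [Algebra k K] {ι : Type*} [Fintype ι] [DecidableEq ι]
variable {P : Place k K} {ψ : ι → K} {α : ι → k}

/-- Cramer's rule in the form `det M * x = adj M * (M x)`. -/
theorem cramer_mulVec {R : Type*} [CommRing R] (M : Matrix ι ι R) (x v : ι → R)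
    (h : M.mulVec x = v) (i : ι) : M.det * x i = (M.adjugate.mulVec v) i := by
  rw [← h, Matrix.mulVec_mulVec, Matrix.adjugate_mul, Matrix.smul_mulVec, Matrix.one_mulVec]
  rfl

theorem IsChart.exists_principal_of_grad (h : IsChart P ψ α) {κ : Type*} [Fintype κ]
    (F : κ → MvPolynomial ι k) (hF : ∀ l, aeval ψ (F l) = 0) (j₀ : ι) (lam : ι → k)
    (hspan : ∀ i, (Pi.single i 1 - lam i • Pi.single j₀ 1 : ι → k) ∈
      Submodule.span k (Set.range fun l => grad α (F l))) :
    ∃ (W₀ : MvPolynomial ι k) (U₀ : ι → MvPolynomial ι k), eval α W₀ ≠ 0 ∧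
      ∀ i, (ψ i - algebraMap k K (α i)) * aeval ψ W₀ =
        (ψ j₀ - algebraMap k K (α j₀)) * aeval ψ (U₀ i) := by
  classical
  -- the relations `G i`
  have hG : ∀ i, ∃ B : ι → MvPolynomial ι k, (∀ l, B l ∈ ptIdeal α) ∧
      (ψ i - algebraMap k K (α i)) + ∑ l, (ψ l - algebraMap k K (α l)) * aeval ψ (B l) =
        algebraMap k K (lam i) * (ψ j₀ - algebraMap k K (α j₀)) := by
    intro i
    obtain ⟨c, hc⟩ := (Submodule.mem_span_range_iff_exists_fun k).mp (hspan i)
    set G : MvPolynomial ι k := ∑ l, C (c l) * F l with hGdef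
    have hGψ : aeval ψ G = 0 := by
      rw [hGdef, map_sum]
      refine Finset.sum_eq_zero fun l _ => ?_
      rw [map_mul, hF l, mul_zero]
    have hGα : eval α G = 0 := h.eval_eq_zero_of_aeval_eq_zero hGψ
    have hFα : ∀ l, eval α (F l) = 0 := fun l => h.eval_eq_zero_of_aeval_eq_zero (hF l)
    have hgrad : grad α G = Pi.single i 1 - lam i • Pi.single j₀ 1 := by
      rw [hGdef, grad_sum, ← hc]
      refine Finset.sum_congr rfl fun l _ => ?_
      rw [grad_mul, hFα l, zero_smul, add_zero, eval_C]
    have htay := taylor_mem_sq α G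
    rw [hGα, map_zero, sub_zero, hgrad] at htay
    have hlin : ∑ m, C ((Pi.single i 1 - lam i • Pi.single j₀ 1 : ι → k) m) * ptGen α m =
        ptGen α i - C (lam i) * ptGen α j₀ := by
      simp only [Pi.sub_apply, Pi.smul_apply, smul_eq_mul, map_sub, map_mul, sub_mul,
        Finset.sum_sub_distrib]
      congr 1
      · rw [Finset.sum_eq_single i]
        · rw [Pi.single_eq_same, map_one, one_mul]
        · intro m _ hm
          rw [Pi.single_eq_of_ne hm, map_zero, zero_mul]
        · intro hi; exact absurd (Finset.mem_univ i) hi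
      · rw [Finset.sum_eq_single j₀]
        · rw [Pi.single_eq_same, map_one, mul_one]
        · intro m _ hm
          rw [Pi.single_eq_of_ne hm, map_zero, mul_zero, zero_mul]
        · intro hi; exact absurd (Finset.mem_univ j₀) hi
    rw [hlin] at htay
    obtain ⟨B, hB, hQ⟩ := exists_decomp_of_mem_sq htay
    refine ⟨B, hB, ?_⟩
    have h1 := congrArg (aeval ψ) hQ
    rw [map_sub, map_sub, hGψ, map_mul, aeval_C, aeval_ptGen, aeval_ptGen, map_sum] at h1
    simp only [map_mul, aeval_ptGen] at h1
    rw [← h1]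
    ring
  choose B hB hrelB using hG
  -- the matrix
  let M : Matrix ι ι (MvPolynomial ι k) := 1 + Matrix.of fun i l => B i l
  let aψ : MvPolynomial ι k →+* K := (aeval ψ : MvPolynomial ι k →ₐ[k] K).toRingHom
  let x : ι → K := fun i => ψ i - algebraMap k K (α i)
  have hMx : (aψ.mapMatrix M).mulVec x = fun i => algebraMap k K (lam i) * x j₀ := by
    funext i
    rw [Matrix.mulVec, dotProduct]
    have : ∀ l, (aψ.mapMatrix M) i l * x l =
        (if i = l then x l else 0) + x l * aeval ψ (B i l) := by
      intro l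
      simp only [M, aψ, RingHom.mapMatrix_apply, Matrix.map_apply, Matrix.add_apply,
        Matrix.of_apply, Matrix.one_apply, map_add, AlgHom.toRingHom_eq_coe, RingHom.coe_coe]
      split_ifs with hil
      · rw [map_one]; ring
      · rw [map_zero]; ring
    simp only [this]
    rw [Finset.sum_add_distrib, Finset.sum_ite_eq, if_pos (Finset.mem_univ i)]
    exact hrelB i
  have hdet : eval α M.det = 1 := by
    have h1 : (eval α).mapMatrix M = 1 := by
      ext i l
      simp only [M, RingHom.mapMatrix_apply, Matrix.map_apply, Matrix.add_apply,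
        Matrix.of_apply, Matrix.one_apply, map_add]
      rw [eval_eq_zero_of_mem_ptIdeal (hB i l), add_zero]
      split_ifs <;> simp
    rw [RingHom.map_det, h1, Matrix.det_one]
  refine ⟨M.det, fun i => ∑ m, M.adjugate i m * C (lam m), by rw [hdet]; exact one_ne_zero, ?_⟩
  intro i
  have hcr := cramer_mulVec (aψ.mapMatrix M) x _ hMx i
  rw [← RingHom.map_det, ← RingHom.map_adjugate] at hcr
  show x i * aeval ψ M.det = x j₀ * aeval ψ (∑ m, M.adjugate i m * C (lam m))
  rw [mul_comm, show aeval ψ M.det = aψ M.det from rfl, hcr, Matrix.mulVec, dotProduct, map_sum,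
    Finset.mul_sum]
  refine Finset.sum_congr rfl fun m _ => ?_
  rw [map_mul, aeval_C]
  simp only [aψ, RingHom.mapMatrix_apply, Matrix.map_apply, AlgHom.toRingHom_eq_coe,
    RingHom.coe_coe]
  ring

end Groth.Agent.Lib.Helper18.FF
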