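import Groth.Agent.Lib.Helper18.FF.RatPlaces

/-! # Polynomials in a coordinate of a rational function field -/

set_option autoImplicit false
set_option linter.style.haveILetI false

namespace Groth.Agent.Lib.Helper18.FF

open FunFld WithZero Polynomial

universe u v

variable {k : Type u} {K : Type v} [Field k] [Field K] [Algebra k K]

/-- At a rational place every integral element is congruent to a constant. -/
theorem exists_const_sub_lt_one (hK : IsFunctionField k K) {P : Place k K} (hP : P.deg = 1) {z : K}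
    (hz : P.1 z ≤ 1) : ∃ a : k, P.1 (z - algebraMap k K a) < 1 := by
  haveI := finiteDimensional_residueField hK P
  have h1 : P.1 (1 : K) ≤ 1 := by rw [map_one]
  let v : Fin 2 → IsLocalRing.ResidueField P.O := ![res P 1 h1, res P z hz]
  have hnli : ¬ LinearIndependent k v := by
    intro hli
    have := hli.fintype_card_le_finrank
    rw [Fintype.card_fin] at this
    have hdeg : Module.finrank k (IsLocalRing.ResidueField P.O) = 1 := hP
    omega
  obtain ⟨c, hc, i, hi⟩ := Fintype.not_linearIndependent_iff.mp hnli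
  rw [Fin.sum_univ_two] at hc
  have hc' : c 0 • res P 1 h1 + c 1 • res P z hz = 0 := hc
  have hm0 : P.1 (c 0 • (1 : K)) ≤ 1 := (val_smul_le P _ _).trans h1
  have hm1 : P.1 (c 1 • z) ≤ 1 := (val_smul_le P _ _).trans hz
  rw [← res_smul P (c 0) 1 h1, ← res_smul P (c 1) z hz] at hc'
  have hsum : P.1 (c 0 • (1 : K) + c 1 • z) ≤ 1 := (P.1.map_add _ _).trans (max_le hm0 hm1)
  have hres : res P (c 0 • (1 : K) + c 1 • z) hsum = 0 := by
    rw [← hc', ← res_add P _ _ hm0 hm1]
  rw [res_eq_zero_iff] at hres
  have hc1 : c 1 ≠ 0 := by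
    intro h1'
    rw [h1', zero_smul, add_zero] at hres
    have hc0 : c 0 ≠ 0 := by
      intro h0'
      fin_cases i
      · exact hi h0'
      · exact hi h1'
    rw [val_smul P hc0, map_one] at hres
    exact lt_irrefl _ hres
  refine ⟨-(c 1)⁻¹ * c 0, ?_⟩
  have : z - algebraMap k K (-(c 1)⁻¹ * c 0) = (c 1)⁻¹ • (c 0 • (1 : K) + c 1 • z) := by
    rw [smul_add, smul_smul, smul_smul, inv_mul_cancel₀ hc1, one_smul, Algebra.smul_def, mul_one,
      map_mul, map_neg, map_mul]
    ring
  rw [this, val_smul P (inv_ne_zero hc1)]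
  exact hres

section coordinate

variable {Pinf : Place k K} {x : K}

/-- A polynomial not vanishing at `a` is a unit at the place `x = a`. -/
theorem val_aeval_eq_one (hx : IsCoord Pinf x) {P : Place k K} (hP : P ≠ Pinf) {a : k}
    (ha : P.1 (x - algebraMap k K a) < 1) {g : k[X]} (hg : g.eval a ≠ 0) :
    P.1 (aeval x g) = 1 := by
  obtain ⟨h, hh⟩ := X_sub_C_dvd_sub_C_eval (a := a) (p := g)
  have h1 : aeval x g = algebraMap k K (g.eval a) + (x - algebraMap k K a) * aeval x h := by
    have := congrArg (aeval x) hh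
    simp only [map_sub, map_mul, aeval_X, aeval_C] at this
    rw [← this]; ring
  have h2 : P.1 ((x - algebraMap k K a) * aeval x h) < 1 := by
    rw [map_mul]
    exact mul_lt_one_of_nonneg_of_lt_one_left zero_le' ha (val_aeval_le_one hx hP h)
  rw [h1, Valuation.map_add_eq_of_lt_left _ (by rw [val_algebraMap P hg]; exact h2),
    val_algebraMap P hg]

/-- Order of a polynomial in the coordinate at the place `x = a` is the root multiplicity. -/
theorem val_aeval_eq_exp_rootMultiplicity (hK : IsFunctionField k K) (hPinf : Pinf.deg = 1)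
    (hx : IsCoord Pinf x) {P : Place k K} (hP : P ≠ Pinf) {a : k}
    (ha : P.1 (x - algebraMap k K a) < 1) {f : k[X]} (hf : f ≠ 0) :
    P.1 (aeval x f) = exp (-(f.rootMultiplicity a : ℤ)) := by
  obtain ⟨q, hq, hndvd⟩ := exists_eq_pow_rootMultiplicity_mul_and_not_dvd f hf a
  have hqa : q.eval a ≠ 0 := fun h => hndvd (dvd_iff_isRoot.mpr h)
  have h1 := (IsCoord_zero_unique hK hPinf (IsCoord_sub hx a) ha).1
  have h2 : aeval x f = (x - algebraMap k K a) ^ (f.rootMultiplicity a) * aeval x q := by
    conv_lhs => rw [hq]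
    simp only [map_mul, map_pow, map_sub, aeval_X, aeval_C]
  rw [h2, map_mul, map_pow, h1, val_aeval_eq_one hx hP ha hqa, mul_one, ← exp_nsmul]
  simp

theorem pow_dvd_of_val_aeval_le (hK : IsFunctionField k K) (hPinf : Pinf.deg = 1)
    (hx : IsCoord Pinf x) {P : Place k K} (hP : P ≠ Pinf) {a : k}
    (ha : P.1 (x - algebraMap k K a) < 1) {f : k[X]} {m : ℕ}
    (hm : P.1 (aeval x f) ≤ exp (-(m : ℤ))) : (X - C a) ^ m ∣ f := by
  rcases eq_or_ne f 0 with rfl | hf
  · exact dvd_zero _
  · rw [val_aeval_eq_exp_rootMultiplicity hK hPinf hx hP ha hf, exp_le_exp] at hm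
    exact (pow_dvd_pow _ (by omega)).trans (pow_rootMultiplicity_dvd f a)

/-- In genus zero, `L(d P∞)` consists of the polynomials of degree at most `d` in the coordinate. -/
theorem exists_aeval_eq_of_mem_L (hK : IsFunctionField k K) (hg : genus k K = 0)
    (hPinf : Pinf.deg = 1) (hx : IsCoord Pinf x) (d : ℕ) {b : K}
    (hb : b ∈ L (Finsupp.single Pinf (d : ℤ) : Divisor k K)) :
    ∃ f : k[X], aeval x f = b := by
  have htr := IsCoord_transcendental hK hx
  have hmem : ∀ i : Fin (d + 1), x ^ (i : ℕ) ∈ L (Finsupp.single Pinf (d : ℤ) : Divisor k K) := by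
    intro i
    rw [mem_L_single_iff]
    refine ⟨?_, fun Q hQ => ?_⟩
    · rw [map_pow, IsCoord_val_inf hx, ← exp_nsmul, exp_le_exp]
      have := i.2
      simp; omega
    · rw [map_pow]; exact pow_le_one' (IsCoord_val_le_one hx hQ) _
  have hli := linearIndependent_pow_of_transcendental htr d
  have hli' : LinearIndependent k (fun i : Fin (d + 1) =>
      (⟨x ^ (i : ℕ), hmem i⟩ : L (Finsupp.single Pinf (d : ℤ) : Divisor k K))) :=
    LinearIndependent.of_comp (Submodule.subtype _) hli
  haveI := finiteDimensional_L hK (Finsupp.single Pinf (d : ℤ) : Divisor k K)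
  have hell := ell_eq_of_deg_ge hK (Finsupp.single Pinf (d : ℤ) : Divisor k K) (by
    rw [hg, deg_single, hPinf]; push_cast; omega)
  rw [deg_single, hPinf, hg] at hell
  have hcard : Fintype.card (Fin (d + 1)) =
      Module.finrank k (L (Finsupp.single Pinf (d : ℤ) : Divisor k K)) := by
    rw [Fintype.card_fin]
    have : (ell (Finsupp.single Pinf (d : ℤ) : Divisor k K) : ℤ) = ((d + 1 : ℕ) : ℤ) := by
      rw [hell]; push_cast; ring
    have h2 : ell (Finsupp.single Pinf (d : ℤ) : Divisor k K) = d + 1 := by exact_mod_cast this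
    exact h2.symm
  have hspan := hli'.span_eq_top_of_card_eq_finrank' hcard
  have hbm : (⟨b, hb⟩ : L (Finsupp.single Pinf (d : ℤ) : Divisor k K)) ∈
      Submodule.span k (Set.range fun i : Fin (d + 1) =>
        (⟨x ^ (i : ℕ), hmem i⟩ : L (Finsupp.single Pinf (d : ℤ) : Divisor k K))) := by
    rw [hspan]; trivial
  obtain ⟨c, hc⟩ := (Submodule.mem_span_range_iff_exists_fun k).mp hbm
  refine ⟨∑ i : Fin (d + 1), C (c i) * X ^ (i : ℕ), ?_⟩
  have := congrArg (fun z : L (Finsupp.single Pinf (d : ℤ) : Divisor k K) => (z : K)) hc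
  simp only [AddSubmonoidClass.coe_finset_sum, Submodule.coe_smul] at this
  rw [← this, map_sum]
  refine Finset.sum_congr rfl fun i _ => ?_
  rw [map_mul, aeval_C, map_pow, aeval_X, Algebra.smul_def]

end coordinate

end Groth.Agent.Lib.Helper18.FF
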