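import Groth.Agent.Lib.Helper18.FF.MvTaylor
import Groth.Agent.Lib.Helper18.FF.ProjMap
import Groth.Agent.Lib.Helper18.FF.RatPlaces2
import Groth.Agent.Lib.Helper18.FF.Weights
import Mathlib.RingTheory.MvPolynomial.EulerIdentity

/-! # Tangent line of a plane curve at a place -/

set_option autoImplicit false

namespace Groth.Agent.Lib.Helper18.FF

open FunFld WithZero MvPolynomial

variable {k K : Type*} [Field k] [Field K] [Algebra k K]

theorem le_exp_neg_one_of_lt_one {x : WithZero (Multiplicative ℤ)} (hx : x < 1) :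
    x ≤ exp (-1) := by
  rcases eq_or_ne x 0 with rfl | h0
  · exact zero_le'
  · rw [← exp_log h0] at hx ⊢
    rw [← exp_zero, exp_lt_exp] at hx
    rw [exp_le_exp]
    omega

/-- The ideal of elements of valuation `≤ exp (-2)` in the valuation ring. -/
def sqIdeal (P : Place k K) : Ideal P.O where
  carrier := {z | P.1 (z : K) ≤ exp (-2)}
  zero_mem' := by
    show P.1 ((0 : P.O) : K) ≤ _
    simp
  add_mem' := by
    intro x y hx hy
    show P.1 ((x + y : P.O) : K) ≤ _
    have : ((x + y : P.O) : K) = (x : K) + (y : K) := rfl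
    rw [this]
    exact (P.1.map_add _ _).trans (max_le hx hy)
  smul_mem' := by
    intro c x hx
    show P.1 ((c * x : P.O) : K) ≤ _
    have : ((c * x : P.O) : K) = (c : K) * (x : K) := rfl
    rw [this, map_mul]
    have hc : P.1 (c : K) ≤ 1 := c.2
    calc P.1 (c : K) * P.1 (x : K) ≤ 1 * exp (-2) := mul_le_mul' hc hx
      _ = exp (-2) := one_mul _

theorem mem_sqIdeal (P : Place k K) (z : P.O) : z ∈ sqIdeal P ↔ P.1 (z : K) ≤ exp (-2) := Iff.rfl

/-- The inclusion of the valuation ring as a `k`-algebra hom. -/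
def OSubtype (P : Place k K) : P.O →ₐ[k] K :=
  { P.O.subtype with commutes' := fun _ => rfl }

theorem OSubtype_apply (P : Place k K) (z : P.O) : OSubtype P z = (z : K) := rfl

/-- The key Taylor estimate: if `f(ψ) = 0`, `ψᵢ ∈ O_P`, `ψᵢ ≡ αᵢ mod 𝔪_P`, and `f` homogeneous, then
`∑ ∂ᵢf(α) ψᵢ` has order `≥ 2` at `P`. -/
theorem val_tangent_le (P : Place k K) (f : MvPolynomial (Fin 3) k) {d : ℕ}
    (hhom : f.IsHomogeneous d) (ψ : Fin 3 → K) (hψ : ∀ i, P.1 (ψ i) ≤ 1)
    (hf : aeval ψ f = 0) (α : Fin 3 → k) (hα : ∀ i, P.1 (ψ i - algebraMap k K (α i)) < 1) :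
    P.1 (∑ i, (aeval α (pderiv i f) : k) • ψ i) ≤ exp (-2) := by
  classical
  let a : Fin 3 → P.O := fun i => ⟨ψ i, hψ i⟩
  let a0 : Fin 3 → P.O := fun i => algebraMap k P.O (α i)
  let δ : Fin 3 → P.O := fun i => a i - a0 i
  have hδK : ∀ i, ((δ i : P.O) : K) = ψ i - algebraMap k K (α i) := fun i => rfl
  have hδ1 : ∀ i, P.1 ((δ i : P.O) : K) ≤ exp (-1) := fun i =>
    le_exp_neg_one_of_lt_one (by rw [hδK]; exact hα i)
  have hδδ : ∀ i j, δ i * δ j ∈ sqIdeal P := by
    intro i j
    rw [mem_sqIdeal]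
    have : ((δ i * δ j : P.O) : K) = (δ i : K) * (δ j : K) := rfl
    rw [this, map_mul]
    calc P.1 (δ i : K) * P.1 (δ j : K) ≤ exp (-1) * exp (-1) := mul_le_mul' (hδ1 i) (hδ1 j)
      _ = exp (-2) := by rw [← exp_add]; norm_num
  have htay := mvPolynomial_taylor_one (R := k) (sqIdeal P) a0 δ hδδ f
  have ha : (fun i => a0 i + δ i) = a := by
    funext i
    show a0 i + (a i - a0 i) = a i
    ring
  rw [ha] at htay
  -- `f(a) = 0`
  have hfa : aeval a f = 0 := by
    apply Subtype.ext
    have h1 : OSubtype P (aeval a f) = aeval (fun i => OSubtype P (a i)) f :=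
      comp_aeval_apply (f := a) (OSubtype P) f
    have h2 : (fun i => OSubtype P (a i)) = ψ := rfl
    rw [h2, hf] at h1
    exact h1
  -- constants
  have hconst : ∀ g : MvPolynomial (Fin 3) k, aeval a0 g = algebraMap k P.O (aeval α g) := by
    intro g
    exact aeval_algebraMap_apply (R := k) (A := k) (B := P.O) α g
  rw [hfa, hconst, zero_sub] at htay
  simp only [hconst] at htay
  rw [mem_sqIdeal] at htay
  set S : P.O := ∑ i, algebraMap k P.O (aeval α (pderiv i f)) * δ i with hS
  -- valuation of `S` is `< 1`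
  have hSK : ((S : P.O) : K) = ∑ i, algebraMap k K (aeval α (pderiv i f)) * (δ i : K) := by
    rw [hS]
    rw [← OSubtype_apply, map_sum]
    rfl
  have hSlt : P.1 ((S : P.O) : K) < 1 := by
    rw [hSK]
    refine P.1.map_sum_lt (by norm_num) fun i _ => ?_
    rw [map_mul]
    calc P.1 (algebraMap k K (aeval α (pderiv i f))) * P.1 (δ i : K)
        ≤ 1 * P.1 (δ i : K) := mul_le_mul' (val_algebraMap_le P _) le_rfl
      _ = P.1 (δ i : K) := one_mul _
      _ < 1 := by rw [hδK]; exact hα i
  -- so `f(α) = 0`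
  have hfα : (aeval α f : k) = 0 := by
    by_contra hne
    have h1 : P.1 (algebraMap k K (aeval α f)) = 1 := val_algebraMap P hne
    have h3 : ((-algebraMap k P.O (aeval α f) - S : P.O) : K) =
        -(algebraMap k K (aeval α f)) - (S : K) := rfl
    rw [h3] at htay
    have h4 : P.1 (-(algebraMap k K (aeval α f)) - (S : K)) = 1 := by
      rw [sub_eq_add_neg]
      rw [P.1.map_add_eq_of_lt_left]
      · rw [Valuation.map_neg, h1]
      · rw [Valuation.map_neg, Valuation.map_neg, h1]; exact hSlt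
    rw [h4] at htay
    have : exp (-2 : ℤ) < (1 : WithZero (Multiplicative ℤ)) := by
      rw [← exp_zero, exp_lt_exp]; norm_num
    exact absurd htay (not_le.mpr this)
  rw [hfα, map_zero, neg_zero, zero_sub] at htay
  have h5 : ((-S : P.O) : K) = -(S : K) := rfl
  rw [h5, Valuation.map_neg, hSK] at htay
  -- Euler
  have heuler : ∑ i, α i * aeval α (pderiv i f) = 0 := by
    have := IsHomogeneous.sum_X_mul_pderiv hhom
    have h6 := congrArg (aeval α) this
    rw [map_sum] at h6
    simp only [map_mul, aeval_X, map_nsmul, hfα, smul_zero] at h6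
    exact h6
  have hfinal : ∑ i, (aeval α (pderiv i f) : k) • ψ i =
      ∑ i, algebraMap k K (aeval α (pderiv i f)) * (δ i : K) := by
    have h7 : ∑ i, algebraMap k K (aeval α (pderiv i f)) * (δ i : K) =
        ∑ i, (aeval α (pderiv i f) : k) • ψ i -
          algebraMap k K (∑ i, α i * aeval α (pderiv i f)) := by
      rw [map_sum, ← Finset.sum_sub_distrib]
      refine Finset.sum_congr rfl fun i _ => ?_
      rw [hδK, Algebra.smul_def, map_mul]
      ring
    rw [h7, heuler, map_zero, sub_zero]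
  rw [hfinal]
  exact htay

end Groth.Agent.Lib.Helper18.FF
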