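import Groth.Agent.Lib.Helper18.FF.ChartPoly
import Groth.Agent.Lib.Helper18.FF.Tangent
import Mathlib.FieldTheory.IntermediateField.Adjoin.Basic

/-! # Charts at a place: the local ring of a point of the image curve -/

set_option autoImplicit false

namespace Groth.Agent.Lib.Helper18.FF

open FunFld WithZero MvPolynomial

variable {k K : Type*} [Field k] [Field K] [Algebra k K] {ι : Type*} [Fintype ι] [DecidableEq ι]

/-- `ψ` is a chart at `P` with centre `α`: each `ψ i` is congruent to `α i` modulo `𝔪_P`. -/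
def IsChart (P : Place k K) (ψ : ι → K) (α : ι → k) : Prop :=
  ∀ i, P.1 (ψ i - algebraMap k K (α i)) < 1

/-- Membership in the local ring of the chart. -/
def InO (ψ : ι → K) (α : ι → k) (z : K) : Prop :=
  ∃ U W : MvPolynomial ι k, eval α W ≠ 0 ∧ z * aeval ψ W = aeval ψ U

variable {P : Place k K} {ψ : ι → K} {α : ι → k}

omit [Fintype ι] [DecidableEq ι] in
theorem aeval_ptGen (ψ : ι → K) (α : ι → k) (i : ι) :
    aeval ψ (ptGen α i) = ψ i - algebraMap k K (α i) := by
  simp [ptGen]

omit [Fintype ι] [DecidableEq ι] in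
theorem IsChart.val_le_one (h : IsChart P ψ α) (i : ι) : P.1 (ψ i) ≤ 1 := by
  have : ψ i = (ψ i - algebraMap k K (α i)) + algebraMap k K (α i) := by ring
  rw [this]
  exact (P.1.map_add _ _).trans (max_le (h i).le (val_algebraMap_le P _))

omit [Fintype ι] [DecidableEq ι] in
theorem IsChart.val_aeval_le_one (h : IsChart P ψ α) (p : MvPolynomial ι k) :
    P.1 (aeval ψ p) ≤ 1 := by
  induction p using MvPolynomial.induction_on with
  | C a => rw [aeval_C]; exact val_algebraMap_le P a
  | add p q hp hq => rw [map_add]; exact (P.1.map_add _ _).trans (max_le hp hq)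
  | mul_X p n hp =>
    rw [map_mul, aeval_X, map_mul]
    exact mul_le_one' hp (h.val_le_one n)

omit [DecidableEq ι] in
theorem IsChart.val_aeval_lt_of_mem (h : IsChart P ψ α) {q : MvPolynomial ι k}
    (hq : q ∈ ptIdeal α) : P.1 (aeval ψ q) < 1 := by
  rw [ptIdeal, Ideal.mem_span_range_iff_exists_fun] at hq
  obtain ⟨c, rfl⟩ := hq
  rw [map_sum]
  refine P.1.map_sum_lt (by norm_num) fun i _ => ?_
  rw [map_mul, map_mul, aeval_ptGen]
  calc P.1 (aeval ψ (c i)) * P.1 (ψ i - algebraMap k K (α i))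
      ≤ 1 * P.1 (ψ i - algebraMap k K (α i)) := mul_le_mul' (h.val_aeval_le_one _) le_rfl
    _ = P.1 (ψ i - algebraMap k K (α i)) := one_mul _
    _ < 1 := h i

omit [DecidableEq ι] in
theorem IsChart.val_aeval_le_of_mem_sq (h : IsChart P ψ α) {q : MvPolynomial ι k}
    (hq : q ∈ ptIdeal α * ptIdeal α) : P.1 (aeval ψ q) ≤ exp (-2 : ℤ) := by
  refine Submodule.mul_induction_on hq ?_ ?_
  · intro a ha b hb
    rw [map_mul, map_mul]
    have h1 := le_exp_neg_one_of_lt_one (h.val_aeval_lt_of_mem ha)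
    have h2 := le_exp_neg_one_of_lt_one (h.val_aeval_lt_of_mem hb)
    calc P.1 (aeval ψ a) * P.1 (aeval ψ b) ≤ exp (-1) * exp (-1) := mul_le_mul' h1 h2
      _ = exp (-2 : ℤ) := by rw [← exp_add]; norm_num
  · intro a b ha hb
    rw [map_add]
    exact (P.1.map_add _ _).trans (max_le ha hb)

omit [DecidableEq ι] in
theorem IsChart.val_aeval_sub_lt (h : IsChart P ψ α) (p : MvPolynomial ι k) :
    P.1 (aeval ψ p - algebraMap k K (eval α p)) < 1 := by
  have h1 := h.val_aeval_lt_of_mem (sub_C_mem_ptIdeal α p)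
  rwa [map_sub, aeval_C] at h1

omit [DecidableEq ι] in
theorem IsChart.val_aeval_lt_one_iff (h : IsChart P ψ α) (p : MvPolynomial ι k) :
    P.1 (aeval ψ p) < 1 ↔ eval α p = 0 := by
  have h1 := h.val_aeval_sub_lt p
  constructor
  · intro hlt
    by_contra hne
    have h2 : P.1 (algebraMap k K (eval α p)) = 1 := val_algebraMap P hne
    have h3 : algebraMap k K (eval α p) = aeval ψ p - (aeval ψ p - algebraMap k K (eval α p)) := by
      ring
    have h4 : P.1 (algebraMap k K (eval α p)) < 1 := by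
      rw [h3]
      exact (P.1.map_sub _ _).trans_lt (max_lt hlt h1)
    rw [h2] at h4
    exact lt_irrefl _ h4
  · intro h0
    rwa [h0, map_zero, sub_zero] at h1

omit [DecidableEq ι] in
theorem IsChart.val_aeval_eq_one_iff (h : IsChart P ψ α) (p : MvPolynomial ι k) :
    P.1 (aeval ψ p) = 1 ↔ eval α p ≠ 0 := by
  rw [Ne, ← h.val_aeval_lt_one_iff p]
  constructor
  · intro h1 h2
    rw [h1] at h2
    exact lt_irrefl _ h2
  · intro h1
    exact le_antisymm (h.val_aeval_le_one p) (not_lt.mp h1)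

omit [DecidableEq ι] in
theorem IsChart.eval_eq_zero_of_aeval_eq_zero (h : IsChart P ψ α) {p : MvPolynomial ι k}
    (hp : aeval ψ p = 0) : eval α p = 0 := by
  rw [← h.val_aeval_lt_one_iff p, hp, map_zero]
  exact zero_lt_one

omit [Fintype ι] [DecidableEq ι] in
theorem inO_zero (ψ : ι → K) (α : ι → k) : InO ψ α 0 :=
  ⟨0, 1, by simp, by simp⟩

omit [DecidableEq ι] in
theorem InO.val_le_one (h : IsChart P ψ α) {z : K} (hz : InO ψ α z) : P.1 z ≤ 1 := by
  obtain ⟨U, W, hW, hzW⟩ := hz
  have h1 := (h.val_aeval_eq_one_iff W).mpr hW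
  have h2 := h.val_aeval_le_one U
  rw [← hzW, map_mul, h1, mul_one] at h2
  exact h2

end Groth.Agent.Lib.Helper18.FF
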