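import Groth.Agent.Lib.Helper18.FF.HomKer

/-! # The homogeneous relation ideal of a projective plane map is principal (II) -/

set_option autoImplicit false

namespace Groth.Agent.Lib.Helper18.FF

open MvPolynomial

variable {k K : Type*} [Field k] [Field K] [Algebra k K]

/-- An irreducible relation of `(φ₀ T, φ₁ T, φ₂ T)` divides every relation, provided
`φ₂ / φ₁` is transcendental. -/
theorem dvd_of_mem_ker_CX (φ : Fin 3 → K) (h1 : φ 1 ≠ 0)
    (hw : Transcendental k (φ 2 / φ 1)) {f g : MvPolynomial (Fin 3) k} (hf : Irreducible f)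
    (hfker : aeval (R := k) (fun i => Polynomial.C (φ i) * (Polynomial.X : Polynomial K)) f = 0)
    (hgker : aeval (R := k) (fun i => Polynomial.C (φ i) * (Polynomial.X : Polynomial K)) g = 0) :
    f ∣ g := by
  classical
  let ι₀ : MvPolynomial (Fin 2) k →ₐ[k] Polynomial K :=
    aeval fun i : Fin 2 => Polynomial.C (φ i.succ) * (Polynomial.X : Polynomial K)
  have hinj₀ : Function.Injective ι₀ :=
    aeval_CX_injective (fun i : Fin 2 => φ i.succ) h1 hw
  let ι : MvPolynomial (Fin 2) k →+* RatFunc K :=
    (algebraMap (Polynomial K) (RatFunc K)).comp ι₀.toRingHom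
  have hinj : Function.Injective ι :=
    (IsFractionRing.injective (Polynomial K) (RatFunc K)).comp hinj₀
  letI algRL : Algebra (MvPolynomial (Fin 2) k) (RatFunc K) := ι.toAlgebra
  letI algFL : Algebra (FractionRing (MvPolynomial (Fin 2) k)) (RatFunc K) :=
    (IsFractionRing.lift (A := MvPolynomial (Fin 2) k)
      (K := FractionRing (MvPolynomial (Fin 2) k)) hinj).toAlgebra
  haveI : IsScalarTower (MvPolynomial (Fin 2) k) (FractionRing (MvPolynomial (Fin 2) k))
      (RatFunc K) :=
    IsScalarTower.of_algebraMap_eq fun r => (IsFractionRing.lift_algebraMap hinj r).symm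
  let y : RatFunc K := algebraMap (Polynomial K) (RatFunc K) (Polynomial.C (φ 0) * Polynomial.X)
  have hι : ∀ r : MvPolynomial (Fin 2) k, algebraMap (MvPolynomial (Fin 2) k) (RatFunc K) r =
      algebraMap (Polynomial K) (RatFunc K) (ι₀ r) := fun r => rfl
  have hev : ∀ q : MvPolynomial (Fin 3) k, Polynomial.aeval y (finSuccEquiv k 2 q) =
      algebraMap (Polynomial K) (RatFunc K)
        (aeval (R := k) (fun i => Polynomial.C (φ i) * (Polynomial.X : Polynomial K)) q) := by
    intro q
    let Φ₁ : MvPolynomial (Fin 3) k →+* RatFunc K :=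
      (Polynomial.aeval y : Polynomial (MvPolynomial (Fin 2) k) →ₐ[MvPolynomial (Fin 2) k]
        RatFunc K).toRingHom.comp (finSuccEquiv k 2).toRingEquiv.toRingHom
    let Φ₂ : MvPolynomial (Fin 3) k →+* RatFunc K :=
      (algebraMap (Polynomial K) (RatFunc K)).comp
        (aeval (R := k) (fun i => Polynomial.C (φ i) * (Polynomial.X : Polynomial K))).toRingHom
    have hΦ : Φ₁ = Φ₂ := by
      apply MvPolynomial.ringHom_ext
      · intro c
        show Polynomial.aeval y (finSuccEquiv k 2 (C c)) =
          algebraMap (Polynomial K) (RatFunc K) (aeval _ (C c))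
        rw [finSuccEquiv_apply, eval₂Hom_C, RingHom.comp_apply, Polynomial.aeval_C, hι, aeval_C,
          aeval_C]
      · intro i
        show Polynomial.aeval y (finSuccEquiv k 2 (X i)) =
          algebraMap (Polynomial K) (RatFunc K) (aeval _ (X i))
        refine Fin.cases ?_ (fun j => ?_) i
        · rw [finSuccEquiv_X_zero, Polynomial.aeval_X, aeval_X]
        · rw [finSuccEquiv_X_succ, Polynomial.aeval_C, hι, aeval_X, aeval_X]
    exact congrArg (fun Φ : MvPolynomial (Fin 3) k →+* RatFunc K => Φ q) hΦ
  set e := finSuccEquiv k 2 with he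
  have hirr : Irreducible (e f) := (MulEquiv.irreducible_iff e.toMulEquiv).mpr hf
  have hroot : Polynomial.aeval y (e f) = 0 := by rw [hev, hfker, map_zero]
  have hg' : Polynomial.aeval y (e g) = 0 := by rw [hev, hgker, map_zero]
  have hdvd := dvd_of_root_of_irreducible (FractionRing (MvPolynomial (Fin 2) k)) hirr hroot hg'
  have h2 := map_dvd e.symm hdvd
  rwa [AlgEquiv.symm_apply_apply, AlgEquiv.symm_apply_apply] at h2

end Groth.Agent.Lib.Helper18.FF
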