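import Groth.Agent.Lib.Helper18.FF.ChartRes
import Groth.Agent.Lib.Helper18.FF.HomKer2
import Mathlib.RingTheory.MvPolynomial.EulerIdentity
import Mathlib.LinearAlgebra.Dimension.Constructions
import Mathlib.LinearAlgebra.FiniteDimensional.Basic

/-! # Plane curves: singular points are where all partial derivatives vanish -/

set_option autoImplicit false

namespace Groth.Agent.Lib.Helper18.FF

open FunFld WithZero MvPolynomial Module

variable {k K : Type*} [Field k] [Field K] [Algebra k K]

/-- Linear algebra: `span {g, e_j}` is a plane in `k³` iff `g ≠ 0`, when `g ⟂ α` and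
`α j = 1`. -/
theorem finrank_span_pair_iff (g α : Fin 3 → k) (j : Fin 3) (hperp : ∑ i, α i * g i = 0)
    (hαj : α j = 1) :
    finrank k (Submodule.span k (Set.range ![g, (Pi.single j 1 : Fin 3 → k)])) + 1 = 3 ↔
      g ≠ 0 := by
  classical
  constructor
  · intro h hg
    have hle : Submodule.span k (Set.range ![g, (Pi.single j 1 : Fin 3 → k)]) ≤
        Submodule.span k {(Pi.single j 1 : Fin 3 → k)} := by
      rw [Submodule.span_le]
      rintro _ ⟨i, rfl⟩
      fin_cases i
      · show g ∈ _
        rw [hg]; exact Submodule.zero_mem _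
      · exact Submodule.mem_span_singleton_self _
    have h1 := Submodule.finrank_mono hle
    have h2 : finrank k (Submodule.span k {(Pi.single j 1 : Fin 3 → k)}) ≤ 1 := by
      rw [finrank_span_singleton]
      intro h0
      have := congrFun h0 j
      simp at this
    omega
  · intro hg
    have hli : LinearIndependent k ![g, (Pi.single j 1 : Fin 3 → k)] := by
      rw [LinearIndependent.pair_iff]
      intro s t hst
      have hdot : ∑ i, α i * (s • g + t • (Pi.single j 1 : Fin 3 → k)) i = 0 := by
        rw [hst]; simp
      have ht : t = 0 := by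
        simp only [Pi.add_apply, Pi.smul_apply, smul_eq_mul, mul_add, Finset.sum_add_distrib]
          at hdot
        have h1 : ∑ i, α i * (s * g i) = s * ∑ i, α i * g i := by
          rw [Finset.mul_sum]; refine Finset.sum_congr rfl fun i _ => by ring
        have h2 : ∑ i, α i * (t * (Pi.single j 1 : Fin 3 → k) i) = t := by
          rw [Finset.sum_eq_single j]
          · rw [Pi.single_eq_same, hαj]; ring
          · intro i _ hi
            rw [Pi.single_eq_of_ne hi]; ring
          · intro h; exact absurd (Finset.mem_univ j) h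
        rw [h1, h2, hperp, mul_zero, zero_add] at hdot
        exact hdot
      rw [ht, zero_smul, add_zero] at hst
      exact ⟨(smul_eq_zero.mp hst).resolve_right hg, ht⟩
    rw [finrank_span_eq_card hli, Fintype.card_fin]

/-- For a plane curve, nonsingularity at `P` means that the gradient of the equation at the
image point does not vanish. -/
theorem plane_isNonsingularAt_iff_grad [IsAlgClosed k] (hK : IsFunctionField k K)
    (φ : Fin 3 → K) (hφ : LinearIndependent k φ)
    (hbir : IntermediateField.adjoin k (Set.range fun i => φ i / φ 0) = ⊤)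
    (f : MvPolynomial (Fin 3) k) (hf : Irreducible f) {d : ℕ} (hhom : f.IsHomogeneous d)
    (hfφ : aeval φ f = 0) (P : Place k K) (j : Fin 3) (hj : ∀ i, P.1 (φ i) ≤ P.1 (φ j))
    (α : Fin 3 → k) (hα : IsChart P (fun i => φ i / φ j) α) :
    IsNonsingularAt φ P ↔ grad α f ≠ 0 := by
  classical
  have hφj : φ j ≠ 0 := hφ.ne_zero j
  rw [isNonsingularAt_iff_inO hφj hj hα]
  let F : Fin 2 → MvPolynomial (Fin 3) k := ![f, X j - 1]
  have hfield := adjoin_chart_eq_top (hφ.ne_zero 0) hφj hbir
  have hF : ∀ l, aeval (fun i => φ i / φ j) (F l) = 0 := by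
    intro l
    fin_cases l
    · exact aeval_chart_eq_zero φ j hhom hfφ
    · show aeval (fun i => φ i / φ j) (X j - 1) = 0
      rw [map_sub, aeval_X, map_one, div_self hφj, sub_self]
  have hfker : aeval (R := k) (fun i => Polynomial.C (φ i) * (Polynomial.X : Polynomial K)) f
      = 0 := by
    rw [aeval_CX_of_isHomogeneous hhom, hfφ, map_zero, zero_mul]
  have hw : Transcendental k (φ 2 / φ 1) := by
    apply transcendental_of_not_mem hK
    rintro ⟨c, hc⟩
    have h1 : φ 1 ≠ 0 := hφ.ne_zero 1
    have h2 : φ 2 = c • φ 1 := by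
      rw [Algebra.smul_def, hc, div_mul_cancel₀ _ h1]
    have h3 := Fintype.linearIndependent_iff.mp hφ ![0, c, -1] (by
      rw [Fin.sum_univ_three]
      simp only [Matrix.cons_val_zero, Matrix.cons_val_one, Matrix.cons_val_two,
        Matrix.tail_cons, Matrix.head_cons, zero_smul, zero_add, neg_smul, one_smul]
      rw [h2]; abel) 2
    simp at h3
  have hker : ∀ G : MvPolynomial (Fin 3) k,
      aeval (fun i => φ i / φ j) G = 0 → G ∈ Ideal.span (Set.range F) := by
    intro G hG
    have h1 := mem_sup_of_aeval_chart_eq_zero φ j hφj hG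
    have hle : RingHom.ker (aeval (R := k)
          fun i => Polynomial.C (φ i) * (Polynomial.X : Polynomial K)) ⊔
        Ideal.span {(X j - 1 : MvPolynomial (Fin 3) k)} ≤ Ideal.span (Set.range F) := by
      refine sup_le ?_ (Ideal.span_mono ?_)
      · intro g hg
        have hdvd := dvd_of_mem_ker_CX φ (hφ.ne_zero 1) hw hf hfker hg
        obtain ⟨q, rfl⟩ := hdvd
        exact Ideal.mul_mem_right _ _ (Ideal.subset_span ⟨0, rfl⟩)
      · rintro _ rfl
        exact ⟨1, rfl⟩
    exact hle h1
  rw [hα.inO_iff_finrank hK hfield F hF hker]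
  have hgradF : (fun l => grad α (F l)) = ![grad α f, (Pi.single j 1 : Fin 3 → k)] := by
    funext l
    fin_cases l
    · rfl
    · show grad α (X j - 1) = Pi.single j 1
      funext i
      simp only [grad, map_sub, pderiv_X, pderiv_one, sub_zero, Pi.single_apply]
      by_cases hij : i = j
      · subst hij; simp
      · have hij' : ¬ j = i := fun e => hij e.symm
        simp [hij, hij']
  rw [hgradF, Fintype.card_fin]
  have hfα : eval α f = 0 := hα.eval_eq_zero_of_aeval_eq_zero (hF 0)
  have hperp : ∑ i, α i * grad α f i = 0 := by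
    have h1 := congrArg (eval α) (IsHomogeneous.sum_X_mul_pderiv hhom)
    rw [map_sum] at h1
    simp only [map_mul, eval_X, map_nsmul, hfα, smul_zero] at h1
    exact h1
  have hαj : α j = 1 := by
    have h1 := hα j
    simp only [div_self hφj] at h1
    by_contra hne
    have h2 : (1 : K) - algebraMap k K (α j) = algebraMap k K (1 - α j) := by
      rw [map_sub, map_one]
    rw [h2, val_algebraMap P (sub_ne_zero.mpr (Ne.symm hne))] at h1
    exact lt_irrefl _ h1
  exact finrank_span_pair_iff (grad α f) α j hperp hαj

end Groth.Agent.Lib.Helper18.FF
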