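import Groth.Agent.Lib.Helper18.FF.MvTaylor
import Mathlib.RingTheory.Ideal.Operations
import Mathlib.RingTheory.Ideal.Maps

/-! # Polynomials near a rational point: the maximal ideal, gradients, Taylor expansion -/

set_option autoImplicit false

namespace Groth.Agent.Lib.Helper18.FF

open MvPolynomial

variable {k : Type*} [Field k] {ι : Type*} [Fintype ι] [DecidableEq ι]

/-- The generators `X i - α i` of the maximal ideal of the point `α`. -/
noncomputable def ptGen (α : ι → k) (i : ι) : MvPolynomial ι k := X i - C (α i)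

/-- The maximal ideal of the point `α`. -/
noncomputable def ptIdeal (α : ι → k) : Ideal (MvPolynomial ι k) :=
  Ideal.span (Set.range (ptGen α))

theorem eval_ptGen (α : ι → k) (i : ι) : eval α (ptGen α i) = 0 := by
  simp [ptGen]

theorem ptGen_mem (α : ι → k) (i : ι) : ptGen α i ∈ ptIdeal α :=
  Ideal.subset_span ⟨i, rfl⟩

omit [Fintype ι] [DecidableEq ι] in
theorem eval_eq_zero_of_mem_ptIdeal {α : ι → k} {q : MvPolynomial ι k} (hq : q ∈ ptIdeal α) :
    eval α q = 0 := by
  have hle : ptIdeal α ≤ RingHom.ker (eval α) := by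
    rw [ptIdeal, Ideal.span_le]
    rintro _ ⟨i, rfl⟩
    show eval α (ptGen α i) = 0
    simp [ptGen]
  exact hle hq

omit [Fintype ι] [DecidableEq ι] in
theorem sub_C_mem_ptIdeal (α : ι → k) (p : MvPolynomial ι k) :
    p - C (eval α p) ∈ ptIdeal α := by
  induction p using MvPolynomial.induction_on with
  | C a => simp
  | add p q hp hq =>
    have : p + q - C (eval α (p + q)) = (p - C (eval α p)) + (q - C (eval α q)) := by
      rw [map_add, map_add]; ring
    rw [this]
    exact Ideal.add_mem _ hp hq
  | mul_X p n hp =>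
    have : p * X n - C (eval α (p * X n)) =
        (p - C (eval α p)) * X n + C (eval α p) * ptGen α n := by
      rw [map_mul, eval_X, map_mul, ptGen]; ring
    rw [this]
    exact Ideal.add_mem _ (Ideal.mul_mem_right _ _ hp)
      (Ideal.mul_mem_left _ _ (Ideal.subset_span ⟨n, rfl⟩))

omit [DecidableEq ι] in
theorem exists_decomp_of_eval_eq_zero {α : ι → k} {p : MvPolynomial ι k}
    (hp : eval α p = 0) : ∃ h : ι → MvPolynomial ι k, p = ∑ i, h i * ptGen α i := by
  have h1 := sub_C_mem_ptIdeal α p
  rw [hp, map_zero, sub_zero, ptIdeal, Ideal.mem_span_range_iff_exists_fun] at h1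
  obtain ⟨c, hc⟩ := h1
  exact ⟨c, hc.symm⟩

/-- The gradient at `α`. -/
noncomputable def grad (α : ι → k) (p : MvPolynomial ι k) : ι → k :=
  fun i => eval α (pderiv i p)

omit [Fintype ι] [DecidableEq ι] in
theorem grad_add (α : ι → k) (p q : MvPolynomial ι k) :
    grad α (p + q) = grad α p + grad α q := by
  funext i; simp [grad]

omit [Fintype ι] [DecidableEq ι] in
theorem grad_zero (α : ι → k) : grad α (0 : MvPolynomial ι k) = 0 := by
  funext i; simp [grad]

omit [Fintype ι] [DecidableEq ι] in
theorem grad_sub (α : ι → k) (p q : MvPolynomial ι k) :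
    grad α (p - q) = grad α p - grad α q := by
  funext i; simp [grad]

omit [Fintype ι] [DecidableEq ι] in
theorem grad_mul (α : ι → k) (p q : MvPolynomial ι k) :
    grad α (p * q) = eval α p • grad α q + eval α q • grad α p := by
  funext i
  simp only [grad, Derivation.leibniz, map_add, smul_eq_mul, map_mul, Pi.add_apply, Pi.smul_apply]

omit [Fintype ι] [DecidableEq ι] in
theorem grad_C (α : ι → k) (c : k) : grad α (C c : MvPolynomial ι k) = 0 := by
  funext i; simp [grad]

omit [Fintype ι] in
theorem grad_ptGen (α : ι → k) (i : ι) : grad α (ptGen α i) = Pi.single i 1 := by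
  funext j
  simp only [grad, ptGen, map_sub, pderiv_C, sub_zero, pderiv_X, Pi.single_apply]
  by_cases h : j = i
  · subst h; simp
  · have h' : ¬ i = j := fun e => h e.symm
    simp [h, h']

omit [DecidableEq ι] in
theorem grad_sum {κ : Type*} (α : ι → k) (s : Finset κ) (p : κ → MvPolynomial ι k) :
    grad α (∑ l ∈ s, p l) = ∑ l ∈ s, grad α (p l) := by
  classical
  induction s using Finset.induction_on with
  | empty => simp [grad_zero]
  | insert a s ha ih => rw [Finset.sum_insert ha, Finset.sum_insert ha, grad_add, ih]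

omit [Fintype ι] [DecidableEq ι] in
theorem grad_eq_zero_of_mem_sq {α : ι → k} {q : MvPolynomial ι k}
    (hq : q ∈ ptIdeal α * ptIdeal α) : grad α q = 0 := by
  refine Submodule.mul_induction_on hq ?_ ?_
  · intro a ha b hb
    rw [grad_mul, eval_eq_zero_of_mem_ptIdeal ha, eval_eq_zero_of_mem_ptIdeal hb, zero_smul,
      zero_smul, add_zero]
  · intro a b ha hb
    rw [grad_add, ha, hb, add_zero]

theorem taylor_mem_sq (α : ι → k) (p : MvPolynomial ι k) :
    p - C (eval α p) - ∑ i, C (grad α p i) * ptGen α i ∈ ptIdeal α * ptIdeal α := by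
  have h := mvPolynomial_taylor_one (R := k) (A := MvPolynomial ι k) (ptIdeal α * ptIdeal α)
    (fun i => C (α i)) (ptGen α) (fun i j => Ideal.mul_mem_mul (ptGen_mem α i) (ptGen_mem α j)) p
  have h1 : (fun i => C (α i) + ptGen α i) = (X : ι → MvPolynomial ι k) := by
    funext i; simp [ptGen]
  have h2 : ∀ g : MvPolynomial ι k, aeval (fun i => (C (α i) : MvPolynomial ι k)) g =
      C (eval α g) := by
    intro g
    have := comp_aeval_apply (f := α) (Algebra.ofId k (MvPolynomial ι k)) g
    rw [aeval_eq_eval] at this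
    exact this.symm
  rw [h1, aeval_X_left_apply, h2] at h
  simp only [h2] at h
  exact h

omit [DecidableEq ι] in
theorem exists_decomp_of_mem_sq {α : ι → k} {q : MvPolynomial ι k}
    (hq : q ∈ ptIdeal α * ptIdeal α) :
    ∃ B : ι → MvPolynomial ι k, (∀ l, B l ∈ ptIdeal α) ∧ q = ∑ l, ptGen α l * B l := by
  refine Submodule.mul_induction_on hq ?_ ?_
  · intro a ha b hb
    rw [ptIdeal, Ideal.mem_span_range_iff_exists_fun] at ha
    obtain ⟨c, rfl⟩ := ha
    refine ⟨fun l => c l * b, fun l => Ideal.mul_mem_left _ _ hb, ?_⟩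
    rw [Finset.sum_mul]
    refine Finset.sum_congr rfl fun l _ => by ring
  · rintro a b ⟨Ba, hBa, rfl⟩ ⟨Bb, hBb, rfl⟩
    refine ⟨fun l => Ba l + Bb l, fun l => Ideal.add_mem _ (hBa l) (hBb l), ?_⟩
    rw [← Finset.sum_add_distrib]
    refine Finset.sum_congr rfl fun l _ => by ring

end Groth.Agent.Lib.Helper18.FF
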