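import Mathlib.LinearAlgebra.Matrix.Rank
import Mathlib.LinearAlgebra.Dimension.Free
import Mathlib.LinearAlgebra.FiniteDimensional.Lemmas

/-! # Rank of a matrix under an isomorphic extension of scalars; rank of a bordered family -/

set_option autoImplicit false

namespace Groth.Agent.Lib.Helper18.FF

open Module

variable {k F : Type*} [Field k] [Field F] [Algebra k F]

theorem rank_map_algebraMap_of_bijective (hbij : Function.Bijective (algebraMap k F))
    {m n : Type*} [Fintype m] [Fintype n] [DecidableEq n] (J : Matrix m n k) :
    (J.map (algebraMap k F)).rank = J.rank := by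
  classical
  let e : k ≃ₗ[k] F := LinearEquiv.ofBijective (Algebra.linearMap k F) hbij
  have he : ∀ c : k, e c = algebraMap k F c := fun c => rfl
  have h1F : finrank k F = 1 := by
    rw [← LinearEquiv.finrank_eq e, finrank_self]
  let En : (n → k) ≃ₗ[k] (n → F) := LinearEquiv.piCongrRight fun _ => e
  let Em : (m → k) ≃ₗ[k] (m → F) := LinearEquiv.piCongrRight fun _ => e
  set J' := J.map (algebraMap k F) with hJ'
  let W : Submodule F (m → F) := LinearMap.range J'.mulVecLin
  have hcomm : ∀ v : n → k, J'.mulVecLin (En v) = Em (J.mulVecLin v) := by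
    intro v
    funext i
    simp only [Matrix.mulVecLin_apply, Matrix.mulVec, dotProduct, En, Em,
      LinearEquiv.piCongrRight_apply, hJ', Matrix.map_apply, he, map_sum, map_mul]
  have hset : (LinearMap.range J.mulVecLin).map Em.toLinearMap = W.restrictScalars k := by
    ext w
    constructor
    · rintro ⟨_, ⟨v, rfl⟩, rfl⟩
      exact ⟨En v, hcomm v⟩
    · rintro ⟨v', rfl⟩
      refine ⟨J.mulVecLin (En.symm v'), ⟨_, rfl⟩, ?_⟩
      have := hcomm (En.symm v')
      rw [LinearEquiv.apply_symm_apply] at this
      exact this.symm
  have h2 : finrank k (LinearMap.range J.mulVecLin) = finrank k (W.restrictScalars k) := by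
    rw [← hset]
    exact LinearEquiv.finrank_eq (Em.submoduleMap (LinearMap.range J.mulVecLin))
  have h3 : finrank k (W.restrictScalars k) = finrank k W :=
    LinearEquiv.finrank_eq ((Submodule.restrictScalarsEquiv k F (m → F) W).restrictScalars k)
  have h4 : finrank k F * finrank F W = finrank k W := Module.finrank_mul_finrank k F W
  rw [h1F, one_mul] at h4
  show finrank F W = finrank k (LinearMap.range J.mulVecLin)
  rw [h2, h3, h4]

/-- Bordering a family of vectors in `k^(n+1)` with the first basis vector raises the dimension
of the span of the truncated family by one. -/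
theorem finrank_span_option_elim {n : ℕ} {κ : Type*} (g : κ → (Fin (n + 1) → k)) :
    finrank k (Submodule.span k (Set.range fun o : Option κ =>
        o.elim (Pi.single 0 1 : Fin (n + 1) → k) g)) =
      finrank k (Submodule.span k (Set.range fun i : κ => fun j : Fin n => g i j.succ)) + 1 := by
  classical
  set R := Submodule.span k (Set.range fun o : Option κ =>
    o.elim (Pi.single 0 1 : Fin (n + 1) → k) g) with hR
  let π : (Fin (n + 1) → k) →ₗ[k] (Fin n → k) := LinearMap.funLeft k k Fin.succ
  have hπ : ∀ v j, π v j = v j.succ := fun v j => rfl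
  let f : R →ₗ[k] (Fin n → k) := π.domRestrict R
  have hrange : LinearMap.range f =
      Submodule.span k (Set.range fun i : κ => fun j : Fin n => g i j.succ) := by
    rw [LinearMap.range_domRestrict, hR, Submodule.map_span]
    apply le_antisymm
    · rw [Submodule.span_le]
      rintro _ ⟨_, ⟨o, rfl⟩, rfl⟩
      cases o with
      | none =>
        have : π (Pi.single 0 1 : Fin (n + 1) → k) = 0 := by
          funext j
          rw [hπ, Pi.single_eq_of_ne (Fin.succ_ne_zero j)]
          rfl
        show π (Pi.single 0 1 : Fin (n + 1) → k) ∈ _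
        rw [this]
        exact Submodule.zero_mem _
      | some i => exact Submodule.subset_span ⟨i, rfl⟩
    · rw [Submodule.span_le]
      rintro _ ⟨i, rfl⟩
      exact Submodule.subset_span ⟨_, ⟨some i, rfl⟩, rfl⟩
  have he0 : (Pi.single 0 1 : Fin (n + 1) → k) ∈ R := Submodule.subset_span ⟨none, rfl⟩
  have hker : finrank k (LinearMap.ker f) = 1 := by
    have hv : (⟨Pi.single 0 1, he0⟩ : R) ∈ LinearMap.ker f := by
      rw [LinearMap.mem_ker]
      funext j
      show π (Pi.single 0 1 : Fin (n + 1) → k) j = 0
      rw [hπ, Pi.single_eq_of_ne (Fin.succ_ne_zero j)]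
    refine finrank_eq_one (⟨⟨Pi.single 0 1, he0⟩, hv⟩ : LinearMap.ker f) ?_ ?_
    · intro h0
      have := congrArg (fun w : LinearMap.ker f => (w : R).1 0) h0
      simp at this
    · rintro ⟨⟨w, hwR⟩, hwker⟩
      refine ⟨w 0, ?_⟩
      apply Subtype.ext
      apply Subtype.ext
      show w 0 • (Pi.single 0 1 : Fin (n + 1) → k) = w
      rw [LinearMap.mem_ker] at hwker
      funext j
      refine Fin.cases ?_ (fun j' => ?_) j
      · simp
      · have := congrFun hwker j'
        have h2 : w j'.succ = 0 := this
        rw [h2, Pi.smul_apply, Pi.single_eq_of_ne (Fin.succ_ne_zero j'), smul_zero]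
  have h1 := LinearMap.finrank_range_add_finrank_ker f
  rw [hrange, hker] at h1
  exact h1.symm

end Groth.Agent.Lib.Helper18.FF
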