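import Groth.Agent.Lib.Helper18.FF.ChartJac
import Groth.Agent.Lib.Helper18.FF.ChartHom
import Groth.Agent.Lib.Helper18.FF.RankMap

/-! # Residues of chart values -/

set_option autoImplicit false

namespace Groth.Agent.Lib.Helper18.FF

open FunFld WithZero MvPolynomial

variable {k K : Type*} [Field k] [Field K] [Algebra k K]

theorem residue_eq_algebraMap_of_val_sub_lt (P : Place k K) (a : P.O) (c : k)
    (h : P.1 ((a : K) - algebraMap k K c) < 1) :
    IsLocalRing.residue P.O a = algebraMap k (IsLocalRing.ResidueField P.O) c := by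
  have h1 : algebraMap k (IsLocalRing.ResidueField P.O) c =
      IsLocalRing.residue P.O (algebraMap k P.O c) := rfl
  rw [h1, ← sub_eq_zero, ← map_sub, IsLocalRing.residue_eq_zero_iff,
    Valuation.mem_maximalIdeal_iff (v := P.1)]
  exact h

theorem algebraMap_residueField_bijective [IsAlgClosed k] (hK : IsFunctionField k K)
    (P : Place k K) :
    Function.Bijective (algebraMap k (IsLocalRing.ResidueField P.O)) := by
  refine ⟨(algebraMap k (IsLocalRing.ResidueField P.O)).injective, fun z => ?_⟩
  obtain ⟨a, rfl⟩ := IsLocalRing.residue_surjective z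
  have hdeg : P.deg = 1 := deg_eq_one_of_isAlgClosed hK P
  obtain ⟨c, hc⟩ := exists_const_sub_lt_one hK hdeg (z := (a : K)) a.2
  exact ⟨c, (residue_eq_algebraMap_of_val_sub_lt P a c hc).symm⟩

/-- A homogeneous polynomial in the kernel of `Xᵢ ↦ φᵢ T` vanishes at `φ`. -/
theorem aeval_eq_zero_of_mem_ker_CX {σ : Type*} [Fintype σ] (φ : σ → K)
    {g : MvPolynomial σ k} {D : ℕ} (hg : g.IsHomogeneous D)
    (hmem : g ∈ RingHom.ker
      (aeval (R := k) fun i => Polynomial.C (φ i) * (Polynomial.X : Polynomial K))) :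
    aeval φ g = 0 := by
  rw [RingHom.mem_ker, aeval_CX_of_isHomogeneous hg] at hmem
  have := congrArg (fun p : Polynomial K => p.coeff D) hmem
  simp only [Polynomial.coeff_C_mul, Polynomial.coeff_X_pow, if_true, mul_one,
    Polynomial.coeff_zero] at this
  exact this

/-- A homogeneous polynomial vanishing at `φ` vanishes at the chart `φ / φ j`. -/
theorem aeval_chart_eq_zero {σ : Type*} [Fintype σ] (φ : σ → K) (j : σ)
    {g : MvPolynomial σ k} {D : ℕ} (hg : g.IsHomogeneous D) (h0 : aeval φ g = 0) :
    aeval (fun i => φ i / φ j) g = 0 := by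
  have h1 : (fun i => φ i / φ j) = fun i => (φ j)⁻¹ * φ i := funext fun i => div_eq_inv_mul _ _
  rw [h1, aeval_mul_of_isHomogeneous' hg, h0, mul_zero]

end Groth.Agent.Lib.Helper18.FF
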