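import Groth.Agent.Lib.Helper18.FF.ChartN2
import Mathlib.LinearAlgebra.Dimension.Finrank
import Mathlib.LinearAlgebra.FiniteDimensional.Lemmas
import Mathlib.LinearAlgebra.Dimension.RankNullity
import Mathlib.Algebra.BigOperators.Field

/-! # Charts at a place: nonsingularity forces the Jacobian rank condition -/

set_option autoImplicit false

namespace Groth.Agent.Lib.Helper18.FF

open FunFld WithZero MvPolynomial

variable {k K : Type*} [Field k] [Field K] [Algebra k K] {ι : Type*} [Fintype ι] [DecidableEq ι]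
variable {P : Place k K} {ψ : ι → K} {α : ι → k}

/-- The linear form `∑ cᵢ (Xᵢ - αᵢ)`. -/
noncomputable def linForm (α : ι → k) (c : ι → k) : MvPolynomial ι k := ∑ i, C (c i) * ptGen α i

theorem eval_linForm (α c : ι → k) : eval α (linForm α c) = 0 := by
  rw [linForm, map_sum]
  refine Finset.sum_eq_zero fun i _ => ?_
  rw [map_mul, eval_ptGen, mul_zero]

theorem grad_linForm (α c : ι → k) : grad α (linForm α c) = c := by
  rw [linForm, grad_sum]
  funext j
  rw [Finset.sum_apply]
  have : ∀ i, grad α (C (c i) * ptGen α i) j = if i = j then c i else 0 := by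
    intro i
    rw [grad_mul, eval_ptGen, zero_smul, add_zero, eval_C, grad_ptGen, Pi.smul_apply,
      Pi.single_apply, smul_eq_mul]
    split_ifs with h1 h2 h2
    · rw [mul_one]
    · exact absurd h1.symm h2
    · exact absurd h2.symm h1
    · rw [mul_zero]
  simp only [this]
  rw [Finset.sum_ite_eq', if_pos (Finset.mem_univ j)]

omit [DecidableEq ι] in
theorem aeval_linForm (ψ : ι → K) (α c : ι → k) :
    aeval ψ (linForm α c) = ∑ i, algebraMap k K (c i) * (ψ i - algebraMap k K (α i)) := by
  rw [linForm, map_sum]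
  refine Finset.sum_congr rfl fun i _ => ?_
  rw [map_mul, aeval_C, aeval_ptGen]

/-- A relation with prescribed gradient gives an element of order `≥ 2`. -/
theorem IsChart.val_linForm_le_of_mem_span (h : IsChart P ψ α) {κ : Type*} [Fintype κ]
    (F : κ → MvPolynomial ι k) (hF : ∀ l, aeval ψ (F l) = 0) {c : ι → k}
    (hc : c ∈ Submodule.span k (Set.range fun l => grad α (F l))) :
    P.1 (aeval ψ (linForm α c)) ≤ exp (-2 : ℤ) := by
  obtain ⟨a, ha⟩ := (Submodule.mem_span_range_iff_exists_fun k).mp hc
  set G : MvPolynomial ι k := ∑ l, C (a l) * F l with hGdef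
  have hGψ : aeval ψ G = 0 := by
    rw [hGdef, map_sum]
    refine Finset.sum_eq_zero fun l _ => ?_
    rw [map_mul, hF l, mul_zero]
  have hGα : eval α G = 0 := h.eval_eq_zero_of_aeval_eq_zero hGψ
  have hFα : ∀ l, eval α (F l) = 0 := fun l => h.eval_eq_zero_of_aeval_eq_zero (hF l)
  have hgrad : grad α G = c := by
    rw [hGdef, grad_sum, ← ha]
    refine Finset.sum_congr rfl fun l _ => ?_
    rw [grad_mul, hFα l, zero_smul, add_zero, eval_C]
  have htay := taylor_mem_sq α G
  rw [hGα, map_zero, sub_zero, hgrad] at htay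
  have h1 := h.val_aeval_le_of_mem_sq htay
  rw [map_sub, hGψ, zero_sub, Valuation.map_neg] at h1
  exact h1

/-- Nonsingularity forces the gradients of a generating family of relations to span a
hyperplane. -/
theorem IsChart.finrank_grad_span_of_inO [IsAlgClosed k] (hK : IsFunctionField k K)
    (h : IsChart P ψ α) {κ : Type*} [Fintype κ] (F : κ → MvPolynomial ι k)
    (hF : ∀ l, aeval ψ (F l) = 0)
    (hker : ∀ G : MvPolynomial ι k, aeval ψ G = 0 → G ∈ Ideal.span (Set.range F))
    (hns : ∀ z, P.1 z ≤ 1 → InO ψ α z) :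
    Module.finrank k (Submodule.span k (Set.range fun l => grad α (F l))) + 1 =
      Fintype.card ι := by
  classical
  set R := Submodule.span k (Set.range fun l => grad α (F l)) with hR
  obtain ⟨t, ht⟩ := exists_uniformizer P
  have ht0 : t ≠ 0 := by
    intro h0; rw [h0, map_zero] at ht; exact (exp_ne_zero ht.symm)
  obtain ⟨Ut, Wt, hWt, htW⟩ := hns t (by rw [ht, ← exp_zero, exp_le_exp]; norm_num)
  have hWt1 : P.1 (aeval ψ Wt) = 1 := (h.val_aeval_eq_one_iff Wt).mpr hWt
  have hUtval : P.1 (aeval ψ Ut) = exp (-1 : ℤ) := by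
    rw [← htW, map_mul, hWt1, mul_one, ht]
  have hUtα : eval α Ut = 0 := by
    rw [← h.val_aeval_lt_one_iff, hUtval, ← exp_zero, exp_lt_exp]; norm_num
  have hUtmem : Ut ∈ ptIdeal α := by
    have := sub_C_mem_ptIdeal α Ut
    rwa [hUtα, map_zero, sub_zero] at this
  -- (i) `R ≠ ⊤`
  have hRne : R ≠ ⊤ := by
    intro htop
    have hx : ∀ i, P.1 (ψ i - algebraMap k K (α i)) ≤ exp (-2 : ℤ) := by
      intro i
      have hmem : (Pi.single i 1 : ι → k) ∈ R := by rw [htop]; trivial
      have h1 := h.val_linForm_le_of_mem_span F hF hmem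
      rw [aeval_linForm, Finset.sum_eq_single i] at h1
      · rwa [Pi.single_eq_same, map_one, one_mul] at h1
      · intro m _ hm
        rw [Pi.single_eq_of_ne hm, map_zero, zero_mul]
      · intro hi; exact absurd (Finset.mem_univ i) hi
    obtain ⟨c, hc⟩ := exists_decomp_of_eval_eq_zero hUtα
    have h2 : P.1 (aeval ψ Ut) ≤ exp (-2 : ℤ) := by
      rw [hc, map_sum]
      refine P.1.map_sum_le fun i _ => ?_
      rw [map_mul, map_mul, aeval_ptGen]
      calc P.1 (aeval ψ (c i)) * P.1 (ψ i - algebraMap k K (α i))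
          ≤ 1 * exp (-2 : ℤ) := mul_le_mul' (h.val_aeval_le_one _) (hx i)
        _ = exp (-2 : ℤ) := one_mul _
    rw [hUtval, exp_le_exp] at h2
    omega
  -- (ii) the functional
  have hdeg : P.deg = 1 := deg_eq_one_of_isAlgClosed hK P
  have hxt : ∀ i, P.1 ((ψ i - algebraMap k K (α i)) / t) ≤ 1 := by
    intro i
    rw [map_div₀, ht]
    have := le_exp_neg_one_of_lt_one (h i)
    rw [div_le_one₀ exp_pos]
    exact this
  choose β hβ using fun i => exists_const_sub_lt_one hK hdeg (hxt i)
  let θ : (ι → k) →ₗ[k] k := ∑ i, β i • (LinearMap.proj i : (ι → k) →ₗ[k] k)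
  have hθ : ∀ c, θ c = ∑ i, β i * c i := by
    intro c
    simp only [θ, LinearMap.sum_apply, LinearMap.smul_apply, LinearMap.proj_apply, smul_eq_mul]
  have hkerθ : LinearMap.ker θ ≤ R := by
    intro c hc
    rw [LinearMap.mem_ker, hθ] at hc
    set s := aeval ψ (linForm α c) with hs
    have hst : P.1 (s / t) < 1 := by
      have h1 : s / t = ∑ i, algebraMap k K (c i) *
          ((ψ i - algebraMap k K (α i)) / t - algebraMap k K (β i)) := by
        have h2 : ∑ i, algebraMap k K (c i) *
            ((ψ i - algebraMap k K (α i)) / t - algebraMap k K (β i)) =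
            (∑ i, algebraMap k K (c i) * (ψ i - algebraMap k K (α i))) / t -
              algebraMap k K (∑ i, β i * c i) := by
          rw [map_sum, Finset.sum_div, ← Finset.sum_sub_distrib]
          refine Finset.sum_congr rfl fun i _ => ?_
          rw [map_mul]; ring
        rw [h2, hc, map_zero, sub_zero, hs, aeval_linForm]
      rw [h1]
      refine P.1.map_sum_lt (by norm_num) fun i _ => ?_
      rw [map_mul]
      calc P.1 (algebraMap k K (c i)) * P.1 ((ψ i - algebraMap k K (α i)) / t - algebraMap k K (β i))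
          ≤ 1 * P.1 ((ψ i - algebraMap k K (α i)) / t - algebraMap k K (β i)) :=
            mul_le_mul' (val_algebraMap_le P _) le_rfl
        _ = P.1 ((ψ i - algebraMap k K (α i)) / t - algebraMap k K (β i)) := one_mul _
        _ < 1 := hβ i
    have hz : P.1 (s / t ^ 2) ≤ 1 := by
      have h1 : s / t ^ 2 = (s / t) / t := by rw [pow_two, div_div]
      rw [h1, map_div₀, ht, div_le_one₀ exp_pos]
      exact le_exp_neg_one_of_lt_one hst
    obtain ⟨Uz, Wz, hWz, hzW⟩ := hns _ hz
    set G : MvPolynomial ι k := linForm α c * (Wz * Wt ^ 2) - Uz * Ut ^ 2 with hGdef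
    have hGψ : aeval ψ G = 0 := by
      rw [hGdef, map_sub, map_mul, map_mul, map_mul, map_pow, map_pow, ← hs, ← hzW, ← htW]
      field_simp
      ring
    have hGmem := hker G hGψ
    obtain ⟨a, ha⟩ := Ideal.mem_span_range_iff_exists_fun.mp hGmem
    have hFα : ∀ l, eval α (F l) = 0 := fun l => h.eval_eq_zero_of_aeval_eq_zero (hF l)
    have hgradG1 : grad α G ∈ R := by
      rw [← ha, grad_sum]
      refine Submodule.sum_mem _ fun l _ => ?_
      rw [grad_mul, hFα l, zero_smul, add_zero]
      exact Submodule.smul_mem _ _ (Submodule.subset_span ⟨l, rfl⟩)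
    have hsq : Uz * Ut ^ 2 ∈ ptIdeal α * ptIdeal α := by
      rw [pow_two]
      exact Ideal.mul_mem_left _ _ (Ideal.mul_mem_mul hUtmem hUtmem)
    have hgradG2 : grad α G = eval α (Wz * Wt ^ 2) • c := by
      rw [hGdef, grad_sub, grad_eq_zero_of_mem_sq hsq, sub_zero, grad_mul, eval_linForm,
        zero_smul, zero_add, grad_linForm]
    rw [hgradG2] at hgradG1
    have hne : eval α (Wz * Wt ^ 2) ≠ 0 := by
      rw [map_mul, map_pow]
      exact mul_ne_zero hWz (pow_ne_zero _ hWt)
    exact (Submodule.smul_mem_iff _ hne).mp hgradG1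
  -- dimension count
  have hθne : θ ≠ 0 := by
    intro h0
    apply hRne
    rw [eq_top_iff]
    intro c _
    exact hkerθ (by rw [h0]; simp)
  have hlt : Module.finrank k R < Fintype.card ι := by
    have := Submodule.finrank_lt hRne
    rwa [Module.finrank_pi k] at this
  have hge : Fintype.card ι ≤ Module.finrank k R + 1 := by
    have h1 := LinearMap.finrank_range_add_finrank_ker θ
    rw [Module.finrank_pi k] at h1
    have h2 : Module.finrank k (LinearMap.range θ) ≤ 1 := by
      have := Submodule.finrank_le (LinearMap.range θ)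
      rwa [Module.finrank_self] at this
    have h3 : Module.finrank k (LinearMap.ker θ) ≤ Module.finrank k R :=
      Submodule.finrank_mono hkerθ
    omega
  omega

end Groth.Agent.Lib.Helper18.FF
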