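import Groth.Agent.Lib.Helper18.FF.Weights

/-! # More on vanishing sequences of linear series -/

set_option autoImplicit false
set_option linter.style.haveILetI false

namespace Groth.Agent.Lib.Helper18.FF

open FunFld WithZero

universe u v w

variable {k : Type u} {K : Type v} [Field k] [Field K] [Algebra k K]

/-- Vanishing to order `a` at `A` and order `b` at `B ≠ A` are independent conditions on a `g^r_d`
once `a + b > d`. -/
theorem finrank_inf_add_le [IsAlgClosed k] (hK : IsFunctionField k K) (D : Divisor k K) (d r : ℕ)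
    (hD : D.deg = d) (V : Submodule k K) (hV : V ≤ L D) (hVr : Module.finrank k V = r + 1)
    (A B : Place k K) (hAB : A ≠ B) (a b : ℤ) (hab : (d : ℤ) < a + b) :
    Module.finrank k ↥(V ⊓ L (D - Finsupp.single A a)) +
      Module.finrank k ↥(V ⊓ L (D - Finsupp.single B b)) ≤ r + 1 := by
  haveI := finiteDimensional_L hK D
  haveI : FiniteDimensional k V := Submodule.finiteDimensional_of_le hV
  set U₁ := V ⊓ L (D - Finsupp.single A a) with hU₁
  set U₂ := V ⊓ L (D - Finsupp.single B b) with hU₂
  have hinf : U₁ ⊓ U₂ = ⊥ := by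
    rw [eq_bot_iff]
    have h1 : U₁ ⊓ U₂ ≤ L (D - Finsupp.single A a) ⊓ L (D - Finsupp.single B b) :=
      inf_le_inf inf_le_right inf_le_right
    refine h1.trans ((inf_L_single_le D A B hAB _ _).trans ?_)
    rw [L_eq_bot_of_deg_neg hK]
    rw [deg_sub, deg_sub, deg_single, deg_single, deg_eq_one_of_isAlgClosed hK A,
      deg_eq_one_of_isAlgClosed hK B, hD]
    push_cast
    omega
  have hsup : U₁ ⊔ U₂ ≤ V := sup_le inf_le_left inf_le_left
  have h2 := Submodule.finrank_sup_add_finrank_inf_eq U₁ U₂
  rw [hinf, finrank_bot, add_zero] at h2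
  have h3 := Submodule.finrank_mono hsup
  rw [hVr] at h3
  omega

/-- Vanishing to order more than `deg D` at a degree-one place kills everything. -/
theorem inf_L_single_eq_bot [IsAlgClosed k] (hK : IsFunctionField k K) (D : Divisor k K) (d : ℕ)
    (hD : D.deg = d) (V : Submodule k K) (A : Place k K) (a : ℤ) (ha : (d : ℤ) < a) :
    V ⊓ L (D - Finsupp.single A a) = ⊥ := by
  rw [eq_bot_iff]
  refine inf_le_right.trans ?_
  rw [L_eq_bot_of_deg_neg hK]
  rw [deg_sub, deg_single, deg_eq_one_of_isAlgClosed hK A, hD]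
  push_cast
  omega

end Groth.Agent.Lib.Helper18.FF
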