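import Groth.Agent.Lib.Helper18.FF.Plucker
import Groth.Agent.Lib.Helper18.FF.Weights2

/-! # Weight of a cusp -/

set_option autoImplicit false
set_option linter.style.haveILetI false

namespace Groth.Agent.Lib.Helper18.FF

open FunFld WithZero

universe u v

variable {k : Type u} {K : Type v} [Field k] [Field K] [Algebra k K]

theorem sum_range_rev_eq (r : ℕ) : ∑ j ∈ Finset.range r, (r - j) = ∑ i ∈ Finset.range (r + 1), i := by
  rw [Finset.sum_range_succ', add_zero]
  rw [← Finset.sum_range_reflect (fun j => j + 1) r]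
  refine Finset.sum_congr rfl fun j hj => ?_
  have := Finset.mem_range.mp hj
  omega

/-- A cusp (`dim V(-2Q) ≥ r`) has weight at least `r`. -/
theorem cusp_weight_ge (hK : IsFunctionField k K) {Q : Place k K} (hQ : Q.deg = 1)
    (D : Divisor k K) (d : ℕ) (hD : D.deg = d) (V : Submodule k K) (hV : V ≤ L D) (r : ℕ)
    (hcusp : r ≤ Module.finrank k ↥(V ⊓ L (D - Finsupp.single Q (2 : ℤ)))) :
    r + ∑ i : Fin (r + 1), (i : ℕ) ≤
      ∑ j ∈ Finset.range d, Module.finrank k ↥(V ⊓ L (D - Finsupp.single Q ((j : ℤ) + 1))) := by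
  haveI := finiteDimensional_L hK D
  haveI hVfin : FiniteDimensional k V := Submodule.finiteDimensional_of_le hV
  let u : ℕ → ℕ := fun n => Module.finrank k ↥(V ⊓ L (D - Finsupp.single Q (n : ℤ)))
  have hu_anti : ∀ n, u (n + 1) ≤ u n := by
    intro n
    haveI : FiniteDimensional k ↥(V ⊓ L (D - Finsupp.single Q (n : ℤ))) :=
      Submodule.finiteDimensional_of_le inf_le_left
    refine Submodule.finrank_mono (inf_le_inf_left V (L_mono ?_))
    exact sub_le_sub_left (single_mono Q (by push_cast; omega)) D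
  have hu_drop : ∀ n, u n ≤ u (n + 1) + 1 := by
    intro n
    have := finrank_inf_L_add_single_le hK V (D - Finsupp.single Q ((n + 1 : ℕ) : ℤ)) hQ
    have e : D - Finsupp.single Q ((n + 1 : ℕ) : ℤ) + Finsupp.single Q 1 =
        D - Finsupp.single Q (n : ℤ) := by
      rw [sub_add, ← Finsupp.single_sub]; push_cast; congr 2; ring
    rw [e] at this
    exact this
  have hu_top : u (d + 1) = 0 := by
    show Module.finrank k ↥(V ⊓ L (D - Finsupp.single Q ((d + 1 : ℕ) : ℤ))) = 0
    have : V ⊓ L (D - Finsupp.single Q ((d + 1 : ℕ) : ℤ)) = ⊥ := by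
      rw [eq_bot_iff]
      refine inf_le_right.trans ?_
      rw [L_eq_bot_of_deg_neg hK]
      rw [deg_sub, deg_single, hQ, hD]
      push_cast; omega
    rw [this, finrank_bot]
  have hu2 : r ≤ u 2 := by
    show r ≤ Module.finrank k ↥(V ⊓ L (D - Finsupp.single Q ((2 : ℕ) : ℤ)))
    exact hcusp
  have hu_lin : ∀ t, r ≤ u (2 + t) + t := by
    intro t
    induction t with
    | zero => simpa using hu2
    | succ t ih =>
      have := hu_drop (2 + t)
      rw [show 2 + (t + 1) = 2 + t + 1 by ring]
      omega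
  have hgoal : ∑ j ∈ Finset.range d, Module.finrank k ↥(V ⊓ L (D - Finsupp.single Q ((j : ℤ) + 1))) =
      ∑ j ∈ Finset.range d, u (j + 1) := by
    refine Finset.sum_congr rfl fun j _ => ?_
    show _ = Module.finrank k ↥(V ⊓ L (D - Finsupp.single Q ((j + 1 : ℕ) : ℤ)))
    push_cast; rfl
  rw [hgoal, Fin.sum_univ_eq_sum_range (fun i => i) (r + 1)]
  rcases Nat.eq_zero_or_pos r with hr0 | hrpos
  · subst hr0; simp
  have hu21 : u 2 ≤ u 1 := hu_anti 1
  -- `d ≥ r + 1`
  have hdr : r + 1 ≤ d := by
    rcases Nat.eq_zero_or_pos d with hd0 | hdpos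
    · subst hd0
      have : u 1 = 0 := hu_top
      omega
    · have := hu_lin (d - 1)
      rw [show 2 + (d - 1) = d + 1 by omega, hu_top] at this
      omega
  calc r + ∑ i ∈ Finset.range (r + 1), i ≤ u 1 + ∑ j ∈ Finset.range r, (r - j) := by
        rw [sum_range_rev_eq]
        omega
    _ ≤ u 1 + ∑ j ∈ Finset.range r, u (j + 2) := by
        have h1 : ∑ j ∈ Finset.range r, (r - j) ≤ ∑ j ∈ Finset.range r, u (j + 2) := by
          refine Finset.sum_le_sum fun j hj => ?_
          have := hu_lin j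
          rw [show 2 + j = j + 2 by ring] at this
          omega
        omega
    _ = ∑ j ∈ Finset.range (r + 1), u (j + 1) := by
        rw [Finset.sum_range_succ' (fun j => u (j + 1)) r, add_comm]
    _ ≤ ∑ j ∈ Finset.range d, u (j + 1) :=
        Finset.sum_le_sum_of_subset (Finset.range_subset_range.mpr hdr)

end Groth.Agent.Lib.Helper18.FF
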