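import Groth.Agent.Lib.Helper18.FF.LSpace2
import Groth.Agent.Lib.Helper18.FF.Finite

/-! # The degree of the pole divisor is at least `[K : k(x)]` -/

set_option autoImplicit false

namespace Groth.Agent.Lib.Helper18.FF

open FunFld IntermediateField WithZero

universe u v

variable {k : Type u} {K : Type v} [Field k] [Field K] [Algebra k K]

theorem div_apply (hK : IsFunctionField k K) (x : K) (P : Place k K) : FunFld.div k x P = P.ord x := by
  unfold FunFld.div
  rw [dif_pos (finite_support_ord hK x)]
  rfl

/-- The divisor of zeros. -/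
noncomputable def zeroDiv (x : K) : Divisor k K := toDiv (posPart (FunFld.div k x))

/-- The divisor of poles. -/
noncomputable def poleDiv (x : K) : Divisor k K := toDiv (posPart (-FunFld.div k x))

theorem zeroDiv_apply (hK : IsFunctionField k K) (x : K) (P : Place k K) :
    zeroDiv (k := k) x P = ((P.ord x).toNat : ℤ) := by
  rw [zeroDiv, toDiv_apply, posPart, Finsupp.mapRange_apply, div_apply hK]

theorem poleDiv_apply (hK : IsFunctionField k K) (x : K) (P : Place k K) :
    poleDiv (k := k) x P = ((-P.ord x).toNat : ℤ) := by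
  rw [poleDiv, toDiv_apply, posPart, Finsupp.mapRange_apply, Finsupp.neg_apply, div_apply hK]

theorem zeroDiv_nonneg (x : K) : 0 ≤ zeroDiv (k := k) x := fun P => by
  rw [zeroDiv, toDiv_apply]; exact Int.natCast_nonneg _

theorem poleDiv_nonneg (x : K) : 0 ≤ poleDiv (k := k) x := fun P => by
  rw [poleDiv, toDiv_apply]; exact Int.natCast_nonneg _

theorem div_eq_zeroDiv_sub_poleDiv (hK : IsFunctionField k K) (x : K) :
    FunFld.div k x = zeroDiv x - poleDiv x := by
  ext P
  rw [Finsupp.sub_apply, zeroDiv_apply hK, poleDiv_apply hK, div_apply hK]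
  omega

theorem poleDiv_inv (hK : IsFunctionField k K) (x : K) : poleDiv (k := k) x⁻¹ = zeroDiv x := by
  ext P
  rw [zeroDiv_apply hK, poleDiv_apply hK, ord_inv, neg_neg]

theorem zeroDiv_inv (hK : IsFunctionField k K) (x : K) : zeroDiv (k := k) x⁻¹ = poleDiv x := by
  ext P
  rw [zeroDiv_apply hK, poleDiv_apply hK, ord_inv]

theorem val_le_exp_poleDiv (hK : IsFunctionField k K) (x : K) (P : Place k K) :
    P.1 x ≤ exp (poleDiv (k := k) x P) := by
  rcases eq_or_ne x 0 with rfl | hx0
  · rw [map_zero]; exact zero_le'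
  · rw [val_eq_exp_neg_ord P hx0, exp_le_exp, poleDiv_apply hK]
    exact Int.self_le_toNat _

/-- The degree of an effective divisor given by a function supported on a finset. -/
theorem deg_eq_sum_of_support_subset (D : Divisor k K) (S : Finset (Place k K)) (h : D.support ⊆ S) :
    D.deg = ∑ P ∈ S, D P * (P.deg : ℤ) := by
  unfold Divisor.deg
  exact Finsupp.sum_of_support_subset D h _ (fun _ _ => by simp)

/-- `deg (x)₀ ≤ [K : k(x)]`. -/
theorem deg_zeroDiv_le (hK : IsFunctionField k K) {x : K} (hx : Transcendental k x) :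
    (zeroDiv (k := k) x).deg ≤ Module.finrank (IntermediateField.adjoin k ({x} : Set K)) K := by
  classical
  have hx0 : x ≠ 0 := by
    rintro rfl
    exact hx ⟨Polynomial.X, Polynomial.X_ne_zero, by simp⟩
  set S := (finite_zeros hK hx).toFinset with hS
  have hsub : (zeroDiv (k := k) x).support ⊆ S := by
    intro P hP
    rw [Finsupp.mem_support_iff, zeroDiv_apply hK] at hP
    rw [hS, Set.Finite.mem_toFinset]
    show P.1 x < 1
    rw [val_lt_one_iff_ord_pos P hx0]
    by_contra h
    apply hP
    have : (P.ord x).toNat = 0 := Int.toNat_eq_zero.mpr (not_lt.mp h)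
    rw [this]; rfl
  rw [deg_eq_sum_of_support_subset _ S hsub]
  have h1 := sum_ord_mul_deg_le hK hx S (fun P hP => by
    rw [hS, Set.Finite.mem_toFinset] at hP; exact hP)
  have h2 : ∑ P ∈ S, zeroDiv (k := k) x P * (P.deg : ℤ) = ((∑ P ∈ S, (P.ord x).toNat * P.deg : ℕ) : ℤ) := by
    push_cast
    refine Finset.sum_congr rfl fun P _ => ?_
    rw [zeroDiv_apply hK]
  rw [h2]
  exact_mod_cast h1

end Groth.Agent.Lib.Helper18.FF
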