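import Groth.Agent.Lib.Helper18.FF.Gaps2

/-! # Elements with distinct orders at a place are linearly independent -/

set_option autoImplicit false
set_option linter.style.haveILetI false

namespace Groth.Agent.Lib.Helper18.FF

open FunFld WithZero

universe u v

variable {k : Type u} {K : Type v} [Field k] [Field K] [Algebra k K]

theorem eq_zero_of_sum_eq_zero_of_val_injective {ι : Type*} [Fintype ι] (P : Place k K)
    (z : ι → K) (hz0 : ∀ i, z i ≠ 0) (hinj : Function.Injective (fun i => P.1 (z i)))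
    (c : ι → k) (h : ∑ i, c i • z i = 0) : ∀ i, c i = 0 := by
  classical
  by_contra hcon
  push Not at hcon
  have hne : (Finset.univ.filter (fun i => c i ≠ 0)).Nonempty := by
    obtain ⟨i, hi⟩ := hcon
    exact ⟨i, by simp [hi]⟩
  obtain ⟨i₀, hi₀, hmax⟩ := Finset.exists_max_image _ (fun i => P.1 (z i)) hne
  have hc₀ : c i₀ ≠ 0 := (Finset.mem_filter.mp hi₀).2
  have hv₀ : P.1 (z i₀) ≠ 0 := (Valuation.ne_zero_iff _).mpr (hz0 i₀)
  have hsplit : ∑ i, c i • z i = c i₀ • z i₀ + ∑ i ∈ Finset.univ.erase i₀, c i • z i := by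
    exact (Finset.add_sum_erase Finset.univ (fun i => c i • z i) (Finset.mem_univ i₀)).symm
  have hrest : P.1 (∑ i ∈ Finset.univ.erase i₀, c i • z i) < P.1 (z i₀) := by
    apply Valuation.map_sum_lt _ hv₀
    intro i hi
    have hii₀ : i ≠ i₀ := (Finset.mem_erase.mp hi).1
    by_cases hci : c i = 0
    · rw [hci, zero_smul, map_zero]; exact zero_lt_iff.mpr hv₀
    · rw [val_smul P hci]
      have hle := hmax i (Finset.mem_filter.mpr ⟨Finset.mem_univ i, hci⟩)
      exact lt_of_le_of_ne hle (fun heq => hii₀ (hinj heq))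
  have hval : P.1 (∑ i, c i • z i) = P.1 (z i₀) := by
    rw [hsplit, Valuation.map_add_eq_of_lt_left _ (by rw [val_smul P hc₀]; exact hrest),
      val_smul P hc₀]
  rw [h, map_zero] at hval
  exact hv₀ hval.symm

theorem linearIndependent_of_val_injective {ι : Type*} [Finite ι] (P : Place k K)
    (z : ι → K) (hz0 : ∀ i, z i ≠ 0) (hinj : Function.Injective (fun i => P.1 (z i))) :
    LinearIndependent k z := by
  haveI := Fintype.ofFinite ι
  rw [Fintype.linearIndependent_iff]
  exact eq_zero_of_sum_eq_zero_of_val_injective P z hz0 hinj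

theorem poleDiv_eq_single (hK : IsFunctionField k K) {x : K} {P : Place k K} {n : ℕ}
    (hx : x ∈ L (Finsupp.single P (n : ℤ) : Divisor k K)) (hord : P.ord x = -(n : ℤ)) :
    poleDiv (k := k) x = Finsupp.single P (n : ℤ) := by
  ext Q
  rw [poleDiv_apply hK]
  by_cases hQ : Q = P
  · subst hQ
    rw [hord, Finsupp.single_eq_same, neg_neg, Int.toNat_natCast]
  · rw [Finsupp.single_eq_of_ne hQ]
    have h1 := hx Q
    rw [Finsupp.single_eq_of_ne hQ, exp_zero] at h1
    rcases eq_or_ne x 0 with rfl | hx0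
    · rw [ord_zero]; rfl
    · have := (val_le_one_iff_ord_nonneg Q hx0).mp h1
      have h2 : (-Q.ord x).toNat = 0 := by omega
      rw [h2]; rfl

end Groth.Agent.Lib.Helper18.FF
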