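import Mathlib.FieldTheory.RatFunc.AsPolynomial
import Mathlib.RingTheory.AdjoinRoot
import Mathlib.Algebra.Polynomial.SpecificDegree
import Mathlib.FieldTheory.IntermediateField.Adjoin.Basic
import Mathlib.RingTheory.Algebraic.Basic
import Mathlib.RingTheory.RootsOfUnity.AlgebraicallyClosed
import Mathlib.RingTheory.RootsOfUnity.EnoughRootsOfUnity

/-! # Automorphisms `x ↦ u² x, y ↦ u³ y` of a Weierstrass function field -/

set_option autoImplicit false
set_option linter.style.haveILetI false

namespace Groth.Agent.Lib.Helper18.FF.EllAut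

open Polynomial

universe u v

variable {k : Type u} {K : Type v} [Field k] [Field K] [Algebra k K]

/-- The embedding `k(X) → K`, `X ↦ x`, for transcendental `x`. -/
noncomputable def ratHom {x : K} (hx : Transcendental k x) : RatFunc k →ₐ[k] K :=
  RatFunc.liftAlgHom (Polynomial.aeval x)
    (nonZeroDivisors_le_comap_nonZeroDivisors_of_injective _ (transcendental_iff_injective.mp hx))

theorem ratHom_algebraMap {x : K} (hx : Transcendental k x) (p : k[X]) :
    ratHom hx (algebraMap k[X] (RatFunc k) p) = Polynomial.aeval x p := by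
  unfold ratHom
  exact RatFunc.liftRingHom_algebraMap _ _ p

theorem ratHom_div {x : K} (hx : Transcendental k x) (p q : k[X]) :
    ratHom hx (algebraMap k[X] (RatFunc k) p / algebraMap k[X] (RatFunc k) q) =
      Polynomial.aeval x p / Polynomial.aeval x q := by
  rw [map_div₀, ratHom_algebraMap, ratHom_algebraMap]

/-- The cubic `X³ + aX + b`. -/
noncomputable def fpoly (a b : k) : k[X] := X ^ 3 + C a * X + C b

theorem aeval_fpoly (a b : k) (x : K) :
    Polynomial.aeval x (fpoly a b) = x ^ 3 + algebraMap k K a * x + algebraMap k K b := by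
  unfold fpoly
  simp

/-- The Weierstrass polynomial `Y² - (X³ + aX + b)` over `k(X)`. -/
noncomputable def gpoly (a b : k) : (RatFunc k)[X] :=
  X ^ 2 - C (algebraMap k[X] (RatFunc k) (fpoly a b))

theorem gpoly_monic (a b : k) : (gpoly a b).Monic := by
  unfold gpoly
  exact monic_X_pow_sub_C _ (by norm_num)

theorem gpoly_natDegree (a b : k) : (gpoly a b).natDegree = 2 := by
  unfold gpoly
  exact natDegree_X_pow_sub_C

theorem eval₂_gpoly (a b : k) {x : K} (hx : Transcendental k x) (y : K) :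
    (gpoly a b).eval₂ (ratHom hx : RatFunc k →+* K) y =
      y ^ 2 - (x ^ 3 + algebraMap k K a * x + algebraMap k K b) := by
  unfold gpoly
  rw [eval₂_sub, eval₂_pow, eval₂_X, eval₂_C]
  congr 1
  exact (ratHom_algebraMap hx _).trans (aeval_fpoly a b x)

theorem gpoly_irreducible (a b : k) {x y : K} (hx : Transcendental k x)
    (heq : y ^ 2 = x ^ 3 + algebraMap k K a * x + algebraMap k K b)
    (hy : y ∉ Set.range (ratHom hx)) : Irreducible (gpoly a b) := by
  apply irreducible_of_degree_le_three_of_not_isRoot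
  · rw [gpoly_natDegree]; decide
  · intro r hr
    have h1 : r ^ 2 = algebraMap k[X] (RatFunc k) (fpoly a b) := by
      have := hr
      unfold gpoly at this
      rw [IsRoot.def, eval_sub, eval_pow, eval_X, eval_C, sub_eq_zero] at this
      exact this
    have h2 : (ratHom hx r) ^ 2 = y ^ 2 := by
      rw [← map_pow, h1, ratHom_algebraMap, aeval_fpoly, heq]
    rcases sq_eq_sq_iff_eq_or_eq_neg.mp h2 with h | h
    · exact hy ⟨r, h⟩
    · exact hy ⟨-r, by rw [map_neg, h, neg_neg]⟩

section construction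

variable {a b : k} {x y : K} (hx : Transcendental k x)
  (heq : y ^ 2 = x ^ 3 + algebraMap k K a * x + algebraMap k K b)

/-- The comparison map `k(X)[Y]/(Y² - f) → K`. -/
noncomputable def toK : AdjoinRoot (gpoly a b) →ₐ[k] K :=
  AdjoinRoot.liftAlgHom (gpoly a b) (ratHom hx) y (by
    have := eval₂_gpoly a b hx y
    rw [heq, sub_self] at this
    exact this)

theorem toK_root : toK hx heq (AdjoinRoot.root (gpoly a b)) = y := by
  unfold toK
  exact AdjoinRoot.liftAlgHom_root _ _ _ _

theorem toK_of (r : RatFunc k) : toK hx heq (AdjoinRoot.of (gpoly a b) r) = ratHom hx r := by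
  unfold toK
  exact AdjoinRoot.liftAlgHom_of _ _ _ _ r

theorem toK_X : toK hx heq (AdjoinRoot.of (gpoly a b) RatFunc.X) = x := by
  rw [toK_of, ← RatFunc.algebraMap_X, ratHom_algebraMap, aeval_X]

theorem toK_bijective (hy : y ∉ Set.range (ratHom hx))
    (hxy : IntermediateField.adjoin k ({x, y} : Set K) = ⊤) :
    Function.Bijective (toK hx heq) := by
  haveI : Fact (Irreducible (gpoly a b)) := ⟨gpoly_irreducible a b hx heq hy⟩
  refine ⟨(toK hx heq).toRingHom.injective, ?_⟩
  rw [← AlgHom.fieldRange_eq_top, eq_top_iff, ← hxy, IntermediateField.adjoin_le_iff]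
  rintro z (rfl | rfl)
  · exact ⟨_, toK_X hx heq⟩
  · exact ⟨_, toK_root hx heq⟩

end construction

theorem algHom_ext_of_adjoin_eq_top {s : Set K} (hs : IntermediateField.adjoin k s = ⊤)
    {L : Type*} [Field L] [Algebra k L] {φ ψ : K →ₐ[k] L} (h : ∀ z ∈ s, φ z = ψ z) : φ = ψ := by
  ext z
  have hz : z ∈ IntermediateField.adjoin k s := hs ▸ IntermediateField.mem_top
  induction hz using IntermediateField.adjoin_induction with
  | mem z hz => exact h z hz
  | algebraMap c => rw [φ.commutes, ψ.commutes]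
  | add z w _ _ hz hw => rw [map_add, map_add, hz, hw]
  | inv z _ hz => rw [map_inv₀, map_inv₀, hz]
  | mul z w _ _ hz hw => rw [map_mul, map_mul, hz, hw]

theorem transcendental_const_mul {x : K} (hx : Transcendental k x) {c : k} (hc : c ≠ 0) :
    Transcendental k (algebraMap k K c * x) := by
  intro h
  apply hx
  have h1 : IsAlgebraic k (algebraMap k K c⁻¹ * (algebraMap k K c * x)) :=
    (isAlgebraic_algebraMap _).mul h
  rwa [← mul_assoc, ← map_mul, inv_mul_cancel₀ hc, map_one, one_mul] at h1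

section sigma

variable {a b : k} {x y : K} (hx : Transcendental k x)
  (heq : y ^ 2 = x ^ 3 + algebraMap k K a * x + algebraMap k K b)
  (hy : y ∉ Set.range (ratHom hx))
  (hxy : IntermediateField.adjoin k ({x, y} : Set K) = ⊤)

/-- The parameters `u` of the automorphisms. -/
def IsParam (a b u : k) : Prop := a * u ^ 4 = a ∧ b * u ^ 6 = b

theorem IsParam.ne_zero {u : k} (hu : IsParam a b u) (hab : ¬ (a = 0 ∧ b = 0)) : u ≠ 0 := by
  rintro rfl
  apply hab
  obtain ⟨h1, h2⟩ := hu
  constructor
  · rw [← h1]; simp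
  · rw [← h2]; simp

theorem IsParam.inv {u : k} (hu : IsParam a b u) (hu0 : u ≠ 0) : IsParam a b u⁻¹ := by
  obtain ⟨h1, h2⟩ := hu
  constructor
  · field_simp
    exact h1.symm
  · field_simp
    exact h2.symm

/-- The twisted map `k(X)[Y]/(Y² - f) → K`, `X ↦ u²x`, `Y ↦ u³y`. -/
noncomputable def twist {u : k} (hu : IsParam a b u) (hu0 : u ≠ 0) :
    AdjoinRoot (gpoly a b) →ₐ[k] K :=
  AdjoinRoot.liftAlgHom (gpoly a b) (ratHom (transcendental_const_mul hx (pow_ne_zero 2 hu0)))
    (algebraMap k K (u ^ 3) * y) (by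
      have h0 := eval₂_gpoly a b (transcendental_const_mul hx (pow_ne_zero 2 hu0))
        (algebraMap k K (u ^ 3) * y)
      have hA : algebraMap k K a * algebraMap k K u ^ 4 = algebraMap k K a := by
        rw [← map_pow, ← map_mul, hu.1]
      have hB : algebraMap k K b * algebraMap k K u ^ 6 = algebraMap k K b := by
        rw [← map_pow, ← map_mul, hu.2]
      refine h0.trans ?_
      simp only [map_pow]
      linear_combination (algebraMap k K u) ^ 6 * heq + ((algebraMap k K u) ^ 2 * x) * hA + hB)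

theorem twist_root {u : k} (hu : IsParam a b u) (hu0 : u ≠ 0) :
    twist hx heq hu hu0 (AdjoinRoot.root (gpoly a b)) = algebraMap k K (u ^ 3) * y := by
  unfold twist
  exact AdjoinRoot.liftAlgHom_root _ _ _ _

theorem twist_X {u : k} (hu : IsParam a b u) (hu0 : u ≠ 0) :
    twist hx heq hu hu0 (AdjoinRoot.of (gpoly a b) RatFunc.X) = algebraMap k K (u ^ 2) * x := by
  unfold twist
  rw [AdjoinRoot.liftAlgHom_of, ← RatFunc.algebraMap_X, ratHom_algebraMap, aeval_X]

/-- The endomorphism `x ↦ u²x`, `y ↦ u³y`. -/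
noncomputable def sigmaHom {u : k} (hu : IsParam a b u) (hu0 : u ≠ 0) : K →ₐ[k] K :=
  (twist hx heq hu hu0).comp
    (AlgEquiv.ofBijective (toK hx heq) (toK_bijective hx heq hy hxy)).symm.toAlgHom

theorem sigmaHom_x {u : k} (hu : IsParam a b u) (hu0 : u ≠ 0) :
    sigmaHom hx heq hy hxy hu hu0 x = algebraMap k K (u ^ 2) * x := by
  unfold sigmaHom
  have h1 : (AlgEquiv.ofBijective (toK hx heq) (toK_bijective hx heq hy hxy)).symm x =
      AdjoinRoot.of (gpoly a b) RatFunc.X := by
    rw [AlgEquiv.symm_apply_eq]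
    exact (toK_X hx heq).symm
  rw [AlgHom.comp_apply]
  erw [h1]
  exact twist_X hx heq hu hu0

theorem sigmaHom_y {u : k} (hu : IsParam a b u) (hu0 : u ≠ 0) :
    sigmaHom hx heq hy hxy hu hu0 y = algebraMap k K (u ^ 3) * y := by
  unfold sigmaHom
  have h1 : (AlgEquiv.ofBijective (toK hx heq) (toK_bijective hx heq hy hxy)).symm y =
      AdjoinRoot.root (gpoly a b) := by
    rw [AlgEquiv.symm_apply_eq]
    exact (toK_root hx heq).symm
  rw [AlgHom.comp_apply]
  erw [h1]
  exact twist_root hx heq hu hu0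

theorem sigmaHom_comp_inv {u : k} (hu : IsParam a b u) (hu0 : u ≠ 0) :
    (sigmaHom hx heq hy hxy hu hu0).comp
      (sigmaHom hx heq hy hxy (hu.inv hu0) (inv_ne_zero hu0)) = AlgHom.id k K := by
  apply algHom_ext_of_adjoin_eq_top hxy
  rintro z (rfl | rfl)
  · rw [AlgHom.comp_apply, sigmaHom_x, map_mul, AlgHom.commutes, sigmaHom_x, ← mul_assoc,
      ← map_mul, AlgHom.id_apply]
    rw [inv_pow, inv_mul_cancel₀ (pow_ne_zero 2 hu0), map_one, one_mul]
  · rw [AlgHom.comp_apply, sigmaHom_y, map_mul, AlgHom.commutes, sigmaHom_y, ← mul_assoc,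
      ← map_mul, AlgHom.id_apply]
    rw [inv_pow, inv_mul_cancel₀ (pow_ne_zero 3 hu0), map_one, one_mul]

/-- The automorphism `x ↦ u²x`, `y ↦ u³y`. -/
noncomputable def sigma {u : k} (hu : IsParam a b u) (hu0 : u ≠ 0) : K ≃ₐ[k] K :=
  AlgEquiv.ofAlgHom (sigmaHom hx heq hy hxy hu hu0)
    (sigmaHom hx heq hy hxy (hu.inv hu0) (inv_ne_zero hu0))
    (sigmaHom_comp_inv hx heq hy hxy hu hu0)
    (by
      have := sigmaHom_comp_inv hx heq hy hxy (hu.inv hu0) (inv_ne_zero hu0)
      simp only [inv_inv] at this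
      exact this)

theorem sigma_x {u : k} (hu : IsParam a b u) (hu0 : u ≠ 0) :
    sigma hx heq hy hxy hu hu0 x = algebraMap k K (u ^ 2) * x :=
  sigmaHom_x hx heq hy hxy hu hu0

theorem sigma_y {u : k} (hu : IsParam a b u) (hu0 : u ≠ 0) :
    sigma hx heq hy hxy hu hu0 y = algebraMap k K (u ^ 3) * y :=
  sigmaHom_y hx heq hy hxy hu hu0

end sigma

end Groth.Agent.Lib.Helper18.FF.EllAut
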