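import Groth.Agent.Lib.Helper18.FF.Flag
import Groth.Agent.Lib.Helper18.FF.Weierstrass

/-! # Places of a rational function field over an algebraically closed field -/

set_option autoImplicit false
set_option linter.style.haveILetI false

namespace Groth.Agent.Lib.Helper18.FF

open FunFld WithZero Polynomial

universe u v

variable {k : Type u} {K : Type v} [Field k] [Field K] [Algebra k K]

/-- In genus zero every rational place is the only pole, simple, of some function. -/
theorem exists_simple_pole_at (hK : IsFunctionField k K) (hg : genus k K = 0) {P : Place k K}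
    (hP : P.deg = 1) : ∃ x : K, P.ord x = -1 ∧ ∀ Q : Place k K, Q ≠ P → 0 ≤ Q.ord x := by
  have h1 := ell_eq_of_deg_ge hK (Finsupp.single P 1 : Divisor k K) (by
    rw [hg, deg_single, hP]; norm_num)
  rw [deg_single, hP, hg] at h1
  have h2 : ell (Finsupp.single P 1 : Divisor k K) = 2 := by
    have : (ell (Finsupp.single P 1 : Divisor k K) : ℤ) = 2 := by rw [h1]; norm_num
    exact_mod_cast this
  obtain ⟨x, hxL, hxk⟩ : ∃ x ∈ L (Finsupp.single P 1 : Divisor k K),
      x ∉ Set.range (algebraMap k K) := by
    by_contra hcon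
    push Not at hcon
    have hle : L (Finsupp.single P 1 : Divisor k K) ≤ L (0 : Divisor k K) := by
      intro x hx
      rw [L_zero_eq_one hK, Submodule.mem_one]
      exact hcon x hx
    haveI := finiteDimensional_L_zero hK
    have := Submodule.finrank_mono hle
    have h0 := ell_zero hK (k := k) (K := K)
    unfold ell at h2 h0
    omega
  have hx0 : x ≠ 0 := by rintro rfl; exact hxk ⟨0, map_zero _⟩
  obtain ⟨Q, hQ⟩ := exists_pole hK hxk
  have hQP : Q = P := by
    by_contra hne
    have := hxL Q
    rw [Finsupp.single_eq_of_ne hne, exp_zero] at this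
    exact absurd hQ (not_lt.mpr this)
  subst hQP
  refine ⟨x, ?_, ?_⟩
  · have h3 := (one_lt_val_iff_ord_neg Q hx0).mp hQ
    have h4 := (val_le_exp_iff Q hx0 _).mp (hxL Q)
    rw [Finsupp.single_eq_same] at h4
    omega
  · intro R hR
    have := hxL R
    rw [Finsupp.single_eq_of_ne hR, exp_zero] at this
    exact (val_le_one_iff_ord_nonneg R hx0).mp this

section coordinate

variable {Pinf : Place k K} {x : K}

/-- A coordinate: a function with a simple pole at `Pinf` and no other pole. -/
structure IsCoord (Pinf : Place k K) (x : K) : Prop where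
  ord_inf : Pinf.ord x = -1
  ord_nonneg : ∀ Q : Place k K, Q ≠ Pinf → 0 ≤ Q.ord x

theorem IsCoord_ne_zero (hx : IsCoord Pinf x) : x ≠ 0 := by
  rintro rfl
  have := hx.ord_inf
  rw [ord_zero] at this; omega

theorem IsCoord_val_inf (hx : IsCoord Pinf x) : Pinf.1 x = exp (1 : ℤ) := by
  rw [val_eq_exp_neg_ord Pinf (IsCoord_ne_zero hx), hx.ord_inf]; rfl

theorem IsCoord_val_le_one (hx : IsCoord Pinf x) {Q : Place k K} (hQ : Q ≠ Pinf) : Q.1 x ≤ 1 :=
  (val_le_one_iff_ord_nonneg Q (IsCoord_ne_zero hx)).mpr (hx.ord_nonneg Q hQ)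

theorem IsCoord_transcendental (hK : IsFunctionField k K) (hx : IsCoord Pinf x) :
    Transcendental k x := by
  apply transcendental_of_val_ne_one hK Pinf (IsCoord_ne_zero hx)
  rw [IsCoord_val_inf hx]
  intro h
  rw [← exp_zero, exp_inj] at h
  omega

/-- Translating a coordinate by a constant gives a coordinate. -/
theorem IsCoord_sub (hx : IsCoord Pinf x) (a : k) : IsCoord Pinf (x - algebraMap k K a) := by
  have hlt : Pinf.1 (algebraMap k K a) < Pinf.1 x := by
    rw [IsCoord_val_inf hx]
    refine (val_algebraMap_le Pinf a).trans_lt ?_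
    rw [← exp_zero, exp_lt_exp]; norm_num
  have hval : Pinf.1 (x - algebraMap k K a) = exp (1 : ℤ) := by
    rw [Valuation.map_sub_eq_of_lt_left _ hlt, IsCoord_val_inf hx]
  constructor
  · rw [ord_eq_of_val_eq_exp Pinf hval]
  · intro Q hQ
    have h1 : Q.1 (x - algebraMap k K a) ≤ 1 :=
      (Valuation.map_sub _ _ _).trans (max_le (IsCoord_val_le_one hx hQ) (val_algebraMap_le Q a))
    rcases eq_or_ne (x - algebraMap k K a) 0 with h0 | h0
    · rw [h0, ord_zero]
    · exact (val_le_one_iff_ord_nonneg Q h0).mp h1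

/-- Values of polynomials in the coordinate are integral away from `Pinf`. -/
theorem val_aeval_le_one (hx : IsCoord Pinf x) {Q : Place k K} (hQ : Q ≠ Pinf) (f : k[X]) :
    Q.1 (aeval x f) ≤ 1 := by
  induction f using Polynomial.induction_on' with
  | add p q hp hq =>
    rw [map_add]
    exact (Q.1.map_add _ _).trans (max_le hp hq)
  | monomial n a =>
    rw [aeval_monomial, map_mul, map_pow]
    exact mul_le_one' (val_algebraMap_le Q a) (pow_le_one' (IsCoord_val_le_one hx hQ) n)

/-- A coordinate has a unique zero, and it is simple. -/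
theorem IsCoord_zero_unique (hK : IsFunctionField k K) (hPinf : Pinf.deg = 1) (hx : IsCoord Pinf x)
    {P : Place k K} (hP : P.1 x < 1) :
    P.1 x = exp (-1 : ℤ) ∧ ∀ Q : Place k K, Q.1 x < 1 → Q = P := by
  have hx0 := IsCoord_ne_zero hx
  have htr := IsCoord_transcendental hK hx
  have hpole : poleDiv (k := k) x = Finsupp.single Pinf ((1 : ℕ) : ℤ) := by
    apply poleDiv_eq_single hK (n := 1)
    · rw [mem_L_single_iff]
      refine ⟨?_, fun Q hQ => IsCoord_val_le_one hx hQ⟩
      rw [IsCoord_val_inf hx]; norm_num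
    · rw [hx.ord_inf]; norm_num
  have hdeg : (zeroDiv (k := k) x).deg = 1 := by
    rw [deg_zeroDiv_eq hK htr, ← deg_poleDiv_eq hK htr, hpole, deg_single, hPinf]; norm_num
  obtain ⟨P', hP'E, -⟩ := exists_single_of_nonneg_of_deg_eq_one hK (zeroDiv_nonneg x) hdeg
  have hzero : ∀ Q : Place k K, Q.1 x < 1 → Q = P' := by
    intro Q hQ
    by_contra hne
    have h1 := congrArg (fun D : Divisor k K => D Q) hP'E
    simp only [zeroDiv_apply hK, Finsupp.single_eq_of_ne hne] at h1
    have h2 := (val_lt_one_iff_ord_pos Q hx0).mp hQ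
    omega
  have hPP' := hzero P hP
  subst hPP'
  refine ⟨?_, hzero⟩
  have h1 := congrArg (fun D : Divisor k K => D P) hP'E
  simp only [zeroDiv_apply hK, Finsupp.single_eq_same] at h1
  have h2 := (val_lt_one_iff_ord_pos P hx0).mp hP
  rw [val_eq_exp_neg_ord P hx0]
  congr 1
  omega

/-- The valuation at infinity of a polynomial in the coordinate. -/
theorem val_inf_aeval (hx : IsCoord Pinf x) {f : k[X]} (hf : f ≠ 0) :
    Pinf.1 (aeval x f) = exp (f.natDegree : ℤ) := by
  have hxv := IsCoord_val_inf hx
  have hmono : ∀ (n : ℕ) (a : k), a ≠ 0 → Pinf.1 (aeval x (monomial n a)) = exp (n : ℤ) := by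
    intro n a ha
    rw [aeval_monomial, map_mul, map_pow, val_algebraMap Pinf ha, one_mul, hxv, ← exp_nsmul]
    simp
  have hsplit : aeval x f = aeval x f.eraseLead + aeval x (monomial f.natDegree f.leadingCoeff) := by
    rw [← map_add, Polynomial.eraseLead_add_monomial_natDegree_leadingCoeff f]
  have hlc : f.leadingCoeff ≠ 0 := leadingCoeff_ne_zero.mpr hf
  have h2 : Pinf.1 (aeval x f.eraseLead) < exp (f.natDegree : ℤ) := by
    rw [aeval_eq_sum_range]
    apply Valuation.map_sum_lt _ exp_ne_zero
    intro i hi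
    rw [Algebra.smul_def, map_mul, map_pow, hxv]
    by_cases hc : f.eraseLead.coeff i = 0
    · rw [hc, map_zero, map_zero, zero_mul]; exact exp_pos
    · rw [val_algebraMap Pinf hc, one_mul, ← exp_nsmul, exp_lt_exp]
      have h3 : i ≤ f.eraseLead.natDegree := le_natDegree_of_ne_zero hc
      have h0 : f.eraseLead ≠ 0 := by
        intro h0; rw [h0] at hc; simp at hc
      have h4 : f.eraseLead.natDegree < f.natDegree := by
        have := Polynomial.eraseLead_natDegree_lt_or_eraseLead_eq_zero f
        tauto
      simp; omega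
  rw [hsplit, Valuation.map_add_eq_of_lt_right _ (by rw [hmono _ _ hlc]; exact h2), hmono _ _ hlc]

end coordinate

end Groth.Agent.Lib.Helper18.FF
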