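import Groth.Agent.Lib.Helper18.FF.EllAut1
import Groth.Agent.Lib.Helper18.FF.Aut
import Groth.Agent.Lib.Helper18.FF.RatPlaces
import Groth.Agent.Lib.Helper18.FF.DistinctOrders
import Groth.Agent.Lib.Helper18.FF.Weights

/-! # Places and the Weierstrass coordinates of a genus one function field -/

set_option autoImplicit false
set_option linter.style.haveILetI false

namespace Groth.Agent.Lib.Helper18.FF.EllAut

open FunFld WithZero Polynomial Groth.Agent.Lib.Helper18.FF

universe u v

variable {k : Type u} {K : Type v} [Field k] [Field K] [Algebra k K]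

/-- The valuation of a polynomial in a function with a pole. -/
theorem val_aeval_of_pole (P : Place k K) {x : K} {m : ℤ} (hm : 0 < m) (hxv : P.1 x = exp m)
    {f : k[X]} (hf : f ≠ 0) : P.1 (aeval x f) = exp (m * (f.natDegree : ℤ)) := by
  have hmono : ∀ (n : ℕ) (a : k), a ≠ 0 →
      P.1 (aeval x (monomial n a)) = exp (m * (n : ℤ)) := by
    intro n a ha
    rw [aeval_monomial, map_mul, map_pow, val_algebraMap P ha, one_mul, hxv, ← exp_nsmul]
    congr 1
    simp [mul_comm]
  have hsplit : aeval x f = aeval x f.eraseLead + aeval x (monomial f.natDegree f.leadingCoeff) := by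
    rw [← map_add, Polynomial.eraseLead_add_monomial_natDegree_leadingCoeff f]
  have hlc : f.leadingCoeff ≠ 0 := leadingCoeff_ne_zero.mpr hf
  have h2 : P.1 (aeval x f.eraseLead) < exp (m * (f.natDegree : ℤ)) := by
    rw [aeval_eq_sum_range]
    apply Valuation.map_sum_lt _ exp_ne_zero
    intro i hi
    rw [Algebra.smul_def, map_mul, map_pow, hxv]
    by_cases hc : f.eraseLead.coeff i = 0
    · rw [hc, map_zero, map_zero, zero_mul]; exact exp_pos
    · rw [val_algebraMap P hc, one_mul, ← exp_nsmul, exp_lt_exp]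
      have h3 : i ≤ f.eraseLead.natDegree := le_natDegree_of_ne_zero hc
      have h0 : f.eraseLead ≠ 0 := by
        intro h0; rw [h0] at hc; simp at hc
      have h4 : f.eraseLead.natDegree < f.natDegree := by
        have := Polynomial.eraseLead_natDegree_lt_or_eraseLead_eq_zero f
        tauto
      have h5 : (i : ℤ) < (f.natDegree : ℤ) := by exact_mod_cast lt_of_le_of_lt h3 h4
      simp only [nsmul_eq_mul]
      rw [mul_comm]
      exact mul_lt_mul_of_pos_left h5 hm
  rw [hsplit, Valuation.map_add_eq_of_lt_right _ (by rw [hmono _ _ hlc]; exact h2), hmono _ _ hlc]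

/-- An element with a pole of odd order where `x` has a double pole is not a rational function
of `x`. -/
theorem not_mem_range_ratHom (P : Place k K) {x y : K} (hx : Transcendental k x)
    (hxv : P.1 x = exp (2 : ℤ)) (hyv : P.1 y = exp (3 : ℤ)) :
    y ∉ Set.range (ratHom hx) := by
  rintro ⟨r, hr⟩
  have h1 : ratHom hx r = aeval x r.num / aeval x r.denom := by
    conv_lhs => rw [← RatFunc.num_div_denom r]
    exact ratHom_div hx _ _
  have hd0 : aeval x r.denom ≠ 0 := by
    intro h0
    exact RatFunc.denom_ne_zero r ((transcendental_iff_injective.mp hx)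
      (h0.trans (map_zero _).symm))
  have hn0 : r.num ≠ 0 := by
    intro h0
    rw [h1, h0, map_zero, zero_div] at hr
    rw [← hr, map_zero] at hyv
    exact exp_ne_zero hyv.symm
  have h2 : y * aeval x r.denom = aeval x r.num := by
    rw [← hr, h1, div_mul_cancel₀ _ hd0]
  have h3 := congrArg P.1 h2
  rw [map_mul, hyv, val_aeval_of_pole P (by norm_num) hxv (RatFunc.denom_ne_zero r),
    val_aeval_of_pole P (by norm_num) hxv hn0, ← exp_add, exp_inj] at h3
  omega

section main

variable [IsAlgClosed k] (hK : IsFunctionField k K) (hgen : genus k K = 1) (P : Place k K)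

include hK hgen in
theorem ell_single (n : ℕ) (hn : 1 ≤ n) :
    ell (Finsupp.single P (n : ℤ) : Divisor k K) = n := by
  have h1 := ell_eq_of_deg_ge hK (Finsupp.single P (n : ℤ) : Divisor k K) (by
    rw [hgen, deg_single, deg_eq_one_of_isAlgClosed hK P]; push_cast; omega)
  rw [deg_single, deg_eq_one_of_isAlgClosed hK P, hgen] at h1
  have : (ell (Finsupp.single P (n : ℤ) : Divisor k K) : ℤ) = n := by rw [h1]; push_cast; ring
  exact_mod_cast this

variable {x y : K}

theorem val_of_ord {z : K} {n : ℤ} (hn : n ≠ 0) (h : P.ord z = n) : P.1 z = exp (-n) := by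
  have hz : z ≠ 0 := by
    rintro rfl
    rw [ord_zero] at h
    exact hn h.symm
  rw [val_eq_exp_neg_ord P hz, h]

include hK hgen in
theorem mem_L_two (hxL : x ∈ L (Finsupp.single P 2 : Divisor k K)) (hx2 : P.ord x = -2)
    {z : K} (hz : z ∈ L (Finsupp.single P 2 : Divisor k K)) :
    ∃ c₀ c₁ : k, z = algebraMap k K c₀ + algebraMap k K c₁ * x := by
  classical
  have hxv : P.1 x = exp (2 : ℤ) := by
    have := val_of_ord P (by norm_num) hx2
    simpa using this
  haveI := finiteDimensional_L hK (Finsupp.single P 2 : Divisor k K)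
  have hli : LinearIndependent k ![(1 : K), x] := by
    apply linearIndependent_of_val_injective P
    · intro i
      fin_cases i
      · exact one_ne_zero
      · intro h0
        rw [show (![(1 : K), x] : Fin 2 → K) ⟨1, by omega⟩ = x from rfl] at h0
        rw [h0, map_zero] at hxv
        exact exp_ne_zero hxv.symm
    · intro i j hij
      fin_cases i <;> fin_cases j <;> simp_all [← exp_zero]
  have hle : Submodule.span k (Set.range ![(1 : K), x]) ≤
      L (Finsupp.single P 2 : Divisor k K) := by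
    rw [Submodule.span_le]
    rintro _ ⟨i, rfl⟩
    fin_cases i
    · show (1 : K) ∈ L (Finsupp.single P 2 : Divisor k K)
      rw [mem_L_single_iff]
      refine ⟨?_, fun Q _ => by rw [map_one]⟩
      rw [map_one, ← exp_zero, exp_le_exp]
      norm_num
    · exact hxL
  have hfr : Module.finrank k (Submodule.span k (Set.range ![(1 : K), x])) = 2 := by
    rw [finrank_span_eq_card hli]; simp
  have h2 : ell (Finsupp.single P ((2 : ℕ) : ℤ) : Divisor k K) = 2 := ell_single hK hgen P 2 (by omega)
  have heq := Submodule.eq_of_le_of_finrank_eq hle (by rw [hfr]; exact h2.symm)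
  have hz' : z ∈ Submodule.span k (Set.range ![(1 : K), x]) := by rw [heq]; exact hz
  rw [Matrix.range_cons, Matrix.range_cons, Matrix.range_empty, Set.union_empty,
    Set.singleton_union, Submodule.mem_span_pair] at hz'
  obtain ⟨c₀, c₁, rfl⟩ := hz'
  exact ⟨c₀, c₁, by rw [Algebra.smul_def, Algebra.smul_def, mul_one]⟩

include hK hgen in
theorem mem_L_three (hxL : x ∈ L (Finsupp.single P 2 : Divisor k K)) (hx2 : P.ord x = -2)
    (hyL : y ∈ L (Finsupp.single P 3 : Divisor k K)) (hy3 : P.ord y = -3)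
    {z : K} (hz : z ∈ L (Finsupp.single P 3 : Divisor k K)) :
    ∃ c₀ c₁ c₂ : k, z = algebraMap k K c₀ + algebraMap k K c₁ * x + algebraMap k K c₂ * y := by
  classical
  have hxv : P.1 x = exp (2 : ℤ) := by
    have := val_of_ord P (by norm_num) hx2
    simpa using this
  have hyv : P.1 y = exp (3 : ℤ) := by
    have := val_of_ord P (by norm_num) hy3
    simpa using this
  haveI := finiteDimensional_L hK (Finsupp.single P 3 : Divisor k K)
  have hli : LinearIndependent k ![(1 : K), x, y] := by
    apply linearIndependent_of_val_injective P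
    · intro i
      fin_cases i
      · exact one_ne_zero
      · intro h0
        rw [show (![(1 : K), x, y] : Fin 3 → K) ⟨1, by omega⟩ = x from rfl] at h0
        rw [h0, map_zero] at hxv
        exact exp_ne_zero hxv.symm
      · intro h0
        rw [show (![(1 : K), x, y] : Fin 3 → K) ⟨2, by omega⟩ = y from rfl] at h0
        rw [h0, map_zero] at hyv
        exact exp_ne_zero hyv.symm
    · intro i j hij
      fin_cases i <;> fin_cases j <;> simp_all [← exp_zero]
  have h23 : L (Finsupp.single P 2 : Divisor k K) ≤ L (Finsupp.single P 3 : Divisor k K) :=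
    L_mono (by
      intro Q
      by_cases hQ : Q = P
      · subst hQ; simp
      · rw [Finsupp.single_eq_of_ne hQ, Finsupp.single_eq_of_ne hQ])
  have hle : Submodule.span k (Set.range ![(1 : K), x, y]) ≤
      L (Finsupp.single P 3 : Divisor k K) := by
    rw [Submodule.span_le]
    rintro _ ⟨i, rfl⟩
    fin_cases i
    · show (1 : K) ∈ L (Finsupp.single P 3 : Divisor k K)
      rw [mem_L_single_iff]
      refine ⟨?_, fun Q _ => by rw [map_one]⟩
      rw [map_one, ← exp_zero, exp_le_exp]
      norm_num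
    · exact h23 hxL
    · exact hyL
  have hfr : Module.finrank k (Submodule.span k (Set.range ![(1 : K), x, y])) = 3 := by
    rw [finrank_span_eq_card hli]; simp
  have h2 : ell (Finsupp.single P ((3 : ℕ) : ℤ) : Divisor k K) = 3 := ell_single hK hgen P 3 (by omega)
  have heq := Submodule.eq_of_le_of_finrank_eq hle (by rw [hfr]; exact h2.symm)
  have hz' : z ∈ Submodule.span k (Set.range ![(1 : K), x, y]) := by rw [heq]; exact hz
  rw [Matrix.range_cons, Matrix.range_cons, Matrix.range_cons, Matrix.range_empty, Set.union_empty,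
    Set.singleton_union, Set.singleton_union, Submodule.mem_span_triple] at hz'
  obtain ⟨c₀, c₁, c₂, rfl⟩ := hz'
  exact ⟨c₀, c₁, c₂, by rw [Algebra.smul_def, Algebra.smul_def, Algebra.smul_def, mul_one]⟩

theorem comapPlace_eq_self (σ : K ≃ₐ[k] K) (hσ : ∀ z, P.1 (σ z) = P.1 z) : comapPlace σ P = P :=
  Subtype.ext (Valuation.ext fun w => hσ w)

theorem map_mem_L_single (σ : K ≃ₐ[k] K) (hσ : ∀ z, P.1 (σ z) = P.1 z) {n : ℤ} {z : K}
    (hz : z ∈ L (Finsupp.single P n : Divisor k K)) :
    σ z ∈ L (Finsupp.single P n : Divisor k K) := by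
  rw [mem_L_single_iff] at hz ⊢
  refine ⟨by rw [hσ]; exact hz.1, fun Q hQ => ?_⟩
  have hP := comapPlace_eq_self P σ hσ
  have hne : comapPlace σ Q ≠ P := by
    intro h
    apply hQ
    calc Q = comapPlace σ.symm (comapPlace σ Q) := (comapPlace_symm_comapPlace σ Q).symm
      _ = comapPlace σ.symm P := by rw [h]
      _ = comapPlace σ.symm (comapPlace σ P) := by rw [hP]
      _ = P := comapPlace_symm_comapPlace σ P
  have := hz.2 _ hne
  rwa [comapPlace_apply] at this

/-- Comparing coefficients in the transformed Weierstrass equation. -/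
theorem coeffs_of_aut {a b : k}
    (heq : y ^ 2 = x ^ 3 + algebraMap k K a * x + algebraMap k K b)
    (hxv : P.1 x = exp (2 : ℤ)) (hyv : P.1 y = exp (3 : ℤ))
    (σ : K ≃ₐ[k] K) (c₀ c₁ d₀ d₁ d₂ : k)
    (hσx : σ x = algebraMap k K c₀ + algebraMap k K c₁ * x)
    (hσy : σ y = algebraMap k K d₀ + algebraMap k K d₁ * x + algebraMap k K d₂ * y) :
    d₀ ^ 2 + d₂ ^ 2 * b - c₀ ^ 3 - a * c₀ - b = 0 ∧
      2 * d₀ * d₁ + d₂ ^ 2 * a - 3 * c₀ ^ 2 * c₁ - a * c₁ = 0 ∧
      2 * d₀ * d₂ = 0 ∧ d₁ ^ 2 - 3 * c₀ * c₁ ^ 2 = 0 ∧ 2 * d₁ * d₂ = 0 ∧ d₂ ^ 2 - c₁ ^ 3 = 0 := by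
  classical
  have hx0 : x ≠ 0 := by
    rintro rfl
    rw [map_zero] at hxv
    exact exp_ne_zero hxv.symm
  have hy0 : y ≠ 0 := by
    rintro rfl
    rw [map_zero] at hyv
    exact exp_ne_zero hyv.symm
  have hσeq : (σ y) ^ 2 = (σ x) ^ 3 + algebraMap k K a * σ x + algebraMap k K b := by
    have := congrArg σ heq
    rwa [map_pow, map_add, map_add, map_pow, map_mul, AlgEquiv.commutes, AlgEquiv.commutes] at this
  set z : Fin 6 → K := ![1, x, y, x ^ 2, x * y, x ^ 3] with hz
  set e : Fin 6 → ℤ := ![0, 2, 3, 4, 5, 6] with he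
  set c : Fin 6 → k := ![d₀ ^ 2 + d₂ ^ 2 * b - c₀ ^ 3 - a * c₀ - b,
    2 * d₀ * d₁ + d₂ ^ 2 * a - 3 * c₀ ^ 2 * c₁ - a * c₁, 2 * d₀ * d₂, d₁ ^ 2 - 3 * c₀ * c₁ ^ 2,
    2 * d₁ * d₂, d₂ ^ 2 - c₁ ^ 3] with hc
  have hval : ∀ i, P.1 (z i) = exp (e i) := by
    intro i
    fin_cases i
    · show P.1 (1 : K) = exp (0 : ℤ)
      rw [map_one, exp_zero]
    · exact hxv
    · exact hyv
    · show P.1 (x ^ 2) = exp (4 : ℤ)
      rw [map_pow, hxv, ← exp_nsmul]; norm_num
    · show P.1 (x * y) = exp (5 : ℤ)
      rw [map_mul, hxv, hyv, ← exp_add]; norm_num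
    · show P.1 (x ^ 3) = exp (6 : ℤ)
      rw [map_pow, hxv, ← exp_nsmul]; norm_num
  have hz0 : ∀ i, z i ≠ 0 := by
    intro i h0
    have := hval i
    rw [h0, map_zero] at this
    exact exp_ne_zero this.symm
  have heinj : Function.Injective e := by
    intro i j hij
    fin_cases i <;> fin_cases j <;> simp_all [he]
  have hinj : Function.Injective (fun i => P.1 (z i)) := by
    intro i j hij
    simp only [hval, exp_inj] at hij
    exact heinj hij
  have hsum : ∑ i, c i • z i = 0 := by
    rw [Fin.sum_univ_six]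
    simp only [hz, hc, Algebra.smul_def]
    show algebraMap k K (d₀ ^ 2 + d₂ ^ 2 * b - c₀ ^ 3 - a * c₀ - b) * 1 +
      algebraMap k K (2 * d₀ * d₁ + d₂ ^ 2 * a - 3 * c₀ ^ 2 * c₁ - a * c₁) * x +
      algebraMap k K (2 * d₀ * d₂) * y + algebraMap k K (d₁ ^ 2 - 3 * c₀ * c₁ ^ 2) * x ^ 2 +
      algebraMap k K (2 * d₁ * d₂) * (x * y) + algebraMap k K (d₂ ^ 2 - c₁ ^ 3) * x ^ 3 = 0
    rw [hσx, hσy] at hσeq
    simp only [map_add, map_sub, map_mul, map_pow, map_ofNat]
    linear_combination hσeq - (algebraMap k K d₂) ^ 2 * heq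
  have hall := eq_zero_of_sum_eq_zero_of_val_injective P z hz0 hinj c hsum
  exact ⟨hall 0, hall 1, hall 2, hall 3, hall 4, hall 5⟩

end main

end Groth.Agent.Lib.Helper18.FF.EllAut
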