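import Groth.Agent.Lib.Helper18.FF.EllAut2

/-! # The automorphism group of a pointed genus one function field in Weierstrass form -/

set_option autoImplicit false
set_option linter.style.haveILetI false

namespace Groth.Agent.Lib.Helper18.FF.EllAut

open FunFld WithZero Polynomial Groth.Agent.Lib.Helper18.FF

universe u v

variable {k : Type u} {K : Type v} [Field k] [Field K] [Algebra k K]

/-- The number of `n`-th roots of unity in an algebraically closed field in which `n ≠ 0`. -/
theorem natCard_pow_eq_one [IsAlgClosed k] (n : ℕ) (hn : (n : k) ≠ 0) :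
    Nat.card {u : k // u ^ n = 1} = n := by
  haveI : NeZero (n : k) := ⟨hn⟩
  haveI : NeZero n := NeZero.of_neZero_natCast k
  refine (Nat.card_congr ?_).trans (HasEnoughRootsOfUnity.natCard_rootsOfUnity k n)
  exact
    { toFun := fun u => ⟨Units.mk0 u.1 (by
          intro h
          have := u.2
          rw [h, zero_pow (NeZero.ne n)] at this
          exact zero_ne_one this), by
          rw [mem_rootsOfUnity]
          ext
          simp [u.2]⟩
      invFun := fun ζ => ⟨(ζ.1 : k), by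
          have := ζ.2
          rw [mem_rootsOfUnity] at this
          have h2 := congrArg Units.val this
          simpa using h2⟩
      left_inv := fun _ => rfl
      right_inv := fun _ => by ext; rfl }

section main

variable [IsAlgClosed k] (hK : IsFunctionField k K) (hgen : genus k K = 1) (P : Place k K)
  {a b : k} {x y : K}

include hK hgen in
theorem exists_param_of_aut (h2 : (2 : k) ≠ 0) (h3 : (3 : k) ≠ 0)
    (heq : y ^ 2 = x ^ 3 + algebraMap k K a * x + algebraMap k K b)
    (hxL : x ∈ L (Finsupp.single P 2 : Divisor k K)) (hx2 : P.ord x = -2)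
    (hyL : y ∈ L (Finsupp.single P 3 : Divisor k K)) (hy3 : P.ord y = -3)
    (σ : K ≃ₐ[k] K) (hσ : ∀ z, P.1 (σ z) = P.1 z) :
    ∃ u : k, IsParam a b u ∧ u ≠ 0 ∧ σ x = algebraMap k K (u ^ 2) * x ∧
      σ y = algebraMap k K (u ^ 3) * y := by
  have hxv : P.1 x = exp (2 : ℤ) := by
    have := val_of_ord P (by norm_num) hx2
    simpa using this
  have hyv : P.1 y = exp (3 : ℤ) := by
    have := val_of_ord P (by norm_num) hy3
    simpa using this
  obtain ⟨c₀, c₁, hσx⟩ := mem_L_two hK hgen P hxL hx2 (map_mem_L_single P σ hσ hxL)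
  obtain ⟨d₀, d₁, d₂, hσy⟩ :=
    mem_L_three hK hgen P hxL hx2 hyL hy3 (map_mem_L_single P σ hσ hyL)
  obtain ⟨e1, e2, e3, e4, e5, e6⟩ := coeffs_of_aut P heq hxv hyv σ c₀ c₁ d₀ d₁ d₂ hσx hσy
  have hc₁ : c₁ ≠ 0 := by
    rintro rfl
    have h1 : P.1 (σ x) ≤ 1 := by
      rw [hσx, map_zero, zero_mul, add_zero]
      exact val_algebraMap_le P c₀
    rw [hσ, hxv, ← exp_zero, exp_le_exp] at h1
    omega
  have hd₂ : d₂ ≠ 0 := by
    rintro rfl
    have h1 : P.1 (σ y) ≤ exp (2 : ℤ) := by
      rw [hσy, map_zero, zero_mul, add_zero]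
      refine (P.1.map_add _ _).trans (max_le ?_ ?_)
      · refine (val_algebraMap_le P d₀).trans ?_
        rw [← exp_zero, exp_le_exp]; norm_num
      · rw [map_mul, hxv]
        exact (mul_le_mul_left (val_algebraMap_le P d₁) _).trans (by rw [one_mul])
    rw [hσ, hyv, exp_le_exp] at h1
    omega
  have hd₁ : d₁ = 0 := by
    rcases mul_eq_zero.mp e5 with h | h
    · rcases mul_eq_zero.mp h with h | h
      · exact absurd h h2
      · exact h
    · exact absurd h hd₂
  have hd₀ : d₀ = 0 := by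
    rcases mul_eq_zero.mp e3 with h | h
    · rcases mul_eq_zero.mp h with h | h
      · exact absurd h h2
      · exact h
    · exact absurd h hd₂
  have hc₀ : c₀ = 0 := by
    rw [hd₁] at e4
    have h : 3 * c₀ * c₁ ^ 2 = 0 := by linear_combination -e4
    rcases mul_eq_zero.mp h with h | h
    · rcases mul_eq_zero.mp h with h | h
      · exact absurd h h3
      · exact h
    · exact absurd h (pow_ne_zero 2 hc₁)
  subst hd₁ hd₀ hc₀
  have f6 : d₂ ^ 2 = c₁ ^ 3 := by linear_combination e6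
  have f2 : a * d₂ ^ 2 = a * c₁ := by linear_combination e2
  have f1 : b * d₂ ^ 2 = b := by linear_combination e1
  have hu2 : (d₂ / c₁) ^ 2 = c₁ := by
    rw [div_pow, f6]
    field_simp
  have hu3 : (d₂ / c₁) ^ 3 = d₂ := by
    rw [pow_succ, hu2]
    field_simp
  refine ⟨d₂ / c₁, ⟨?_, ?_⟩, div_ne_zero hd₂ hc₁, ?_, ?_⟩
  · have h4 : (d₂ / c₁) ^ 4 = c₁ ^ 2 := by
      rw [show (4 : ℕ) = 2 * 2 from rfl, pow_mul, hu2]
    rw [h4]
    have h5 : c₁ * (a * c₁ ^ 2 - a) = 0 := by
      rw [f6] at f2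
      linear_combination f2
    rcases mul_eq_zero.mp h5 with h | h
    · exact absurd h hc₁
    · linear_combination h
  · have h6 : (d₂ / c₁) ^ 6 = c₁ ^ 3 := by
      rw [show (6 : ℕ) = 2 * 3 from rfl, pow_mul, hu2]
    rw [h6, ← f6, f1]
  · rw [hu2, hσx, map_zero, zero_add]
  · rw [hu3, hσy, map_zero, zero_mul, add_zero, zero_add]

end main

section count

variable [IsAlgClosed k] {a b : k}

theorem natCard_param_six (h2 : (2 : k) ≠ 0) (h3 : (3 : k) ≠ 0) (ha : a = 0) (hb : b ≠ 0) :
    Nat.card {u : k // IsParam a b u} = 6 := by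
  have h6 : ((6 : ℕ) : k) ≠ 0 := by
    have : ((6 : ℕ) : k) = 2 * 3 := by norm_num
    rw [this]
    exact mul_ne_zero h2 h3
  rw [← natCard_pow_eq_one (k := k) 6 h6]
  refine Nat.card_congr (Equiv.subtypeEquivRight fun u => ?_)
  unfold IsParam
  subst ha
  constructor
  · rintro ⟨-, h⟩
    exact mul_left_cancel₀ hb (h.trans (mul_one b).symm)
  · intro h
    exact ⟨by simp, by rw [h, mul_one]⟩

theorem natCard_param_four (h2 : (2 : k) ≠ 0) (ha : a ≠ 0) (hb : b = 0) :
    Nat.card {u : k // IsParam a b u} = 4 := by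
  have h4 : ((4 : ℕ) : k) ≠ 0 := by
    have : ((4 : ℕ) : k) = 2 * 2 := by norm_num
    rw [this]
    exact mul_ne_zero h2 h2
  rw [← natCard_pow_eq_one (k := k) 4 h4]
  refine Nat.card_congr (Equiv.subtypeEquivRight fun u => ?_)
  unfold IsParam
  subst hb
  constructor
  · rintro ⟨h, -⟩
    exact mul_left_cancel₀ ha (h.trans (mul_one a).symm)
  · intro h
    exact ⟨by rw [h, mul_one], by simp⟩

theorem natCard_param_two (h2 : (2 : k) ≠ 0) (ha : a ≠ 0) (hb : b ≠ 0) :
    Nat.card {u : k // IsParam a b u} = 2 := by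
  have h2' : ((2 : ℕ) : k) ≠ 0 := by
    have : ((2 : ℕ) : k) = 2 := by norm_num
    rw [this]
    exact h2
  rw [← natCard_pow_eq_one (k := k) 2 h2']
  refine Nat.card_congr (Equiv.subtypeEquivRight fun u => ?_)
  unfold IsParam
  constructor
  · rintro ⟨h, h'⟩
    have e4 : u ^ 4 = 1 := mul_left_cancel₀ ha (h.trans (mul_one a).symm)
    have e6 : u ^ 6 = 1 := mul_left_cancel₀ hb (h'.trans (mul_one b).symm)
    have : u ^ 6 = u ^ 4 * u ^ 2 := by ring
    rw [e6, e4, one_mul] at this
    exact this.symm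
  · intro h
    have e4 : u ^ 4 = 1 := by
      have : u ^ 4 = (u ^ 2) ^ 2 := by ring
      rw [this, h, one_pow]
    have e6 : u ^ 6 = 1 := by
      have : u ^ 6 = (u ^ 2) ^ 3 := by ring
      rw [this, h, one_pow]
    exact ⟨by rw [e4, mul_one], by rw [e6, mul_one]⟩

end count

section final

variable [IsAlgClosed k] (hK : IsFunctionField k K) (hgen : genus k K = 1) (P : Place k K)
  {a b : k} {x y : K}

/-- An automorphism multiplying `x` by a nonzero constant fixes the unique pole of `x`. -/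
theorem val_map_eq_of_smul (hxL : x ∈ L (Finsupp.single P 2 : Divisor k K))
    (hxv : P.1 x = exp (2 : ℤ)) (τ : K ≃ₐ[k] K) {c : k} (hc : c ≠ 0)
    (hτ : τ x = algebraMap k K c * x) (z : K) : P.1 (τ z) = P.1 z := by
  have hQ : comapPlace τ P = P := by
    by_contra hne
    have h1 := (mem_L_single_iff.mp hxL).2 _ hne
    rw [comapPlace_apply, hτ, map_mul, val_algebraMap P hc, one_mul, hxv, ← exp_zero,
      exp_le_exp] at h1
    omega
  rw [← comapPlace_apply, hQ]

include hK hgen in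
theorem natCard_aut (h2 : (2 : k) ≠ 0) (h3 : (3 : k) ≠ 0)
    (hdisc : 4 * a ^ 3 + 27 * b ^ 2 ≠ 0)
    (heq : y ^ 2 = x ^ 3 + algebraMap k K a * x + algebraMap k K b)
    (hxy : IntermediateField.adjoin k ({x, y} : Set K) = ⊤)
    (hxL : x ∈ L (Finsupp.single P 2 : Divisor k K)) (hx2 : P.ord x = -2)
    (hyL : y ∈ L (Finsupp.single P 3 : Divisor k K)) (hy3 : P.ord y = -3) :
    Nat.card {σ : K ≃ₐ[k] K // ∀ z : K, P.1 (σ z) = P.1 z} =
      Nat.card {u : k // IsParam a b u} := by
  have hxv : P.1 x = exp (2 : ℤ) := by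
    have := val_of_ord P (by norm_num) hx2
    simpa using this
  have hyv : P.1 y = exp (3 : ℤ) := by
    have := val_of_ord P (by norm_num) hy3
    simpa using this
  have hx0 : x ≠ 0 := by
    rintro rfl
    rw [map_zero] at hxv
    exact exp_ne_zero hxv.symm
  have hy0 : y ≠ 0 := by
    rintro rfl
    rw [map_zero] at hyv
    exact exp_ne_zero hyv.symm
  have htr : Transcendental k x := transcendental_of_val_ne_one hK P hx0 (by
    rw [hxv, ← exp_zero]
    intro h
    have := exp_inj.mp h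
    omega)
  have hyr : y ∉ Set.range (ratHom htr) := not_mem_range_ratHom P htr hxv hyv
  have hab : ¬ (a = 0 ∧ b = 0) := by
    rintro ⟨rfl, rfl⟩
    apply hdisc
    ring
  symm
  refine Nat.card_congr (Equiv.ofBijective
    (fun u => ⟨sigma htr heq hyr hxy u.2 (u.2.ne_zero hab), fun z =>
      val_map_eq_of_smul P hxL hxv _ (pow_ne_zero 2 (u.2.ne_zero hab))
        (sigma_x htr heq hyr hxy u.2 (u.2.ne_zero hab)) z⟩) ⟨?_, ?_⟩)
  · intro u u' huu'
    have h1 := congrArg (fun σ : {σ : K ≃ₐ[k] K // ∀ z : K, P.1 (σ z) = P.1 z} => σ.1 x) huu'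
    have h1' := congrArg (fun σ : {σ : K ≃ₐ[k] K // ∀ z : K, P.1 (σ z) = P.1 z} => σ.1 y) huu'
    simp only [sigma_x, sigma_y] at h1 h1'
    have e2 : u.1 ^ 2 = u'.1 ^ 2 :=
      (algebraMap k K).injective (mul_right_cancel₀ hx0 h1)
    have e3 : u.1 ^ 3 = u'.1 ^ 3 :=
      (algebraMap k K).injective (mul_right_cancel₀ hy0 h1')
    have hu0 := u.2.ne_zero hab
    have hu0' := u'.2.ne_zero hab
    apply Subtype.ext
    have : u.1 * u.1 ^ 2 = u'.1 * u.1 ^ 2 := by
      calc u.1 * u.1 ^ 2 = u.1 ^ 3 := by ring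
        _ = u'.1 ^ 3 := e3
        _ = u'.1 * u'.1 ^ 2 := by ring
        _ = u'.1 * u.1 ^ 2 := by rw [e2]
    exact mul_right_cancel₀ (pow_ne_zero 2 hu0) this
  · rintro ⟨σ, hσ⟩
    obtain ⟨u, hu, hu0, hσx, hσy⟩ :=
      exists_param_of_aut hK hgen P h2 h3 heq hxL hx2 hyL hy3 σ hσ
    refine ⟨⟨u, hu⟩, ?_⟩
    apply Subtype.ext
    have hhom : (sigma htr heq hyr hxy hu (hu.ne_zero hab) : K →ₐ[k] K) = (σ : K →ₐ[k] K) := by
      apply algHom_ext_of_adjoin_eq_top hxy
      rintro z (rfl | rfl)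
      · show sigma htr heq hyr hxy hu (hu.ne_zero hab) z = σ z
        rw [sigma_x, hσx]
      · show sigma htr heq hyr hxy hu (hu.ne_zero hab) z = σ z
        rw [sigma_y, hσy]
    ext z
    exact congrArg (fun φ : K →ₐ[k] K => φ z) hhom

end final

end Groth.Agent.Lib.Helper18.FF.EllAut
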