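import Groth.Agent.Lib.Helper18.FF.Embedding
import Groth.Agent.Lib.Helper18.FF.RiemannRoch

/-! # The local ring of a chart algebra at a place: a general criterion -/

set_option autoImplicit false
set_option linter.style.haveILetI false

namespace Groth.Agent.Lib.Helper18.FF

open FunFld WithZero

universe u v

variable {k : Type u} {K : Type v} [Field k] [Field K] [Algebra k K]

theorem nsmul_mono_of_nonneg {E : Divisor k K} (hE : 0 ≤ E) {m n : ℕ} (h : m ≤ n) :
    m • E ≤ n • E := by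
  intro R
  simp only [Finsupp.smul_apply, nsmul_eq_mul]
  have h1 : ((m : ℕ) : ℤ) ≤ ((n : ℕ) : ℤ) := by exact_mod_cast h
  exact mul_le_mul_of_nonneg_right h1 (hE R)

/-- Killing poles away from `P`, with killers of arbitrary degree. -/
theorem exists_killer' [IsAlgClosed k] (hK : IsFunctionField k K) {E : Divisor k K}
    (P : Place k K) (A : Subalgebra k K)
    (hv : ∀ Q, Q ≠ P → ∃ v ∈ A, P.1 v = 1 ∧ ∃ m : ℕ, v ∈ L (m • E - Finsupp.single Q 1)) :
    ∀ (m : ℕ) (Z : Divisor k K), 0 ≤ Z → Z P = 0 → Z.deg = m →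
      ∃ s ∈ A, P.1 s = 1 ∧ ∃ n : ℕ, s ∈ L (n • E - Z) := by
  intro m
  induction m with
  | zero =>
    intro Z hZ _ hdeg
    have hZ0 : Z = 0 := eq_zero_of_nonneg_of_deg_le hK hZ (by rw [hdeg]; simp)
    refine ⟨1, Subalgebra.one_mem _, map_one _, 0, ?_⟩
    rw [hZ0, zero_smul, sub_zero]
    exact one_mem_L_of_nonneg le_rfl
  | succ m ih =>
    intro Z hZ hZP hdeg
    have hZne : Z ≠ 0 := by
      rintro rfl
      rw [deg_zero] at hdeg
      have : (0 : ℤ) < ((m + 1 : ℕ) : ℤ) := by exact_mod_cast Nat.succ_pos m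
      omega
    obtain ⟨Q, hQ⟩ : ∃ Q, Z Q ≠ 0 := by
      by_contra hcon
      push Not at hcon
      exact hZne (Finsupp.ext hcon)
    have hQpos : 0 < Z Q := lt_of_le_of_ne (hZ Q) (Ne.symm hQ)
    have hQP : Q ≠ P := by
      rintro rfl
      exact hQ hZP
    obtain ⟨Z', hZ'⟩ : ∃ Z' : Divisor k K, Z' = Z - Finsupp.single Q 1 := ⟨_, rfl⟩
    have hZ'nn : 0 ≤ Z' := by
      intro R
      rw [hZ', Finsupp.sub_apply, Finsupp.zero_apply]
      by_cases hR : R = Q
      · subst hR
        rw [Finsupp.single_eq_same]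
        omega
      · rw [Finsupp.single_eq_of_ne hR, sub_zero]
        exact hZ R
    have hZ'P : Z' P = 0 := by
      rw [hZ', Finsupp.sub_apply, hZP, Finsupp.single_eq_of_ne hQP.symm, sub_zero]
    have hZ'deg : Z'.deg = m := by
      rw [hZ', deg_sub, hdeg, deg_single, deg_eq_one_of_isAlgClosed hK Q]
      push_cast
      ring
    obtain ⟨s', hs'A, hs'P, n', hs'L⟩ := ih Z' hZ'nn hZ'P hZ'deg
    obtain ⟨v, hvA, hvP, mv, hvL⟩ := hv Q hQP
    refine ⟨s' * v, Subalgebra.mul_mem _ hs'A hvA, by rw [map_mul, hs'P, hvP, one_mul],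
      n' + mv, ?_⟩
    have := mul_mem_L hs'L hvL
    have heq : n' • E - Z' + (mv • E - Finsupp.single Q 1) = (n' + mv) • E - Z := by
      rw [hZ', add_smul]
      abel
    rw [heq] at this
    exact this

/-- **Core criterion.** Let `A` be a subalgebra of functions with poles only on the support of
an effective divisor `E` not containing `P`, containing a function with pole divisor exactly
`E`, a local parameter at `P`, and for every other place `Q` a unit at `P` vanishing at `Q`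
(as a section of some `L(mE)`). Then every function regular at `P` is a quotient of elements of
`A` with denominator a unit at `P`. -/
theorem inLocRing_core [IsAlgClosed k] (hK : IsFunctionField k K) (P : Place k K)
    (A : Subalgebra k K) {E : Divisor k K} (hE : 0 ≤ E) (hEP : E P = 0)
    (hAL : ∀ a ∈ A, ∃ m : ℕ, a ∈ L (m • E))
    {x : K} (hxA : x ∈ A) (hx0 : x ≠ 0) (hxE : x ∈ L E)
    (hxdiv : ∀ R, 0 < E R → (FunFld.div k x) R = - E R)
    {t : K} (htA : t ∈ A) (htP : P.1 t = exp (-1 : ℤ))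
    (hv : ∀ Q, Q ≠ P → ∃ v ∈ A, P.1 v = 1 ∧ ∃ m : ℕ, v ∈ L (m • E - Finsupp.single Q 1))
    {z : K} (hz : P.1 z ≤ 1) :
    ∃ u ∈ A, ∃ w ∈ A, P.1 w = 1 ∧ z * w = u := by
  classical
  have hAle : ∀ a ∈ A, P.1 a ≤ 1 := by
    intro a ha
    obtain ⟨m, hm⟩ := hAL a ha
    have := hm P
    rwa [Finsupp.smul_apply, hEP, smul_zero, exp_zero] at this
  -- `E ≠ 0`, hence `deg E ≥ 1`
  have hEdeg : 1 ≤ E.deg := by
    by_contra hcon
    have hE0 : E = 0 := eq_zero_of_nonneg_of_deg_le hK hE (by omega)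
    obtain ⟨m, hm⟩ := hAL t htA
    rw [hE0, smul_zero, L_zero_eq_one hK] at hm
    obtain ⟨c, rfl⟩ := Submodule.mem_one.mp hm
    rcases eq_or_ne c 0 with rfl | hc
    · rw [map_zero, map_zero] at htP
      exact exp_ne_zero htP.symm
    · rw [val_algebraMap P hc, ← exp_zero, exp_injective.eq_iff] at htP
      omega
  -- the dimension condition for the pencil trick
  obtain ⟨n₀, hn₀⟩ : ∃ n₀ : ℕ, n₀ = 2 * genus k K := ⟨_, rfl⟩
  have h3 : ∀ n, n₀ ≤ n → ell ((n + 2) • E) + ell (n • E) ≤ 2 * ell ((n + 1) • E) := by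
    intro n hn
    have hg : (0 : ℤ) ≤ genus k K := Int.natCast_nonneg _
    have e : ∀ i : ℕ, n₀ ≤ i → (ell (i • E) : ℤ) = (i : ℤ) * E.deg + 1 - genus k K := by
      intro i hi
      have hi' : ((n₀ : ℕ) : ℤ) ≤ (i : ℤ) := by exact_mod_cast hi
      rw [hn₀] at hi'
      push_cast at hi'
      have := ell_eq_of_deg_ge hK (i • E) (by
        rw [deg_nsmul]
        nlinarith)
      rw [deg_nsmul] at this
      exact this
    have e1 := e (n + 2) (by omega)
    have e2 := e n hn
    have e3 := e (n + 1) (by omega)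
    have : (ell ((n + 2) • E) : ℤ) + ell (n • E) ≤ 2 * (ell ((n + 1) • E) : ℤ) := by
      rw [e1, e2, e3]
      push_cast
      linarith
    exact_mod_cast this
  -- a basis of `M = L((n₀+1)E)`
  obtain ⟨M, hM⟩ : ∃ M : Submodule k K, M = L ((n₀ + 1) • E) := ⟨_, rfl⟩
  haveI : FiniteDimensional k M := by rw [hM]; exact finiteDimensional_L hK _
  obtain ⟨r, hr⟩ : ∃ r : ℕ, r = Module.finrank k M := ⟨_, rfl⟩
  let bb : Module.Basis (Fin r) k M := (Module.finBasis k M).reindex (finCongr hr.symm)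
  obtain ⟨b, hb⟩ : ∃ b : Fin r → K, ∀ j, b j = (bb j : K) := ⟨_, fun _ => rfl⟩
  have hbP : ∀ j, P.1 (b j) ≤ 1 := by
    intro j
    have h4 : (bb j : K) ∈ L ((n₀ + 1) • E) := by
      rw [← hM]
      exact (bb j).2
    have h5 := h4 P
    rw [Finsupp.smul_apply, hEP, smul_zero, exp_zero] at h5
    rw [hb]
    exact h5
  have hMspan : ∀ y ∈ M, y ∈ Submodule.span A (Set.range b) := by
    intro y hy
    have h := bb.sum_repr ⟨y, hy⟩
    have h' : y = ∑ j, (bb.repr ⟨y, hy⟩ j) • b j := by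
      have h6 := congrArg Subtype.val h
      rw [Submodule.coe_sum] at h6
      simp only [Submodule.coe_smul] at h6
      refine h6.symm.trans ?_
      exact Finset.sum_congr rfl fun j _ => by rw [hb]
    obtain ⟨cf, hcf⟩ : ∃ cf : Fin r → k, y = ∑ j, cf j • b j :=
      ⟨fun j => bb.repr ⟨y, hy⟩ j, h'⟩
    rw [hcf]
    refine Submodule.sum_mem _ fun j _ => ?_
    rw [← algebraMap_smul A (cf j) (b j)]
    exact Submodule.smul_mem _ _ (Submodule.subset_span ⟨j, rfl⟩)
  have hgen : ∀ n : ℕ, ∀ y ∈ L (n • E), ∃ a : Fin r → A, y = ∑ j, (a j : K) * b j := by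
    intro n y hy
    have h := mem_span_of_mem_L hK hE hx0 hxE hxdiv n₀ h3 A hxA n hy
    rw [← hM] at h
    have h' : y ∈ Submodule.span A (Set.range b) := (Submodule.span_le.mpr hMspan) h
    obtain ⟨a, ha⟩ := (Submodule.mem_span_range_iff_exists_fun A).mp h'
    refine ⟨a, ?_⟩
    rw [← ha]
    rfl
  -- killing poles
  have hkill : ∀ y, P.1 y ≤ 1 →
      ∃ σ ∈ A, P.1 σ = 1 ∧ ∃ a : Fin r → A, σ * y = ∑ j, (a j : K) * b j := by
    intro y hy
    have hZnn := poleDiv_nonneg (k := k) y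
    have hZP : poleDiv (k := k) y P = 0 := by
      rw [poleDiv_apply hK]
      rcases eq_or_ne y 0 with rfl | hy0
      · rw [ord_zero]
        simp
      · have := (val_le_one_iff_ord_nonneg P hy0).mp hy
        omega
    have hdeg : (poleDiv (k := k) y).deg = (((poleDiv (k := k) y).deg.toNat : ℕ) : ℤ) :=
      (Int.toNat_of_nonneg (deg_nonneg_of_nonneg hZnn)).symm
    obtain ⟨σ, hσA, hσP, n, hσL⟩ := exists_killer' hK P A hv _ _ hZnn hZP hdeg
    have hy' : y ∈ L (poleDiv (k := k) y) := fun R => val_le_exp_poleDiv hK y R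
    have h7 := mul_mem_L hσL hy'
    rw [sub_add_cancel] at h7
    obtain ⟨a, ha⟩ := hgen n _ h7
    exact ⟨σ, hσA, hσP, a, ha⟩
  -- the determinant trick
  have hPdeg := deg_eq_one_of_isAlgClosed hK P
  have hci : ∀ i, ∃ c : k, P.1 (b i - algebraMap k K c) < 1 := fun i =>
    exists_const_sub_lt_one hK hPdeg (hbP i)
  choose c hc using hci
  have hzi : ∀ i, P.1 ((b i - algebraMap k K (c i)) / t) ≤ 1 := by
    intro i
    rw [map_div₀, htP]
    have h8 := (zm0_lt_one_iff _).mp (hc i)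
    exact (div_le_one₀ (zero_lt_iff.mpr exp_ne_zero)).mpr h8
  have ht0 : t ≠ 0 := by
    rintro rfl
    rw [map_zero] at htP
    exact exp_ne_zero htP.symm
  choose σ hσA hσP a ha using fun i => hkill _ (hzi i)
  obtain ⟨cdet, hcA, hcP, hcb⟩ := det_trick P.1 A hAle b (fun i => ⟨σ i, hσA i⟩)
    (fun i => hσP i) a
    (fun i => ⟨σ i * algebraMap k K (c i),
      Subalgebra.mul_mem _ (hσA i) (Subalgebra.algebraMap_mem _ _)⟩) ⟨t, htA⟩
    (by
      change P.1 t < 1
      rw [htP, ← exp_zero, exp_lt_exp]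
      norm_num)
    (by
      intro i
      change σ i * b i = t * ∑ j, (a i j : K) * b j + σ i * algebraMap k K (c i)
      rw [← ha i]
      field_simp
      ring)
  obtain ⟨σz, hσzA, hσzP, az, haz⟩ := hkill z hz
  refine ⟨∑ j, (az j : K) * (cdet * b j),
    Subalgebra.sum_mem _ (fun j _ => Subalgebra.mul_mem _ (az j).2 (hcb j)), cdet * σz,
    Subalgebra.mul_mem _ hcA hσzA, by rw [map_mul, hcP, hσzP, one_mul], ?_⟩
  calc z * (cdet * σz) = cdet * (σz * z) := by ring
    _ = cdet * ∑ j, (az j : K) * b j := by rw [haz]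
    _ = ∑ j, (az j : K) * (cdet * b j) := by
      rw [Finset.mul_sum]
      exact Finset.sum_congr rfl fun j _ => by ring

end Groth.Agent.Lib.Helper18.FF
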