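import Groth.Agent.Lib.Helper18.FF.Semilocal

/-! # The local ring of a projective map: units, constants -/

set_option autoImplicit false
set_option linter.style.haveILetI false

namespace Groth.Agent.Lib.Helper18.FF

open FunFld WithZero

universe u v

variable {k : Type u} {K : Type v} [Field k] [Field K] [Algebra k K]

theorem inLocRing_inv {ι : Type*} (φ : ι → K) (P : Place k K) {z : K} (hz : InLocRing φ P z)
    (hzP : P.1 z = 1) : InLocRing φ P z⁻¹ := by
  obtain ⟨j, hj0, hjmax, u, hu, w, hw, hwP, hzw⟩ := hz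
  have hz0 : z ≠ 0 := by
    rintro rfl
    rw [map_zero] at hzP
    exact zero_ne_one hzP
  refine ⟨j, hj0, hjmax, w, hw, u, hu, ?_, ?_⟩
  · rw [← hzw, map_mul, hzP, hwP, one_mul]
  · rw [← hzw, ← mul_assoc, inv_mul_cancel₀ hz0, one_mul]

theorem inLocRing_sub_const {ι : Type*} (φ : ι → K) (P : Place k K) {z : K}
    (hz : InLocRing φ P z) (c : k) : InLocRing φ P (z - algebraMap k K c) := by
  obtain ⟨j, hj0, hjmax, u, hu, w, hw, hwP, hzw⟩ := hz
  refine ⟨j, hj0, hjmax, u - algebraMap k K c * w,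
    Subalgebra.sub_mem _ hu (Subalgebra.mul_mem _ (Subalgebra.algebraMap_mem _ c) hw), w, hw, hwP, ?_⟩
  rw [sub_mul, hzw]

/-- If the local ring at `φ(P)` lies in the valuation ring of `Q`, then `Q` lies over `φ(P)`:
the maximal ideals correspond. -/
theorem lt_one_iff_of_locRing_le [IsAlgClosed k] (hK : IsFunctionField k K) {ι : Type*}
    (φ : ι → K) (P Q : Place k K) (hO : ∀ z : K, InLocRing φ P z → Q.1 z ≤ 1) {z : K}
    (hz : InLocRing φ P z) : Q.1 z < 1 ↔ P.1 z < 1 := by
  have hfwd : ∀ y : K, InLocRing φ P y → Q.1 y < 1 → P.1 y < 1 := by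
    intro y hy hyQ
    by_contra hcon
    have hyP : P.1 y = 1 := le_antisymm (val_le_one_of_inLocRing φ P hy) (not_lt.mp hcon)
    have h1 := hO _ (inLocRing_inv φ P hy hyP)
    have hy0 : y ≠ 0 := by
      rintro rfl
      rw [map_zero] at hyP
      exact zero_ne_one hyP
    rw [map_inv₀, inv_le_one₀ (zero_lt_iff.mpr ((Valuation.ne_zero_iff _).mpr hy0))] at h1
    exact absurd hyQ (not_lt.mpr h1)
  refine ⟨hfwd z hz, fun hzP => ?_⟩
  obtain ⟨c, hc⟩ := exists_const_sub_lt_one hK (deg_eq_one_of_isAlgClosed hK Q) (hO z hz)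
  have h2 := hfwd _ (inLocRing_sub_const φ P hz c) hc
  have hc0 : c = 0 := by
    by_contra hne
    have h3 := val_algebraMap P hne
    have h4 : algebraMap k K c = z - (z - algebraMap k K c) := by ring
    rw [h4] at h3
    have h5 := lt_of_le_of_lt (Valuation.map_sub P.1 z (z - algebraMap k K c)) (max_lt hzP h2)
    rw [h3] at h5
    exact lt_irrefl _ h5
  rwa [hc0, map_zero, sub_zero] at hc

end Groth.Agent.Lib.Helper18.FF
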