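import Groth.Agent.Lib.Helper18.FF.Special
import Groth.Agent.Lib.Helper18.FF.Weights

/-! # Weierstrass gaps at a place -/

set_option autoImplicit false
set_option linter.style.haveILetI false

namespace Groth.Agent.Lib.Helper18.FF

open FunFld WithZero

universe u v

variable {k : Type u} {K : Type v} [Field k] [Field K] [Algebra k K]

/-- `m` is a gap at `P`. -/
def IsGap (P : Place k K) (m : ℕ) : Prop :=
  L (Finsupp.single P (m : ℤ) : Divisor k K) = L (Finsupp.single P ((m : ℤ) - 1))

theorem single_mono (P : Place k K) {a b : ℤ} (h : a ≤ b) :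
    (Finsupp.single P a : Divisor k K) ≤ Finsupp.single P b := by
  intro Q
  by_cases hQ : Q = P
  · subst hQ; simpa using h
  · rw [Finsupp.single_eq_of_ne hQ, Finsupp.single_eq_of_ne hQ]

/-- A non-gap `m` has a function with exact pole order `m` at `P` and no other poles. -/
theorem exists_of_not_isGap {P : Place k K} {m : ℕ} (h : ¬ IsGap P m) :
    ∃ f : K, f ∈ L (Finsupp.single P (m : ℤ) : Divisor k K) ∧ P.1 f = exp (m : ℤ) := by
  have hle : L (Finsupp.single P ((m : ℤ) - 1) : Divisor k K) ≤ L (Finsupp.single P (m : ℤ)) :=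
    L_mono (single_mono P (by omega))
  have hne : ¬ L (Finsupp.single P (m : ℤ) : Divisor k K) ≤ L (Finsupp.single P ((m : ℤ) - 1)) :=
    fun h' => h (le_antisymm h' hle)
  obtain ⟨f, hf, hf'⟩ := Set.not_subset.mp hne
  refine ⟨f, hf, ?_⟩
  have hf0 : f ≠ 0 := by rintro rfl; exact hf' (Submodule.zero_mem _)
  have h1 : ¬ ∀ Q : Place k K, Q.1 f ≤ exp ((Finsupp.single P ((m : ℤ) - 1) : Divisor k K) Q) := hf'
  push Not at h1
  obtain ⟨Q, hQ⟩ := h1
  have hQP : Q = P := by
    by_contra hne'
    have := hf Q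
    rw [Finsupp.single_eq_of_ne hne'] at this hQ
    exact absurd hQ (not_lt.mpr this)
  subst hQP
  rw [Finsupp.single_eq_same] at hQ
  have h2 := hf Q
  rw [Finsupp.single_eq_same] at h2
  rw [val_eq_exp_neg_ord Q hf0] at hQ h2 ⊢
  rw [exp_lt_exp] at hQ
  rw [exp_le_exp] at h2
  congr 1
  omega

theorem not_isGap_of_exists {P : Place k K} {m : ℕ} {f : K}
    (hf : f ∈ L (Finsupp.single P (m : ℤ) : Divisor k K)) (hP : P.1 f = exp (m : ℤ)) :
    ¬ IsGap P m := by
  intro h
  rw [IsGap] at h
  rw [h] at hf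
  have := hf P
  rw [Finsupp.single_eq_same, hP, exp_le_exp] at this
  omega

/-- Non-gaps form a semigroup. -/
theorem not_isGap_add {P : Place k K} {m m' : ℕ} (h : ¬ IsGap P m) (h' : ¬ IsGap P m') :
    ¬ IsGap P (m + m') := by
  obtain ⟨f, hf, hfP⟩ := exists_of_not_isGap h
  obtain ⟨f', hf', hfP'⟩ := exists_of_not_isGap h'
  refine not_isGap_of_exists (f := f * f') ?_ ?_
  · intro Q
    rw [map_mul]
    by_cases hQ : Q = P
    · subst hQ
      rw [Finsupp.single_eq_same, hfP, hfP', ← exp_add]; push_cast; rfl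
    · have h1 := hf Q
      have h2 := hf' Q
      rw [Finsupp.single_eq_of_ne hQ, exp_zero] at h1 h2 ⊢
      exact mul_le_one' h1 h2
  · rw [map_mul, hfP, hfP', ← exp_add]; push_cast; rfl

theorem not_isGap_zero (hK : IsFunctionField k K) (P : Place k K) : ¬ IsGap P 0 := by
  refine not_isGap_of_exists (f := 1) ?_ ?_
  · intro Q; simp
  · simp

/-- If `n` is a gap, gaps make up at least half of `[1, n-1]`. -/
theorem sub_one_le_two_mul_card_gaps (P : Place k K) (n : ℕ) (hn : 1 ≤ n) (hgap : IsGap P n) :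
    n - 1 ≤ 2 * Set.ncard {m : ℕ | 1 ≤ m ∧ m < n ∧ IsGap P m} := by
  classical
  have hset : {m : ℕ | 1 ≤ m ∧ m < n ∧ IsGap P m} =
      ↑((Finset.Ico 1 n).filter (fun m => IsGap P m)) := by
    ext m; simp [and_assoc]
  rw [hset, Set.ncard_coe_finset]
  have hsplit := Finset.card_filter_add_card_filter_not (s := Finset.Ico 1 n)
    (fun m => IsGap P m)
  rw [Nat.card_Ico] at hsplit
  have hinj : ((Finset.Ico 1 n).filter (fun m => ¬ IsGap P m)).card ≤
      ((Finset.Ico 1 n).filter (fun m => IsGap P m)).card := by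
    apply Finset.card_le_card_of_injOn (fun m => n - m)
    · intro m hm
      simp only [Finset.coe_filter, Finset.mem_Ico, Set.mem_setOf_eq] at hm ⊢
      obtain ⟨⟨h1, h2⟩, h3⟩ := hm
      refine ⟨⟨by omega, by omega⟩, ?_⟩
      by_contra h4
      have := not_isGap_add h3 h4
      rw [show m + (n - m) = n by omega] at this
      exact this hgap
    · intro a ha b hb hab
      simp only [Finset.coe_filter, Finset.mem_Ico, Set.mem_setOf_eq] at ha hb
      simp only at hab
      omega
  omega

end Groth.Agent.Lib.Helper18.FF
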