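import Groth.Agent.Lib.Helper18.FF.Gaps

/-! # Counting gaps; Clifford's bound for multiples of a point -/

set_option autoImplicit false
set_option linter.style.haveILetI false

namespace Groth.Agent.Lib.Helper18.FF

open FunFld WithZero

universe u v

variable {k : Type u} {K : Type v} [Field k] [Field K] [Algebra k K]

open scoped Classical in
theorem ell_single_succ (hK : IsFunctionField k K) {P : Place k K} (hP : P.deg = 1) (m : ℕ) :
    ell (Finsupp.single P ((m + 1 : ℕ) : ℤ) : Divisor k K) =
      ell (Finsupp.single P (m : ℤ) : Divisor k K) + (if IsGap P (m + 1) then 0 else 1) := by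
  have e : (Finsupp.single P (m : ℤ) + Finsupp.single P 1 : Divisor k K) =
      Finsupp.single P ((m + 1 : ℕ) : ℤ) := by
    rw [← Finsupp.single_add]; push_cast; rfl
  obtain ⟨hfin, hle⟩ := finiteDimensional_L_add_single hK (Finsupp.single P (m : ℤ)) P
    (finiteDimensional_L hK _)
  rw [e, hP] at hle
  rw [e] at hfin
  haveI := hfin
  have e2 : (((m + 1 : ℕ) : ℤ) - 1) = (m : ℤ) := by push_cast; ring
  by_cases hg : IsGap P (m + 1)
  · rw [if_pos hg, add_zero]
    unfold ell
    rw [IsGap, e2] at hg
    rw [hg]
  · rw [if_neg hg]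
    have hlt : L (Finsupp.single P (m : ℤ) : Divisor k K) <
        L (Finsupp.single P ((m + 1 : ℕ) : ℤ)) := by
      refine lt_of_le_of_ne (L_mono (single_mono P (by push_cast; omega))) ?_
      intro heq
      apply hg
      rw [IsGap, e2]
      exact heq.symm
    have := Submodule.finrank_lt_finrank_of_lt hlt
    unfold ell at hle ⊢
    omega

open scoped Classical in
theorem ell_single_add_card_gaps (hK : IsFunctionField k K) {P : Place k K} (hP : P.deg = 1)
    (N : ℕ) : ell (Finsupp.single P (N : ℤ) : Divisor k K) +
      ((Finset.Icc 1 N).filter (fun m => IsGap P m)).card = N + 1 := by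
  induction N with
  | zero =>
    have : (Finsupp.single P ((0 : ℕ) : ℤ) : Divisor k K) = 0 := by simp
    rw [this, ell_zero hK]
    simp
  | succ N ih =>
    rw [ell_single_succ hK hP N]
    have hIcc : Finset.Icc 1 (N + 1) = insert (N + 1) (Finset.Icc 1 N) := by
      ext m; simp only [Finset.mem_Icc, Finset.mem_insert]; omega
    have hnotin : N + 1 ∉ Finset.Icc 1 N := by simp
    rw [hIcc, Finset.filter_insert]
    by_cases hg : IsGap P (N + 1)
    · rw [if_pos hg, if_pos hg, Finset.card_insert_of_notMem (by
        intro h; exact hnotin (Finset.mem_filter.mp h).1)]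
      omega
    · rw [if_neg hg, if_neg hg]
      omega

open scoped Classical in
theorem card_gaps_eq_genus (hK : IsFunctionField k K) {P : Place k K} (hP : P.deg = 1)
    {N : ℕ} (hN : 2 * (genus k K : ℤ) - 1 ≤ N) :
    ((Finset.Icc 1 N).filter (fun m => IsGap P m)).card = genus k K := by
  have h1 := ell_single_add_card_gaps hK hP N
  have h2 := ell_eq_of_deg_ge hK (Finsupp.single P (N : ℤ) : Divisor k K) (by
    rw [deg_single, hP]; push_cast; linarith)
  rw [deg_single, hP] at h2
  have h3 : (ell (Finsupp.single P (N : ℤ) : Divisor k K) : ℤ) +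
      (((Finset.Icc 1 N).filter (fun m => IsGap P m)).card : ℤ) = N + 1 := by exact_mod_cast h1
  have : ((((Finset.Icc 1 N).filter (fun m => IsGap P m)).card : ℕ) : ℤ) = (genus k K : ℤ) := by
    push_cast at h2 ⊢
    linarith
  exact_mod_cast this

open scoped Classical in
/-- Clifford's bound for multiples of a rational point. -/
theorem two_mul_ell_single_le (hK : IsFunctionField k K) {P : Place k K} (hP : P.deg = 1) (n : ℕ)
    (hn : (n : ℤ) ≤ 2 * (genus k K : ℤ) - 2) :
    2 * ell (Finsupp.single P (n : ℤ) : Divisor k K) ≤ n + 2 := by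
  have hcount := ell_single_add_card_gaps hK hP n
  have hsplit := Finset.card_filter_add_card_filter_not (s := Finset.Icc 1 n)
    (fun m => IsGap P m)
  rw [Nat.card_Icc] at hsplit
  suffices hNG : ((Finset.Icc 1 n).filter (fun m => ¬ IsGap P m)).card ≤
      ((Finset.Icc 1 n).filter (fun m => IsGap P m)).card by omega
  by_cases hex : ∃ γ, n < γ ∧ IsGap P γ
  · -- the smallest gap above `n`
    let γ := Nat.find hex
    have hγ : n < γ ∧ IsGap P γ := Nat.find_spec hex
    have hmin : ∀ m, n < m → IsGap P m → γ ≤ m := fun m h1 h2 => Nat.find_min' hex ⟨h1, h2⟩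
    apply Finset.card_le_card_of_injOn (fun m => γ - m)
    · intro m hm
      simp only [Finset.coe_filter, Finset.mem_Icc, Set.mem_setOf_eq] at hm ⊢
      obtain ⟨⟨h1, h2⟩, h3⟩ := hm
      have hgap : IsGap P (γ - m) := by
        by_contra h4
        have := not_isGap_add h3 h4
        rw [show m + (γ - m) = γ by omega] at this
        exact this hγ.2
      refine ⟨⟨by omega, ?_⟩, hgap⟩
      by_contra hlt
      push Not at hlt
      have := hmin (γ - m) hlt hgap
      omega
    · intro a ha b hb hab
      simp only [Finset.coe_filter, Finset.mem_Icc, Set.mem_setOf_eq] at ha hb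
      simp only at hab
      omega
  · -- all gaps are at most `n`
    push Not at hex
    set N := max n (2 * genus k K) with hN
    have hNn : n ≤ N := le_max_left _ _
    have hNg : 2 * genus k K ≤ N := le_max_right _ _
    have h1 := card_gaps_eq_genus hK hP (N := N) (by
      have : ((2 * genus k K : ℕ) : ℤ) ≤ (N : ℤ) := by exact_mod_cast hNg
      push_cast at this; linarith)
    have h2 : (Finset.Icc 1 N).filter (fun m => IsGap P m) =
        (Finset.Icc 1 n).filter (fun m => IsGap P m) := by
      ext m
      simp only [Finset.mem_filter, Finset.mem_Icc]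
      constructor
      · rintro ⟨⟨h3, h4⟩, h5⟩
        refine ⟨⟨h3, ?_⟩, h5⟩
        by_contra hlt
        exact hex m (not_le.mp hlt) h5
      · rintro ⟨⟨h3, h4⟩, h5⟩
        exact ⟨⟨h3, h4.trans hNn⟩, h5⟩
    rw [h2] at h1
    omega

end Groth.Agent.Lib.Helper18.FF
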