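import Mathlib.RingTheory.Polynomial.GaussLemma
import Mathlib.RingTheory.Polynomial.UniqueFactorization
import Mathlib.FieldTheory.Minpoly.Field
import Mathlib.RingTheory.PrincipalIdealDomain

/-! # Gauss lemma: the relation ideal of an element over a UFD is generated by any irreducible
relation -/

set_option autoImplicit false

namespace Groth.Agent.Lib.Helper18.FF

open Polynomial

section Gauss

variable {R : Type*} (F : Type*) {K : Type*} [CommRing R] [IsDomain R]
  [Field F] [Field K] [Algebra R F] [IsFractionRing R F] [Algebra F K] [Algebra R K]
  [IsScalarTower R F K]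

include F in
theorem algebraMap_injective_of_tower : Function.Injective (algebraMap R K) := by
  rw [IsScalarTower.algebraMap_eq R F K]
  exact (algebraMap F K).injective.comp (IsFractionRing.injective R F)

include F in
theorem natDegree_ne_zero_of_irreducible_of_root {f : R[X]} (hf : Irreducible f) {y : K}
    (hfy : aeval y f = 0) : f.natDegree ≠ 0 := by
  intro h0
  rw [eq_C_of_natDegree_eq_zero h0, aeval_C] at hfy
  have : f.coeff 0 = 0 := by
    apply algebraMap_injective_of_tower (R := R) F (K := K)
    rw [hfy, map_zero]
  apply hf.ne_zero
  rw [eq_C_of_natDegree_eq_zero h0, this, C_0]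

theorem aeval_map_fraction (y : K) (g : R[X]) :
    aeval y (g.map (algebraMap R F)) = aeval y g := by
  rw [aeval_map_algebraMap]

variable [UniqueFactorizationMonoid R]

theorem irreducible_map_of_root {f : R[X]} (hf : Irreducible f) {y : K}
    (hfy : aeval y f = 0) : Irreducible (f.map (algebraMap R F)) := by
  have hprim : f.IsPrimitive :=
    hf.isPrimitive (natDegree_ne_zero_of_irreducible_of_root F hf hfy)
  exact (hprim.irreducible_iff_irreducible_map_fraction_map (K := F)).mp hf

include F in
/-- Gauss: an irreducible relation divides every relation. -/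
theorem dvd_of_root_of_irreducible {f g : R[X]} (hf : Irreducible f) {y : K}
    (hfy : aeval y f = 0) (hgy : aeval y g = 0) : f ∣ g := by
  have hprim : f.IsPrimitive :=
    hf.isPrimitive (natDegree_ne_zero_of_irreducible_of_root F hf hfy)
  have hirr := irreducible_map_of_root F hf hfy
  apply hprim.dvd_of_fraction_map_dvd_fraction_map (K := F)
  rcases Irreducible.isCoprime_or_dvd hirr (g.map (algebraMap R F)) with hco | hdvd
  · exfalso
    obtain ⟨a, b, hab⟩ := hco
    have := congrArg (aeval y) hab
    rw [map_add, map_mul, map_mul, aeval_map_fraction, aeval_map_fraction, hfy, hgy, mul_zero,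
      mul_zero, add_zero, map_one] at this
    exact zero_ne_one this
  · exact hdvd

/-- The degree of the minimal polynomial over the fraction field. -/
theorem natDegree_minpoly_of_irreducible {f : R[X]} (hf : Irreducible f) {y : K}
    (hfy : aeval y f = 0) : (minpoly F y).natDegree = f.natDegree := by
  have hirr := irreducible_map_of_root F hf hfy
  have h0 : aeval y (f.map (algebraMap R F)) = 0 := by rw [aeval_map_fraction, hfy]
  rw [← minpoly.eq_of_irreducible hirr h0]
  rw [natDegree_mul_C (inv_ne_zero (leadingCoeff_ne_zero.mpr hirr.ne_zero))]
  exact natDegree_map_eq_of_injective (IsFractionRing.injective R F) f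

end Gauss

end Groth.Agent.Lib.Helper18.FF
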