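import Groth.Agent.Lib.Helper18.FF.Rational

/-! # Positive genus: rational places are not linearly equivalent; genus one -/

set_option autoImplicit false
set_option linter.style.haveILetI false

namespace Groth.Agent.Lib.Helper18.FF

open FunFld WithZero IntermediateField

universe u v

variable {k : Type u} {K : Type v} [Field k] [Field K] [Algebra k K]

/-- In positive genus distinct rational places are not linearly equivalent. -/
theorem eq_of_single_sub_single_eq_div (hK : IsFunctionField k K) (hg : 0 < genus k K)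
    {P P' : Place k K} (hP' : P'.deg = 1) {x : K}
    (h : (Finsupp.single P 1 - Finsupp.single P' 1 : Divisor k K) = FunFld.div k x) : P = P' := by
  by_contra hne
  have hdiv : ∀ Q : Place k K, Q.ord x = (Finsupp.single P (1 : ℤ) - Finsupp.single P' (1 : ℤ)) Q := by
    intro Q
    rw [h, div_apply hK]
  have hg0 : genus k K = 0 := by
    refine ((genus_zero_and_exists_deg_one_iff hK).mpr
      ((exists_simple_pole_iff hK).mp ⟨x, P', hP', ?_, ?_⟩)).1
    · rw [hdiv, Finsupp.sub_apply, Finsupp.single_eq_same,
        Finsupp.single_eq_of_ne (fun h => hne h.symm)]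
      norm_num
    · intro Q hQ
      rw [hdiv, Finsupp.sub_apply, Finsupp.single_eq_of_ne hQ, sub_zero]
      by_cases hQP : Q = P
      · subst hQP; rw [Finsupp.single_eq_same]; norm_num
      · rw [Finsupp.single_eq_of_ne hQP]
  omega

/-- In genus one with a rational place `P₀`, every class of degree zero is `P - P₀` for a unique
rational place `P`. -/
theorem genus_one_class (hK : IsFunctionField k K) (hg : genus k K = 1) (P₀ : Place k K)
    (hP : P₀.deg = 1) (D : Divisor k K) (hD : D.deg = 0) :
    ∃! P : Place k K, P.deg = 1 ∧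
      ∃ x : K, x ≠ 0 ∧ D = Finsupp.single P 1 - Finsupp.single P₀ 1 + FunFld.div k x := by
  have hdeg : (D + Finsupp.single P₀ 1).deg = 1 := by
    rw [deg_add, deg_single, hD, hP]; norm_num
  have h1 := ell_eq_of_deg_ge hK (D + Finsupp.single P₀ 1) (by rw [hdeg, hg]; norm_num)
  rw [hdeg, hg] at h1
  have h2 : 0 < ell (D + Finsupp.single P₀ 1) := by
    have : (0 : ℤ) < (ell (D + Finsupp.single P₀ 1) : ℤ) := by rw [h1]; norm_num
    exact_mod_cast this
  obtain ⟨x, hx0, hx⟩ := exists_ne_zero_mem_L_of_ell_pos h2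
  have h3 := (mem_L_iff_div hK _ hx0).mp hx
  obtain ⟨P, hPE, hPdeg⟩ := exists_single_of_nonneg_of_deg_eq_one hK h3
    (by rw [deg_add_div hK, hdeg])
  refine ⟨P, ⟨hPdeg, x⁻¹, inv_ne_zero hx0, ?_⟩, ?_⟩
  · rw [div_inv hK, ← hPE]; abel
  · rintro P' ⟨hP'deg, x', hx'0, hx'⟩
    have hx1 : D = Finsupp.single P 1 - Finsupp.single P₀ 1 + FunFld.div k x⁻¹ := by
      rw [div_inv hK, ← hPE]; abel
    have h4 : (Finsupp.single P' 1 - Finsupp.single P 1 : Divisor k K) =
        FunFld.div k (x⁻¹ * x'⁻¹) := by
      rw [div_mul hK (inv_ne_zero hx0) (inv_ne_zero hx'0), div_inv hK x']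
      have : (Finsupp.single P' 1 - Finsupp.single P₀ 1 + FunFld.div k x' : Divisor k K) =
          Finsupp.single P 1 - Finsupp.single P₀ 1 + FunFld.div k x⁻¹ := by
        rw [← hx', ← hx1]
      have h5 : (Finsupp.single P' 1 - Finsupp.single P 1 : Divisor k K) =
          (Finsupp.single P' 1 - Finsupp.single P₀ 1 + FunFld.div k x') -
            (Finsupp.single P 1 - Finsupp.single P₀ 1) - FunFld.div k x' := by abel
      rw [h5, this]; abel
    exact eq_of_single_sub_single_eq_div hK (by omega) hPdeg h4

end Groth.Agent.Lib.Helper18.FF
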