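import Groth.Agent.Lib.Helper18.FF.LinEquiv

/-! # Some linear-equivalence arguments in genus two -/

set_option autoImplicit false
set_option linter.style.haveILetI false

namespace Groth.Agent.Lib.Helper18.FF

open FunFld WithZero

universe u v

variable {k : Type u} {K : Type v} [Field k] [Field K] [Algebra k K] [IsAlgClosed k]

theorem genus_two_no_weight_three_a (hK : IsFunctionField k K) (hg : genus k K = 2)
    (C : Divisor k K) (hC : IsCanonical k K C) (A P Q : Place k K)
    (hA : Module.finrank k ↥(L (Finsupp.single A (2 : ℤ))) = 1) (hQ : Q ≠ A) :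
    ¬ (Module.finrank k ↥(L (C + Finsupp.single A (2 : ℤ) - Finsupp.single P (1 : ℤ) -
          Finsupp.single Q (3 : ℤ))) = 1 ∧
       Module.finrank k ↥(L (C + Finsupp.single A (2 : ℤ) - Finsupp.single P (1 : ℤ) -
          Finsupp.single Q (1 : ℤ))) = 2) := by
  classical
  rintro ⟨-, h2⟩
  have hdC := deg_canonical hK hC
  rw [hg] at hdC
  have hdeg : (C + Finsupp.single A (2 : ℤ) - Finsupp.single P (1 : ℤ) -
      Finsupp.single Q (1 : ℤ) : Divisor k K).deg = 2 := by
    rw [deg_sub, deg_sub, deg_add, deg_single, deg_single, deg_single,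
      deg_eq_one_of_isAlgClosed hK A, deg_eq_one_of_isAlgClosed hK P,
      deg_eq_one_of_isAlgClosed hK Q, hdC]
    norm_num
  obtain ⟨h, hh0, hh⟩ := exists_div_of_deg_two_of_ell_two hK hg hC hdeg (le_of_eq h2.symm)
  have e : FunFld.div k h = Finsupp.single A (2 : ℤ) - Finsupp.single P (1 : ℤ) -
      Finsupp.single Q (1 : ℤ) := by
    have : FunFld.div k h = (C - (C + Finsupp.single A (2 : ℤ) - Finsupp.single P (1 : ℤ) -
        Finsupp.single Q (1 : ℤ)) + FunFld.div k h) + (Finsupp.single A (2 : ℤ) -
        Finsupp.single P (1 : ℤ) - Finsupp.single Q (1 : ℤ)) := by abel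
    rw [this, hh, zero_add]
  have hinv : (0 : Divisor k K) ≤ Finsupp.single A (2 : ℤ) + FunFld.div k h⁻¹ := by
    rw [div_inv hK, e]
    have : Finsupp.single A (2 : ℤ) + -(Finsupp.single A (2 : ℤ) - Finsupp.single P (1 : ℤ) -
        Finsupp.single Q (1 : ℤ)) = (Finsupp.single P (1 : ℤ) + Finsupp.single Q (1 : ℤ) :
        Divisor k K) := by abel
    rw [this]
    exact add_nonneg (single_nonneg' P (by norm_num)) (single_nonneg' Q (by norm_num))
  have hz := div_eq_zero_of_nonneg_of_ell_eq_one hK (single_nonneg' A (by norm_num)) hA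
    (inv_ne_zero hh0) hinv
  rw [div_inv hK, neg_eq_zero, e] at hz
  have := DFunLike.congr_fun hz Q
  simp only [Finsupp.sub_apply, Finsupp.single_apply, Finsupp.zero_apply, if_neg hQ.symm,
    if_true] at this
  split_ifs at this <;> omega


theorem genus_two_no_weight_three_b (hK : IsFunctionField k K) (hg : genus k K = 2)
    (C : Divisor k K) (hC : IsCanonical k K C) (A P Q : Place k K) (hP : P ≠ A) :
    ¬ (Module.finrank k ↥(L (C + Finsupp.single A (3 : ℤ) - Finsupp.single P (1 : ℤ) -
          Finsupp.single Q (4 : ℤ))) = 1 ∧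
       Module.finrank k ↥(L (C + Finsupp.single A (3 : ℤ) - Finsupp.single P (1 : ℤ) -
          Finsupp.single Q (2 : ℤ))) = 2) := by
  classical
  rintro ⟨h1, h2⟩
  have hdC := deg_canonical hK hC
  rw [hg] at hdC
  have hdeg1 : (C + Finsupp.single A (3 : ℤ) - Finsupp.single P (1 : ℤ) -
      Finsupp.single Q (4 : ℤ) : Divisor k K).deg = 0 := by
    rw [deg_sub, deg_sub, deg_add, deg_single, deg_single, deg_single,
      deg_eq_one_of_isAlgClosed hK A, deg_eq_one_of_isAlgClosed hK P,
      deg_eq_one_of_isAlgClosed hK Q, hdC]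
    norm_num
  have hdeg2 : (C + Finsupp.single A (3 : ℤ) - Finsupp.single P (1 : ℤ) -
      Finsupp.single Q (2 : ℤ) : Divisor k K).deg = 2 := by
    rw [deg_sub, deg_sub, deg_add, deg_single, deg_single, deg_single,
      deg_eq_one_of_isAlgClosed hK A, deg_eq_one_of_isAlgClosed hK P,
      deg_eq_one_of_isAlgClosed hK Q, hdC]
    norm_num
  obtain ⟨f₁, hf₁0, hf₁⟩ := exists_div_of_deg_zero_of_ell_pos hK hdeg1
    (by show 0 < Module.finrank k _; omega)
  obtain ⟨f₂, hf₂0, hf₂⟩ := exists_div_of_deg_two_of_ell_two hK hg hC hdeg2 (le_of_eq h2.symm)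
  have e₂ : Finsupp.single A (3 : ℤ) - Finsupp.single P (1 : ℤ) =
      (Finsupp.single Q (2 : ℤ) + FunFld.div k f₂ : Divisor k K) := by
    have : (Finsupp.single Q (2 : ℤ) + FunFld.div k f₂ : Divisor k K) =
        (C - (C + Finsupp.single A (3 : ℤ) - Finsupp.single P (1 : ℤ) -
          Finsupp.single Q (2 : ℤ)) + FunFld.div k f₂) +
        (Finsupp.single A (3 : ℤ) - Finsupp.single P (1 : ℤ)) := by abel
    rw [this, hf₂, zero_add]
  have e₁ : (Finsupp.single Q (2 : ℤ) : Divisor k K) = C + FunFld.div k (f₁ * f₂) := by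
    rw [div_mul hK hf₁0 hf₂0]
    have : C + (FunFld.div k f₁ + FunFld.div k f₂) =
        (C + Finsupp.single A (3 : ℤ) - Finsupp.single P (1 : ℤ) - Finsupp.single Q (4 : ℤ) +
          FunFld.div k f₁) +
        (C - (C + Finsupp.single A (3 : ℤ) - Finsupp.single P (1 : ℤ) -
          Finsupp.single Q (2 : ℤ)) + FunFld.div k f₂) +
        (Finsupp.single Q (4 : ℤ) - Finsupp.single Q (2 : ℤ)) := by abel
    rw [this, hf₁, hf₂, zero_add, zero_add, ← Finsupp.single_sub]
    norm_num
  have hℓ1 : ell (Finsupp.single A (3 : ℤ) - Finsupp.single P (1 : ℤ) : Divisor k K) = 2 := by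
    rw [e₂, ell_add_div hK _ hf₂0, e₁, ell_add_div hK _ (mul_ne_zero hf₁0 hf₂0),
      ell_canonical hK hC, hg]
  have hℓ2 : ell (Finsupp.single A (3 : ℤ) : Divisor k K) = 2 := by
    have := ell_eq_of_deg_ge hK (Finsupp.single A (3 : ℤ) : Divisor k K) (by
      rw [deg_single, deg_eq_one_of_isAlgClosed hK A, hg]; norm_num)
    rw [deg_single, deg_eq_one_of_isAlgClosed hK A, hg] at this
    have h' : (ell (Finsupp.single A (3 : ℤ) : Divisor k K) : ℤ) = 2 := by
      rw [this]; norm_num
    exact_mod_cast h'
  haveI := finiteDimensional_L hK (Finsupp.single A (3 : ℤ) : Divisor k K)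
  have hle : L (Finsupp.single A (3 : ℤ) - Finsupp.single P (1 : ℤ) : Divisor k K) ≤
      L (Finsupp.single A (3 : ℤ) : Divisor k K) := by
    apply L_mono
    intro R
    simp only [Finsupp.sub_apply, Finsupp.single_apply]
    split_ifs <;> omega
  have heq := Submodule.eq_of_le_of_finrank_eq hle (by
    show ell _ = ell _
    rw [hℓ1, hℓ2])
  have h1mem : (1 : K) ∈ L (Finsupp.single A (3 : ℤ) : Divisor k K) :=
    one_mem_L_of_nonneg (single_nonneg' A (by norm_num))
  rw [← heq] at h1mem
  have := h1mem P
  rw [map_one, ← exp_zero, exp_le_exp] at this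
  simp only [Finsupp.sub_apply, Finsupp.single_apply, if_neg hP.symm, if_true] at this
  omega


theorem single_two (P : Place k K) :
    (Finsupp.single P (2 : ℤ) : Divisor k K) = Finsupp.single P 1 + Finsupp.single P 1 := by
  rw [← Finsupp.single_add]; norm_num

theorem genus_two_no_common_ramification (hK : IsFunctionField k K) (hg : genus k K = 2)
    (C : Divisor k K) (hC : IsCanonical k K C) (B Q : Place k K)
    (hB : Module.finrank k ↥(L (Finsupp.single B (2 : ℤ))) = 1) (hQ : Q ≠ B) :
    ¬ (Module.finrank k ↥(L (C + Finsupp.single B (1 : ℤ) - Finsupp.single Q (2 : ℤ))) = 1 ∧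
       Module.finrank k ↥(L (C + Finsupp.single B (3 : ℤ) - Finsupp.single Q (4 : ℤ))) = 1) := by
  classical
  rintro ⟨h1, h2⟩
  have hdC := deg_canonical hK hC
  rw [hg] at hdC
  have hg0 : 0 < genus k K := by omega
  have dB := deg_eq_one_of_isAlgClosed hK B
  have dQ := deg_eq_one_of_isAlgClosed hK Q
  -- Step 1: `ℓ(2Q - B) = 1`
  have hℓ1 : ell (Finsupp.single Q (2 : ℤ) - Finsupp.single B (1 : ℤ) : Divisor k K) = 1 := by
    have hrr := riemann_roch hK hC (C + Finsupp.single B (1 : ℤ) - Finsupp.single Q (2 : ℤ))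
    have e : C - (C + Finsupp.single B (1 : ℤ) - Finsupp.single Q (2 : ℤ)) =
        (Finsupp.single Q (2 : ℤ) - Finsupp.single B (1 : ℤ) : Divisor k K) := by abel
    have h1' : ell (C + Finsupp.single B (1 : ℤ) - Finsupp.single Q (2 : ℤ)) = 1 := h1
    rw [e, h1', deg_sub, deg_add, deg_single, deg_single, dB, dQ, hdC, hg] at hrr
    push_cast at hrr
    have : (ell (Finsupp.single Q (2 : ℤ) - Finsupp.single B (1 : ℤ) : Divisor k K) : ℤ) = 1 := by
      linarith
    exact_mod_cast this
  -- Step 2
  obtain ⟨f, hf0, R, hfR⟩ := exists_place_of_deg_one_of_ell_pos hK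
    (E := (Finsupp.single Q (2 : ℤ) - Finsupp.single B (1 : ℤ) : Divisor k K))
    (by rw [deg_sub, deg_single, deg_single, dB, dQ]; norm_num) (by omega)
  have dR := deg_eq_one_of_isAlgClosed hK R
  have ef : FunFld.div k f = Finsupp.single R (1 : ℤ) + Finsupp.single B (1 : ℤ) -
      Finsupp.single Q (2 : ℤ) := by
    rw [← hfR]; abel
  by_cases hRB : R = B
  · -- `2Q ∼ 2B`
    have hinv : (0 : Divisor k K) ≤ Finsupp.single B (2 : ℤ) + FunFld.div k f⁻¹ := by
      rw [div_inv hK, ef, hRB, single_two B]
      have : Finsupp.single B (1 : ℤ) + Finsupp.single B (1 : ℤ) +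
          -(Finsupp.single B (1 : ℤ) + Finsupp.single B (1 : ℤ) - Finsupp.single Q (2 : ℤ)) =
          (Finsupp.single Q (2 : ℤ) : Divisor k K) := by abel
      rw [this]
      exact single_nonneg' Q (by norm_num)
    have hz := div_eq_zero_of_nonneg_of_ell_eq_one hK (single_nonneg' B (by norm_num)) hB
      (inv_ne_zero hf0) hinv
    rw [div_inv hK, neg_eq_zero, ef, hRB] at hz
    have := DFunLike.congr_fun hz Q
    simp only [Finsupp.sub_apply, Finsupp.add_apply, Finsupp.single_apply, Finsupp.zero_apply,
      if_neg hQ.symm, if_true] at this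
    omega
  · -- `R ≠ B`
    have hBRnn : (0 : Divisor k K) ≤ Finsupp.single B (1 : ℤ) + Finsupp.single R (1 : ℤ) :=
      add_nonneg (single_nonneg' B (by norm_num)) (single_nonneg' R (by norm_num))
    have hinv : (0 : Divisor k K) ≤ Finsupp.single B (1 : ℤ) + Finsupp.single R (1 : ℤ) +
        FunFld.div k f⁻¹ := by
      rw [div_inv hK, ef]
      have : Finsupp.single B (1 : ℤ) + Finsupp.single R (1 : ℤ) +
          -(Finsupp.single R (1 : ℤ) + Finsupp.single B (1 : ℤ) - Finsupp.single Q (2 : ℤ)) =
          (Finsupp.single Q (2 : ℤ) : Divisor k K) := by abel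
      rw [this]
      exact single_nonneg' Q (by norm_num)
    by_cases hℓBR : ell (Finsupp.single B (1 : ℤ) + Finsupp.single R (1 : ℤ) : Divisor k K) = 1
    · have hz := div_eq_zero_of_nonneg_of_ell_eq_one hK hBRnn hℓBR (inv_ne_zero hf0) hinv
      rw [div_inv hK, neg_eq_zero, ef] at hz
      have := DFunLike.congr_fun hz B
      simp only [Finsupp.sub_apply, Finsupp.add_apply, Finsupp.single_apply, Finsupp.zero_apply,
        if_neg hQ, if_neg hRB, if_true] at this
      omega
    · have hℓBR2 : 2 ≤ ell (Finsupp.single B (1 : ℤ) + Finsupp.single R (1 : ℤ) :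
          Divisor k K) := by
        have := ell_pos_of_nonneg hK hBRnn
        omega
      obtain ⟨h, hh0, hh⟩ := exists_div_of_deg_two_of_ell_two hK hg hC
        (E := (Finsupp.single B (1 : ℤ) + Finsupp.single R (1 : ℤ) : Divisor k K))
        (by rw [deg_add, deg_single, deg_single, dB, dR]; norm_num) hℓBR2
      -- Step 5: `ℓ(4Q - 3B) = 1`
      have hℓ2 : ell (Finsupp.single Q (4 : ℤ) - Finsupp.single B (3 : ℤ) : Divisor k K) = 1 := by
        have hrr := riemann_roch hK hC (C + Finsupp.single B (3 : ℤ) - Finsupp.single Q (4 : ℤ))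
        have e : C - (C + Finsupp.single B (3 : ℤ) - Finsupp.single Q (4 : ℤ)) =
            (Finsupp.single Q (4 : ℤ) - Finsupp.single B (3 : ℤ) : Divisor k K) := by abel
        have h2' : ell (C + Finsupp.single B (3 : ℤ) - Finsupp.single Q (4 : ℤ)) = 1 := h2
        rw [e, h2', deg_sub, deg_add, deg_single, deg_single, dB, dQ, hdC, hg] at hrr
        push_cast at hrr
        have : (ell (Finsupp.single Q (4 : ℤ) - Finsupp.single B (3 : ℤ) : Divisor k K) : ℤ) =
            1 := by linarith
        exact_mod_cast this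
      have e5 : (Finsupp.single R (2 : ℤ) - Finsupp.single B (1 : ℤ) : Divisor k K) =
          Finsupp.single Q (4 : ℤ) - Finsupp.single B (3 : ℤ) + FunFld.div k (f * f) := by
        rw [div_mul hK hf0 hf0, ef, single_two R,
          show (Finsupp.single Q (4 : ℤ) : Divisor k K) =
            Finsupp.single Q 2 + Finsupp.single Q 2 by rw [← Finsupp.single_add]; norm_num,
          show (Finsupp.single B (3 : ℤ) : Divisor k K) =
            Finsupp.single B 1 + Finsupp.single B 1 + Finsupp.single B 1 by
              rw [← Finsupp.single_add, ← Finsupp.single_add]; norm_num]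
        abel
      have hℓ3 : ell (Finsupp.single R (2 : ℤ) - Finsupp.single B (1 : ℤ) : Divisor k K) = 1 := by
        rw [e5, ell_add_div hK _ (mul_ne_zero hf0 hf0), hℓ2]
      obtain ⟨u, hu0, R', huR'⟩ := exists_place_of_deg_one_of_ell_pos hK
        (E := (Finsupp.single R (2 : ℤ) - Finsupp.single B (1 : ℤ) : Divisor k K))
        (by rw [deg_sub, deg_single, deg_single, dB, dR]; norm_num) (by omega)
      have eu : FunFld.div k u = Finsupp.single R' (1 : ℤ) + Finsupp.single B (1 : ℤ) -
          Finsupp.single R (2 : ℤ) := by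
        rw [← huR']; abel
      have hunn : (0 : Divisor k K) ≤ Finsupp.single R (2 : ℤ) + FunFld.div k u := by
        rw [eu]
        have : Finsupp.single R (2 : ℤ) + (Finsupp.single R' (1 : ℤ) + Finsupp.single B (1 : ℤ) -
            Finsupp.single R (2 : ℤ)) =
            (Finsupp.single R' (1 : ℤ) + Finsupp.single B (1 : ℤ) : Divisor k K) := by abel
        rw [this]
        exact add_nonneg (single_nonneg' R' (by norm_num)) (single_nonneg' B (by norm_num))
      by_cases hℓ2R : ell (Finsupp.single R (2 : ℤ) : Divisor k K) = 1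
      · have hz := div_eq_zero_of_nonneg_of_ell_eq_one hK (single_nonneg' R (by norm_num)) hℓ2R
          hu0 hunn
        rw [eu] at hz
        have := DFunLike.congr_fun hz B
        simp only [Finsupp.sub_apply, Finsupp.add_apply, Finsupp.single_apply, Finsupp.zero_apply,
          if_neg hRB, if_true] at this
        split_ifs at this <;> omega
      · have hℓ2R2 : 2 ≤ ell (Finsupp.single R (2 : ℤ) : Divisor k K) := by
          have := ell_pos_of_nonneg hK (single_nonneg' R (by norm_num : (0 : ℤ) ≤ 2))
          omega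
        obtain ⟨w, hw0, hw⟩ := exists_div_of_deg_two_of_ell_two hK hg hC
          (E := (Finsupp.single R (2 : ℤ) : Divisor k K))
          (by rw [deg_single, dR]; norm_num) hℓ2R2
        have ez : FunFld.div k (h * w⁻¹) = Finsupp.single B (1 : ℤ) - Finsupp.single R (1 : ℤ) := by
          rw [div_mul hK hh0 (inv_ne_zero hw0), div_inv hK]
          have : FunFld.div k h + -FunFld.div k w =
              (C - (Finsupp.single B (1 : ℤ) + Finsupp.single R (1 : ℤ)) + FunFld.div k h) -
              (C - Finsupp.single R (2 : ℤ) + FunFld.div k w) +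
              (Finsupp.single B (1 : ℤ) + Finsupp.single R (1 : ℤ) - Finsupp.single R (2 : ℤ)) := by
            abel
          rw [this, hh, hw, single_two R]
          abel
        have hznn : (0 : Divisor k K) ≤ Finsupp.single R (1 : ℤ) + FunFld.div k (h * w⁻¹) := by
          rw [ez]
          have : Finsupp.single R (1 : ℤ) + (Finsupp.single B (1 : ℤ) - Finsupp.single R (1 : ℤ)) =
              (Finsupp.single B (1 : ℤ) : Divisor k K) := by abel
          rw [this]
          exact single_nonneg' B (by norm_num)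
        have hℓR : ell (Finsupp.single R (1 : ℤ) : Divisor k K) = 1 := by
          have h1 := ell_le_one_of_deg_eq_one hK hg0
            (E := (Finsupp.single R (1 : ℤ) : Divisor k K)) (by rw [deg_single, dR]; norm_num)
          have h2 := ell_pos_of_nonneg hK (single_nonneg' R (by norm_num : (0 : ℤ) ≤ 1))
          omega
        have hz := div_eq_zero_of_nonneg_of_ell_eq_one hK (single_nonneg' R (by norm_num)) hℓR
          (mul_ne_zero hh0 (inv_ne_zero hw0)) hznn
        rw [ez] at hz
        have := DFunLike.congr_fun hz B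
        simp only [Finsupp.sub_apply, Finsupp.single_apply, Finsupp.zero_apply,
          if_neg hRB, if_true] at this
        omega

end Groth.Agent.Lib.Helper18.FF
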