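import Groth.Agent.Lib.Helper18.FF.Embedding
import Groth.Agent.Lib.Helper18.FF.RiemannRoch

/-! # Divisors with two sections give maps to the line of degree at most `deg D` -/

set_option autoImplicit false
set_option linter.style.haveILetI false

namespace Groth.Agent.Lib.Helper18.FF

open FunFld WithZero

universe u v

variable {k : Type u} {K : Type v} [Field k] [Field K] [Algebra k K]

/-- If `ℓ(D) ≥ 2` then `K` has degree at most `deg D` over some `k(f)`. -/
theorem exists_transcendental_finrank_le (hK : IsFunctionField k K) (D : Divisor k K)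
    (h : 2 ≤ ell D) :
    ∃ f : K, Transcendental k f ∧
      (Module.finrank (IntermediateField.adjoin k ({f} : Set K)) K : ℤ) ≤ D.deg := by
  obtain ⟨x, hx0, hx⟩ := exists_ne_zero_mem_L_of_ell_pos (D := D) (by omega)
  obtain ⟨D', hD'⟩ : ∃ D' : Divisor k K, D' = D + FunFld.div k x := ⟨_, rfl⟩
  have hD'nn : 0 ≤ D' := by
    rw [hD']
    exact (mem_L_iff_div hK D hx0).mp hx
  have hell : ell D' = ell D := by
    rw [hD']
    exact ell_add_div hK D hx0
  have hdeg : D'.deg = D.deg := by
    rw [hD']
    exact deg_add_div hK D x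
  have hex : ∃ f ∈ L D', f ∉ Set.range (algebraMap k K) := by
    by_contra hcon
    push Not at hcon
    have hle : L D' ≤ L (0 : Divisor k K) := by
      intro f hf
      obtain ⟨c, rfl⟩ := hcon f hf
      intro R
      rw [Finsupp.zero_apply, exp_zero]
      exact val_algebraMap_le R c
    haveI := finiteDimensional_L hK (0 : Divisor k K)
    have h4 := Submodule.finrank_mono hle
    have h5 := ell_zero hK (k := k) (K := K)
    unfold ell at h5 hell h
    omega
  obtain ⟨f, hf, hfn⟩ := hex
  have hf0 : f ≠ 0 := by
    rintro rfl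
    exact hfn ⟨0, map_zero _⟩
  have hft := transcendental_of_not_mem hK hfn
  refine ⟨f, hft, ?_⟩
  have hpole : poleDiv (k := k) f ≤ D' := by
    intro R
    rw [poleDiv_apply hK]
    have h6 := (val_le_exp_iff R hf0 (D' R)).mp (hf R)
    have h7 : (0 : ℤ) ≤ D' R := hD'nn R
    omega
  have h8 : (poleDiv (k := k) f).deg ≤ D'.deg := by
    have h9 := deg_nonneg_of_nonneg (sub_nonneg.mpr hpole)
    rw [deg_sub] at h9
    linarith
  have h10 := finrank_le_deg_poleDiv hK hft
  rw [← hdeg]
  exact h10.trans h8

end Groth.Agent.Lib.Helper18.FF
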