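import Groth.Agent.Lib.Helper18.FF.GaussKer
import Groth.Agent.Lib.Helper18.FF.ChartHom
import Mathlib.Algebra.MvPolynomial.Equiv
import Mathlib.FieldTheory.RatFunc.Basic
import Mathlib.RingTheory.Algebraic.Basic

/-! # The homogeneous relation ideal of a projective plane map is principal -/

set_option autoImplicit false

namespace Groth.Agent.Lib.Helper18.FF

open MvPolynomial

variable {k K : Type*} [Field k] [Field K] [Algebra k K]

/-- A nonzero binary form does not vanish at `(1, w)` for `w` transcendental. -/
theorem binaryForm_eq_zero {h : MvPolynomial (Fin 2) k} {d : ℕ} (hh : h.IsHomogeneous d)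
    {w : K} (hw : Transcendental k w) (h0 : aeval ![(1 : K), w] h = 0) : h = 0 := by
  classical
  set p : Polynomial k := aeval ![(1 : Polynomial k), Polynomial.X] h with hp
  have hpw : Polynomial.aeval w p = aeval ![(1 : K), w] h := by
    rw [hp, comp_aeval_apply]
    have : (fun i => Polynomial.aeval w (![(1 : Polynomial k), Polynomial.X] i)) =
        ![(1 : K), w] := by
      funext i
      fin_cases i <;> simp
    rw [this]
  have hp0 : p = 0 := by
    by_contra hne
    exact hw ⟨p, hne, by rw [hpw, h0]⟩
  by_contra hne
  have hsupp : h.support.Nonempty := by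
    rw [Finset.nonempty_iff_ne_empty, Ne, support_eq_empty]
    exact hne
  obtain ⟨m₀, hm₀⟩ := hsupp
  have hdeg : ∀ m ∈ h.support, m 0 + m 1 = d := by
    intro m hm
    have h2 : ∑ i, m i = d := by
      rw [← Finsupp.degree_eq_sum]
      have := hh (mem_support_iff.mp hm)
      rw [← this, Finsupp.degree_eq_weight_one]
      rfl
    rwa [Fin.sum_univ_two] at h2
  have hcoeff : p.coeff (m₀ 1) = coeff m₀ h := by
    rw [hp, aeval_def, eval₂_eq', Polynomial.finset_sum_coeff]
    have hterm : ∀ m : Fin 2 →₀ ℕ,
        ((algebraMap k (Polynomial k)) (coeff m h) *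
          ∏ i, (![(1 : Polynomial k), Polynomial.X] i) ^ m i).coeff (m₀ 1) =
        if m₀ 1 = m 1 then coeff m h else 0 := by
      intro m
      rw [Fin.prod_univ_two]
      simp only [Matrix.cons_val_zero, Matrix.cons_val_one, one_pow, one_mul,
        Polynomial.algebraMap_apply, Algebra.algebraMap_self_apply, Polynomial.coeff_C_mul_X_pow]
    simp only [hterm]
    rw [Finset.sum_eq_single m₀]
    · rw [if_pos rfl]
    · intro m hm hne'
      rw [if_neg]
      intro h1
      apply hne'
      have h2 := hdeg m hm
      have h3 := hdeg m₀ hm₀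
      ext i
      fin_cases i
      · show m 0 = m₀ 0
        omega
      · exact h1.symm
    · intro h1; exact absurd hm₀ h1
  rw [hp0, Polynomial.coeff_zero] at hcoeff
  exact mem_support_iff.mp hm₀ hcoeff.symm

/-- The map `Xᵢ ↦ φᵢ T` on two variables is injective when `φ₁ / φ₀` is transcendental. -/
theorem aeval_CX_injective (φ' : Fin 2 → K) (h0 : φ' 0 ≠ 0)
    (hw : Transcendental k (φ' 1 / φ' 0)) :
    Function.Injective (aeval (R := k)
      fun i => Polynomial.C (φ' i) * (Polynomial.X : Polynomial K)) := by
  classical
  rw [injective_iff_map_eq_zero]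
  intro g hg
  have hcomp : ∀ e, aeval φ' (homogeneousComponent e g) = 0 := by
    intro e
    have h1 : aeval (R := k) (fun i => Polynomial.C (φ' i) * (Polynomial.X : Polynomial K)) g =
        ∑ d ∈ Finset.range (g.totalDegree + 1),
          Polynomial.C (aeval φ' (homogeneousComponent d g)) * Polynomial.X ^ d := by
      conv_lhs => rw [← sum_homogeneousComponent g]
      rw [map_sum]
      refine Finset.sum_congr rfl fun d _ => ?_
      exact aeval_CX_of_isHomogeneous (homogeneousComponent_isHomogeneous d g) φ'
    rw [h1] at hg
    have h2 := congrArg (fun q : Polynomial K => q.coeff e) hg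
    simp only [Polynomial.finset_sum_coeff, Polynomial.coeff_C_mul_X_pow,
      Polynomial.coeff_zero] at h2
    by_cases he : e ∈ Finset.range (g.totalDegree + 1)
    · rw [Finset.sum_eq_single e] at h2
      · rwa [if_pos rfl] at h2
      · intro d _ hd
        rw [if_neg (Ne.symm hd)]
      · intro h3; exact absurd he h3
    · rw [homogeneousComponent_eq_zero, map_zero]
      have := Finset.mem_range.not.mp he
      omega
  have hzero : ∀ e, homogeneousComponent e g = 0 := by
    intro e
    have hhom := homogeneousComponent_isHomogeneous e g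
    refine binaryForm_eq_zero hhom hw ?_
    have h1 : φ' = fun i => φ' 0 * (![(1 : K), φ' 1 / φ' 0] i) := by
      funext i
      fin_cases i
      · simp
      · simp only [Fin.mk_one, Matrix.cons_val_one, Matrix.cons_val_zero]
        field_simp
    have h2 := hcomp e
    rw [h1, aeval_mul_of_isHomogeneous' hhom] at h2
    exact (mul_eq_zero.mp h2).resolve_left (pow_ne_zero _ h0)
  rw [← sum_homogeneousComponent g]
  exact Finset.sum_eq_zero fun e _ => hzero e

end Groth.Agent.Lib.Helper18.FF
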