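import Groth.Agent.Lib.Helper18.FF.HomKer2
import Mathlib.Algebra.MvPolynomial.NoZeroDivisors
import Mathlib.Algebra.MvPolynomial.Rename

/-! # The homogeneous relation ideal of a projective plane map: permutations, homogeneity of the
generator -/

set_option autoImplicit false

namespace Groth.Agent.Lib.Helper18.FF

open MvPolynomial

variable {k K : Type*} [Field k] [Field K] [Algebra k K]

/-- Permuted version of `dvd_of_mem_ker_CX`. -/
theorem dvd_of_mem_ker_CX_perm (φ : Fin 3 → K) (σ : Equiv.Perm (Fin 3)) (h1 : φ (σ 1) ≠ 0)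
    (hw : Transcendental k (φ (σ 2) / φ (σ 1))) {f g : MvPolynomial (Fin 3) k}
    (hf : Irreducible f)
    (hfker : aeval (R := k) (fun i => Polynomial.C (φ i) * (Polynomial.X : Polynomial K)) f = 0)
    (hgker : aeval (R := k) (fun i => Polynomial.C (φ i) * (Polynomial.X : Polynomial K)) g = 0) :
    f ∣ g := by
  have hren : ∀ q : MvPolynomial (Fin 3) k,
      aeval (R := k) (fun i => Polynomial.C ((φ ∘ σ) i) * (Polynomial.X : Polynomial K))
        (rename σ.symm q) =
      aeval (R := k) (fun i => Polynomial.C (φ i) * (Polynomial.X : Polynomial K)) q := by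
    intro q
    rw [aeval_rename]
    have : ((fun i => Polynomial.C ((φ ∘ σ) i) * (Polynomial.X : Polynomial K)) ∘ σ.symm) =
        fun i => Polynomial.C (φ i) * (Polynomial.X : Polynomial K) := by
      funext i
      simp
    rw [this]
  have hirr : Irreducible (rename σ.symm f) :=
    (MulEquiv.irreducible_iff (renameEquiv k σ.symm).toMulEquiv).mpr hf
  have hdvd := dvd_of_mem_ker_CX (φ ∘ σ) h1 hw hirr (by rw [hren, hfker]) (by rw [hren, hgker])
    (g := rename σ.symm g)
  have h2 := map_dvd (rename σ : MvPolynomial (Fin 3) k →ₐ[k] MvPolynomial (Fin 3) k) hdvd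
  rw [rename_rename, rename_rename] at h2
  simpa using h2

/-- The relation ideal of `(φᵢ T)` is homogeneous. -/
theorem homogeneousComponent_mem_ker_CX {σ : Type*} [Fintype σ] (φ : σ → K)
    {g : MvPolynomial σ k}
    (hg : aeval (R := k) (fun i => Polynomial.C (φ i) * (Polynomial.X : Polynomial K)) g = 0)
    (e : ℕ) :
    aeval (R := k) (fun i => Polynomial.C (φ i) * (Polynomial.X : Polynomial K))
      (homogeneousComponent e g) = 0 := by
  classical
  have h1 : aeval (R := k) (fun i => Polynomial.C (φ i) * (Polynomial.X : Polynomial K)) g =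
      ∑ d ∈ Finset.range (g.totalDegree + 1),
        Polynomial.C (aeval φ (homogeneousComponent d g)) * Polynomial.X ^ d := by
    conv_lhs => rw [← sum_homogeneousComponent g]
    rw [map_sum]
    refine Finset.sum_congr rfl fun d _ => ?_
    exact aeval_CX_of_isHomogeneous (homogeneousComponent_isHomogeneous d g) φ
  rw [h1] at hg
  have h2 := congrArg (fun q : Polynomial K => q.coeff e) hg
  simp only [Polynomial.finset_sum_coeff, Polynomial.coeff_C_mul_X_pow,
    Polynomial.coeff_zero] at h2
  rw [aeval_CX_of_isHomogeneous (homogeneousComponent_isHomogeneous e g)]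
  by_cases he : e ∈ Finset.range (g.totalDegree + 1)
  · rw [Finset.sum_eq_single e] at h2
    · rw [if_pos rfl] at h2
      rw [h2, map_zero, zero_mul]
    · intro d _ hd
      rw [if_neg (Ne.symm hd)]
    · intro h3; exact absurd he h3
  · rw [homogeneousComponent_eq_zero, map_zero, map_zero, zero_mul]
    have := Finset.mem_range.not.mp he
    omega

/-- A generator of a homogeneous ideal of a polynomial domain is homogeneous. -/
theorem isHomogeneous_of_generator {σ : Type*} [Fintype σ] {f : MvPolynomial σ k} (hf0 : f ≠ 0)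
    (hdvd : f ∣ homogeneousComponent f.totalDegree f) : f.IsHomogeneous f.totalDegree := by
  classical
  set D := f.totalDegree with hD
  have htop : homogeneousComponent D f ≠ 0 := by
    have hsupp : f.support.Nonempty := by
      rw [Finset.nonempty_iff_ne_empty, Ne, support_eq_empty]; exact hf0
    obtain ⟨d₀, hd₀, hd₀D⟩ := Finset.exists_mem_eq_sup f.support hsupp
      (fun s => s.sum fun _ e => e)
    intro h0
    have h1 := congrArg (coeff d₀) h0
    rw [coeff_homogeneousComponent, coeff_zero] at h1
    have h2 : d₀.degree = D := by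
      rw [hD, MvPolynomial.totalDegree, hd₀D, Finsupp.degree_eq_sum, Finsupp.sum_fintype]
      intro i; rfl
    rw [if_pos h2] at h1
    exact mem_support_iff.mp hd₀ h1
  obtain ⟨q, hq⟩ := hdvd
  have hq0 : q ≠ 0 := by
    intro h0; rw [h0, mul_zero] at hq; exact htop hq
  have hdeg : (homogeneousComponent D f).totalDegree ≤ D :=
    (homogeneousComponent_isHomogeneous D f).totalDegree_le
  rw [hq, totalDegree_mul_of_isDomain hf0 hq0] at hdeg
  have hq' : q.totalDegree = 0 := by omega
  rw [totalDegree_eq_zero_iff_eq_C] at hq'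
  set c := coeff 0 q with hc
  have hc0 : c ≠ 0 := by
    intro h0; rw [hq', h0, map_zero] at hq0; exact hq0 rfl
  have hf' : f = C c⁻¹ * homogeneousComponent D f := by
    rw [hq, hq', mul_comm f, ← mul_assoc, ← C_mul, inv_mul_cancel₀ hc0, map_one, one_mul]
  rw [hf']
  exact (homogeneousComponent_isHomogeneous D f).C_mul _

end Groth.Agent.Lib.Helper18.FF
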