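import Groth.Agent.Lib.Helper24.FFExt.IntClosure
import Groth.Agent.Lib.Helper24.FFExt.Inertia2
import Groth.Agent.Lib.Helper24.FFExt.Fundamental
import Groth.Agent.Lib.Helper18.FF.Approx2

/-! # Finiteness of the integral closure of a place ring: lattice criterion -/

set_option autoImplicit false
set_option linter.style.haveILetI false

namespace Groth.Agent.Lib.Helper18.FF.IntClosFin

open FunFld WithZero Groth.Agent.Lib.Helper18.FF Groth.Agent.Lib.Helper24.FFExt

variable {k K K' : Type*} [Field k] [Field K] [Field K'] [Algebra k K] [Algebra K K'] [Algebra k K']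

/-- Coefficients normalised by one of maximal valuation. -/
theorem exists_max_coeff {ι : Type*} [Fintype ι] (P : Place k K) (g : ι → K) (hg : ∃ i, g i ≠ 0) :
    ∃ i₀, g i₀ ≠ 0 ∧ ∀ i, P.1 (g i) ≤ P.1 (g i₀) := by
  classical
  obtain ⟨j, hj⟩ := hg
  obtain ⟨i₀, -, hi₀⟩ := Finset.exists_max_image Finset.univ (fun i => P.1 (g i)) ⟨j, Finset.mem_univ j⟩
  refine ⟨i₀, ?_, fun i => hi₀ i (Finset.mem_univ i)⟩
  intro h0
  have := hi₀ j (Finset.mem_univ j)
  rw [h0, map_zero] at this
  exact hj ((Valuation.zero_iff _).mp (le_antisymm this zero_le'))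

/-- Independence modulo `t` implies linear independence over `K`. -/
theorem linearIndependent_of_indep {ι : Type*} [Fintype ι]
    (P : Place k K) (Qs : Finset (Place k K')) (e : Place k K' → ℕ) (b : ι → K')
    (hb : ∀ c : ι → K, (∀ i, P.1 (c i) ≤ 1) →
      (∀ Q ∈ Qs, Q.1 (∑ i, algebraMap K K' (c i) * b i) ≤ exp (-(e Q : ℤ))) → ∀ i, P.1 (c i) < 1) :
    LinearIndependent K b := by
  classical
  rw [Fintype.linearIndependent_iff]
  intro g hg
  by_contra hne
  push Not at hne
  obtain ⟨i₀, hi₀, hmax⟩ := exists_max_coeff P g hne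
  have hv0 : P.1 (g i₀) ≠ 0 := (Valuation.ne_zero_iff _).mpr hi₀
  have h1 := hb (fun i => g i / g i₀) (fun i => by
    rw [map_div₀]
    exact div_le_one_of_le₀ (hmax i) zero_le') (fun Q hQ => by
    have : ∑ i, algebraMap K K' (g i / g i₀) * b i =
        algebraMap K K' (g i₀)⁻¹ * ∑ i, g i • b i := by
      rw [Finset.mul_sum]
      refine Finset.sum_congr rfl fun i _ => ?_
      rw [Algebra.smul_def, ← mul_assoc, ← map_mul, div_eq_inv_mul]
    rw [this, hg, mul_zero, map_zero]
    exact zero_le') i₀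
  rw [div_self hi₀, map_one] at h1
  exact lt_irrefl _ h1

/-- The lattice criterion: a family of `[K' : K]` elements which is independent modulo `t` over the
residue field spans every element integral at the given places. -/
theorem exists_repr_of_indep [FiniteDimensional K K'] {ι : Type*} [Fintype ι]
    (P : Place k K) (Qs : Finset (Place k K')) (e : Place k K' → ℕ)
    (he : ∀ Q ∈ Qs, IsOverWith Q P (e Q)) (b : ι → K')
    (hcard : Fintype.card ι = Module.finrank K K')
    (hb : ∀ c : ι → K, (∀ i, P.1 (c i) ≤ 1) →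
      (∀ Q ∈ Qs, Q.1 (∑ i, algebraMap K K' (c i) * b i) ≤ exp (-(e Q : ℤ))) → ∀ i, P.1 (c i) < 1)
    {z : K'} (hz : ∀ Q ∈ Qs, Q.1 z ≤ 1) :
    ∃ c : ι → K, (∀ i, P.1 (c i) ≤ 1) ∧ z = ∑ i, algebraMap K K' (c i) * b i := by
  classical
  -- linear independence
  have hli : LinearIndependent K b := by
    rw [Fintype.linearIndependent_iff]
    intro g hg
    by_contra hne
    push Not at hne
    obtain ⟨i₀, hi₀, hmax⟩ := exists_max_coeff P g hne
    have hv0 : P.1 (g i₀) ≠ 0 := (Valuation.ne_zero_iff _).mpr hi₀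
    have h1 := hb (fun i => g i / g i₀) (fun i => by
      rw [map_div₀]
      exact div_le_one_of_le₀ (hmax i) zero_le') (fun Q hQ => by
      have : ∑ i, algebraMap K K' (g i / g i₀) * b i =
          algebraMap K K' (g i₀)⁻¹ * ∑ i, g i • b i := by
        rw [Finset.mul_sum]
        refine Finset.sum_congr rfl fun i _ => ?_
        rw [Algebra.smul_def, ← mul_assoc, ← map_mul, div_eq_inv_mul]
      rw [this, hg, mul_zero, map_zero]
      exact zero_le') i₀
    rw [div_self hi₀, map_one] at h1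
    exact lt_irrefl _ h1
  haveI : Nonempty ι := by
    rw [← Fintype.card_pos_iff, hcard]
    exact Module.finrank_pos
  obtain ⟨hbasis, hbcoe⟩ : ∃ B : Module.Basis ι K K', ⇑B = b :=
    ⟨_, coe_basisOfLinearIndependentOfCardEqFinrank hli hcard⟩
  set g : ι → K := fun i => hbasis.repr z i with hg
  have hzg : z = ∑ i, g i • b i := by
    conv_lhs => rw [← hbasis.sum_repr z]
    rw [hbcoe]
  by_cases hall : ∀ i, P.1 (g i) ≤ 1
  · exact ⟨g, hall, by rw [hzg]; exact Finset.sum_congr rfl fun i _ => Algebra.smul_def _ _⟩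
  · exfalso
    push Not at hall
    obtain ⟨j, hj⟩ := hall
    have hne : ∃ i, g i ≠ 0 := ⟨j, by rintro h0; rw [h0, map_zero] at hj; exact not_lt.mpr zero_le' hj⟩
    obtain ⟨i₀, hi₀, hmax⟩ := exists_max_coeff P g hne
    have hbig : 1 < P.1 (g i₀) := lt_of_lt_of_le hj (hmax j)
    have hv0 : P.1 (g i₀) ≠ 0 := (Valuation.ne_zero_iff _).mpr hi₀
    have h1 := hb (fun i => g i / g i₀) (fun i => by
      rw [map_div₀]
      exact div_le_one_of_le₀ (hmax i) zero_le') (fun Q hQ => by
      have : ∑ i, algebraMap K K' (g i / g i₀) * b i = algebraMap K K' (g i₀)⁻¹ * z := by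
        rw [hzg, Finset.mul_sum]
        refine Finset.sum_congr rfl fun i _ => ?_
        rw [Algebra.smul_def, ← mul_assoc, ← map_mul, div_eq_inv_mul]
      rw [this, map_mul, he Q hQ, map_inv₀]
      have h2 : (P.1 (g i₀))⁻¹ ≤ exp (-1 : ℤ) := by
        rw [val_eq_exp_neg_ord P hi₀] at hbig ⊢
        rw [← exp_neg, exp_le_exp]
        rw [← exp_zero, exp_lt_exp] at hbig
        omega
      calc (P.1 (g i₀))⁻¹ ^ e Q * Q.1 z ≤ exp (-1 : ℤ) ^ e Q * 1 :=
            mul_le_mul' (pow_le_pow_left₀ zero_le' h2 _) (hz Q hQ)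
        _ = exp (-(e Q : ℤ)) := by
            rw [mul_one, ← exp_nsmul]; simp) i₀
    rw [div_self hi₀, map_one] at h1
    exact lt_irrefl _ h1

end Groth.Agent.Lib.Helper18.FF.IntClosFin
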