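import Groth.Agent.Lib.Helper18.FF.IntClosFin1

/-! # Finiteness of the integral closure of a place ring: residue families -/

set_option autoImplicit false
set_option linter.style.haveILetI false

namespace Groth.Agent.Lib.Helper18.FF.IntClosFin

open FunFld WithZero Groth.Agent.Lib.Helper18.FF Groth.Agent.Lib.Helper24.FFExt

variable {k K K' : Type*} [Field k] [Field K] [Field K'] [Algebra k K] [Algebra K K'] [Algebra k K']
  [IsScalarTower k K K']

/-- Lifts of a basis of the residue field extension. -/
theorem exists_residue_family [FiniteDimensional K K'] (hK : IsFunctionField k K)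
    {Q : Place k K'} {P : Place k K} (h : IsOver Q P) :
    ∃ (f : ℕ) (ω : Fin f → K'), Q.deg = P.deg * f ∧ (∀ l, Q.1 (ω l) ≤ 1) ∧
      ∀ c : Fin f → K, (∀ l, P.1 (c l) ≤ 1) →
        Q.1 (∑ l, algebraMap K K' (c l) * ω l) < 1 → ∀ l, P.1 (c l) < 1 := by
  classical
  letI alg : Algebra (IsLocalRing.ResidueField P.O) (IsLocalRing.ResidueField Q.O) :=
    (IsLocalRing.ResidueField.map (overRingHom h)).toAlgebra
  have hdeg := deg_mul_finrank_residue h
  have hQpos := deg_pos_weak hK Q
  have hfpos : 0 < Module.finrank (IsLocalRing.ResidueField P.O) (IsLocalRing.ResidueField Q.O) := by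
    rw [← hdeg] at hQpos
    exact Nat.pos_of_mul_pos_left hQpos
  haveI : FiniteDimensional (IsLocalRing.ResidueField P.O) (IsLocalRing.ResidueField Q.O) :=
    Module.finite_of_finrank_pos hfpos
  let β := Module.finBasis (IsLocalRing.ResidueField P.O) (IsLocalRing.ResidueField Q.O)
  choose ω' hω' using fun l => IsLocalRing.residue_surjective (R := Q.O) (β l)
  refine ⟨_, fun l => ((ω' l : Q.O) : K'), hdeg.symm, fun l => (ω' l).2, ?_⟩
  intro c hc hlt
  set ct : Fin _ → P.O := fun l => ⟨c l, hc l⟩ with hct
  have hsum : (∑ l, algebraMap K K' (c l) * ((ω' l : Q.O) : K')) =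
      ((∑ l, overRingHom h (ct l) * ω' l : Q.O) : K') := by
    push_cast
    rfl
  rw [hsum, ← Valuation.mem_maximalIdeal_iff (v := Q.1), ← IsLocalRing.residue_eq_zero_iff] at hlt
  have h0 : ∑ l, IsLocalRing.residue P.O (ct l) • β l = 0 := by
    rw [← hlt, map_sum]
    refine Finset.sum_congr rfl fun l _ => ?_
    rw [map_mul, hω', Algebra.smul_def]
    rfl
  have h1 := Fintype.linearIndependent_iff.mp β.linearIndependent _ h0
  intro l
  have h2 := h1 l
  rw [IsLocalRing.residue_eq_zero_iff, Valuation.mem_maximalIdeal_iff (v := P.1)] at h2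
  exact h2

end Groth.Agent.Lib.Helper18.FF.IntClosFin
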