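import Groth.Agent.Lib.Helper18.FF.IntClosFin2

/-! # Finiteness of the integral closure of a place ring: local independence -/

set_option autoImplicit false
set_option linter.style.haveILetI false

namespace Groth.Agent.Lib.Helper18.FF.IntClosFin

open FunFld WithZero Groth.Agent.Lib.Helper18.FF Groth.Agent.Lib.Helper24.FFExt

variable {k K K' : Type*} [Field k] [Field K] [Field K'] [Algebra k K] [Algebra K K'] [Algebra k K']

theorem val_algebraMap_le_of_lt {Q : Place k K'} {P : Place k K} {e : ℕ} (he : IsOverWith Q P e)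
    {c : K} (hc : P.1 c < 1) : Q.1 (algebraMap K K' c) ≤ exp (-(e : ℤ)) := by
  rw [he c]
  rcases eq_or_ne c 0 with rfl | hc0
  · rw [map_zero, zero_pow (isOverWith_pos he).ne']
    exact zero_le'
  · have h1 : P.1 c ≤ exp (-1 : ℤ) := by
      rw [val_eq_exp_neg_ord P hc0] at hc ⊢
      rw [← exp_zero, exp_lt_exp] at hc
      rw [exp_le_exp]
      omega
    calc P.1 c ^ e ≤ exp (-1 : ℤ) ^ e := pow_le_pow_left₀ zero_le' h1 _
      _ = exp (-(e : ℤ)) := by rw [← exp_nsmul]; simp

theorem local_indep {Q : Place k K'} {P : Place k K} {e : ℕ} (he : IsOverWith Q P e) {f : ℕ}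
    (ω : Fin f → K') (hω1 : ∀ l, Q.1 (ω l) ≤ 1)
    (hω : ∀ c : Fin f → K, (∀ l, P.1 (c l) ≤ 1) →
      Q.1 (∑ l, algebraMap K K' (c l) * ω l) < 1 → ∀ l, P.1 (c l) < 1)
    {π : K'} (hπ : Q.1 π = exp (-1 : ℤ)) (b : Fin e × Fin f → K')
    (hb : ∀ j l, Q.1 (b (j, l) - ω l * π ^ (j : ℕ)) ≤ exp (-(e : ℤ)))
    (c : Fin e × Fin f → K) (hc : ∀ i, P.1 (c i) ≤ 1)
    (hsum : Q.1 (∑ i, algebraMap K K' (c i) * b i) ≤ exp (-(e : ℤ))) : ∀ i, P.1 (c i) < 1 := by
  classical
  have hQc : ∀ i, Q.1 (algebraMap K K' (c i)) ≤ 1 := fun i =>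
    (isOverWith_le_one_iff he (c i)).mpr (hc i)
  set u : Fin e → K' := fun j => ∑ l, algebraMap K K' (c (j, l)) * ω l with hu
  have hu1 : ∀ j, Q.1 (u j) ≤ 1 := by
    intro j
    apply Valuation.map_sum_le
    intro l _
    rw [map_mul]
    exact mul_le_one' (hQc _) (hω1 l)
  set S : K' := ∑ j, u j * π ^ (j : ℕ) with hS
  have hS1 : Q.1 S ≤ exp (-(e : ℤ)) := by
    have h1 : S = ∑ i, algebraMap K K' (c i) * b i -
        ∑ i : Fin e × Fin f, algebraMap K K' (c i) * (b i - ω i.2 * π ^ (i.1 : ℕ)) := by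
      rw [← Finset.sum_sub_distrib, Fintype.sum_prod_type, hS]
      refine Finset.sum_congr rfl fun j _ => ?_
      rw [hu, Finset.sum_mul]
      refine Finset.sum_congr rfl fun l _ => ?_
      ring
    rw [h1]
    refine (Valuation.map_sub _ _ _).trans (max_le hsum ?_)
    apply Valuation.map_sum_le
    intro i _
    rw [map_mul]
    calc Q.1 (algebraMap K K' (c i)) * Q.1 (b i - ω i.2 * π ^ (i.1 : ℕ))
        ≤ 1 * exp (-(e : ℤ)) := mul_le_mul' (hQc i) (hb i.1 i.2)
      _ = exp (-(e : ℤ)) := one_mul _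
  have key : ∀ m : ℕ, m ≤ e → ∀ j : Fin e, (j : ℕ) < m → ∀ l, P.1 (c (j, l)) < 1 := by
    intro m
    induction m with
    | zero => intro _ j hj; omega
    | succ m ih =>
      intro hm j hj
      rcases Nat.lt_succ_iff_lt_or_eq.mp hj with hlt | heq
      · exact ih (by omega) j hlt
      · have ih' := ih (by omega)
        by_contra hcon
        have hum : Q.1 (u j) = 1 := by
          refine le_antisymm (hu1 j) (not_lt.mp fun hlt => hcon ?_)
          exact hω (fun l => c (j, l)) (fun l => hc _) hlt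
        have hterm : Q.1 (u j * π ^ (j : ℕ)) = exp (-(m : ℤ)) := by
          rw [map_mul, hum, one_mul, map_pow, hπ, ← exp_nsmul, heq]; simp
        have hrest : Q.1 (S - u j * π ^ (j : ℕ)) ≤ exp (-((m : ℤ) + 1)) := by
          have h2 : S - u j * π ^ (j : ℕ) = ∑ j' ∈ Finset.univ.erase j, u j' * π ^ (j' : ℕ) := by
            rw [hS, ← Finset.add_sum_erase _ _ (Finset.mem_univ j)]
            ring
          rw [h2]
          apply Valuation.map_sum_le
          intro j' hj'
          have hne : j' ≠ j := Finset.ne_of_mem_erase hj'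
          rcases lt_or_gt_of_ne (fun h : (j' : ℕ) = (j : ℕ) => hne (Fin.ext h)) with hlt' | hgt'
          · -- earlier terms
            have h3 : Q.1 (u j') ≤ exp (-(e : ℤ)) := by
              apply Valuation.map_sum_le
              intro l _
              rw [map_mul]
              calc Q.1 (algebraMap K K' (c (j', l))) * Q.1 (ω l) ≤ exp (-(e : ℤ)) * 1 :=
                    mul_le_mul' (val_algebraMap_le_of_lt he (ih' j' (by omega) l)) (hω1 l)
                _ = exp (-(e : ℤ)) := mul_one _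
            rw [map_mul, map_pow, hπ]
            calc Q.1 (u j') * exp (-1 : ℤ) ^ (j' : ℕ) ≤ exp (-(e : ℤ)) * 1 :=
                  mul_le_mul' h3 (pow_le_one' (by rw [← exp_zero, exp_le_exp]; norm_num) _)
              _ = exp (-(e : ℤ)) := mul_one _
              _ ≤ exp (-((m : ℤ) + 1)) := by rw [exp_le_exp]; omega
          · -- later terms
            rw [map_mul, map_pow, hπ, ← exp_nsmul]
            calc Q.1 (u j') * exp ((j' : ℕ) • (-1 : ℤ)) ≤ 1 * exp ((j' : ℕ) • (-1 : ℤ)) :=
                  mul_le_mul' (hu1 j') le_rfl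
              _ = exp ((j' : ℕ) • (-1 : ℤ)) := one_mul _
              _ ≤ exp (-((m : ℤ) + 1)) := by
                  rw [exp_le_exp]
                  simp only [smul_eq_mul, mul_neg, mul_one, nsmul_eq_mul]
                  omega
        have hSval : Q.1 S = exp (-(m : ℤ)) := by
          have h4 : S = (S - u j * π ^ (j : ℕ)) + u j * π ^ (j : ℕ) := by ring
          rw [h4, Valuation.map_add_eq_of_lt_right, hterm]
          rw [hterm]
          exact lt_of_le_of_lt hrest (by rw [exp_lt_exp]; omega)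
        rw [hSval, exp_le_exp] at hS1
        omega
  rintro ⟨j, l⟩
  exact key e le_rfl j j.2 l

end Groth.Agent.Lib.Helper18.FF.IntClosFin
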