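import Groth.Agent.Lib.Helper18.FF.IntClosFin3
import Groth.Agent.Lib.Helper24.FFExt.Unram
import Groth.Agent.Lib.Helper18.FF.Residue

/-! # Finiteness of the integral closure of a place ring in a finite extension -/

set_option autoImplicit false
set_option linter.style.haveILetI false

namespace Groth.Agent.Lib.Helper18.FF.IntClosFin

open FunFld WithZero Groth.Agent.Lib.Helper18.FF Groth.Agent.Lib.Helper24.FFExt

universe u v w

variable {k : Type u} {K : Type v} {K' : Type w} [Field k] [Field K] [Field K'] [Algebra k K]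
  [Algebra K K'] [Algebra k K'] [IsScalarTower k K K']

theorem le_exp_of_lt_exp_succ {x : ℤᵐ⁰} {n : ℤ} (h : x < exp (n + 1)) : x ≤ exp n := by
  rcases eq_or_ne x 0 with rfl | hx
  · exact zero_le'
  · obtain ⟨m, rfl⟩ : ∃ m, x = exp m := ⟨log x, (exp_log hx).symm⟩
    rw [exp_lt_exp] at h
    rw [exp_le_exp]
    omega

set_option maxHeartbeats 1000000 in
/-- A `K`-basis of `K'` spanning, over `O_P`, exactly the elements integral at the places above `P`. -/
theorem exists_integral_basis [FiniteDimensional K K'] (hK : IsFunctionField k K)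
    (P : Place k K) :
    ∃ (ι : Type w) (_ : Fintype ι) (b : ι → K'),
      LinearIndependent K b ∧ Fintype.card ι = Module.finrank K K' ∧
      (∀ i, ∀ Q : Place k K', IsOver Q P → Q.1 (b i) ≤ 1) ∧
      ∀ z : K', (∀ Q : Place k K', IsOver Q P → Q.1 z ≤ 1) →
        ∃ c : ι → K, (∀ i, P.1 (c i) ≤ 1) ∧ z = ∑ i, algebraMap K K' (c i) * b i := by
  classical
  set Qs := (finite_isOver (K' := K') hK P).toFinset with hQsdef
  have hQs : ∀ Q, Q ∈ Qs ↔ IsOver Q P := fun Q => by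
    rw [hQsdef, Set.Finite.mem_toFinset]; rfl
  set e : Place k K' → ℕ := fun Q => ramIdx Q P with he_def
  have he : ∀ Q ∈ Qs, IsOverWith Q P (e Q) := fun Q hQ =>
    isOver_isOverWith_ramIdx ((hQs Q).mp hQ)
  choose f ω hfdeg hω1 hω using fun Q : {Q // Q ∈ Qs} =>
    exists_residue_family hK ((hQs Q.1).mp Q.2)
  choose π hπ using fun Q : Place k K' => exists_uniformizer Q
  let ι := Σ Q : {Q // Q ∈ Qs}, Fin (e Q.1) × Fin (f Q)
  have happ : ∀ i : ι, ∃ z : K', ∀ Q' ∈ Qs,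
      Q'.1 (z - (if Q' = i.1.1 then ω i.1 i.2.2 * π i.1.1 ^ (i.2.1 : ℕ) else 0)) <
        exp (-(e Q' : ℤ) + 1) := fun i =>
    exists_approx Qs (fun Q' => if Q' = i.1.1 then ω i.1 i.2.2 * π i.1.1 ^ (i.2.1 : ℕ) else 0)
      (fun Q' => exp (-(e Q' : ℤ) + 1)) (fun _ _ => exp_ne_zero)
  choose b hb using happ
  have hbQ : ∀ (Q : {Q // Q ∈ Qs}) (p : Fin (e Q.1) × Fin (f Q)),
      Q.1.1 (b ⟨Q, p⟩ - ω Q p.2 * π Q.1 ^ (p.1 : ℕ)) ≤ exp (-(e Q.1 : ℤ)) := by
    intro Q p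
    have := hb ⟨Q, p⟩ Q.1 Q.2
    rw [if_pos rfl] at this
    exact le_exp_of_lt_exp_succ this
  have hbQ' : ∀ (i : ι) (Q' : Place k K'), Q' ∈ Qs → Q' ≠ i.1.1 →
      Q'.1 (b i) ≤ exp (-(e Q' : ℤ)) := by
    intro i Q' hQ' hne
    have := hb i Q' hQ'
    rw [if_neg hne, sub_zero] at this
    exact le_exp_of_lt_exp_succ this
  have hexp_le_one : ∀ n : ℕ, exp (-(n : ℤ)) ≤ (1 : ℤᵐ⁰) := fun n => by
    rw [← exp_zero, exp_le_exp]; omega
  have hbint : ∀ i : ι, ∀ Q' ∈ Qs, Q'.1 (b i) ≤ 1 := by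
    intro i Q' hQ'
    by_cases hne : Q' = i.1.1
    · obtain ⟨Q, p⟩ := i
      subst hne
      have h1 := hbQ Q p
      have h2 : Q.1.1 (ω Q p.2 * π Q.1 ^ (p.1 : ℕ)) ≤ 1 := by
        rw [map_mul, map_pow, hπ]
        exact mul_le_one' (hω1 Q p.2) (pow_le_one' (by rw [← exp_zero, exp_le_exp]; norm_num) _)
      have h3 : b ⟨Q, p⟩ = (b ⟨Q, p⟩ - ω Q p.2 * π Q.1 ^ (p.1 : ℕ)) + ω Q p.2 * π Q.1 ^ (p.1 : ℕ) := by
        ring
      rw [h3]
      exact (Valuation.map_add _ _ _).trans (max_le (h1.trans (hexp_le_one _)) h2)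
    · exact (hbQ' i Q' hQ' hne).trans (hexp_le_one _)
  -- the cardinality
  have hcard : Fintype.card ι = Module.finrank K K' := by
    have h1 := sum_ramIdx_mul_deg hK P Qs hQs
    have hPpos := deg_pos hK P
    rw [Fintype.card_sigma]
    simp only [Fintype.card_prod, Fintype.card_fin]
    have h2 : P.deg * ∑ Q : {Q // Q ∈ Qs}, e Q.1 * f Q = Module.finrank K K' * P.deg := by
      rw [← h1, Finset.mul_sum, ← Finset.sum_coe_sort Qs]
      refine Finset.sum_congr rfl fun Q _ => ?_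
      rw [hfdeg Q]
      ring
    rw [mul_comm] at h2
    exact Nat.eq_of_mul_eq_mul_right hPpos h2
  -- independence
  have hindep : ∀ c : ι → K, (∀ i, P.1 (c i) ≤ 1) →
      (∀ Q ∈ Qs, Q.1 (∑ i, algebraMap K K' (c i) * b i) ≤ exp (-(e Q : ℤ))) →
        ∀ i, P.1 (c i) < 1 := by
    intro c hc hsum
    rintro ⟨Q₀, p₀⟩
    refine local_indep (he Q₀.1 Q₀.2) (ω Q₀) (hω1 Q₀) (hω Q₀) (hπ Q₀.1)
      (fun p => b ⟨Q₀, p⟩) (fun j l => hbQ Q₀ (j, l)) (fun p => c ⟨Q₀, p⟩) (fun p => hc _) ?_ p₀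
    have htot := hsum Q₀.1 Q₀.2
    rw [Fintype.sum_sigma, ← Finset.add_sum_erase _ _ (Finset.mem_univ Q₀)] at htot
    have hrest : Q₀.1.1 (∑ Q ∈ Finset.univ.erase Q₀, ∑ p : Fin (e Q.1) × Fin (f Q),
        algebraMap K K' (c ⟨Q, p⟩) * b ⟨Q, p⟩) ≤ exp (-(e Q₀.1 : ℤ)) := by
      apply Valuation.map_sum_le
      intro Q hQ
      apply Valuation.map_sum_le
      intro p _
      have hne : Q₀.1 ≠ Q.1 := fun h => (Finset.ne_of_mem_erase hQ) (Subtype.ext h.symm)
      rw [map_mul]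
      calc Q₀.1.1 (algebraMap K K' (c ⟨Q, p⟩)) * Q₀.1.1 (b ⟨Q, p⟩) ≤ 1 * exp (-(e Q₀.1 : ℤ)) :=
            mul_le_mul' ((isOverWith_le_one_iff (he Q₀.1 Q₀.2) _).mpr (hc _))
              (hbQ' ⟨Q, p⟩ Q₀.1 Q₀.2 hne)
        _ = exp (-(e Q₀.1 : ℤ)) := one_mul _
    set A := ∑ p : Fin (e Q₀.1) × Fin (f Q₀), algebraMap K K' (c ⟨Q₀, p⟩) * b ⟨Q₀, p⟩ with hA
    set B := ∑ Q ∈ Finset.univ.erase Q₀, ∑ p : Fin (e Q.1) × Fin (f Q),
        algebraMap K K' (c ⟨Q, p⟩) * b ⟨Q, p⟩ with hB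
    have hAB : A = (A + B) - B := by ring
    rw [hAB]
    exact (Valuation.map_sub _ _ _).trans (max_le htot hrest)
  refine ⟨ι, inferInstance, b, linearIndependent_of_indep P Qs e b hindep, hcard,
    fun i Q hQ => hbint i Q ((hQs Q).mpr hQ), fun z hz => ?_⟩
  exact exists_repr_of_indep P Qs e he b hcard hindep (fun Q hQ => hz Q ((hQs Q).mp hQ))

/-- A finite family spanning, over `O_P`, all elements integral at the places above `P`. -/
theorem exists_integral_family [FiniteDimensional K K'] (hK : IsFunctionField k K)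
    (P : Place k K) :
    ∃ (ι : Type w) (_ : Fintype ι) (b : ι → K'),
      (∀ i, ∀ Q : Place k K', IsOver Q P → Q.1 (b i) ≤ 1) ∧
      ∀ z : K', (∀ Q : Place k K', IsOver Q P → Q.1 z ≤ 1) →
        ∃ c : ι → K, (∀ i, P.1 (c i) ≤ 1) ∧ z = ∑ i, algebraMap K K' (c i) * b i := by
  obtain ⟨ι, hι, b, -, -, h1, h2⟩ := exists_integral_basis (K' := K') hK P
  exact ⟨ι, hι, b, h1, h2⟩

/-- The integral closure of `O_P` in a finite extension of `K` is a finite `O_P`-module. -/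
theorem integralClosure_finite [FiniteDimensional K K'] (hK : IsFunctionField k K)
    (P : Place k K) [Algebra P.O K'] [IsScalarTower P.O K K'] :
    Module.Finite P.O (integralClosure P.O K') := by
  classical
  obtain ⟨ι, _, b, hbint, hrepr⟩ := exists_integral_family (K' := K') hK P
  have hbI : ∀ i, b i ∈ integralClosure P.O K' := fun i =>
    isIntegral_of_forall_isOver hK P (fun Q hQ => hbint i Q hQ)
  let φ : (ι → P.O) →ₗ[P.O] integralClosure P.O K' :=
    Fintype.linearCombination P.O (fun i => (⟨b i, hbI i⟩ : integralClosure P.O K'))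
  refine Module.Finite.of_surjective φ ?_
  rintro ⟨z, hz⟩
  obtain ⟨c, hc, hzc⟩ := hrepr z (fun Q hQ =>
    val_le_one_of_isIntegral_ring (R := P.O) Q.1 (fun c => by
      rw [IsScalarTower.algebraMap_apply P.O K K', isOver_le_one_iff hQ]
      exact c.2) hz)
  refine ⟨fun i => ⟨c i, hc i⟩, ?_⟩
  apply Subtype.ext
  rw [Fintype.linearCombination_apply]
  show ((∑ i, (⟨c i, hc i⟩ : P.O) • (⟨b i, hbI i⟩ : integralClosure P.O K') :
    integralClosure P.O K') : K') = z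
  rw [hzc]
  push_cast
  refine Finset.sum_congr rfl fun i _ => ?_
  show ((⟨c i, hc i⟩ : P.O) • (b i : K')) = algebraMap K K' (c i) * b i
  rw [Algebra.smul_def, IsScalarTower.algebraMap_apply P.O K K']
  rfl

end Groth.Agent.Lib.Helper18.FF.IntClosFin
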