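import Groth.Agent.Lib.Helper18.FF.LSpace

/-! # `L(D)` is finite-dimensional; `ℓ(D₂) - ℓ(D₁) ≤ deg D₂ - deg D₁` -/

set_option autoImplicit false

namespace Groth.Agent.Lib.Helper18.FF

open FunFld IntermediateField WithZero

universe u v

variable {k : Type u} {K : Type v} [Field k] [Field K] [Algebra k K]

/-- An effective divisor from a finitely supported `ℕ`-valued function. -/
noncomputable def toDiv (f : Place k K →₀ ℕ) : Divisor k K :=
  Finsupp.mapRange.addMonoidHom (Nat.castAddMonoidHom ℤ) f

theorem toDiv_apply (f : Place k K →₀ ℕ) (P : Place k K) : toDiv f P = (f P : ℤ) := rfl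

theorem toDiv_add (f g : Place k K →₀ ℕ) : toDiv (f + g) = toDiv f + toDiv g :=
  map_add _ f g

theorem toDiv_zero : toDiv (0 : Place k K →₀ ℕ) = 0 := map_zero _

theorem toDiv_single (P : Place k K) (n : ℕ) : toDiv (Finsupp.single P n) = Finsupp.single P (n : ℤ) := by
  ext Q
  rw [toDiv_apply]
  by_cases h : Q = P
  · subst h; simp
  · rw [Finsupp.single_eq_of_ne h, Finsupp.single_eq_of_ne h]; rfl

theorem finiteDimensional_L_add_single_nat (hK : IsFunctionField k K) (P : Place k K) (n : ℕ) :
    ∀ D : Divisor k K, FiniteDimensional k (L D) →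
      FiniteDimensional k (L (D + Finsupp.single P (n : ℤ))) ∧
        (ell (D + Finsupp.single P (n : ℤ)) : ℤ) ≤ ell D + n * P.deg := by
  induction n with
  | zero =>
    intro D h
    have e : D + Finsupp.single P ((0 : ℕ) : ℤ) = D := by
      rw [Nat.cast_zero, Finsupp.single_zero, add_zero]
    rw [e]
    simp only [Nat.cast_zero, zero_mul, add_zero]
    exact ⟨h, le_rfl⟩
  | succ n ih =>
    intro D h
    obtain ⟨h1, h2⟩ := ih D h
    obtain ⟨h3, h4⟩ := finiteDimensional_L_add_single hK (D + Finsupp.single P (n : ℤ)) P h1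
    have e : D + Finsupp.single P (n : ℤ) + Finsupp.single P 1 = D + Finsupp.single P ((n + 1 : ℕ) : ℤ) := by
      rw [add_assoc, ← Finsupp.single_add]; push_cast; rfl
    rw [e] at h3 h4
    refine ⟨h3, ?_⟩
    push_cast at h2 h4 ⊢
    have : (ell (D + Finsupp.single P ((n : ℤ) + 1)) : ℤ) ≤ ell (D + Finsupp.single P (n : ℤ)) + P.deg := by
      exact_mod_cast h4
    linarith

theorem finiteDimensional_L_add_toDiv (hK : IsFunctionField k K) (f : Place k K →₀ ℕ) :
    ∀ D : Divisor k K, FiniteDimensional k (L D) →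
      FiniteDimensional k (L (D + toDiv f)) ∧ (ell (D + toDiv f) : ℤ) ≤ ell D + (toDiv f).deg := by
  classical
  induction f using Finsupp.induction with
  | zero =>
    intro D h
    rw [toDiv_zero, add_zero, deg_zero, add_zero]
    exact ⟨h, le_rfl⟩
  | single_add P n f _ _ ih =>
    intro D h
    obtain ⟨h1, h2⟩ := finiteDimensional_L_add_single_nat hK P n D h
    obtain ⟨h3, h4⟩ := ih (D + Finsupp.single P (n : ℤ)) h1
    rw [toDiv_add, toDiv_single, ← add_assoc, deg_add, deg_single]
    refine ⟨h3, ?_⟩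
    linarith

theorem L_zero_eq_one (hK : IsFunctionField k K) : L (0 : Divisor k K) = 1 := by
  ext x
  rw [Submodule.mem_one]
  constructor
  · intro hx
    by_contra hxk
    obtain ⟨Q, hQ⟩ := exists_pole hK (x := x) hxk
    have := hx Q
    simp only [Finsupp.coe_zero, Pi.zero_apply, WithZero.exp_zero] at this
    exact absurd hQ (not_lt.mpr this)
  · rintro ⟨c, rfl⟩ P
    simp only [Finsupp.coe_zero, Pi.zero_apply, WithZero.exp_zero]
    exact P.2.1 c

theorem finiteDimensional_L_zero (hK : IsFunctionField k K) : FiniteDimensional k (L (0 : Divisor k K)) := by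
  rw [L_zero_eq_one hK, Submodule.one_eq_span]
  infer_instance

theorem ell_zero (hK : IsFunctionField k K) : ell (0 : Divisor k K) = 1 := by
  unfold ell
  rw [L_zero_eq_one hK, Submodule.one_eq_span]
  exact finrank_span_singleton one_ne_zero

/-- The positive part of a divisor, as an `ℕ`-valued function. -/
noncomputable def posPart (D : Divisor k K) : Place k K →₀ ℕ := D.mapRange Int.toNat rfl

theorem le_toDiv_posPart (D : Divisor k K) : D ≤ toDiv (posPart D) := by
  intro P
  rw [toDiv_apply, posPart, Finsupp.mapRange_apply]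
  exact Int.self_le_toNat _

theorem toDiv_posPart_of_nonneg {D : Divisor k K} (h : 0 ≤ D) : toDiv (posPart D) = D := by
  ext P
  rw [toDiv_apply, posPart, Finsupp.mapRange_apply]
  exact Int.toNat_of_nonneg (h P)

/-- `L(D)` is finite-dimensional for every divisor `D`. -/
theorem finiteDimensional_L (hK : IsFunctionField k K) (D : Divisor k K) : FiniteDimensional k (L D) := by
  obtain ⟨h1, -⟩ := finiteDimensional_L_add_toDiv hK (posPart D) 0 (finiteDimensional_L_zero hK)
  rw [zero_add] at h1
  exact Submodule.finiteDimensional_of_le (L_mono (le_toDiv_posPart D))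

/-- `ℓ(D₂) - ℓ(D₁) ≤ deg D₂ - deg D₁` for `D₁ ≤ D₂`. -/
theorem ell_sub_ell_le (hK : IsFunctionField k K) {D₁ D₂ : Divisor k K} (h : D₁ ≤ D₂) :
    (ell D₂ : ℤ) - ell D₁ ≤ D₂.deg - D₁.deg := by
  have h0 : 0 ≤ D₂ - D₁ := sub_nonneg.mpr h
  obtain ⟨-, h2⟩ := finiteDimensional_L_add_toDiv hK (posPart (D₂ - D₁)) D₁ (finiteDimensional_L hK D₁)
  rw [toDiv_posPart_of_nonneg h0, add_sub_cancel, deg_sub] at h2
  linarith

theorem ell_mono (hK : IsFunctionField k K) {D₁ D₂ : Divisor k K} (h : D₁ ≤ D₂) : ell D₁ ≤ ell D₂ := by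
  haveI := finiteDimensional_L hK D₂
  exact Submodule.finrank_mono (L_mono h)

end Groth.Agent.Lib.Helper18.FF
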