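import Groth.Agent.Lib.Helper18.FF.FiniteExt

/-! # A linear-independence criterion over `k(x)` -/

set_option autoImplicit false

namespace Groth.Agent.Lib.Helper18.FF

open FunFld IntermediateField Polynomial

open scoped IntermediateField.algebraAdjoinAdjoin

universe u v

variable {k : Type u} {K : Type v} [Field k] [Field K] [Algebra k K]

theorem X_pow_dvd_of_relation {x : K} (hx0 : x ≠ 0) {ι : Type*} [Fintype ι] (w : ι → K)
    (H : ∀ g : ι → Polynomial k, ∑ i, Polynomial.aeval x (g i) * w i = 0 → ∀ i, (g i).coeff 0 = 0)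
    (n : ℕ) : ∀ g : ι → Polynomial k, ∑ i, Polynomial.aeval x (g i) * w i = 0 → ∀ i, X ^ n ∣ g i := by
  induction n with
  | zero => intro g _ i; simp
  | succ n ih =>
    intro g hg i
    have h0 := H g hg
    choose h hh using fun i => Polynomial.X_dvd_iff.mpr (h0 i)
    have hrel : ∑ i, Polynomial.aeval x (h i) * w i = 0 := by
      have : x * ∑ i, Polynomial.aeval x (h i) * w i = 0 := by
        rw [← hg, Finset.mul_sum]
        refine Finset.sum_congr rfl fun i _ => ?_
        rw [hh i, map_mul, Polynomial.aeval_X, mul_assoc]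
      exact (mul_eq_zero.mp this).resolve_left hx0
    rw [hh i, pow_succ']
    exact mul_dvd_mul_left _ (ih h hrel i)

theorem eq_zero_of_relation {x : K} (hx0 : x ≠ 0) {ι : Type*} [Fintype ι] (w : ι → K)
    (H : ∀ g : ι → Polynomial k, ∑ i, Polynomial.aeval x (g i) * w i = 0 → ∀ i, (g i).coeff 0 = 0)
    (g : ι → Polynomial k) (hg : ∑ i, Polynomial.aeval x (g i) * w i = 0) (i : ι) : g i = 0 := by
  have h := X_pow_dvd_of_relation hx0 w H ((g i).natDegree + 1) g hg i
  refine Polynomial.eq_zero_of_dvd_of_natDegree_lt h ?_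
  rw [Polynomial.natDegree_X_pow]
  omega

/-- **Criterion.** If every polynomial relation `∑ gᵢ(x) wᵢ = 0` forces `gᵢ(0) = 0`, then the `wᵢ` are
linearly independent over `k(x)`, so their number is at most `[K : k(x)]`. -/
theorem card_le_finrank_of_forall_coeff_zero {x : K} (hx : Transcendental k x)
    [FiniteDimensional (IntermediateField.adjoin k ({x} : Set K)) K] {ι : Type*} [Fintype ι] (w : ι → K)
    (H : ∀ g : ι → Polynomial k, ∑ i, Polynomial.aeval x (g i) * w i = 0 → ∀ i, (g i).coeff 0 = 0) :
    Fintype.card ι ≤ Module.finrank (IntermediateField.adjoin k ({x} : Set K)) K := by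
  have hx0 : x ≠ 0 := by
    rintro rfl
    exact hx ⟨X, X_ne_zero, by simp⟩
  have hli : LinearIndependent (Algebra.adjoin k ({x} : Set K)) w := by
    rw [Fintype.linearIndependent_iff]
    intro c hc i
    have hmem : ∀ i, ∃ g : Polynomial k, Polynomial.aeval x g = (c i : K) := by
      intro i
      have h1 : (c i : K) ∈ (Polynomial.aeval (R := k) x).range := by
        rw [← Algebra.adjoin_singleton_eq_range_aeval]
        exact (c i).2
      exact h1
    choose g hg using hmem
    have hrel : ∑ i, Polynomial.aeval x (g i) * w i = 0 := by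
      rw [← hc]
      refine Finset.sum_congr rfl fun i _ => ?_
      rw [hg i, Subalgebra.smul_def, smul_eq_mul]
    have := eq_zero_of_relation hx0 w H g hrel i
    apply Subtype.ext
    rw [← hg i, this, map_zero]
    rfl
  have hli' : LinearIndependent (IntermediateField.adjoin k ({x} : Set K)) w :=
    (LinearIndependent.iff_fractionRing (Algebra.adjoin k ({x} : Set K))
      (IntermediateField.adjoin k ({x} : Set K))).mp hli
  exact hli'.fintype_card_le_finrank

/-- **Criterion, subalgebra form.** Let `O` be a `k`-subalgebra of `K` containing the transcendental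
element `x`, and `w : ι → O` a finite family which is `k`-linearly independent modulo `x O`.  Then
`card ι ≤ [K : k(x)]`. -/
theorem card_le_finrank_of_indep_mod {x : K} (hx : Transcendental k x)
    [FiniteDimensional (IntermediateField.adjoin k ({x} : Set K)) K] (O : Subalgebra k K) (hxO : x ∈ O)
    {ι : Type*} [Fintype ι] (w : ι → K) (hw : ∀ i, w i ∈ O)
    (H : ∀ c : ι → k, (∃ ρ ∈ O, ∑ i, c i • w i = x * ρ) → ∀ i, c i = 0) :
    Fintype.card ι ≤ Module.finrank (IntermediateField.adjoin k ({x} : Set K)) K := by
  refine card_le_finrank_of_forall_coeff_zero hx w ?_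
  intro g hg
  apply H
  -- g i = C (coeff 0) + X * h i
  refine ⟨-∑ i, Polynomial.aeval x ((g i).divX) * w i, ?_, ?_⟩
  · refine O.neg_mem (O.sum_mem fun i _ => O.mul_mem ?_ (hw i))
    exact Algebra.adjoin_singleton_le hxO
      (by rw [Algebra.adjoin_singleton_eq_range_aeval]; exact ⟨_, rfl⟩)
  · rw [mul_neg, eq_neg_iff_add_eq_zero, ← hg, Finset.mul_sum, ← Finset.sum_add_distrib]
    refine Finset.sum_congr rfl fun i _ => ?_
    conv_rhs => rw [← Polynomial.divX_mul_X_add (g i)]
    rw [map_add, map_mul, Polynomial.aeval_X, Polynomial.aeval_C, Algebra.smul_def]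
    ring

end Groth.Agent.Lib.Helper18.FF
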