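import Groth.Agent.Lib.Helper18.FF.RatPlaces2
import Groth.Agent.Lib.Helper18.FF.Weights
import Groth.Prelude.Def_W4bk4goldsch45

/-! # The local ring of a projective map at a place -/

set_option autoImplicit false
set_option linter.style.haveILetI false

namespace Groth.Agent.Lib.Helper18.FF

open FunFld WithZero

universe u v

variable {k : Type u} {K : Type v} [Field k] [Field K] [Algebra k K]

/-- Elements of a span of functions of valuation `< 1` have valuation `< 1`. -/
theorem val_lt_one_of_mem_span {ι : Type*} (P : Place k K) (φ : ι → K)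
    (h : ∀ i, P.1 (φ i) < 1) {z : K} (hz : z ∈ Submodule.span k (Set.range φ)) : P.1 z < 1 := by
  induction hz using Submodule.span_induction with
  | mem x hx =>
    obtain ⟨i, rfl⟩ := hx
    exact h i
  | zero => rw [map_zero]; exact zero_lt_one
  | add x y _ _ hx hy => exact lt_of_le_of_lt (Valuation.map_add _ _ _) (max_lt hx hy)
  | smul c x _ hx => exact lt_of_le_of_lt (val_smul_le P c x) hx

/-- For an effective normalized tuple some entry is a unit at `P`. -/
theorem exists_val_eq_one_of_normalized {ι : Type*} (P : Place k K) (φ : ι → K)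
    (heff : (1 : K) ∈ Submodule.span k (Set.range φ)) (hnorm : ∀ i, P.1 (φ i) ≤ 1) :
    ∃ j, P.1 (φ j) = 1 := by
  by_contra hcon
  push Not at hcon
  have := val_lt_one_of_mem_span P φ (fun i => lt_of_le_of_ne (hnorm i) (hcon i)) heff
  rw [map_one] at this
  exact lt_irrefl _ this

/-- Elements of the span divided by `φ j` lie in the algebra generated by the ratios. -/
theorem div_mem_adjoin_of_mem_span {ι : Type*} (φ : ι → K) (j : ι) {z : K}
    (hz : z ∈ Submodule.span k (Set.range φ)) :
    z / φ j ∈ Algebra.adjoin k (Set.range fun i => φ i / φ j) := by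
  induction hz using Submodule.span_induction with
  | mem x hx =>
    obtain ⟨i, rfl⟩ := hx
    exact Algebra.subset_adjoin ⟨i, rfl⟩
  | zero => rw [zero_div]; exact Subalgebra.zero_mem _
  | add x y _ _ hx hy => rw [add_div]; exact Subalgebra.add_mem _ hx hy
  | smul c x _ hx => rw [smul_div_assoc]; exact Subalgebra.smul_mem _ hx c

/-- If all generators are constant modulo `m_P^2`, so is every element of the algebra. -/
theorem exists_const_sub_le_of_mem_adjoin (P : Place k K) (s : Set K)
    (hs : ∀ x ∈ s, ∃ c : k, P.1 (x - algebraMap k K c) ≤ exp (-2 : ℤ)) {a : K}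
    (ha : a ∈ Algebra.adjoin k s) : ∃ c : k, P.1 (a - algebraMap k K c) ≤ exp (-2 : ℤ) := by
  have hle1 : ∀ (b : K) (d : k), P.1 (b - algebraMap k K d) ≤ exp (-2 : ℤ) → P.1 b ≤ 1 := by
    intro b d hbd
    have : b = (b - algebraMap k K d) + algebraMap k K d := by ring
    rw [this]
    refine (Valuation.map_add _ _ _).trans (max_le (hbd.trans ?_) (val_algebraMap_le P d))
    rw [← exp_zero, exp_le_exp]
    norm_num
  induction ha using Algebra.adjoin_induction with
  | mem x hx => exact hs x hx
  | algebraMap r => exact ⟨r, by rw [sub_self, map_zero]; exact zero_le'⟩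
  | add x y _ _ hx hy =>
    obtain ⟨c, hc⟩ := hx
    obtain ⟨d, hd⟩ := hy
    refine ⟨c + d, ?_⟩
    have : x + y - algebraMap k K (c + d) = (x - algebraMap k K c) + (y - algebraMap k K d) := by
      rw [map_add]; ring
    rw [this]
    exact (Valuation.map_add _ _ _).trans (max_le hc hd)
  | mul x y _ _ hx hy =>
    obtain ⟨c, hc⟩ := hx
    obtain ⟨d, hd⟩ := hy
    refine ⟨c * d, ?_⟩
    have : x * y - algebraMap k K (c * d) =
        (x - algebraMap k K c) * y + algebraMap k K c * (y - algebraMap k K d) := by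
      rw [map_mul]; ring
    rw [this]
    refine (Valuation.map_add _ _ _).trans (max_le ?_ ?_)
    · rw [map_mul]
      calc P.1 (x - algebraMap k K c) * P.1 y ≤ exp (-2 : ℤ) * 1 :=
            mul_le_mul' hc (hle1 y d hd)
        _ = exp (-2 : ℤ) := mul_one _
    · rw [map_mul]
      calc P.1 (algebraMap k K c) * P.1 (y - algebraMap k K d) ≤ 1 * exp (-2 : ℤ) :=
            mul_le_mul' (val_algebraMap_le P c) hd
        _ = exp (-2 : ℤ) := one_mul _

theorem exists_uniformizer_inLocRing_iff [IsAlgClosed k] (hK : IsFunctionField k K) {n : ℕ}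
    (φ : Fin (n + 1) → K) (P : Place k K) (heff : (1 : K) ∈ Submodule.span k (Set.range φ))
    (hnorm : ∀ i, P.1 (φ i) ≤ 1) :
    (∃ t : K, InLocRing φ P t ∧ P.1 t = exp (-1 : ℤ)) ↔
      ∃ t ∈ Submodule.span k (Set.range φ), P.1 t = exp (-1 : ℤ) := by
  constructor
  · rintro ⟨t, ⟨j, hj0, hjmax, u, hu, w, hw, hw1, htw⟩, ht⟩
    by_contra hcon
    push Not at hcon
    have hvj : P.1 (φ j) = 1 := by
      obtain ⟨j', hj'⟩ := exists_val_eq_one_of_normalized P φ heff hnorm
      exact le_antisymm (hnorm j) (by have := hjmax j'; rwa [hj'] at this)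
    have hvu : P.1 u = exp (-1 : ℤ) := by rw [← htw, map_mul, hw1, mul_one, ht]
    have hgen : ∀ x ∈ Set.range (fun i => φ i / φ j),
        ∃ c : k, P.1 (x - algebraMap k K c) ≤ exp (-2 : ℤ) := by
      rintro _ ⟨i, rfl⟩
      have hle : P.1 (φ i / φ j) ≤ 1 := by
        rw [map_div₀, hvj, _root_.div_one]; exact hnorm i
      obtain ⟨c, hc⟩ := exists_const_sub_lt_one hK (deg_eq_one_of_isAlgClosed hK P) hle
      refine ⟨c, ?_⟩
      have hmem : φ i - c • φ j ∈ Submodule.span k (Set.range φ) :=
        Submodule.sub_mem _ (Submodule.subset_span ⟨i, rfl⟩)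
          (Submodule.smul_mem _ c (Submodule.subset_span ⟨j, rfl⟩))
      have hval : P.1 (φ i - c • φ j) = P.1 (φ i / φ j - algebraMap k K c) := by
        have : φ i - c • φ j = φ j * (φ i / φ j - algebraMap k K c) := by
          rw [Algebra.smul_def]; field_simp
        rw [this, map_mul, hvj, one_mul]
      have hne := hcon _ hmem
      rw [hval] at hne
      rw [zm0_lt_one_iff] at hc
      -- `γ ≤ exp (-1)`, `γ ≠ exp (-1)` gives `γ ≤ exp (-2)`
      rcases eq_or_ne (P.1 (φ i / φ j - algebraMap k K c)) 0 with h0 | h0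
      · rw [h0]; exact zero_le'
      · obtain ⟨m, hm⟩ : ∃ m : ℤ, P.1 (φ i / φ j - algebraMap k K c) = exp m :=
          ⟨log _, (exp_log h0).symm⟩
        rw [hm] at hc hne ⊢
        rw [exp_le_exp] at hc ⊢
        have : m ≠ -1 := fun h => hne (by rw [h])
        omega
    obtain ⟨c, hc⟩ := exists_const_sub_le_of_mem_adjoin P _ hgen hu
    have hc0 : c = 0 := by
      by_contra hne
      have h1 := val_algebraMap P hne
      have : algebraMap k K c = u - (u - algebraMap k K c) := by ring
      rw [this] at h1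
      have h2 : P.1 (u - (u - algebraMap k K c)) < 1 := by
        refine lt_of_le_of_lt (Valuation.map_sub _ _ _) (max_lt ?_ ?_)
        · rw [hvu, ← exp_zero, exp_lt_exp]; norm_num
        · refine lt_of_le_of_lt hc ?_
          rw [← exp_zero, exp_lt_exp]; norm_num
      rw [h1] at h2
      exact lt_irrefl _ h2
    rw [hc0, map_zero, sub_zero, hvu, exp_le_exp] at hc
    omega
  · rintro ⟨t, htspan, ht⟩
    obtain ⟨j, hj⟩ := exists_val_eq_one_of_normalized P φ heff hnorm
    have hj0 : φ j ≠ 0 := by
      rintro h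
      rw [h, map_zero] at hj
      exact zero_ne_one hj
    refine ⟨t, ⟨j, hj0, fun i => by rw [hj]; exact hnorm i, t / φ j, div_mem_adjoin_of_mem_span φ j htspan,
      1 / φ j, div_mem_adjoin_of_mem_span φ j heff, ?_, ?_⟩, ht⟩
    · rw [map_div₀, map_one, hj, _root_.div_one]
    · rw [mul_one_div]

end Groth.Agent.Lib.Helper18.FF
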