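import Groth.Agent.Lib.Helper18.FF.StrongApprox
import Groth.Agent.Lib.Helper18.FF.Weil
import Groth.Prelude.Def_AdFn

/-! # `K / (O_{\{P\}} + O_P)` has dimension `g` -/

set_option autoImplicit false
set_option linter.style.haveILetI false

namespace Groth.Agent.Lib.Helper18.FF

open FunFld WithZero

universe u

variable {k K : Type u} [Field k] [Field K] [Algebra k K]

open Classical in
/-- The repartition with component `x` at `P` and `0` elsewhere. -/
noncomputable def iotaP (P : Place k K) : K →ₗ[k] adele k K :=
  (LinearMap.single k (fun _ : Place k K => K) P).codRestrict (adele k K) (fun x => by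
    rw [mem_adele]
    apply Set.Finite.subset (Set.finite_singleton P)
    intro Q hQ
    rw [Set.mem_singleton_iff]
    by_contra hne
    apply hQ
    rw [LinearMap.single_apply, Pi.single_eq_of_ne hne, map_zero]
    exact zero_le')

open Classical in
theorem iotaP_apply_same (P : Place k K) (x : K) : ((iotaP P x : adele k K) : Place k K → K) P = x := by
  show (Pi.single P x : Place k K → K) P = x
  rw [Pi.single_eq_same]

open Classical in
theorem iotaP_apply_ne (P : Place k K) (x : K) {Q : Place k K} (hQ : Q ≠ P) :
    ((iotaP P x : adele k K) : Place k K → K) Q = 0 := by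
  show (Pi.single P x : Place k K → K) Q = 0
  rw [Pi.single_eq_of_ne hQ]

/-- `K → A/(A(0)+K)` through the `P`-component. -/
noncomputable def psiP (P : Place k K) : K →ₗ[k] (↥(adele k K) ⧸ ADK (0 : Divisor k K)) :=
  (Submodule.mkQ _).comp (iotaP P)

theorem psiP_surjective (hK : IsFunctionField k K) (P : Place k K) :
    Function.Surjective (psiP P) := by
  classical
  intro q
  obtain ⟨⟨a, ha⟩, rfl⟩ := Submodule.Quotient.mk_surjective _ q
  have hfin := mem_adele.mp ha
  set S : Finset (Place k K) := hfin.toFinset.erase P with hS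
  -- approximate `a` away from `P`
  obtain ⟨y, hy1, hy2⟩ := strong_approximation hK P S.card
    (fun i => ((S.equivFin.symm i : S) : Place k K))
    (fun i j hij => by
      have := Subtype.ext hij
      exact S.equivFin.symm.injective this)
    (by
      rintro ⟨i, hi⟩
      have hi' : ((S.equivFin.symm i : S) : Place k K) = P := hi
      have h1 := (S.equivFin.symm i).2
      rw [hi', hS, Finset.mem_erase] at h1
      exact h1.1 rfl)
    (fun i => a ((S.equivFin.symm i : S) : Place k K)) (fun _ => 0)
  have hyQ : ∀ Q : Place k K, Q ≠ P → Q.1 (a Q - y) ≤ 1 := by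
    intro Q hQP
    by_cases hQS : Q ∈ S
    · have := hy1 (S.equivFin ⟨Q, hQS⟩)
      simp only [Equiv.symm_apply_apply, neg_zero, exp_zero] at this
      rw [← Valuation.map_neg, neg_sub, this]
    · have h1 : Q.1 y ≤ 1 := by
        apply hy2 Q hQP
        rintro ⟨i, hi⟩
        apply hQS
        have hi' : ((S.equivFin.symm i : S) : Place k K) = Q := hi
        rw [← hi']
        exact (S.equivFin.symm i).2
      have h2 : Q.1 (a Q) ≤ 1 := by
        by_contra hbad
        apply hQS
        rw [hS, Finset.mem_erase]
        exact ⟨hQP, hfin.mem_toFinset.mpr hbad⟩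
      exact (Valuation.map_sub _ _ _).trans (max_le h2 h1)
  refine ⟨a P - y, ?_⟩
  show Submodule.Quotient.mk (iotaP P (a P - y)) = Submodule.Quotient.mk ⟨a, ha⟩
  rw [Submodule.Quotient.eq]
  show ((iotaP P (a P - y) - ⟨a, ha⟩ : adele k K) : Place k K → K) ∈
    AD (0 : Divisor k K) ⊔ LinearMap.range (diag k K)
  have : ((iotaP P (a P - y) - ⟨a, ha⟩ : adele k K) : Place k K → K) =
      (fun Q => if Q = P then 0 else y - a Q) + diag k K (-y) := by
    funext Q
    show ((iotaP P (a P - y) : adele k K) : Place k K → K) Q - a Q = _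
    rw [Pi.add_apply, diag_apply]
    by_cases hQ : Q = P
    · rw [hQ, iotaP_apply_same, if_pos rfl]; ring
    · rw [iotaP_apply_ne P _ hQ, if_neg hQ]; ring
  rw [this]
  apply Submodule.add_mem_sup
  · intro Q
    rw [Finsupp.zero_apply, exp_zero]
    beta_reduce
    by_cases hQ : Q = P
    · rw [if_pos hQ, map_zero]; exact zero_le'
    · rw [if_neg hQ, ← Valuation.map_neg, neg_sub]
      exact hyQ Q hQ
  · exact LinearMap.mem_range_self _ _

theorem ker_psiP (P : Place k K) :
    LinearMap.ker (psiP P) =
      Subalgebra.toSubmodule (AdFn.SInt ({P} : Set (Place k K))) ⊔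
        Subalgebra.toSubmodule (AdFn.SInt (({P} : Set (Place k K))ᶜ)) := by
  ext x
  rw [LinearMap.mem_ker]
  show Submodule.Quotient.mk (iotaP P x) = 0 ↔ _
  rw [Submodule.Quotient.mk_eq_zero]
  show ((iotaP P x : adele k K) : Place k K → K) ∈
    AD (0 : Divisor k K) ⊔ LinearMap.range (diag k K) ↔ _
  constructor
  · intro h
    obtain ⟨a, ha, _, ⟨y, rfl⟩, hsum⟩ := Submodule.mem_sup.mp h
    have hy : y ∈ Subalgebra.toSubmodule (AdFn.SInt ({P} : Set (Place k K))) := by
      intro Q hQ
      have hQP : Q ≠ P := hQ
      have h1 := congrFun hsum Q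
      rw [Pi.add_apply, diag_apply, iotaP_apply_ne P x hQP] at h1
      have h2 := ha Q
      rw [Finsupp.zero_apply, exp_zero] at h2
      have : y = -a Q := by linear_combination h1
      rw [this, Valuation.map_neg]
      exact h2
    have hz : x - y ∈ Subalgebra.toSubmodule (AdFn.SInt (({P} : Set (Place k K))ᶜ)) := by
      intro Q hQ
      have hQP : Q = P := by
        by_contra hne
        exact hQ hne
      have h1 := congrFun hsum Q
      rw [Pi.add_apply, diag_apply, hQP, iotaP_apply_same] at h1
      have h2 := ha P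
      rw [Finsupp.zero_apply, exp_zero] at h2
      have : x - y = a P := by linear_combination -h1
      rw [hQP, this]
      exact h2
    have : x = y + (x - y) := by ring
    rw [this]
    exact Submodule.add_mem_sup hy hz
  · intro h
    obtain ⟨y, hy, z, hz, rfl⟩ := Submodule.mem_sup.mp h
    have : ((iotaP P (y + z) : adele k K) : Place k K → K) =
        (((iotaP P (y + z) : adele k K) : Place k K → K) - diag k K y) + diag k K y := by
      rw [sub_add_cancel]
    rw [this]
    apply Submodule.add_mem_sup _ (LinearMap.mem_range_self _ _)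
    intro Q
    rw [Finsupp.zero_apply, exp_zero, Pi.sub_apply, diag_apply]
    by_cases hQ : Q = P
    · rw [hQ, iotaP_apply_same, add_sub_cancel_left]
      exact hz P (fun h' => h' rfl)
    · rw [iotaP_apply_ne P _ hQ, zero_sub, Valuation.map_neg]
      exact hy Q hQ

theorem finrank_quotient_SInt (hK : IsFunctionField k K) (P : Place k K) :
    FiniteDimensional k (K ⧸ (Subalgebra.toSubmodule (AdFn.SInt ({P} : Set (Place k K))) ⊔
        Subalgebra.toSubmodule (AdFn.SInt (({P} : Set (Place k K))ᶜ)))) ∧
    Module.finrank k (K ⧸ (Subalgebra.toSubmodule (AdFn.SInt ({P} : Set (Place k K))) ⊔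
        Subalgebra.toSubmodule (AdFn.SInt (({P} : Set (Place k K))ᶜ)))) = genus k K := by
  obtain ⟨hfin, hrk⟩ := finrank_adele_quot hK (0 : Divisor k K)
  haveI := hfin
  rw [delta_zero hK, sub_zero] at hrk
  let e : (K ⧸ (Subalgebra.toSubmodule (AdFn.SInt ({P} : Set (Place k K))) ⊔
        Subalgebra.toSubmodule (AdFn.SInt (({P} : Set (Place k K))ᶜ)))) ≃ₗ[k]
      (↥(adele k K) ⧸ ADK (0 : Divisor k K)) :=
    (Submodule.quotEquivOfEq _ _ (ker_psiP P).symm).trans
      ((psiP P).quotKerEquivOfSurjective (psiP_surjective hK P))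
  refine ⟨Module.Finite.equiv e.symm, ?_⟩
  rw [e.finrank_eq]
  exact_mod_cast hrk

end Groth.Agent.Lib.Helper18.FF
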