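import Groth.Agent.Lib.Helper18.FF.Embedding
import Groth.Agent.Lib.Helper18.FF.Degree3

/-! # Clearing poles away from a place by a section which is a unit there -/

set_option autoImplicit false
set_option linter.style.haveILetI false

namespace Groth.Agent.Lib.Helper18.FF

open FunFld WithZero

universe u v

variable {k : Type u} {K : Type v} [Field k] [Field K] [Algebra k K]

/-- For `E ≥ 0` of positive degree, a place `Q` off `E` and `z` regular at `Q`, some section
`σ` of a multiple of `E`, a unit at `Q`, multiplies `z` into that multiple. -/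
theorem exists_unit_multiplier (hK : IsFunctionField k K) {E : Divisor k K} (hE : 0 ≤ E)
    (hEdeg : 1 ≤ E.deg) (Q : Place k K) (hEQ : E Q = 0) {z : K} (hz : Q.1 z ≤ 1) :
    ∃ (n : ℕ) (σ : K), σ ∈ L (n • E) ∧ Q.1 σ = 1 ∧ σ * z ∈ L (n • E) := by
  classical
  rcases eq_or_ne z 0 with rfl | hz0
  · refine ⟨0, 1, ?_, map_one _, ?_⟩
    · rw [zero_smul]
      exact one_mem_L_of_nonneg le_rfl
    · rw [mul_zero]
      exact Submodule.zero_mem _
  obtain ⟨Z, hZdef⟩ : ∃ Z : Divisor k K, Z = poleDiv z := ⟨_, rfl⟩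
  have hZ : 0 ≤ Z := hZdef ▸ poleDiv_nonneg z
  obtain ⟨n, hn⟩ : ∃ n : ℕ, 2 * (genus k K : ℤ) + Q.deg + Z.deg ≤ n * E.deg := by
    refine ⟨(2 * (genus k K : ℤ) + Q.deg + Z.deg).toNat, ?_⟩
    have h1 : 2 * (genus k K : ℤ) + Q.deg + Z.deg ≤
        ((2 * (genus k K : ℤ) + Q.deg + Z.deg).toNat : ℤ) := Int.self_le_toNat _
    have h2 : (0 : ℤ) ≤ ((2 * (genus k K : ℤ) + Q.deg + Z.deg).toNat : ℤ) := Int.natCast_nonneg _
    nlinarith
  obtain ⟨F, hFdef⟩ : ∃ F : Divisor k K, F = n • E - Z := ⟨_, rfl⟩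
  have hZQ : Z Q = 0 := by
    rw [hZdef, poleDiv_apply hK]
    have : 0 ≤ Q.ord z := (val_le_one_iff_ord_nonneg Q hz0).mp hz
    omega
  have hFQ : F Q = 0 := by
    rw [hFdef, Finsupp.sub_apply, Finsupp.smul_apply, hEQ, hZQ]
    simp
  have hFdeg : F.deg = n * E.deg - Z.deg := by
    rw [hFdef, deg_sub, deg_nsmul]
  have hQdeg : (1 : ℤ) ≤ (Q.deg : ℤ) := by exact_mod_cast deg_pos hK Q
  have hg0 : (0 : ℤ) ≤ genus k K := Int.natCast_nonneg _
  have hell : ell (F - Finsupp.single Q 1) < ell F := by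
    have h1 := ell_eq_of_deg_ge hK F (by rw [hFdeg]; linarith)
    have h2 := ell_eq_of_deg_ge hK (F - Finsupp.single Q 1) (by
      rw [deg_sub, deg_single, hFdeg]; linarith)
    rw [deg_sub, deg_single] at h2
    have : (ell (F - Finsupp.single Q 1) : ℤ) < ell F := by
      rw [h1, h2]
      linarith
    exact_mod_cast this
  obtain ⟨σ, hσF, hσ0, hσQ⟩ := exists_section_val hK Q hell
  rw [hFQ, exp_zero] at hσQ
  have hσE : σ ∈ L (n • E) := by
    refine L_mono ?_ hσF
    intro P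
    rw [hFdef, Finsupp.sub_apply]
    have := hZ P
    rw [Finsupp.zero_apply] at this
    omega
  have hσzE : σ * z ∈ L (n • E) := by
    intro P
    rw [map_mul]
    have h1 : P.1 σ ≤ exp (F P) := hσF P
    have h2 : P.1 z ≤ exp (Z P) := by
      rw [hZdef]
      exact val_le_exp_poleDiv hK z P
    calc P.1 σ * P.1 z ≤ exp (F P) * exp (Z P) := mul_le_mul' h1 h2
      _ = exp ((n • E) P) := by
        rw [← exp_add, hFdef, Finsupp.sub_apply]
        congr 1
        ring
  exact ⟨n, σ, hσE, hσQ, hσzE⟩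

end Groth.Agent.Lib.Helper18.FF
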