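import Mathlib.Algebra.MvPolynomial.PDeriv
import Mathlib.RingTheory.Ideal.Operations

/-! # First order Taylor expansion of multivariate polynomials -/

set_option autoImplicit false

namespace Groth.Agent.Lib.Helper18.FF

open MvPolynomial

/-- `f(a + δ) ≡ f(a) + ∑ ∂ᵢf(a) δᵢ` modulo an ideal containing all products `δᵢ δⱼ`. -/
theorem mvPolynomial_taylor_one {R A σ : Type*} [CommRing R] [CommRing A] [Algebra R A]
    [Fintype σ] (I : Ideal A) (a δ : σ → A) (hδ : ∀ i j, δ i * δ j ∈ I)
    (f : MvPolynomial σ R) :
    aeval (fun i => a i + δ i) f - aeval a f - ∑ i, aeval a (pderiv i f) * δ i ∈ I := by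
  classical
  induction f using MvPolynomial.induction_on with
  | C r =>
    simp only [aeval_C, pderiv_C, map_zero, zero_mul, Finset.sum_const_zero, sub_self]
    exact I.zero_mem
  | add p q hp hq =>
    have : aeval (fun i => a i + δ i) (p + q) - aeval a (p + q) -
        ∑ i, aeval a (pderiv i (p + q)) * δ i =
        (aeval (fun i => a i + δ i) p - aeval a p - ∑ i, aeval a (pderiv i p) * δ i) +
        (aeval (fun i => a i + δ i) q - aeval a q - ∑ i, aeval a (pderiv i q) * δ i) := by
      simp only [map_add, add_mul, Finset.sum_add_distrib]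
      ring
    rw [this]
    exact I.add_mem hp hq
  | mul_X p n hp =>
    set E := aeval (fun i => a i + δ i) p - aeval a p - ∑ i, aeval a (pderiv i p) * δ i with hE
    have hsum : ∑ i, aeval a (pderiv i (p * X n)) * δ i =
        a n * ∑ i, aeval a (pderiv i p) * δ i + aeval a p * δ n := by
      simp only [pderiv_mul, map_add, map_mul, aeval_X, add_mul]
      rw [Finset.sum_add_distrib, Finset.mul_sum]
      congr 1
      · refine Finset.sum_congr rfl fun i _ => by ring
      · rw [Finset.sum_eq_single n]
        · rw [pderiv_X_self, map_one, mul_one]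
        · intro i _ hi
          rw [pderiv_X_of_ne (Ne.symm hi), map_zero, mul_zero, zero_mul]
        · intro h; exact absurd (Finset.mem_univ n) h
    have key : aeval (fun i => a i + δ i) (p * X n) - aeval a (p * X n) -
        ∑ i, aeval a (pderiv i (p * X n)) * δ i =
        E * (a n + δ n) + ∑ i, aeval a (pderiv i p) * (δ i * δ n) := by
      have h2 : ∑ i, aeval a (pderiv i p) * (δ i * δ n) =
          (∑ i, aeval a (pderiv i p) * δ i) * δ n := by
        rw [Finset.sum_mul]
        refine Finset.sum_congr rfl fun i _ => by ring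
      rw [hsum, hE, h2]
      simp only [map_mul, aeval_X]
      generalize (∑ i, aeval a (pderiv i p) * δ i) = T
      ring
    rw [key]
    refine I.add_mem (I.mul_mem_right _ hp) (I.sum_mem fun i _ => I.mul_mem_left _ (hδ i n))

end Groth.Agent.Lib.Helper18.FF
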