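import Groth.Agent.Lib.Helper18.FF.PlaneModel

/-! # Plane models: generic coordinates and the monomial filtration -/

set_option autoImplicit false
set_option linter.style.haveILetI false

namespace Groth.Agent.Lib.Helper18.FF

open FunFld WithZero IntermediateField

universe u v

variable {k : Type u} {K : Type v} [Field k] [Field K] [Algebra k K]

/-- The monomials `u^i y^j`, `j < N`, `i + j ≤ n`. -/
def planeFam (u y : K) (N n : ℕ) : (Σ j : Fin N, Fin (n + 1 - j)) → K :=
  fun p => u ^ (p.2 : ℕ) * y ^ (p.1 : ℕ)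

variable (k) in
/-- The span of the monomials `u^i y^j`, `j < N`, `i + j ≤ n`. -/
def planeT (u y : K) (N n : ℕ) : Submodule k K := Submodule.span k (Set.range (planeFam u y N n))

theorem mem_planeT_of (u y : K) {N n i j : ℕ} (hj : j < N) (hij : i + j ≤ n) :
    u ^ i * y ^ j ∈ planeT k u y N n :=
  Submodule.subset_span ⟨⟨⟨j, hj⟩, ⟨i, by simp only; omega⟩⟩, rfl⟩

theorem planeT_mono (u y : K) (N : ℕ) {n m : ℕ} (h : n ≤ m) : planeT k u y N n ≤ planeT k u y N m := by
  refine Submodule.span_le.mpr ?_
  rintro _ ⟨⟨j, i⟩, rfl⟩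
  have := i.2
  exact mem_planeT_of u y j.2 (by omega)

theorem card_planeFam (N n : ℕ) :
    Fintype.card (Σ j : Fin N, Fin (n + 1 - j)) = ∑ j ∈ Finset.range N, (n + 1 - j) := by
  rw [Fintype.card_sigma]
  simp only [Fintype.card_fin]
  exact Fin.sum_univ_eq_sum_range (fun j => n + 1 - j) N

theorem linearIndependent_planeFam {u y : K} (hut : Transcendental k u) {N : ℕ}
    (hli : LinearIndependent (IntermediateField.adjoin k ({u} : Set K))
      (fun j : Fin N => y ^ (j : ℕ))) (n : ℕ) :
    LinearIndependent k (planeFam u y N n) := by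
  have hm := linearIndependent_pow_mul hut (fun j : Fin N => y ^ (j : ℕ)) hli n
  let inj : (Σ j : Fin N, Fin (n + 1 - j)) → Fin (n + 1) × Fin N := fun p =>
    (⟨p.2, lt_of_lt_of_le p.2.2 (Nat.sub_le _ _)⟩, p.1)
  have hinj : Function.Injective inj := by
    rintro ⟨j, i⟩ ⟨j', i'⟩ h
    simp only [inj, Prod.mk.injEq, Fin.mk.injEq] at h
    obtain ⟨h1, rfl⟩ := h
    have : i = i' := Fin.ext h1
    rw [this]
  exact hm.comp inj hinj

theorem finrank_planeT {u y : K} (hut : Transcendental k u) {N : ℕ}
    (hli : LinearIndependent (IntermediateField.adjoin k ({u} : Set K))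
      (fun j : Fin N => y ^ (j : ℕ))) (n : ℕ) :
    Module.finrank k (planeT k u y N n) = ∑ j ∈ Finset.range N, (n + 1 - j) := by
  rw [planeT, finrank_span_eq_card (linearIndependent_planeFam hut hli n), card_planeFam]

theorem planeT_le_L {E : Divisor k K} (hE : 0 ≤ E) {u y : K} (hu : u ∈ L E) (hy : y ∈ L E)
    (N n : ℕ) : planeT k u y N n ≤ L (n • E) := by
  refine Submodule.span_le.mpr ?_
  rintro _ ⟨p, rfl⟩
  have h1 := mul_mem_L (pow_mem_L hu (p.2 : ℕ)) (pow_mem_L hy (p.1 : ℕ))
  rw [← add_smul] at h1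
  refine L_mono ?_ h1
  intro R
  simp only [Finsupp.smul_apply, nsmul_eq_mul]
  have h2 : ((p.2 : ℕ) + (p.1 : ℕ) : ℕ) ≤ n := by
    have := p.2.2
    omega
  have h3 : (((p.2 : ℕ) + (p.1 : ℕ) : ℕ) : ℤ) ≤ (n : ℤ) := by exact_mod_cast h2
  exact mul_le_mul_of_nonneg_right h3 (hE R)

/-- Generic coordinates for a plane model. -/
theorem plane_setup [Infinite k] (hK : IsFunctionField k K) (x y : K)
    (hxy : IntermediateField.adjoin k ({x, y} : Set K) = ⊤) :
    ∃ (c : k) (u : K) (N : ℕ), u = x + c • y ∧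
      poleDiv (k := k) u = mapDiv k ![(1 : K), x, y] ∧ Transcendental k u ∧
      (mapDiv k ![(1 : K), x, y]).deg = N ∧ 1 ≤ N ∧
      (∀ P : Place k K, 0 < mapDiv k ![(1 : K), x, y] P →
        P.1 u = exp (mapDiv k ![(1 : K), x, y] P)) ∧
      LinearIndependent (IntermediateField.adjoin k ({u} : Set K))
        (fun j : Fin N => y ^ (j : ℕ)) ∧
      N = Module.finrank (IntermediateField.adjoin k ({u} : Set K)) K ∧
      (minpoly (IntermediateField.adjoin k ({u} : Set K)) y).natDegree = N := by
  classical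
  obtain ⟨E, hEdef⟩ : ∃ E : Divisor k K, E = mapDiv k ![(1 : K), x, y] := ⟨_, rfl⟩
  rw [← hEdef]
  have hE0 : 0 ≤ E := hEdef ▸ plane_nonneg hK x y
  have hxE : x ∈ L E := hEdef ▸ plane_x_mem hK x y
  have hyE : y ∈ L E := hEdef ▸ plane_y_mem hK x y
  obtain ⟨c, hc0, hc⟩ := plane_exists_generic hK x y
  rw [← hEdef] at hc
  obtain ⟨u, hu⟩ : ∃ u : K, u = x + c • y := ⟨_, rfl⟩
  rw [← hu] at hc
  have huE : u ∈ L E := by
    rw [hu]
    exact Submodule.add_mem _ hxE (Submodule.smul_mem _ c hyE)
  have hpole : poleDiv (k := k) u = E := poleDiv_eq_of_attained hK hE0 huE hc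
  have hEne : ∃ P, 0 < E P := by
    by_contra hcon
    push Not at hcon
    have hE0' : E = 0 := by
      ext P
      exact le_antisymm (hcon P) (hE0 P)
    rw [hE0', L_zero_eq_one hK] at hxE hyE
    obtain ⟨a, rfl⟩ := Submodule.mem_one.mp hxE
    obtain ⟨b, rfl⟩ := Submodule.mem_one.mp hyE
    obtain ⟨t, ht, -⟩ := hK.1
    have hmem : t ∈ IntermediateField.adjoin k ({algebraMap k K a, algebraMap k K b} : Set K) := by
      rw [hxy]
      trivial
    have hbot : IntermediateField.adjoin k ({algebraMap k K a, algebraMap k K b} : Set K) = ⊥ := by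
      rw [IntermediateField.adjoin_eq_bot_iff]
      rintro z (rfl | rfl)
      · exact IntermediateField.algebraMap_mem _ _
      · exact IntermediateField.algebraMap_mem _ _
    rw [hbot, IntermediateField.mem_bot] at hmem
    obtain ⟨c', rfl⟩ := hmem
    exact ht (isAlgebraic_algebraMap c')
  obtain ⟨P₀, hP₀⟩ := hEne
  have hu0 : u ≠ 0 := by
    intro h
    have := hc P₀ hP₀
    rw [h, map_zero] at this
    exact exp_ne_zero this.symm
  have hut : Transcendental k u := transcendental_of_val_ne_one hK P₀ hu0 (by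
    rw [hc P₀ hP₀]
    intro h
    rw [← exp_zero, exp_injective.eq_iff] at h
    omega)
  have hdeg : E.deg = Module.finrank (IntermediateField.adjoin k ({u} : Set K)) K := by
    rw [← hpole]
    exact deg_poleDiv_eq hK hut
  haveI := finiteDimensional_adjoin_of_transcendental hK hut
  have hFy : IntermediateField.adjoin (IntermediateField.adjoin k ({u} : Set K)) ({y} : Set K)
      = ⊤ := by
    rw [← IntermediateField.restrictScalars_eq_top_iff (K := k),
      IntermediateField.adjoin_adjoin_left, eq_top_iff, ← hxy]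
    refine IntermediateField.adjoin_le_iff.mpr ?_
    rintro z (rfl | rfl)
    · have hz : z = u - c • y := by
        rw [hu]
        ring
      rw [hz]
      have h1 : u ∈ IntermediateField.adjoin k ({u} ∪ {y} : Set K) :=
        IntermediateField.subset_adjoin k _ (Or.inl rfl)
      have h2 : y ∈ IntermediateField.adjoin k ({u} ∪ {y} : Set K) :=
        IntermediateField.subset_adjoin k _ (Or.inr rfl)
      exact sub_mem h1 (IntermediateField.smul_mem _ h2)
    · exact IntermediateField.subset_adjoin k _ (Or.inr rfl)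
  have hint : IsIntegral (IntermediateField.adjoin k ({u} : Set K)) y :=
    Algebra.IsIntegral.isIntegral y
  obtain ⟨N, hN⟩ : ∃ N : ℕ,
      N = (minpoly (IntermediateField.adjoin k ({u} : Set K)) y).natDegree := ⟨_, rfl⟩
  have hNfin : N = Module.finrank (IntermediateField.adjoin k ({u} : Set K)) K := by
    rw [hN, ← IntermediateField.adjoin.finrank hint, hFy, IntermediateField.finrank_top']
  have hli' : LinearIndependent (IntermediateField.adjoin k ({u} : Set K))
      (fun j : Fin N => y ^ (j : ℕ)) := by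
    subst hN
    exact linearIndependent_pow (K := IntermediateField.adjoin k ({u} : Set K)) y
  have hEN : E.deg = (N : ℤ) := by rw [hdeg, hNfin]
  have hNpos : 1 ≤ N := by
    rw [hNfin]
    exact Module.finrank_pos
  exact ⟨c, u, N, hu, hpole, hut, hEN, hNpos, hc, hli', hNfin, hN.symm⟩

end Groth.Agent.Lib.Helper18.FF
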