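import Groth.Agent.Lib.Helper18.FF.Semilocal
import Groth.Agent.Lib.Helper18.FF.PlaneSetup
import Groth.Agent.Lib.Helper18.FF.ProjMap
import Groth.Agent.Lib.Helper18.FF.Exists

/-! # Plane models: nonsingular affine part implies `L(nE) ⊆ k[x, y]` -/

set_option autoImplicit false
set_option linter.style.haveILetI false

namespace Groth.Agent.Lib.Helper18.FF

open FunFld WithZero IntermediateField

universe u v

variable {k : Type u} {K : Type v} [Field k] [Field K] [Algebra k K]

/-- Finite generation with control on the generators: all `L(nE)` lie in the `A`-span of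
finitely many elements of some `L(mE)`. -/
theorem exists_generators_mem (hK : IsFunctionField k K) (A : Subalgebra k K) {E : Divisor k K}
    (hE : 0 ≤ E) (hEdeg : 1 ≤ E.deg) {x : K} (hxA : x ∈ A) (hx0 : x ≠ 0) (hxE : x ∈ L E)
    (hxdiv : ∀ R, 0 < E R → (FunFld.div k x) R = - E R) :
    ∃ (m r : ℕ) (b : Fin r → K), (∀ j, b j ∈ L (m • E)) ∧ ∀ n : ℕ, ∀ y ∈ L (n • E),
      ∃ a : Fin r → A, y = ∑ j, (a j : K) * b j := by
  classical
  obtain ⟨n₀, hn₀⟩ : ∃ n₀ : ℕ, n₀ = 2 * genus k K := ⟨_, rfl⟩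
  have h3 : ∀ n, n₀ ≤ n → ell ((n + 2) • E) + ell (n • E) ≤ 2 * ell ((n + 1) • E) := by
    intro n hn
    have hg : (0 : ℤ) ≤ genus k K := Int.natCast_nonneg _
    have e : ∀ i : ℕ, n₀ ≤ i → (ell (i • E) : ℤ) = (i : ℤ) * E.deg + 1 - genus k K := by
      intro i hi
      have hi' : ((n₀ : ℕ) : ℤ) ≤ (i : ℤ) := by exact_mod_cast hi
      rw [hn₀] at hi'
      push_cast at hi'
      have := ell_eq_of_deg_ge hK (i • E) (by
        rw [deg_nsmul]
        nlinarith)
      rw [deg_nsmul] at this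
      exact this
    have e1 := e (n + 2) (by omega)
    have e2 := e n hn
    have e3 := e (n + 1) (by omega)
    have : (ell ((n + 2) • E) : ℤ) + ell (n • E) ≤ 2 * (ell ((n + 1) • E) : ℤ) := by
      rw [e1, e2, e3]
      push_cast
      linarith
    exact_mod_cast this
  obtain ⟨M, hM⟩ : ∃ M : Submodule k K, M = L ((n₀ + 1) • E) := ⟨_, rfl⟩
  haveI : FiniteDimensional k M := by rw [hM]; exact finiteDimensional_L hK _
  obtain ⟨r, hr⟩ : ∃ r : ℕ, r = Module.finrank k M := ⟨_, rfl⟩
  let bb : Module.Basis (Fin r) k M := (Module.finBasis k M).reindex (finCongr hr.symm)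
  obtain ⟨b, hb⟩ : ∃ b : Fin r → K, ∀ j, b j = (bb j : K) := ⟨_, fun _ => rfl⟩
  have hMspan : ∀ y ∈ M, y ∈ Submodule.span A (Set.range b) := by
    intro y hy
    have h := bb.sum_repr ⟨y, hy⟩
    have h' : y = ∑ j, (bb.repr ⟨y, hy⟩ j) • b j := by
      have h6 := congrArg Subtype.val h
      rw [Submodule.coe_sum] at h6
      simp only [Submodule.coe_smul] at h6
      refine h6.symm.trans ?_
      exact Finset.sum_congr rfl fun j _ => by rw [hb]
    obtain ⟨cf, hcf⟩ : ∃ cf : Fin r → k, y = ∑ j, cf j • b j :=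
      ⟨fun j => bb.repr ⟨y, hy⟩ j, h'⟩
    rw [hcf]
    refine Submodule.sum_mem _ fun j _ => ?_
    rw [← algebraMap_smul A (cf j) (b j)]
    exact Submodule.smul_mem _ _ (Submodule.subset_span ⟨j, rfl⟩)
  refine ⟨n₀ + 1, r, b, fun j => ?_, fun n y hy => ?_⟩
  · rw [hb j, ← hM]
    exact (bb j).2
  have h := mem_span_of_mem_L hK hE hx0 hxE hxdiv n₀ h3 A hxA n hy
  rw [← hM] at h
  have h' : y ∈ Submodule.span A (Set.range b) := (Submodule.span_le.mpr hMspan) h
  obtain ⟨a, ha⟩ := (Submodule.mem_span_range_iff_exists_fun A).mp h'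
  refine ⟨a, ?_⟩
  rw [← ha]
  rfl

/-- A place at which `x` and `y` are integral is a finite place of the plane model. -/
theorem plane_mapDiv_eq_zero (hK : IsFunctionField k K) (x y : K) (P : Place k K)
    (hx : P.1 x ≤ 1) (hy : P.1 y ≤ 1) : mapDiv k ![(1 : K), x, y] P = 0 := by
  have h0 : (0 : ℤ) ≤ mapDiv k ![(1 : K), x, y] P := plane_nonneg hK x y P
  obtain ⟨i₀, hi₀⟩ := exists_mapDiv_eq hK ![(1 : K), x, y] P
  have hle : ∀ i, P.1 (![(1 : K), x, y] i) ≤ 1 := by
    intro i
    fin_cases i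
    · simp
    · exact hx
    · exact hy
  rcases eq_or_ne (![(1 : K), x, y] i₀) 0 with h | h
  · rw [hi₀, h, ord_zero, neg_zero]
  · have := (val_le_one_iff_ord_nonneg P h).mp (hle i₀)
    omega

/-- **Nonsingular affine part.** If the plane model is nonsingular at all finite places, every
function with poles only at infinity is a polynomial in `x` and `y`. -/
theorem plane_L_le_adjoin [IsAlgClosed k] (hK : IsFunctionField k K) (x y : K)
    (hxy : IntermediateField.adjoin k ({x, y} : Set K) = ⊤) (c : k)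
    (hdeg : 1 ≤ (mapDiv k ![(1 : K), x, y]).deg)
    (hatt : ∀ P : Place k K, 0 < mapDiv k ![(1 : K), x, y] P →
      P.1 (x + c • y) = exp (mapDiv k ![(1 : K), x, y] P))
    (hns : ∀ P : Place k K, mapDiv k ![(1 : K), x, y] P = 0 →
      IsNonsingularAt ![(1 : K), x, y] P) (n : ℕ) {z : K}
    (hz : z ∈ L (n • mapDiv k ![(1 : K), x, y])) : z ∈ Algebra.adjoin k ({x, y} : Set K) := by
  classical
  obtain ⟨E, hEdef⟩ : ∃ E : Divisor k K, E = mapDiv k ![(1 : K), x, y] := ⟨_, rfl⟩
  rw [← hEdef] at hdeg hatt hz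
  have hE : 0 ≤ E := hEdef ▸ plane_nonneg hK x y
  obtain ⟨A, hA⟩ : ∃ A : Subalgebra k K, A = Algebra.adjoin k ({x, y} : Set K) := ⟨_, rfl⟩
  rw [← hA]
  have hxA : x ∈ A := hA ▸ Algebra.subset_adjoin (Or.inl rfl)
  have hyA : y ∈ A := hA ▸ Algebra.subset_adjoin (Or.inr rfl)
  obtain ⟨u, hu⟩ : ∃ u : K, u = x + c • y := ⟨_, rfl⟩
  rw [← hu] at hatt
  have huA : u ∈ A := hu ▸ Subalgebra.add_mem _ hxA (Subalgebra.smul_mem _ hyA c)
  have huE : u ∈ L E := by
    rw [hu, hEdef]
    exact Submodule.add_mem _ (plane_x_mem hK x y) (Submodule.smul_mem _ c (plane_y_mem hK x y))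
  obtain ⟨P₀, hP₀⟩ : ∃ P, 0 < E P := by
    by_contra hcon
    push Not at hcon
    have hE0 : E = 0 := by
      ext P
      exact le_antisymm (hcon P) (hE P)
    rw [hE0, deg_zero] at hdeg
    omega
  have hu0 : u ≠ 0 := by
    intro h
    have := hatt P₀ hP₀
    rw [h, map_zero] at this
    exact exp_ne_zero this.symm
  have hudiv : ∀ R, 0 < E R → (FunFld.div k u) R = - E R := by
    intro R hR
    have h1 := hatt R hR
    rw [val_eq_exp_neg_ord R hu0, exp_injective.eq_iff] at h1
    rw [div_apply hK]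
    omega
  obtain ⟨m, r, b, hbm, hgen⟩ := exists_generators_mem hK A hE hdeg huA hu0 huE hudiv
  have hfrac : ∀ t : K, ∃ r' ∈ A, ∃ s ∈ A, t = r' / s := by
    intro t
    have ht : t ∈ IntermediateField.adjoin k ({x, y} : Set K) := by
      rw [hxy]
      trivial
    rw [hA]
    exact IntermediateField.mem_adjoin_iff_div.mp ht
  -- it suffices that the generators lie in `A`
  suffices hb : ∀ l, b l ∈ A by
    obtain ⟨a, ha⟩ := hgen n z hz
    rw [ha]
    exact Subalgebra.sum_mem _ fun l _ => Subalgebra.mul_mem _ (a l).2 (hb l)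
  -- the conductor ideal
  let R : Subring K := A.toSubring
  let I : Ideal R :=
    { carrier := {a | ∀ l, (a : K) * b l ∈ A}
      add_mem' := fun {a a'} ha ha' l => by
        have : ((a + a' : R) : K) * b l = (a : K) * b l + (a' : K) * b l := by
          push_cast
          ring
        rw [this]
        exact Subalgebra.add_mem _ (ha l) (ha' l)
      zero_mem' := fun l => by
        have : ((0 : R) : K) * b l = 0 := by
          push_cast
          ring
        rw [this]
        exact Subalgebra.zero_mem _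
      smul_mem' := fun s a ha l => by
        have : ((s • a : R) : K) * b l = (s : K) * ((a : K) * b l) := by
          rw [smul_eq_mul]
          push_cast
          ring
        rw [this]
        exact Subalgebra.mul_mem _ s.2 (ha l) }
  by_cases hI : I = ⊤
  · intro l
    have h1 : (1 : R) ∈ I := by
      rw [hI]
      trivial
    have := h1 l
    simpa using this
  exfalso
  obtain ⟨V, hRV, hIV⟩ := Ideal.image_subset_nonunits_valuationSubring I hI
  have hAV : ∀ a ∈ A, a ∈ V := fun a ha => hRV ha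
  have hkV : ∀ c' : k, algebraMap k K c' ∈ V := fun c' => hAV _ (A.algebraMap_mem c')
  obtain ⟨f, hfA, hf0, hfb⟩ := exists_denominator A hfrac b
  have hfI : (⟨f, hfA⟩ : R) ∈ I := fun l => hfb l
  have hfV : V.valuation f < 1 := by
    rw [← ValuationSubring.mem_nonunits_iff]
    exact hIV ⟨⟨f, hfA⟩, hfI, rfl⟩
  obtain ⟨P, hP1, hP2⟩ := exists_place_of_valuationSubring hK V hkV hf0 hfV
  have hEP : E P = 0 := by
    rw [hEdef]
    exact plane_mapDiv_eq_zero hK x y P (hP1 x (hAV x hxA)) (hP1 y (hAV y hyA))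
  have hnsP := hns P (hEdef ▸ hEP)
  have h0max : ∀ i, P.1 (![(1 : K), x, y] i) ≤ P.1 (![(1 : K), x, y] 0) := by
    intro i
    have h1 : P.1 (![(1 : K), x, y] 0) = 1 := by simp
    rw [h1]
    fin_cases i
    · simp
    · exact hP1 x (hAV x hxA)
    · exact hP1 y (hAV y hyA)
  have hA0 : Algebra.adjoin k (Set.range fun i => ![(1 : K), x, y] i / ![(1 : K), x, y] 0) ≤ A := by
    refine Algebra.adjoin_le ?_
    rintro _ ⟨i, rfl⟩
    have h1 : ![(1 : K), x, y] 0 = 1 := rfl
    change ![(1 : K), x, y] i / ![(1 : K), x, y] 0 ∈ A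
    rw [h1, _root_.div_one]
    fin_cases i
    · exact Subalgebra.one_mem _
    · exact hxA
    · exact hyA
  have hw : ∀ l, ∃ w ∈ A, P.1 w = 1 ∧ w * b l ∈ A := by
    intro l
    have hbl : P.1 (b l) ≤ 1 := by
      have := hbm l P
      rwa [Finsupp.smul_apply, hEP, smul_zero, exp_zero] at this
    obtain ⟨u', hu', w', hw', hw'P, hbw⟩ :=
      inLocRing_index _ P (hnsP (b l) hbl) 0 (by simp) h0max
    exact ⟨w', hA0 hw', hw'P, by rw [mul_comm, hbw]; exact hA0 hu'⟩
  choose w hwA hwP hwb using hw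
  have hprodA : (∏ l, w l) ∈ A := Subalgebra.prod_mem _ fun l _ => hwA l
  have hprodI : (⟨∏ l, w l, hprodA⟩ : R) ∈ I := by
    intro l
    change (∏ l, w l) * b l ∈ A
    rw [← Finset.mul_prod_erase Finset.univ w (Finset.mem_univ l), mul_right_comm]
    exact Subalgebra.mul_mem _ (hwb l) (Subalgebra.prod_mem _ fun i _ => hwA i)
  have hprodV : V.valuation (∏ l, w l) < 1 := by
    rw [← ValuationSubring.mem_nonunits_iff]
    exact hIV ⟨⟨∏ l, w l, hprodA⟩, hprodI, rfl⟩
  have h1 := hP2 _ hprodV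
  rw [map_prod] at h1
  have h2 : ∏ l, P.1 (w l) = 1 := Finset.prod_eq_one fun l _ => hwP l
  rw [h2] at h1
  exact lt_irrefl _ h1

end Groth.Agent.Lib.Helper18.FF
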