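import Groth.Agent.Lib.Helper18.FF.RootCount

/-! # Plane models: the pole filtration on `k[u, y]` is the degree filtration (given transversality) -/

set_option autoImplicit false
set_option linter.style.haveILetI false

namespace Groth.Agent.Lib.Helper18.FF

open FunFld WithZero IntermediateField

universe u v

variable {k : Type u} {K : Type v} [Field k] [Field K] [Algebra k K]

/-- Splitting off the top-degree part of a polynomial of degree `≤ m + 1`. -/
theorem planeT_succ_decomp (u y : K) (N m : ℕ) {z : K} (hz : z ∈ planeT k u y N (m + 1)) :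
    ∃ (top : Fin N → k), ∃ z' ∈ planeT k u y N m,
      z = z' + ∑ j : Fin N, top j • (u ^ (m + 1 - (j : ℕ)) * y ^ (j : ℕ)) := by
  classical
  unfold planeT at hz
  induction hz using Submodule.span_induction with
  | mem z hz =>
    obtain ⟨⟨j, i⟩, rfl⟩ := hz
    have hi := i.2
    by_cases hle : (i : ℕ) + (j : ℕ) ≤ m
    · refine ⟨0, _, mem_planeT_of u y j.2 hle, ?_⟩
      simp [planeFam]
    · have hij : (i : ℕ) = m + 1 - (j : ℕ) := by omega
      refine ⟨Pi.single j 1, 0, Submodule.zero_mem _, ?_⟩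
      rw [zero_add, Finset.sum_eq_single j]
      · simp [planeFam, hij]
      · intro b _ hb
        rw [Pi.single_eq_of_ne hb, zero_smul]
      · intro h
        exact absurd (Finset.mem_univ j) h
  | zero => exact ⟨0, 0, Submodule.zero_mem _, by simp⟩
  | add a b _ _ iha ihb =>
    obtain ⟨ta, a', ha', ha⟩ := iha
    obtain ⟨tb, b', hb', hb⟩ := ihb
    refine ⟨ta + tb, a' + b', Submodule.add_mem _ ha' hb', ?_⟩
    rw [ha, hb]
    simp only [Pi.add_apply, add_smul, Finset.sum_add_distrib]
    ring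
  | smul r a _ iha =>
    obtain ⟨ta, a', ha', ha⟩ := iha
    refine ⟨r • ta, r • a', Submodule.smul_mem _ r ha', ?_⟩
    rw [ha, smul_add, Finset.smul_sum]
    simp only [Pi.smul_apply, smul_smul, smul_eq_mul]

/-- **Descent.** Under the root-counting hypotheses at infinity, a polynomial of degree `≤ m + 1`
in `u, y` with poles bounded by `m E` has degree `≤ m`. -/
theorem planeT_descent [IsAlgClosed k] (hK : IsFunctionField k K) {E : Divisor k K} (hE : 0 ≤ E)
    {u y : K} (hu0 : u ≠ 0) (huE : u ∈ L E) (hyE : y ∈ L E)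
    (hatt : ∀ P : Place k K, 0 < E P → P.1 u = exp (E P))
    {N : ℕ} (hN : E.deg = N)
    (h2 : ∀ P : Place k K, 2 ≤ E P → ∀ a : k, P.1 (y / u - algebraMap k K a) < 1 →
      P.1 (y / u - algebraMap k K a) = exp (-1 : ℤ))
    (h3 : ∀ P P' : Place k K, 0 < E P → 0 < E P' → ∀ a : k,
      P.1 (y / u - algebraMap k K a) < 1 → P'.1 (y / u - algebraMap k K a) < 1 → P = P')
    {m : ℕ} (hm : N ≤ m + 1) {z : K} (hzT : z ∈ planeT k u y N (m + 1))
    (hzL : z ∈ L (m • E)) : z ∈ planeT k u y N m := by
  classical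
  obtain ⟨top, z', hz', hzz'⟩ := planeT_succ_decomp u y N m hzT
  obtain ⟨q, hqdef⟩ : ∃ q : Polynomial k, q = Polynomial.ofFn N top := ⟨_, rfl⟩
  have hw1 : ∀ P : Place k K, 0 < E P → P.1 (y / u) ≤ 1 := by
    intro P hP
    rw [map_div₀, hatt P hP]
    exact (div_le_one₀ (zero_lt_iff.mpr exp_ne_zero)).mpr (hyE P)
  have haeval : Polynomial.aeval (y / u) q = (z - z') * (u⁻¹) ^ (m + 1) := by
    rw [hzz', add_sub_cancel_left, hqdef, Polynomial.ofFn_eq_sum_monomial, map_sum, Finset.sum_mul]
    refine Finset.sum_congr rfl fun j _ => ?_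
    rw [Polynomial.aeval_monomial, Algebra.smul_def, mul_assoc]
    congr 1
    have hj : (j : ℕ) ≤ m + 1 := by
      have := j.2
      omega
    obtain ⟨e, he⟩ : ∃ e : ℕ, m + 1 = e + (j : ℕ) := ⟨m + 1 - (j : ℕ), by omega⟩
    have he' : m + 1 - (j : ℕ) = e := by omega
    rw [he', he, _root_.div_pow, inv_pow, pow_add]
    have h1 : u ^ e ≠ 0 := pow_ne_zero _ hu0
    have h2 : u ^ (j : ℕ) ≠ 0 := pow_ne_zero _ hu0
    field_simp
  have hq : ∀ P : Place k K, 0 < E P → P.1 (Polynomial.aeval (y / u) q) ≤ exp (-(E P)) := by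
    intro P hP
    rw [haeval, map_mul, map_pow, map_inv₀, hatt P hP]
    have hz'L : z' ∈ L (m • E) := planeT_le_L hE huE hyE N m hz'
    have h1 : P.1 (z - z') ≤ exp ((m • E) P) :=
      (Valuation.map_sub _ _ _).trans (max_le (hzL P) (hz'L P))
    calc P.1 (z - z') * (exp (E P))⁻¹ ^ (m + 1)
        ≤ exp ((m • E) P) * (exp (E P))⁻¹ ^ (m + 1) := mul_le_mul' h1 le_rfl
      _ = exp (-(E P)) := by
        rw [← exp_neg, ← exp_nsmul, ← exp_add]
        congr 1
        simp only [Finsupp.smul_apply, nsmul_eq_mul]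
        push_cast
        ring
  have hq0 : q = 0 := by
    by_contra hne
    have hdeg := deg_le_natDegree_of_vanishing hK hE hw1 h2 h3 hne hq
    rw [hN] at hdeg
    have hN1 : 1 ≤ N := by
      by_contra hcon
      have : N = 0 := by omega
      subst this
      exact hne (by rw [hqdef]; exact Polynomial.ofFn_zero' top)
    have := Polynomial.ofFn_natDegree_lt hN1 top
    rw [← hqdef] at this
    have : (q.natDegree : ℤ) < (N : ℤ) := by exact_mod_cast this
    omega
  have htop : top = 0 := by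
    apply Polynomial.injective_ofFn N
    rw [← hqdef, hq0, Polynomial.ofFn_zero]
  rw [hzz', htop]
  simpa using hz'

end Groth.Agent.Lib.Helper18.FF
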