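import Groth.Agent.Lib.Helper18.FF.Chain

/-! # Valuation subrings of a function field containing the constants are discrete -/

set_option autoImplicit false

namespace Groth.Agent.Lib.Helper18.FF

open FunFld IntermediateField

universe u v

variable {k : Type u} {K : Type v} [Field k] [Field K] [Algebra k K]

/-- The maximal ideal of a nontrivial valuation subring containing the constants has an element of largest
value. -/
theorem exists_generator (hK : IsFunctionField k K) (A : ValuationSubring K)
    (hkA : ∀ c : k, algebraMap k K c ∈ A) {y : K} (hy0 : y ≠ 0) (hy : A.valuation y < 1) :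
    ∃ t : K, t ≠ 0 ∧ A.valuation t < 1 ∧ ∀ u : K, A.valuation u < 1 → A.valuation u ≤ A.valuation t := by
  classical
  by_contra hcon
  push Not at hcon
  -- build an increasing sequence
  have hstep : ∀ t : {t : K // t ≠ 0 ∧ A.valuation t < 1},
      ∃ u : {t : K // t ≠ 0 ∧ A.valuation t < 1}, A.valuation t.1 < A.valuation u.1 := by
    rintro ⟨t, ht0, ht1⟩
    obtain ⟨u, hu1, hu⟩ := hcon t ht0 ht1
    have hu0 : u ≠ 0 := by
      rintro rfl
      rw [map_zero] at hu
      exact not_lt_zero' hu
    exact ⟨⟨u, hu0, hu1⟩, hu⟩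
  choose nxt hnxt using hstep
  let s : ℕ → {t : K // t ≠ 0 ∧ A.valuation t < 1} := fun n => Nat.rec ⟨y, hy0, hy⟩ (fun _ t => nxt t) n
  have hs : StrictMono fun n => A.valuation (s n).1 :=
    strictMono_nat_of_lt_succ fun n => hnxt (s n)
  have hs' : ∀ a b : ℕ, a < b → A.valuation (s a).1 < A.valuation (s b).1 := fun a b h => hs h
  set N := Module.finrank (IntermediateField.adjoin k ({y} : Set K)) K with hN
  let z : Fin (N + 1) → K := fun i => if (i : ℕ) = 0 then 1 else (s (N + 1 - i)).1
  have hzval : ∀ i : Fin (N + 1), (i : ℕ) ≠ 0 → A.valuation (z i) = A.valuation (s (N + 1 - i)).1 := by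
    intro i hi
    simp only [z, if_neg hi]
  have hz0 : ∀ i : Fin (N + 1), (i : ℕ) = 0 → A.valuation (z i) = 1 := by
    intro i hi
    simp only [z, if_pos hi, map_one]
  have := chain_card_le hK A hkA hy0 hy (N + 1) z ?_ ?_ ?_
  · omega
  · intro i
    by_cases hi : (i : ℕ) = 0
    · rw [hz0 i hi]
    · rw [hzval i hi]; exact (s _).2.2.le
  · intro i j hij
    have hj : (j : ℕ) ≠ 0 := by
      have : (i : ℕ) < j := hij
      omega
    rw [hzval j hj]
    by_cases hi : (i : ℕ) = 0
    · rw [hz0 i hi]; exact (s _).2.2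
    · rw [hzval i hi]
      apply hs'
      have : (i : ℕ) < j := hij
      have := j.2
      omega
  · intro i
    by_cases hi : (i : ℕ) = 0
    · rw [hz0 i hi]; exact hy
    · rw [hzval i hi]
      have h0 : A.valuation y = A.valuation (s 0).1 := rfl
      have h1 : (0 : ℕ) < N + 1 - (i : ℕ) := by
        have := i.2
        omega
      exact h0 ▸ hs' 0 (N + 1 - (i : ℕ)) h1

/-- Every nonzero element of `A` has the value of a power of the generator. -/
theorem exists_pow_eq (hK : IsFunctionField k K) (A : ValuationSubring K)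
    (hkA : ∀ c : k, algebraMap k K c ∈ A) {t : K} (ht0 : t ≠ 0) (ht1 : A.valuation t < 1)
    (hgen : ∀ u : K, A.valuation u < 1 → A.valuation u ≤ A.valuation t)
    {a : K} (ha0 : a ≠ 0) (ha : A.valuation a ≤ 1) : ∃ m : ℕ, A.valuation a = A.valuation t ^ m := by
  classical
  rcases ha.lt_or_eq with ha1 | ha1
  swap
  · exact ⟨0, by rw [ha1, pow_zero]⟩
  set N := Module.finrank (IntermediateField.adjoin k ({a} : Set K)) K with hN
  have htv0 : A.valuation t ≠ 0 := (Valuation.ne_zero_iff _).mpr ht0
  have hbound : ∀ m : ℕ, A.valuation a ≤ A.valuation t ^ m → m ≤ N := by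
    intro m hm
    refine chain_card_le hK A hkA ha0 ha1 m (fun i => t ^ (i : ℕ)) ?_ ?_ ?_
    · intro i
      rw [map_pow]; exact pow_le_one' ht1.le _
    · intro i j hij
      rw [map_pow, map_pow]
      exact pow_lt_pow_right_of_lt_one₀ (zero_lt_iff.mpr htv0) ht1 hij
    · intro i
      refine lt_of_le_of_lt hm ?_
      rw [map_pow]
      exact pow_lt_pow_right_of_lt_one₀ (zero_lt_iff.mpr htv0) ht1 i.2
  set m := Nat.findGreatest (fun m => A.valuation a ≤ A.valuation t ^ m) N with hm
  have hm1 : A.valuation a ≤ A.valuation t ^ m :=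
    Nat.findGreatest_spec (P := fun m => A.valuation a ≤ A.valuation t ^ m) (Nat.zero_le N)
      (by rw [pow_zero]; exact ha)
  have hm2 : ¬ A.valuation a ≤ A.valuation t ^ (m + 1) := by
    intro h
    have h1 := hbound _ h
    have h2 := Nat.le_findGreatest (P := fun m => A.valuation a ≤ A.valuation t ^ m) h1 h
    omega
  push Not at hm2
  refine ⟨m, le_antisymm hm1 ?_⟩
  -- `u = a / t ^ m`
  by_contra hlt
  push Not at hlt
  have hpow0 : A.valuation t ^ m ≠ 0 := pow_ne_zero _ htv0
  have hu1 : A.valuation (a / t ^ m) < 1 := by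
    rw [map_div₀, map_pow, div_lt_one₀ (zero_lt_iff.mpr hpow0)]
    exact hlt
  have hu2 := hgen _ hu1
  rw [map_div₀, map_pow, div_le_iff₀ (zero_lt_iff.mpr hpow0), ← pow_succ'] at hu2
  exact absurd hm2 (not_lt.mpr hu2)

end Groth.Agent.Lib.Helper18.FF
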