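import Groth.Agent.Lib.Helper18.FF.PlaneInfinity
import Groth.Agent.Lib.Helper18.FF.Uniformizer

/-! # Plane models: separation and transversality at infinity from nonsingularity -/

set_option autoImplicit false
set_option linter.style.haveILetI false

namespace Groth.Agent.Lib.Helper18.FF

open FunFld WithZero IntermediateField

universe u v

variable {k : Type u} {K : Type v} [Field k] [Field K] [Algebra k K]

/-- Two places at infinity with the same value of `y / u` have the same image; a nonsingular one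
is then the only one. -/
theorem plane_inj_infty (hK : IsFunctionField k K) (x y : K) (c : k) (P P' : Place k K)
    (hEP : 0 < mapDiv k ![(1 : K), x, y] P) (hEP' : 0 < mapDiv k ![(1 : K), x, y] P')
    (hattP : P.1 (x + c • y) = exp (mapDiv k ![(1 : K), x, y] P))
    (hattP' : P'.1 (x + c • y) = exp (mapDiv k ![(1 : K), x, y] P'))
    (a : k) (hP : P.1 (y / (x + c • y) - algebraMap k K a) < 1)
    (hP' : P'.1 (y / (x + c • y) - algebraMap k K a) < 1)
    (hns : IsNonsingularAt ![(1 : K), x, y] P) : P = P' := by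
  by_contra hne
  obtain ⟨y₀, h1, h2⟩ := exists_val_lt_one_gt_one hne
  have hloc := hns y₀ h1.le
  have hexpP : exp (-(mapDiv k ![(1 : K), x, y] P)) < 1 := by
    rw [← exp_zero, exp_lt_exp]
    omega
  have hexpP' : exp (-(mapDiv k ![(1 : K), x, y] P')) < 1 := by
    rw [← exp_zero, exp_lt_exp]
    omega
  have hsame : SameImage ![(1 : K), x, y] P P' := by
    by_cases ha : a = 0
    · subst ha
      rw [map_zero, sub_zero] at hP hP'
      obtain ⟨hj0, hmaxP, hcP⟩ := plane_chart_infty_zero hK x y c P hEP hattP hP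
      obtain ⟨-, hmaxP', hcP'⟩ := plane_chart_infty_zero hK x y c P' hEP' hattP' hP'
      exact ⟨1, hj0, hmaxP, hmaxP', fun i => ⟨_, lt_of_le_of_lt (hcP i) (max_lt hP hexpP),
        lt_of_le_of_lt (hcP' i) (max_lt hP' hexpP')⟩⟩
    · obtain ⟨hj0, hmaxP, hcP⟩ := plane_chart_infty_ne hK x y c P hEP hattP ha hP
      obtain ⟨-, hmaxP', hcP'⟩ := plane_chart_infty_ne hK x y c P' hEP' hattP' ha hP'
      exact ⟨2, hj0, hmaxP, hmaxP', fun i => ⟨_, lt_of_le_of_lt (hcP i) (max_lt hP hexpP),
        lt_of_le_of_lt (hcP' i) (max_lt hP' hexpP')⟩⟩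
  exact absurd h2 (not_lt.mpr (val_le_one_of_sameImage _ P P' hsame hloc))

/-- At a nonsingular place at infinity of multiplicity `≥ 2`, `y / u` minus its value is a local
parameter. -/
theorem plane_unif_infty (hK : IsFunctionField k K) (x y : K) (c : k) (P : Place k K)
    (hEP : 2 ≤ mapDiv k ![(1 : K), x, y] P)
    (hattP : P.1 (x + c • y) = exp (mapDiv k ![(1 : K), x, y] P))
    (a : k) (hP : P.1 (y / (x + c • y) - algebraMap k K a) < 1)
    (hns : IsNonsingularAt ![(1 : K), x, y] P) :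
    P.1 (y / (x + c • y) - algebraMap k K a) = exp (-1 : ℤ) := by
  by_contra hne
  -- the value is `≤ exp (-2)`
  have hγ : P.1 (y / (x + c • y) - algebraMap k K a) ≤ exp (-2 : ℤ) := by
    rcases eq_or_ne (P.1 (y / (x + c • y) - algebraMap k K a)) 0 with h0 | h0
    · rw [h0]
      exact zero_le'
    · obtain ⟨m, hm⟩ : ∃ m : ℤ, P.1 (y / (x + c • y) - algebraMap k K a) = exp m :=
        ⟨log _, (exp_log h0).symm⟩
      rw [hm] at hP hne ⊢
      rw [← exp_zero, exp_lt_exp] at hP
      rw [exp_le_exp]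
      have : m ≠ -1 := fun h => hne (by rw [h])
      omega
  have hexp : exp (-(mapDiv k ![(1 : K), x, y] P)) ≤ exp (-2 : ℤ) := by
    rw [exp_le_exp]
    omega
  have hEP0 : 0 < mapDiv k ![(1 : K), x, y] P := by omega
  -- a chart in which all generators are constant modulo `m_P ^ 2`
  obtain ⟨j, hj0, hjmax, hgen⟩ : ∃ j, ![(1 : K), x, y] j ≠ 0 ∧
      (∀ i, P.1 (![(1 : K), x, y] i) ≤ P.1 (![(1 : K), x, y] j)) ∧
      ∀ z ∈ Set.range (fun i => ![(1 : K), x, y] i / ![(1 : K), x, y] j),
        ∃ d : k, P.1 (z - algebraMap k K d) ≤ exp (-2 : ℤ) := by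
    by_cases ha : a = 0
    · subst ha
      rw [map_zero, sub_zero] at hP hγ
      obtain ⟨hj0, hmaxP, hcP⟩ := plane_chart_infty_zero hK x y c P hEP0 hattP hP
      refine ⟨1, hj0, hmaxP, ?_⟩
      rintro _ ⟨i, rfl⟩
      exact ⟨_, (hcP i).trans (max_le hγ hexp)⟩
    · obtain ⟨hj0, hmaxP, hcP⟩ := plane_chart_infty_ne hK x y c P hEP0 hattP ha hP
      refine ⟨2, hj0, hmaxP, ?_⟩
      rintro _ ⟨i, rfl⟩
      exact ⟨_, (hcP i).trans (max_le hγ hexp)⟩
  obtain ⟨t, ht⟩ := exists_uniformizer P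
  have htle : P.1 t ≤ 1 := by
    rw [ht, ← exp_zero, exp_le_exp]
    norm_num
  obtain ⟨u', hu', w', hw', hw'P, htw⟩ := inLocRing_index _ P (hns t htle) j hj0 hjmax
  have hvu : P.1 u' = exp (-1 : ℤ) := by rw [← htw, map_mul, hw'P, mul_one, ht]
  obtain ⟨d, hd⟩ := exists_const_sub_le_of_mem_adjoin P _ hgen hu'
  have hd0 : d = 0 := by
    by_contra hdne
    have h1 := val_algebraMap P hdne
    have : algebraMap k K d = u' - (u' - algebraMap k K d) := by ring
    rw [this] at h1
    have h2 : P.1 (u' - (u' - algebraMap k K d)) < 1 := by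
      refine lt_of_le_of_lt (Valuation.map_sub _ _ _) (max_lt ?_ ?_)
      · rw [hvu, ← exp_zero, exp_lt_exp]
        norm_num
      · refine lt_of_le_of_lt hd ?_
        rw [← exp_zero, exp_lt_exp]
        norm_num
    rw [h1] at h2
    exact lt_irrefl _ h2
  rw [hd0, map_zero, sub_zero, hvu, exp_le_exp] at hd
  omega

end Groth.Agent.Lib.Helper18.FF
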