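import Groth.Agent.Lib.Helper18.FF.PlaneSetup
import Groth.Agent.Lib.Helper18.FF.Exists

/-! # Integrality over `k[u]` and the monic relation of degree `[K : k(u)]` -/

set_option autoImplicit false
set_option linter.style.haveILetI false

namespace Groth.Agent.Lib.Helper18.FF

open FunFld WithZero IntermediateField

universe u v

variable {k : Type u} {K : Type v} [Field k] [Field K] [Algebra k K]

/-- A function whose poles are among the poles of `u` is integral over `k[u]`. -/
theorem isIntegral_adjoin_of_poles (hK : IsFunctionField k K) {u y : K}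
    (hy : ∀ P : Place k K, P.1 u ≤ 1 → P.1 y ≤ 1) :
    IsIntegral (Algebra.adjoin k ({u} : Set K)) y := by
  obtain ⟨s, hs⟩ : ∃ s : Set K, s = Set.range (algebraMap k K) ∪ {u} := ⟨_, rfl⟩
  have hmem : y ∈ (⨅ V : {V : ValuationSubring K // s ⊆ V.toSubring}, V.1.toSubring) := by
    rw [Subring.mem_iInf]
    rintro ⟨V, hV⟩
    change y ∈ V
    by_contra hyV
    have hy0 : y ≠ 0 := by
      rintro rfl
      exact hyV V.zero_mem
    have hinv : V.valuation y⁻¹ < 1 := by
      have h1 : ¬ V.valuation y ≤ 1 := fun h => hyV ((V.valuation_le_one_iff y).mp h)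
      rw [map_inv₀]
      exact (inv_lt_one₀ (zero_lt_iff.mpr ((Valuation.ne_zero_iff _).mpr hy0))).mpr (not_le.mp h1)
    have hkV : ∀ c : k, algebraMap k K c ∈ V := fun c => hV (hs ▸ Or.inl ⟨c, rfl⟩)
    have huV : u ∈ V := hV (hs ▸ Or.inr rfl)
    obtain ⟨P, hP1, hP2⟩ := exists_place_of_valuationSubring hK V hkV (inv_ne_zero hy0) hinv
    have h1 := hP2 _ hinv
    rw [map_inv₀] at h1
    have h2 : 1 < P.1 y :=
      (inv_lt_one₀ (zero_lt_iff.mpr ((Valuation.ne_zero_iff _).mpr hy0))).mp h1
    exact absurd (hy P (hP1 u huV)) (not_le.mpr h2)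
  rw [iInf_valuationSubring_superset] at hmem
  have hint : IsIntegral (Subring.closure s) y := hmem
  obtain ⟨p, hpm, hpy⟩ := hint
  have hle : Subring.closure s ≤ (Algebra.adjoin k ({u} : Set K)).toSubring := by
    rw [Subring.closure_le, hs]
    rintro z (⟨c, rfl⟩ | rfl)
    · exact (Algebra.adjoin k ({u} : Set K)).algebraMap_mem c
    · exact Algebra.subset_adjoin rfl
  let ι : Subring.closure s →+* Algebra.adjoin k ({u} : Set K) := Subring.inclusion hle
  refine ⟨p.map ι, hpm.map ι, ?_⟩
  rw [Polynomial.eval₂_map]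
  exact hpy

open scoped IntermediateField.algebraAdjoinAdjoin in
/-- The monic relation of `y` over `k[u]` of degree `N = [k(u)(y) : k(u)]`. -/
theorem exists_monic_relation {u y : K} (hut : Transcendental k u)
    (hyint : IsIntegral (Algebra.adjoin k ({u} : Set K)) y) {N : ℕ}
    (hN : (minpoly (IntermediateField.adjoin k ({u} : Set K)) y).natDegree = N) :
    ∃ p : Fin N → Polynomial k,
      y ^ N = ∑ j : Fin N, Polynomial.aeval u (p j) * y ^ (j : ℕ) := by
  classical
  -- `k[u]` is integrally closed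
  let e₁ : Polynomial k ≃ₐ[k] (Polynomial.aeval u : Polynomial k →ₐ[k] K).range :=
    AlgEquiv.ofInjective (Polynomial.aeval u) (transcendental_iff_injective.mp hut)
  let e₂ : (Polynomial.aeval u : Polynomial k →ₐ[k] K).range ≃ₐ[k]
      Algebra.adjoin k ({u} : Set K) :=
    Subalgebra.equivOfEq _ _ (Algebra.adjoin_singleton_eq_range_aeval k u).symm
  haveI : IsIntegrallyClosed (Algebra.adjoin k ({u} : Set K)) :=
    IsIntegrallyClosed.of_equiv (e₁.trans e₂).toRingEquiv
  have hmin := minpoly.isIntegrallyClosed_eq_field_fractions'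
    (IntermediateField.adjoin k ({u} : Set K)) hyint
  obtain ⟨m, hm⟩ : ∃ m : Polynomial (Algebra.adjoin k ({u} : Set K)),
      m = minpoly (Algebra.adjoin k ({u} : Set K)) y := ⟨_, rfl⟩
  rw [← hm] at hmin
  have hmonic : m.Monic := hm ▸ minpoly.monic hyint
  have hdeg : m.natDegree = N := by
    rw [← hN, hmin, hmonic.natDegree_map]
  have haeval : Polynomial.aeval y m = 0 := hm ▸ minpoly.aeval _ y
  rw [Polynomial.aeval_eq_sum_range, hdeg, Finset.sum_range_succ] at haeval
  have hlead : m.coeff N = 1 := by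
    rw [← hdeg]
    exact hmonic.coeff_natDegree
  rw [hlead, one_smul] at haeval
  have hcoef : ∀ j : Fin N, ∃ p : Polynomial k,
      Polynomial.aeval u p = -((m.coeff (j : ℕ) : Algebra.adjoin k ({u} : Set K)) : K) := by
    intro j
    have hgen : ∀ z : K, z ∈ Algebra.adjoin k ({u} : Set K) →
        ∃ p : Polynomial k, Polynomial.aeval u p = z := by
      intro z hz
      rw [Algebra.adjoin_singleton_eq_range_aeval] at hz
      exact hz
    exact hgen _ (Subalgebra.neg_mem _ (m.coeff (j : ℕ)).2)
  choose p hp using hcoef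
  refine ⟨p, ?_⟩
  have h2 : y ^ N = -∑ i ∈ Finset.range N, m.coeff i • y ^ i := by
    rw [eq_neg_iff_add_eq_zero, add_comm]
    exact haeval
  rw [h2, ← Finset.sum_neg_distrib, ← Fin.sum_univ_eq_sum_range (fun i => -(m.coeff i • y ^ i)) N]
  refine Finset.sum_congr rfl fun j _ => ?_
  rw [hp j, neg_mul]
  rfl

end Groth.Agent.Lib.Helper18.FF
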