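import Groth.Agent.Lib.Helper18.FF.PlaneSetup

/-! # `k[x, y]` is the union of the monomial spaces (given the monic relation) -/

set_option autoImplicit false
set_option linter.style.haveILetI false

namespace Groth.Agent.Lib.Helper18.FF

open FunFld WithZero IntermediateField

universe u v

variable {k : Type u} {K : Type v} [Field k] [Field K] [Algebra k K]

section

variable (u y : K) (N : ℕ)

theorem inT_add {a b : K} (ha : ∃ m, a ∈ planeT k u y N m) (hb : ∃ m, b ∈ planeT k u y N m) :
    ∃ m, a + b ∈ planeT k u y N m := by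
  obtain ⟨m₁, h₁⟩ := ha
  obtain ⟨m₂, h₂⟩ := hb
  exact ⟨max m₁ m₂, Submodule.add_mem _ (planeT_mono u y N (le_max_left _ _) h₁)
    (planeT_mono u y N (le_max_right _ _) h₂)⟩

theorem inT_smul (c : k) {a : K} (ha : ∃ m, a ∈ planeT k u y N m) :
    ∃ m, c • a ∈ planeT k u y N m := by
  obtain ⟨m₁, h₁⟩ := ha
  exact ⟨m₁, Submodule.smul_mem _ c h₁⟩

theorem inT_zero : ∃ m, (0 : K) ∈ planeT k u y N m := ⟨0, Submodule.zero_mem _⟩

theorem inT_sum {ι : Type*} (s : Finset ι) (f : ι → K)
    (h : ∀ i ∈ s, ∃ m, f i ∈ planeT k u y N m) : ∃ m, ∑ i ∈ s, f i ∈ planeT k u y N m := by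
  classical
  induction s using Finset.induction_on with
  | empty => simpa using inT_zero u y N
  | insert a s ha ih =>
    rw [Finset.sum_insert ha]
    exact inT_add u y N (h a (Finset.mem_insert_self _ _))
      (ih fun i hi => h i (Finset.mem_insert_of_mem hi))

/-- Induction principle for the union of the monomial spaces. -/
theorem inT_induction {p : K → Prop} (hmono : ∀ i j : ℕ, j < N → p (u ^ i * y ^ j))
    (hzero : p 0) (hadd : ∀ a b, p a → p b → p (a + b)) (hsmul : ∀ (c : k) a, p a → p (c • a))
    {a : K} (ha : ∃ m, a ∈ planeT k u y N m) : p a := by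
  obtain ⟨m, hm⟩ := ha
  unfold planeT at hm
  induction hm using Submodule.span_induction with
  | mem z hz =>
    obtain ⟨q, rfl⟩ := hz
    exact hmono _ _ q.1.2
  | zero => exact hzero
  | add a b _ _ iha ihb => exact hadd a b iha ihb
  | smul c a _ iha => exact hsmul c a iha

theorem inT_mul_u {a : K} (ha : ∃ m, a ∈ planeT k u y N m) :
    ∃ m, u * a ∈ planeT k u y N m := by
  refine inT_induction u y N (p := fun a => ∃ m, u * a ∈ planeT k u y N m) ?_ ?_ ?_ ?_ ha
  · intro i j hj
    refine ⟨i + 1 + j, ?_⟩
    have : u * (u ^ i * y ^ j) = u ^ (i + 1) * y ^ j := by ring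
    rw [this]
    exact mem_planeT_of u y hj le_rfl
  · rw [mul_zero]
    exact inT_zero u y N
  · intro a b ha hb
    rw [mul_add]
    exact inT_add u y N ha hb
  · intro c a ha
    rw [mul_smul_comm]
    exact inT_smul u y N c ha

theorem inT_mul_aeval (p : Polynomial k) {a : K} (ha : ∃ m, a ∈ planeT k u y N m) :
    ∃ m, Polynomial.aeval u p * a ∈ planeT k u y N m := by
  induction p using Polynomial.induction_on' with
  | add p q hp hq =>
    rw [map_add, add_mul]
    exact inT_add u y N hp hq
  | monomial n c =>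
    rw [Polynomial.aeval_monomial, mul_assoc, ← Algebra.smul_def]
    refine inT_smul u y N c ?_
    induction n with
    | zero => simpa using ha
    | succ n ih =>
      rw [pow_succ', mul_assoc]
      exact inT_mul_u u y N ih

end

/-- Given the monic relation for `y ^ N`, the union of the monomial spaces is stable under
multiplication by `y`. -/
theorem inT_mul_y (u y : K) {N : ℕ} (p : Fin N → Polynomial k)
    (hrel : y ^ N = ∑ j : Fin N, Polynomial.aeval u (p j) * y ^ (j : ℕ)) {a : K}
    (ha : ∃ m, a ∈ planeT k u y N m) : ∃ m, y * a ∈ planeT k u y N m := by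
  refine inT_induction u y N (p := fun a => ∃ m, y * a ∈ planeT k u y N m) ?_ ?_ ?_ ?_ ha
  · intro i j hj
    by_cases hj1 : j + 1 < N
    · refine ⟨i + (j + 1), ?_⟩
      have : y * (u ^ i * y ^ j) = u ^ i * y ^ (j + 1) := by ring
      rw [this]
      exact mem_planeT_of u y hj1 le_rfl
    · have hjN : j + 1 = N := by omega
      have : y * (u ^ i * y ^ j) = ∑ l : Fin N, Polynomial.aeval u (p l) * (u ^ i * y ^ (l : ℕ)) := by
        have h1 : y * (u ^ i * y ^ j) = u ^ i * y ^ N := by
          rw [← hjN]
          ring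
        rw [h1, hrel, Finset.mul_sum]
        refine Finset.sum_congr rfl fun l _ => ?_
        ring
      rw [this]
      refine inT_sum u y N _ _ fun l _ => ?_
      exact inT_mul_aeval u y N (p l) ⟨i + l, mem_planeT_of u y l.2 le_rfl⟩
  · rw [mul_zero]
    exact inT_zero u y N
  · intro a b ha hb
    rw [mul_add]
    exact inT_add u y N ha hb
  · intro c a ha
    rw [mul_smul_comm]
    exact inT_smul u y N c ha

/-- `k[x, y]` lies in the union of the monomial spaces in `u = x + c y` and `y`. -/
theorem adjoin_le_inT (x y : K) (c : k) {N : ℕ} (hN : 1 ≤ N) (p : Fin N → Polynomial k)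
    (hrel : y ^ N = ∑ j : Fin N, Polynomial.aeval (x + c • y) (p j) * y ^ (j : ℕ)) {z : K}
    (hz : z ∈ Algebra.adjoin k ({x, y} : Set K)) : ∃ m, z ∈ planeT k (x + c • y) y N m := by
  have key : ∀ z ∈ Algebra.adjoin k ({x, y} : Set K), ∀ t : K,
      (∃ m, t ∈ planeT k (x + c • y) y N m) → ∃ m, z * t ∈ planeT k (x + c • y) y N m := by
    intro z hz
    induction hz using Algebra.adjoin_induction with
    | mem z hz =>
      intro t ht
      rcases hz with rfl | rfl
      · have : z * t = (z + c • y) * t + (-c) • (y * t) := by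
          rw [add_mul, neg_smul, smul_mul_assoc]
          ring
        rw [this]
        exact inT_add _ _ _ (inT_mul_u _ _ _ ht) (inT_smul _ _ _ _ (inT_mul_y _ _ p hrel ht))
      · exact inT_mul_y _ _ p hrel ht
    | algebraMap r =>
      intro t ht
      rw [← Algebra.smul_def]
      exact inT_smul _ _ _ r ht
    | add a b _ _ iha ihb =>
      intro t ht
      rw [add_mul]
      exact inT_add _ _ _ (iha t ht) (ihb t ht)
    | mul a b _ _ iha ihb =>
      intro t ht
      rw [mul_assoc]
      exact iha _ (ihb t ht)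
  have h1 : ∃ m, (1 : K) ∈ planeT k (x + c • y) y N m := by
    refine ⟨0, ?_⟩
    have := mem_planeT_of (k := k) (x + c • y) y (N := N) (n := 0) (i := 0) (j := 0) (by omega) le_rfl
    simpa using this
  have := key z hz 1 h1
  rwa [mul_one] at this

end Groth.Agent.Lib.Helper18.FF
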