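import Groth.Agent.Lib.Helper18.FF.PlaneNonsingA
import Groth.Agent.Lib.Helper18.FF.PlaneDescent
import Groth.Agent.Lib.Helper18.FF.PlaneInfinity2
import Groth.Agent.Lib.Helper18.FF.PlaneIntegral
import Groth.Agent.Lib.Helper18.FF.PlaneRing
import Groth.Agent.Lib.Helper18.FF.PlaneAffine

/-! # The genus formula for plane models: `2g = (d-1)(d-2)` iff nonsingular -/

set_option autoImplicit false
set_option linter.style.haveILetI false

namespace Groth.Agent.Lib.Helper18.FF

open FunFld WithZero IntermediateField

universe u v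

variable {k : Type u} {K : Type v} [Field k] [Field K] [Algebra k K]

theorem plane_genus_eq_iff [IsAlgClosed k] (hK : IsFunctionField k K) (x y : K)
    (hxy : IntermediateField.adjoin k ({x, y} : Set K) = ⊤) :
    2 * (genus k K : ℤ) =
        ((mapDiv k ![(1 : K), x, y]).deg - 1) * ((mapDiv k ![(1 : K), x, y]).deg - 2) ↔
      ∀ P : Place k K, IsNonsingularAt ![(1 : K), x, y] P := by
  classical
  haveI : Infinite k := IsAlgClosed.instInfinite
  obtain ⟨c, u, N, hu, hpole, hut, hEN, hN1, hatt, hli, hNfin, hminN⟩ := plane_setup hK x y hxy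
  subst hu
  have hle := plane_genus_le hK x y hxy
  obtain ⟨E, hEdef⟩ : ∃ E : Divisor k K, E = mapDiv k ![(1 : K), x, y] := ⟨_, rfl⟩
  have hE : 0 ≤ E := hEdef ▸ plane_nonneg hK x y
  have hyE : y ∈ L E := hEdef ▸ plane_y_mem hK x y
  have huE : x + c • y ∈ L E := by
    rw [hEdef]
    exact Submodule.add_mem _ (plane_x_mem hK x y) (Submodule.smul_mem _ c (plane_y_mem hK x y))
  have hN1' : (1 : ℤ) ≤ (N : ℤ) := by exact_mod_cast hN1
  have hg0 : (0 : ℤ) ≤ (genus k K : ℤ) := Int.natCast_nonneg _
  have hdeg1 : 1 ≤ (mapDiv k ![(1 : K), x, y]).deg := by rw [hEN]; exact hN1'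
  -- dimension count
  have hcount : ∀ n : ℕ, N + 2 * genus k K ≤ n →
      (2 * (Module.finrank k (planeT k (x + c • y) y N n) : ℤ) =
        2 * (N : ℤ) * ((n : ℤ) + 1) - (N : ℤ) * ((N : ℤ) - 1)) ∧
      (ell (n • E) : ℤ) = (n : ℤ) * (N : ℤ) + 1 - genus k K := by
    intro n hn
    constructor
    · rw [finrank_planeT hut hli n]
      have hsum := sum_range_sub_mul_two N n (by omega)
      have h1 : ((N - 1 : ℕ) : ℤ) = (N : ℤ) - 1 := by
        rw [Nat.cast_sub hN1]
        simp
      have h2 : (((∑ j ∈ Finset.range N, (n + 1 - j)) * 2 + N * (N - 1) : ℕ) : ℤ) =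
          ((2 * N * (n + 1) : ℕ) : ℤ) := by rw [hsum]
      push_cast at h2
      rw [h1] at h2
      push_cast
      linarith
    · have hENE' : E.deg = N := by rw [hEdef]; exact hEN
      have hrr := ell_eq_of_deg_ge hK (n • E) (by
        rw [deg_nsmul, hENE']
        have h3 : ((N + 2 * genus k K : ℕ) : ℤ) ≤ (n : ℤ) := by exact_mod_cast hn
        push_cast at h3
        nlinarith)
      rw [deg_nsmul, hENE'] at hrr
      exact hrr
  rw [hEN] at hle ⊢
  constructor
  · intro hgen P
    refine plane_isNonsingularAt_of_planeT_eq hK x y c N (N + 2 * genus k K) ?_ hdeg1 P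
    intro n hn
    rw [← hEdef]
    obtain ⟨h1, h2⟩ := hcount n hn
    haveI := finiteDimensional_L hK (n • E)
    have hTL : planeT k (x + c • y) y N n ≤ L (n • E) := planeT_le_L hE huE hyE N n
    have hfin : Module.finrank k (planeT k (x + c • y) y N n) = Module.finrank k (L (n • E)) := by
      have : (2 * (Module.finrank k (planeT k (x + c • y) y N n) : ℤ)) =
          2 * (ell (n • E) : ℤ) := by
        rw [h1, h2]
        linarith
      unfold ell at this
      exact_mod_cast (by linarith : (Module.finrank k (planeT k (x + c • y) y N n) : ℤ) =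
        (Module.finrank k (L (n • E)) : ℤ))
    exact (Submodule.eq_of_le_of_finrank_eq hTL hfin).ge
  · intro hns
    refine le_antisymm hle ?_
    -- integrality and the monic relation
    have hyint : IsIntegral (Algebra.adjoin k ({x + c • y} : Set K)) y := by
      refine isIntegral_adjoin_of_poles hK fun P hP => ?_
      have hEP : E P = 0 := by
        by_contra hne
        have hpos : 0 < E P := lt_of_le_of_ne (hE P) (Ne.symm hne)
        have := hatt P (hEdef ▸ hpos)
        rw [this, ← exp_zero, exp_le_exp] at hP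
        rw [hEdef] at hpos
        omega
      have := hyE P
      rwa [hEP, exp_zero] at this
    obtain ⟨p, hrel⟩ := exists_monic_relation hut hyint hminN
    -- root counting hypotheses
    have h2 : ∀ P : Place k K, 2 ≤ E P → ∀ a : k,
        P.1 (y / (x + c • y) - algebraMap k K a) < 1 →
        P.1 (y / (x + c • y) - algebraMap k K a) = exp (-1 : ℤ) := by
      intro P hP a ha
      rw [hEdef] at hP
      exact plane_unif_infty hK x y c P hP (hatt P (by omega)) a ha (hns P)
    have h3 : ∀ P P' : Place k K, 0 < E P → 0 < E P' → ∀ a : k,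
        P.1 (y / (x + c • y) - algebraMap k K a) < 1 →
        P'.1 (y / (x + c • y) - algebraMap k K a) < 1 → P = P' := by
      intro P P' hP hP' a ha ha'
      rw [hEdef] at hP hP'
      exact plane_inj_infty hK x y c P P' hP hP' (hatt P hP) (hatt P' hP') a ha ha' (hns P)
    obtain ⟨P₀, hP₀⟩ : ∃ P, 0 < E P := by
      by_contra hcon
      push Not at hcon
      have hE0 : E = 0 := by
        ext P
        exact le_antisymm (hcon P) (hE P)
      rw [hEdef] at hE0
      rw [hE0, deg_zero] at hdeg1
      omega
    have hu0 : x + c • y ≠ 0 := by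
      intro h
      have := hatt P₀ (hEdef ▸ hP₀)
      rw [h, map_zero] at this
      exact exp_ne_zero this.symm
    have hatt' : ∀ P : Place k K, 0 < E P → P.1 (x + c • y) = exp (E P) := by
      rw [hEdef]
      exact hatt
    have hENE : E.deg = N := by rw [hEdef]; exact hEN
    obtain ⟨n, hn⟩ : ∃ n : ℕ, n = N + 2 * genus k K := ⟨_, rfl⟩
    -- `L(nE) ⊆ planeT n`
    have hLT : L (n • E) ≤ planeT k (x + c • y) y N n := by
      intro z hz
      have hzA : z ∈ Algebra.adjoin k ({x, y} : Set K) :=
        plane_L_le_adjoin hK x y hxy c hdeg1 hatt (fun P _ => hns P) n (hEdef ▸ hz)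
      obtain ⟨M, hM⟩ := adjoin_le_inT x y c hN1 p hrel hzA
      have hdesc : ∀ d : ℕ, z ∈ planeT k (x + c • y) y N (n + d) →
          z ∈ planeT k (x + c • y) y N n := by
        intro d
        induction d with
        | zero => exact fun h => h
        | succ d ih =>
          intro h
          refine ih (planeT_descent hK hE hu0 huE hyE hatt' hENE h2 h3 (by omega) h ?_)
          refine L_mono ?_ hz
          intro R
          simp only [Finsupp.smul_apply, nsmul_eq_mul]
          have h4 : ((n : ℕ) : ℤ) ≤ ((n + d : ℕ) : ℤ) := by exact_mod_cast Nat.le_add_right n d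
          exact mul_le_mul_of_nonneg_right h4 (hE R)
      rcases le_total M n with hMn | hnM
      · exact planeT_mono _ _ N hMn hM
      · obtain ⟨d, rfl⟩ := Nat.exists_eq_add_of_le hnM
        exact hdesc d hM
    haveI : FiniteDimensional k (planeT k (x + c • y) y N n) :=
      FiniteDimensional.span_of_finite k (Set.finite_range _)
    have hfin := Submodule.finrank_mono hLT
    obtain ⟨h1, h2'⟩ := hcount n (le_of_eq hn.symm)
    have hfinZ : (ell (n • E) : ℤ) ≤ (Module.finrank k (planeT k (x + c • y) y N n) : ℤ) := by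
      unfold ell
      exact_mod_cast hfin
    nlinarith

end Groth.Agent.Lib.Helper18.FF
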