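import Groth.Agent.Lib.Helper18.FF.PlaneSetup
import Groth.Agent.Lib.Helper18.FF.ProjMap
import Groth.Agent.Lib.Helper18.FF.LocRing
import Groth.Agent.Lib.Helper18.FF.Approx

/-! # Plane models: nonsingular places at infinity are separated and transversal -/

set_option autoImplicit false
set_option linter.style.haveILetI false

namespace Groth.Agent.Lib.Helper18.FF

open FunFld WithZero IntermediateField

universe u v

variable {k : Type u} {K : Type v} [Field k] [Field K] [Algebra k K]

/-- Functions in the local ring at `φ(P)` are regular at every place with the same image. -/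
theorem val_le_one_of_sameImage {ι : Type*} (φ : ι → K) (P Q : Place k K)
    (h : SameImage φ P Q) {z : K} (hz : InLocRing φ P z) : Q.1 z ≤ 1 := by
  obtain ⟨j, hj0, hjP, hjQ, hconst⟩ := h
  have hlt_iff : ∀ (R : Place k K) (u : K) (c : k), R.1 (u - algebraMap k K c) < 1 →
      (R.1 u < 1 ↔ c = 0) := by
    intro R u c h
    constructor
    · intro hu
      by_contra hc
      have h1 := val_algebraMap R hc
      have h2 : algebraMap k K c = u - (u - algebraMap k K c) := by ring
      rw [h2] at h1
      have h3 : R.1 (u - (u - algebraMap k K c)) < 1 :=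
        lt_of_le_of_lt (Valuation.map_sub _ _ _) (max_lt hu h)
      rw [h1] at h3
      exact lt_irrefl _ h3
    · rintro rfl
      rwa [map_zero, sub_zero] at h
  obtain ⟨u, hu, w, hw, hwP, hzw⟩ := inLocRing_index φ P hz j hj0 hjP
  have hgen : ∀ x ∈ Set.range (fun i => φ i / φ j), ∃ c : k,
      P.1 (x - algebraMap k K c) < 1 ∧ Q.1 (x - algebraMap k K c) < 1 := by
    rintro _ ⟨i, rfl⟩
    exact hconst i
  obtain ⟨cw, hcwP, hcwQ⟩ := exists_common_const_of_mem_adjoin P Q _ hgen hw
  have hcw0 : cw ≠ 0 := by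
    intro h
    have := (hlt_iff P w cw hcwP).mpr h
    rw [hwP] at this
    exact lt_irrefl _ this
  have hwQ : Q.1 w = 1 := by
    have hle : Q.1 w ≤ 1 := val_le_one_of_mem_adjoin φ Q j hj0 hjQ hw
    refine le_antisymm hle (not_lt.mp fun hlt => hcw0 ((hlt_iff Q w cw hcwQ).mp hlt))
  have hzQ : Q.1 z = Q.1 u := by rw [← hzw, map_mul, hwQ, mul_one]
  rw [hzQ]
  exact val_le_one_of_mem_adjoin φ Q j hj0 hjQ hu

section chart

variable (hK : IsFunctionField k K) (x y : K) (c : k) (R : Place k K)

include hK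

/-- Chart analysis at a place at infinity where `y / u ≡ a ≠ 0`: the entry `y` has least order
and the ratios are congruent to explicit constants. -/
theorem plane_chart_infty_ne (hER : 0 < mapDiv k ![(1 : K), x, y] R)
    (hatt : R.1 (x + c • y) = exp (mapDiv k ![(1 : K), x, y] R)) {a : k} (ha : a ≠ 0)
    (hwa : R.1 (y / (x + c • y) - algebraMap k K a) < 1) :
    ![(1 : K), x, y] 2 ≠ 0 ∧ (∀ i, R.1 (![(1 : K), x, y] i) ≤ R.1 (![(1 : K), x, y] 2)) ∧
      ∀ i, R.1 (![(1 : K), x, y] i / ![(1 : K), x, y] 2 - algebraMap k K (![0, a⁻¹ - c, 1] i)) ≤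
        max (R.1 (y / (x + c • y) - algebraMap k K a))
          (exp (-(mapDiv k ![(1 : K), x, y] R))) := by
  obtain ⟨u, hu⟩ : ∃ u : K, u = x + c • y := ⟨_, rfl⟩
  obtain ⟨E, hEdef⟩ : ∃ E : Divisor k K, E = mapDiv k ![(1 : K), x, y] := ⟨_, rfl⟩
  rw [← hu] at hatt hwa ⊢
  rw [← hEdef] at hER hatt ⊢
  have hu0 : u ≠ 0 := by
    rintro rfl
    rw [map_zero] at hatt
    exact exp_ne_zero hatt.symm
  have hva : R.1 (algebraMap k K a) = 1 := val_algebraMap R ha
  have hw1 : R.1 (y / u) = 1 := by
    have h := Valuation.map_eq_of_sub_lt R.1 (x := algebraMap k K a) (y := y / u)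
      (by rw [hva]; exact hwa)
    rw [h, hva]
  have hy : R.1 y = exp (E R) := by
    have : y = y / u * u := by field_simp
    rw [this, map_mul, hw1, one_mul, hatt]
  have hy0 : y ≠ 0 := by
    rintro rfl
    rw [map_zero] at hy
    exact exp_ne_zero hy.symm
  have hw0 : y / u ≠ 0 := div_ne_zero hy0 hu0
  have ha0 : algebraMap k K a ≠ 0 := by
    intro h
    rw [h, map_zero] at hva
    exact zero_ne_one hva
  refine ⟨hy0, ?_, ?_⟩
  · intro i
    change R.1 (![(1 : K), x, y] i) ≤ R.1 y
    rw [hy, hEdef]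
    exact mem_L_mapDiv hK ![(1 : K), x, y] i R
  · intro i
    change R.1 (![(1 : K), x, y] i / y - algebraMap k K (![0, a⁻¹ - c, 1] i)) ≤ _
    fin_cases i
    · refine le_trans ?_ (le_max_right _ _)
      simp only [Fin.zero_eta, Matrix.cons_val_zero, map_zero, sub_zero]
      rw [map_div₀, map_one, hy, one_div, ← exp_neg]
    · refine le_trans (le_of_eq ?_) (le_max_left _ _)
      simp only [Fin.mk_one, Matrix.cons_val_one, Matrix.cons_val_zero]
      have hx : x = u - c • y := by rw [hu]; ring
      have h1 : x / y - algebraMap k K (a⁻¹ - c) =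
          -(y / u - algebraMap k K a) / (y / u * algebraMap k K a) := by
        rw [hx, map_sub, map_inv₀, Algebra.smul_def]
        field_simp
        ring
      rw [h1, map_div₀, Valuation.map_neg, map_mul, hw1, hva, mul_one, _root_.div_one]
    · refine le_trans (le_of_eq ?_) zero_le'
      simp only [Fin.reduceFinMk, Matrix.cons_val_two, Matrix.tail_cons, Matrix.head_cons]
      rw [div_self hy0, map_one, sub_self, map_zero]

/-- Chart analysis at a place at infinity where `y / u ≡ 0`: the entry `x` has least order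
and the ratios are congruent to explicit constants. -/
theorem plane_chart_infty_zero (hER : 0 < mapDiv k ![(1 : K), x, y] R)
    (hatt : R.1 (x + c • y) = exp (mapDiv k ![(1 : K), x, y] R))
    (hwa : R.1 (y / (x + c • y)) < 1) :
    ![(1 : K), x, y] 1 ≠ 0 ∧ (∀ i, R.1 (![(1 : K), x, y] i) ≤ R.1 (![(1 : K), x, y] 1)) ∧
      ∀ i, R.1 (![(1 : K), x, y] i / ![(1 : K), x, y] 1 - algebraMap k K (![0, 1, 0] i)) ≤
        max (R.1 (y / (x + c • y))) (exp (-(mapDiv k ![(1 : K), x, y] R))) := by
  obtain ⟨u, hu⟩ : ∃ u : K, u = x + c • y := ⟨_, rfl⟩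
  obtain ⟨E, hEdef⟩ : ∃ E : Divisor k K, E = mapDiv k ![(1 : K), x, y] := ⟨_, rfl⟩
  rw [← hu] at hatt hwa ⊢
  rw [← hEdef] at hER hatt ⊢
  have hu0 : u ≠ 0 := by
    rintro rfl
    rw [map_zero] at hatt
    exact exp_ne_zero hatt.symm
  have hxu : x / u = 1 - algebraMap k K c * (y / u) := by
    rw [hu, Algebra.smul_def]
    have : x + algebraMap k K c * y ≠ 0 := by
      rw [← Algebra.smul_def, ← hu]
      exact hu0
    field_simp
    ring
  have hcw : R.1 (algebraMap k K c * (y / u)) < 1 := by
    rw [map_mul]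
    calc R.1 (algebraMap k K c) * R.1 (y / u) ≤ 1 * R.1 (y / u) :=
          mul_le_mul' (val_algebraMap_le R c) le_rfl
      _ = R.1 (y / u) := one_mul _
      _ < 1 := hwa
  have hxu1 : R.1 (x / u) = 1 := by
    rw [hxu]
    have h := Valuation.map_sub_eq_of_lt_left R.1 (x := (1 : K))
      (y := algebraMap k K c * (y / u)) (by rw [map_one]; exact hcw)
    rw [h, map_one]
  have hx : R.1 x = exp (E R) := by
    have : x = x / u * u := by field_simp
    rw [this, map_mul, hxu1, one_mul, hatt]
  have hx0 : x ≠ 0 := by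
    rintro rfl
    rw [map_zero] at hx
    exact exp_ne_zero hx.symm
  refine ⟨hx0, ?_, ?_⟩
  · intro i
    change R.1 (![(1 : K), x, y] i) ≤ R.1 x
    rw [hx, hEdef]
    exact mem_L_mapDiv hK ![(1 : K), x, y] i R
  · intro i
    change R.1 (![(1 : K), x, y] i / x - algebraMap k K (![0, 1, 0] i)) ≤ _
    fin_cases i
    · refine le_trans ?_ (le_max_right _ _)
      simp only [Fin.zero_eta, Matrix.cons_val_zero, map_zero, sub_zero]
      rw [map_div₀, map_one, hx, one_div, ← exp_neg]
    · refine le_trans (le_of_eq ?_) zero_le'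
      simp only [Fin.mk_one, Matrix.cons_val_one, Matrix.cons_val_zero]
      rw [div_self hx0, map_one, sub_self, map_zero]
    · refine le_trans (le_of_eq ?_) (le_max_left _ _)
      simp only [Fin.reduceFinMk, Matrix.cons_val_two, Matrix.tail_cons, Matrix.head_cons,
        map_zero, sub_zero]
      have h1 : y / x = (y / u) / (x / u) := by
        field_simp
      rw [h1, map_div₀, hxu1, _root_.div_one]

end chart

end Groth.Agent.Lib.Helper18.FF
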