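import Groth.Agent.Lib.Helper18.FF.PlaneSetup
import Groth.Agent.Lib.Helper18.FF.Codim

/-! # Plane models: the genus formula implies nonsingularity -/

set_option autoImplicit false
set_option linter.style.haveILetI false

namespace Groth.Agent.Lib.Helper18.FF

open FunFld WithZero IntermediateField

universe u v

variable {k : Type u} {K : Type v} [Field k] [Field K] [Algebra k K]

/-- An entry of greatest valuation of `(1, x, y)` has valuation `exp ([φ] P)`. -/
theorem plane_val_max (hK : IsFunctionField k K) (x y : K) (P : Place k K) (j : Fin 3)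
    (hjmax : ∀ i, P.1 (![(1 : K), x, y] i) ≤ P.1 (![(1 : K), x, y] j)) :
    P.1 (![(1 : K), x, y] j) = exp (mapDiv k ![(1 : K), x, y] P) := by
  obtain ⟨i₀, hi₀⟩ := exists_mapDiv_eq hK ![(1 : K), x, y] P
  refine le_antisymm (mem_L_mapDiv hK ![(1 : K), x, y] j P) ?_
  rcases eq_or_ne (![(1 : K), x, y] i₀) 0 with h0 | h0
  · rw [hi₀, h0, ord_zero, neg_zero, exp_zero]
    have := hjmax 0
    simpa using this
  · rw [hi₀, ← val_eq_exp_neg_ord P h0]
    exact hjmax i₀

/-- A polynomial of degree `≤ n` in `u = x + c y` and `y`, divided by `φ_j ^ n`, lies in the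
chart algebra. -/
theorem div_pow_mem_adjoin_of_mem_planeT (x y : K) (c : k) (j : Fin 3)
    (hj0 : ![(1 : K), x, y] j ≠ 0) (N n : ℕ) {z : K}
    (hz : z ∈ planeT k (x + c • y) y N n) :
    z / (![(1 : K), x, y] j) ^ n ∈
      Algebra.adjoin k (Set.range fun i => ![(1 : K), x, y] i / ![(1 : K), x, y] j) := by
  obtain ⟨A, hA⟩ : ∃ A : Subalgebra k K,
      A = Algebra.adjoin k (Set.range fun i => ![(1 : K), x, y] i / ![(1 : K), x, y] j) :=
    ⟨_, rfl⟩
  rw [← hA]
  obtain ⟨d, hd⟩ : ∃ d : K, d = ![(1 : K), x, y] j := ⟨_, rfl⟩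
  rw [← hd] at hj0 ⊢
  have h0 : 1 / d ∈ A := by
    rw [hA, hd]
    exact Algebra.subset_adjoin ⟨0, rfl⟩
  have h1 : x / d ∈ A := by
    rw [hA, hd]
    exact Algebra.subset_adjoin ⟨1, rfl⟩
  have h2 : y / d ∈ A := by
    rw [hA, hd]
    exact Algebra.subset_adjoin ⟨2, rfl⟩
  have hu : (x + c • y) / d ∈ A := by
    have : (x + c • y) / d = x / d + c • (y / d) := by
      rw [add_div, smul_div_assoc]
    rw [this]
    exact Subalgebra.add_mem _ h1 (Subalgebra.smul_mem _ h2 c)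
  unfold planeT at hz
  induction hz using Submodule.span_induction with
  | mem z hz =>
    obtain ⟨p, rfl⟩ := hz
    have hle : (p.2 : ℕ) + (p.1 : ℕ) ≤ n := by
      have := p.2.2
      omega
    obtain ⟨e, he⟩ : ∃ e : ℕ, n = (p.2 : ℕ) + (p.1 : ℕ) + e := ⟨n - ((p.2 : ℕ) + (p.1 : ℕ)), by omega⟩
    have key : ∀ a b e : ℕ, (x + c • y) ^ a * y ^ b / d ^ (a + b + e) =
        ((x + c • y) / d) ^ a * (y / d) ^ b * (1 / d) ^ e := by
      intro a b e
      rw [pow_add, pow_add, _root_.div_pow, _root_.div_pow, _root_.div_pow, one_pow]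
      field_simp
    have hpow : d ^ n = d ^ ((p.2 : ℕ) + (p.1 : ℕ) + e) := congrArg (fun m => d ^ m) he
    have : planeFam (x + c • y) y N n p / d ^ n =
        ((x + c • y) / d) ^ (p.2 : ℕ) * (y / d) ^ (p.1 : ℕ) * (1 / d) ^ e := by
      rw [hpow, ← key]
      rfl
    rw [this]
    exact Subalgebra.mul_mem _ (Subalgebra.mul_mem _ (Subalgebra.pow_mem _ hu _)
      (Subalgebra.pow_mem _ h2 _)) (Subalgebra.pow_mem _ h0 _)
  | zero =>
    rw [zero_div]
    exact Subalgebra.zero_mem _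
  | add a b _ _ iha ihb =>
    rw [add_div]
    exact Subalgebra.add_mem _ iha ihb
  | smul r a _ iha =>
    rw [smul_div_assoc]
    exact Subalgebra.smul_mem _ iha r

/-- If the monomial spaces fill up `L(nE)` for all large `n`, the plane model is nonsingular. -/
theorem plane_isNonsingularAt_of_planeT_eq (hK : IsFunctionField k K) (x y : K) (c : k) (N n₀ : ℕ)
    (hT : ∀ n, n₀ ≤ n → L (n • mapDiv k ![(1 : K), x, y]) ≤ planeT k (x + c • y) y N n)
    (hdeg : 1 ≤ (mapDiv k ![(1 : K), x, y]).deg)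
    (P : Place k K) : IsNonsingularAt ![(1 : K), x, y] P := by
  classical
  intro z hz
  obtain ⟨E, hEdef⟩ : ∃ E : Divisor k K, E = mapDiv k ![(1 : K), x, y] := ⟨_, rfl⟩
  rw [← hEdef] at hT hdeg
  have hE : 0 ≤ E := hEdef ▸ plane_nonneg hK x y
  obtain ⟨j, hjmax⟩ := Finite.exists_max (fun i => P.1 (![(1 : K), x, y] i))
  have hj0 : ![(1 : K), x, y] j ≠ 0 := by
    intro h
    have := hjmax 0
    rw [h, map_zero] at this
    simp at this
  have hvj : P.1 (![(1 : K), x, y] j) = exp (E P) := hEdef ▸ plane_val_max hK x y P j hjmax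
  rcases eq_or_ne z 0 with rfl | hz0
  · exact ⟨j, hj0, hjmax, 0, Subalgebra.zero_mem _, 1, Subalgebra.one_mem _, map_one _, by simp⟩
  obtain ⟨Z, hZdef⟩ : ∃ Z : Divisor k K, Z = poleDiv z := ⟨_, rfl⟩
  have hZ : 0 ≤ Z := hZdef ▸ poleDiv_nonneg z
  have hg0 : (0 : ℤ) ≤ genus k K := Int.natCast_nonneg _
  obtain ⟨n, hn0, hn⟩ : ∃ n : ℕ, n₀ ≤ n ∧ 2 * (genus k K : ℤ) + P.deg + Z.deg ≤ n * E.deg := by
    refine ⟨n₀ + (2 * (genus k K : ℤ) + P.deg + Z.deg).toNat, Nat.le_add_right _ _, ?_⟩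
    have h1 : 2 * (genus k K : ℤ) + P.deg + Z.deg ≤
        ((2 * (genus k K : ℤ) + P.deg + Z.deg).toNat : ℤ) := Int.self_le_toNat _
    have h2 : (0 : ℤ) ≤ ((2 * (genus k K : ℤ) + P.deg + Z.deg).toNat : ℤ) := Int.natCast_nonneg _
    have h3 : (0 : ℤ) ≤ (n₀ : ℤ) := Int.natCast_nonneg _
    push_cast
    nlinarith
  obtain ⟨F, hFdef⟩ : ∃ F : Divisor k K, F = n • E - Z := ⟨_, rfl⟩
  have hZP : Z P = 0 := by
    rw [hZdef, poleDiv_apply hK]
    have : 0 ≤ P.ord z := (val_le_one_iff_ord_nonneg P hz0).mp hz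
    omega
  have hFP : F P = n * E P := by
    rw [hFdef, Finsupp.sub_apply, Finsupp.smul_apply, hZP]
    simp
  have hFdeg : F.deg = n * E.deg - Z.deg := by
    rw [hFdef, deg_sub, deg_nsmul]
  have hPdeg : (1 : ℤ) ≤ (P.deg : ℤ) := by exact_mod_cast deg_pos hK P
  have hell : ell (F - Finsupp.single P 1) < ell F := by
    have h1 := ell_eq_of_deg_ge hK F (by rw [hFdeg]; linarith)
    have h2 := ell_eq_of_deg_ge hK (F - Finsupp.single P 1) (by
      rw [deg_sub, deg_single, hFdeg]; linarith)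
    rw [deg_sub, deg_single] at h2
    have : (ell (F - Finsupp.single P 1) : ℤ) < ell F := by
      rw [h1, h2]
      linarith
    exact_mod_cast this
  obtain ⟨σ, hσF, hσ0, hσP⟩ := exists_section_val hK P hell
  rw [hFP] at hσP
  have hσE : σ ∈ L (n • E) := by
    refine L_mono ?_ hσF
    intro R
    rw [hFdef, Finsupp.sub_apply]
    have := hZ R
    rw [Finsupp.zero_apply] at this
    omega
  have hσzE : σ * z ∈ L (n • E) := by
    intro R
    rw [map_mul]
    have h1 : R.1 σ ≤ exp (F R) := hσF R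
    have h2 : R.1 z ≤ exp (Z R) := by
      rw [hZdef]
      exact val_le_exp_poleDiv hK z R
    calc R.1 σ * R.1 z ≤ exp (F R) * exp (Z R) := mul_le_mul' h1 h2
      _ = exp ((n • E) R) := by
        rw [← exp_add, hFdef, Finsupp.sub_apply]
        congr 1
        ring
  have h1 := div_pow_mem_adjoin_of_mem_planeT x y c j hj0 N n (hT n hn0 hσE)
  have h2 := div_pow_mem_adjoin_of_mem_planeT x y c j hj0 N n (hT n hn0 hσzE)
  refine ⟨j, hj0, hjmax, _, h2, _, h1, ?_, ?_⟩
  · rw [map_div₀, map_pow, hvj, hσP, ← exp_nsmul, nsmul_eq_mul]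
    exact div_self exp_ne_zero
  · ring

end Groth.Agent.Lib.Helper18.FF
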