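import Groth.Agent.Lib.Helper18.FF.RiemannRoch

/-! # Rational function fields: genus zero with a rational place -/

set_option autoImplicit false
set_option linter.style.haveILetI false

namespace Groth.Agent.Lib.Helper18.FF

open FunFld WithZero IntermediateField

universe u v

variable {k : Type u} {K : Type v} [Field k] [Field K] [Algebra k K]

theorem linearIndependent_pow_of_transcendental {x : K} (hx : Transcendental k x) (l : ℕ) :
    LinearIndependent k (fun i : Fin (l + 1) => x ^ (i : ℕ)) := by
  classical
  rw [Fintype.linearIndependent_iff]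
  intro a ha i
  have h2 : Polynomial.aeval x (Polynomial.ofFn (l + 1) a) = 0 := by
    rw [Polynomial.ofFn_eq_sum_monomial, map_sum, ← ha]
    refine Finset.sum_congr rfl fun i _ => ?_
    rw [Polynomial.aeval_monomial, Algebra.smul_def]
  have h3 : Polynomial.ofFn (l + 1) a = 0 := by
    by_contra hne
    exact hx ⟨_, hne, h2⟩
  have h4 := congrArg (fun p => Polynomial.coeff p (i : ℕ)) h3
  simp only [Polynomial.coeff_zero] at h4
  rw [Polynomial.ofFn_coeff_eq_val_of_lt _ i.2] at h4
  exact h4

theorem pow_mem_L_nsmul_poleDiv (hK : IsFunctionField k K) (x : K) {i l : ℕ} (hil : i ≤ l) :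
    x ^ i ∈ L (l • poleDiv (k := k) x) := by
  intro P
  rw [map_pow, Finsupp.smul_apply, exp_nsmul]
  have h1 : P.1 x ≤ exp (poleDiv (k := k) x P) := val_le_exp_poleDiv hK x P
  have h2 : (1 : ℤᵐ⁰) ≤ exp (poleDiv (k := k) x P) := by
    rw [← exp_zero, exp_le_exp]; exact poleDiv_nonneg x P
  calc P.1 x ^ i ≤ exp (poleDiv (k := k) x P) ^ i := pow_le_pow_left' h1 _
    _ ≤ exp (poleDiv (k := k) x P) ^ l := pow_le_pow_right' h2 hil

theorem succ_le_ell_nsmul_poleDiv (hK : IsFunctionField k K) {x : K} (hx : Transcendental k x)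
    (l : ℕ) : l + 1 ≤ ell (l • poleDiv (k := k) x) := by
  have hli := linearIndependent_pow_of_transcendental hx l
  have hli' : LinearIndependent k (fun i : Fin (l + 1) =>
      (⟨x ^ (i : ℕ), pow_mem_L_nsmul_poleDiv hK x (Nat.lt_succ_iff.mp i.2)⟩ :
        L (l • poleDiv (k := k) x))) :=
    LinearIndependent.of_comp (Submodule.subtype _) hli
  haveI := finiteDimensional_L hK (l • poleDiv (k := k) x)
  have h1 := hli'.fintype_card_le_finrank
  rw [Fintype.card_fin] at h1
  exact h1

/-- An element with pole divisor of degree one forces genus zero. -/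
theorem genus_eq_zero_of_deg_poleDiv_eq_one (hK : IsFunctionField k K) {x : K}
    (hx : Transcendental k x) (h : (poleDiv (k := k) x).deg = 1) : genus k K = 0 := by
  set g := genus k K with hg
  set l : ℕ := 2 * g with hl
  have h1 := succ_le_ell_nsmul_poleDiv hK hx l
  have h2 := ell_eq_of_deg_ge hK (l • poleDiv (k := k) x) (by
    rw [deg_nsmul, h, hl]; push_cast; omega)
  rw [deg_nsmul, h] at h2
  have h3 : ((l + 1 : ℕ) : ℤ) ≤ (ell (l • poleDiv (k := k) x) : ℤ) := by exact_mod_cast h1
  push_cast at h3
  have : (g : ℤ) ≤ 0 := by linarith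
  omega

theorem exists_single_of_nonneg_of_deg_eq_one (hK : IsFunctionField k K) {D : Divisor k K}
    (h0 : 0 ≤ D) (hd : D.deg = 1) : ∃ P : Place k K, D = Finsupp.single P 1 ∧ P.deg = 1 := by
  have hne : D ≠ 0 := by
    rintro rfl
    rw [deg_zero] at hd
    omega
  obtain ⟨P, hP⟩ : ∃ P, D P ≠ 0 := by
    by_contra hcon
    push Not at hcon
    exact hne (Finsupp.ext hcon)
  have hP1 : 1 ≤ D P := by
    have := h0 P
    rw [Finsupp.zero_apply] at this
    omega
  have hge : 0 ≤ D - Finsupp.single P 1 := by
    intro Q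
    rw [Finsupp.sub_apply, Finsupp.zero_apply]
    by_cases hQ : Q = P
    · subst hQ; rw [Finsupp.single_eq_same]; omega
    · rw [Finsupp.single_eq_of_ne hQ, sub_zero]; exact h0 Q
  have hPdeg : (1 : ℤ) ≤ (P.deg : ℤ) := by exact_mod_cast deg_pos hK P
  have hdeg : (D - Finsupp.single P 1).deg ≤ 0 := by
    rw [deg_sub, deg_single, hd]; linarith
  have hz := eq_zero_of_nonneg_of_deg_le hK hge hdeg
  have hD : D = Finsupp.single P 1 := sub_eq_zero.mp hz
  refine ⟨P, hD, ?_⟩
  rw [hD, deg_single] at hd
  have : (P.deg : ℤ) = 1 := by linarith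
  exact_mod_cast this

theorem transcendental_of_adjoin_eq_top (hK : IsFunctionField k K) {x : K}
    (hx : IntermediateField.adjoin k ({x} : Set K) = ⊤) : Transcendental k x := by
  intro halg
  obtain ⟨t, ht, -⟩ := hK.1
  apply ht
  have : Algebra.IsAlgebraic k (IntermediateField.adjoin k ({x} : Set K)) :=
    IntermediateField.isAlgebraic_adjoin_simple halg.isIntegral
  have htmem : t ∈ IntermediateField.adjoin k ({x} : Set K) := by rw [hx]; trivial
  have := (this.isAlgebraic ⟨t, htmem⟩)
  exact (isAlgebraic_algebraMap_iff (A := K)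
    (FaithfulSMul.algebraMap_injective (IntermediateField.adjoin k ({x} : Set K)) K)).mpr this

/-- `K = k(x)` iff some element has a single simple pole at a rational place. -/
theorem exists_simple_pole_iff (hK : IsFunctionField k K) :
    (∃ (x : K) (P : Place k K), P.deg = 1 ∧ P.ord x = -1 ∧ ∀ Q : Place k K, Q ≠ P → 0 ≤ Q.ord x) ↔
      ∃ x : K, IntermediateField.adjoin k ({x} : Set K) = ⊤ := by
  constructor
  · rintro ⟨x, P, hP, hx, hQ⟩
    have hx0 : x ≠ 0 := by
      rintro rfl
      rw [ord_zero] at hx; omega
    have htr : Transcendental k x := by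
      apply transcendental_of_val_ne_one hK P hx0
      rw [val_eq_exp_neg_ord P hx0, hx]
      intro h
      rw [← exp_zero, exp_inj] at h
      omega
    have hpole : poleDiv (k := k) x = Finsupp.single P 1 := by
      ext Q
      rw [poleDiv_apply hK]
      by_cases hQP : Q = P
      · subst hQP; rw [hx, Finsupp.single_eq_same]; rfl
      · rw [Finsupp.single_eq_of_ne hQP]
        have := hQ Q hQP
        have h2 : (-Q.ord x).toNat = 0 := by omega
        rw [h2]; rfl
    have hdeg := deg_poleDiv_eq hK htr
    rw [hpole, deg_single, hP] at hdeg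
    have h1 : Module.finrank (IntermediateField.adjoin k ({x} : Set K)) K = 1 := by
      have : ((Module.finrank (IntermediateField.adjoin k ({x} : Set K)) K : ℕ) : ℤ) = 1 := by
        rw [← hdeg]; norm_num
      exact_mod_cast this
    exact ⟨x, IntermediateField.finrank_eq_one_iff_eq_top.mp h1⟩
  · rintro ⟨x, hx⟩
    have htr := transcendental_of_adjoin_eq_top hK hx
    have hdeg := deg_poleDiv_eq hK htr
    rw [IntermediateField.finrank_eq_one_iff_eq_top.mpr hx] at hdeg
    obtain ⟨P, hD, hP⟩ := exists_single_of_nonneg_of_deg_eq_one hK (poleDiv_nonneg x)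
      (by rw [hdeg]; rfl)
    refine ⟨x, P, hP, ?_, ?_⟩
    · have := congrArg (fun D : Divisor k K => D P) hD
      simp only [poleDiv_apply hK, Finsupp.single_eq_same] at this
      omega
    · intro Q hQ
      have := congrArg (fun D : Divisor k K => D Q) hD
      simp only [poleDiv_apply hK, Finsupp.single_eq_of_ne hQ] at this
      omega

/-- Genus zero with a rational place iff rational function field. -/
theorem genus_zero_and_exists_deg_one_iff (hK : IsFunctionField k K) :
    (genus k K = 0 ∧ ∃ P : Place k K, P.deg = 1) ↔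
      ∃ x : K, IntermediateField.adjoin k ({x} : Set K) = ⊤ := by
  rw [← exists_simple_pole_iff hK]
  constructor
  · rintro ⟨hg, P, hP⟩
    have h1 := ell_eq_of_deg_ge hK (Finsupp.single P 1 : Divisor k K) (by
      rw [hg, deg_single, hP]; norm_num)
    rw [deg_single, hP, hg] at h1
    have h2 : ell (Finsupp.single P 1 : Divisor k K) = 2 := by
      have : (ell (Finsupp.single P 1 : Divisor k K) : ℤ) = 2 := by rw [h1]; norm_num
      exact_mod_cast this
    -- a nonconstant element of `L(P)`
    obtain ⟨x, hxL, hxk⟩ : ∃ x ∈ L (Finsupp.single P 1 : Divisor k K),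
        x ∉ Set.range (algebraMap k K) := by
      by_contra hcon
      push Not at hcon
      have hle : L (Finsupp.single P 1 : Divisor k K) ≤ L (0 : Divisor k K) := by
        intro x hx
        rw [L_zero_eq_one hK, Submodule.mem_one]
        exact hcon x hx
      haveI := finiteDimensional_L_zero hK
      have := Submodule.finrank_mono hle
      have h0 := ell_zero hK (k := k) (K := K)
      unfold ell at h2 h0
      omega
    have hx0 : x ≠ 0 := by rintro rfl; exact hxk ⟨0, map_zero _⟩
    obtain ⟨Q, hQ⟩ := exists_pole hK hxk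
    have hQP : Q = P := by
      by_contra hne
      have := hxL Q
      rw [Finsupp.single_eq_of_ne hne, exp_zero] at this
      exact absurd hQ (not_lt.mpr this)
    subst hQP
    refine ⟨x, Q, hP, ?_, ?_⟩
    · have h3 := (one_lt_val_iff_ord_neg Q hx0).mp hQ
      have h4 := (val_le_exp_iff Q hx0 _).mp (hxL Q)
      rw [Finsupp.single_eq_same] at h4
      omega
    · intro R hR
      have := hxL R
      rw [Finsupp.single_eq_of_ne hR, exp_zero] at this
      exact (val_le_one_iff_ord_nonneg R hx0).mp this
  · rintro ⟨x, P, hP, hx, hQ⟩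
    refine ⟨?_, P, hP⟩
    have hx0 : x ≠ 0 := by
      rintro rfl
      rw [ord_zero] at hx; omega
    have htr : Transcendental k x := by
      apply transcendental_of_val_ne_one hK P hx0
      rw [val_eq_exp_neg_ord P hx0, hx]
      intro h
      rw [← exp_zero, exp_inj] at h
      omega
    have hpole : poleDiv (k := k) x = Finsupp.single P 1 := by
      ext Q
      rw [poleDiv_apply hK]
      by_cases hQP : Q = P
      · subst hQP; rw [hx, Finsupp.single_eq_same]; rfl
      · rw [Finsupp.single_eq_of_ne hQP]
        have := hQ Q hQP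
        have h2 : (-Q.ord x).toNat = 0 := by omega
        rw [h2]; rfl
    apply genus_eq_zero_of_deg_poleDiv_eq_one hK htr
    rw [hpole, deg_single, hP]; norm_num

end Groth.Agent.Lib.Helper18.FF
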