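import Groth.Agent.Lib.Helper18.FF.PlaneSetup
import Groth.Agent.Lib.Helper18.FF.ProjMap

/-! # Root counting along a divisor -/

set_option autoImplicit false
set_option linter.style.haveILetI false

namespace Groth.Agent.Lib.Helper18.FF

open FunFld WithZero IntermediateField

universe u v

variable {k : Type u} {K : Type v} [Field k] [Field K] [Algebra k K]

theorem val_aeval_le_one_of_le (P : Place k K) {w : K} (hw : P.1 w ≤ 1) (r : Polynomial k) :
    P.1 (Polynomial.aeval w r) ≤ 1 := by
  rw [Polynomial.aeval_eq_sum_range]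
  refine Valuation.map_sum_le _ (fun i _ => ?_)
  rw [Algebra.smul_def, map_mul, map_pow]
  exact mul_le_one' (val_algebraMap_le P _) (pow_le_one' hw i)

/-- If `w ≡ a` modulo the maximal ideal of `P` and `r(a) ≠ 0` then `r(w)` is a unit at `P`. -/
theorem val_aeval_eq_one_of_lt (P : Place k K) {w : K} {a : k} (hwa : P.1 (w - algebraMap k K a) < 1)
    (hw : P.1 w ≤ 1) {r : Polynomial k} (hr : r.eval a ≠ 0) : P.1 (Polynomial.aeval w r) = 1 := by
  obtain ⟨r', hr'⟩ := Polynomial.X_sub_C_dvd_sub_C_eval (p := r) (a := a)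
  have h1 : Polynomial.aeval w r - algebraMap k K (r.eval a) =
      (w - algebraMap k K a) * Polynomial.aeval w r' := by
    have := congrArg (Polynomial.aeval w) hr'
    rw [map_sub, map_mul, map_sub, Polynomial.aeval_X, Polynomial.aeval_C, Polynomial.aeval_C]
      at this
    exact this
  have h2 : P.1 (Polynomial.aeval w r - algebraMap k K (r.eval a)) < 1 := by
    rw [h1, map_mul]
    calc P.1 (w - algebraMap k K a) * P.1 (Polynomial.aeval w r')
        ≤ P.1 (w - algebraMap k K a) * 1 := mul_le_mul' le_rfl (val_aeval_le_one_of_le P hw r')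
      _ = P.1 (w - algebraMap k K a) := mul_one _
      _ < 1 := hwa
  have h3 : P.1 (algebraMap k K (r.eval a)) = 1 := val_algebraMap P hr
  have h4 := Valuation.map_eq_of_sub_lt P.1 (x := algebraMap k K (r.eval a))
    (y := Polynomial.aeval w r) (by rw [h3]; exact h2)
  rw [h4, h3]

/-- **Root counting.** A nonzero polynomial in `w` vanishing along the effective divisor `E`
has degree at least `deg E`, provided `w` separates the places of `E` and is a local parameter
(up to a constant) at the multiple ones. -/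
theorem deg_le_natDegree_of_vanishing [IsAlgClosed k] (hK : IsFunctionField k K)
    {E : Divisor k K} (hE : 0 ≤ E) {w : K}
    (h1 : ∀ P : Place k K, 0 < E P → P.1 w ≤ 1)
    (h2 : ∀ P : Place k K, 2 ≤ E P → ∀ a : k, P.1 (w - algebraMap k K a) < 1 →
      P.1 (w - algebraMap k K a) = exp (-1 : ℤ))
    (h3 : ∀ P P' : Place k K, 0 < E P → 0 < E P' → ∀ a : k, P.1 (w - algebraMap k K a) < 1 →
      P'.1 (w - algebraMap k K a) < 1 → P = P')
    {q : Polynomial k} (hq0 : q ≠ 0)
    (hq : ∀ P : Place k K, 0 < E P → P.1 (Polynomial.aeval w q) ≤ exp (-(E P))) :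
    E.deg ≤ q.natDegree := by
  classical
  have hex : ∀ P : Place k K, ∃ a : k, 0 < E P → P.1 (w - algebraMap k K a) < 1 := by
    intro P
    by_cases hP : 0 < E P
    · obtain ⟨a, ha⟩ := exists_const_sub_lt_one hK (deg_eq_one_of_isAlgClosed hK P) (h1 P hP)
      exact ⟨a, fun _ => ha⟩
    · exact ⟨0, fun h => absurd h hP⟩
  choose α hα using hex
  have hmult : ∀ P : Place k K, 0 < E P → E P ≤ (q.rootMultiplicity (α P) : ℤ) := by
    intro P hP
    obtain ⟨q', hqq', hndvd⟩ := Polynomial.exists_eq_pow_rootMultiplicity_mul_and_not_dvd q hq0 (α P)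
    obtain ⟨μ, hμ⟩ : ∃ μ : ℕ, μ = q.rootMultiplicity (α P) := ⟨_, rfl⟩
    rw [← hμ] at hqq' ⊢
    have hq'a : q'.eval (α P) ≠ 0 := by
      intro h
      exact hndvd (Polynomial.dvd_iff_isRoot.mpr h)
    have hval : P.1 (Polynomial.aeval w q) = P.1 (w - algebraMap k K (α P)) ^ μ := by
      have := congrArg (Polynomial.aeval w) hqq'
      rw [map_mul, map_pow, map_sub, Polynomial.aeval_X, Polynomial.aeval_C] at this
      rw [this, map_mul, map_pow, val_aeval_eq_one_of_lt P (hα P hP) (h1 P hP) hq'a, mul_one]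
    have hle := hq P hP
    rw [hval] at hle
    by_cases hP2 : 2 ≤ E P
    · rw [h2 P hP2 (α P) (hα P hP), ← exp_nsmul, exp_le_exp] at hle
      simp only [nsmul_eq_mul] at hle
      linarith
    · have hE1 : E P = 1 := by omega
      rw [hE1]
      by_contra hcon
      have hμ0 : μ = 0 := by omega
      rw [hμ0, pow_zero, hE1, ← exp_zero, exp_le_exp] at hle
      omega
  -- the sum
  have hdeg : E.deg = ∑ P ∈ E.support, E P := by
    unfold Divisor.deg
    rw [Finsupp.sum]
    refine Finset.sum_congr rfl fun P _ => ?_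
    rw [deg_eq_one_of_isAlgClosed hK P]
    simp
  have hpos : ∀ P ∈ E.support, 0 < E P := by
    intro P hP
    have h0 : (0 : ℤ) ≤ E P := hE P
    have hne : E P ≠ 0 := Finsupp.mem_support_iff.mp hP
    omega
  have hinj : Set.InjOn α (E.support : Set (Place k K)) := by
    intro P hP P' hP' heq
    have hP0 := hpos P hP
    have hP'0 := hpos P' hP'
    have h4 := hα P' hP'0
    rw [← heq] at h4
    exact h3 P P' hP0 hP'0 (α P) (hα P hP0) h4
  have hsub : E.support.image α ⊆ q.roots.toFinset := by
    intro a ha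
    obtain ⟨P, hP, rfl⟩ := Finset.mem_image.mp ha
    rw [Multiset.mem_toFinset, Polynomial.mem_roots hq0, ← Polynomial.rootMultiplicity_pos hq0]
    have := hmult P (hpos P hP)
    have := hpos P hP
    omega
  calc E.deg = ∑ P ∈ E.support, E P := hdeg
    _ ≤ ∑ P ∈ E.support, (q.rootMultiplicity (α P) : ℤ) :=
        Finset.sum_le_sum fun P hP => hmult P (hpos P hP)
    _ = ∑ a ∈ E.support.image α, (q.rootMultiplicity a : ℤ) :=
        (Finset.sum_image (f := fun a => (q.rootMultiplicity a : ℤ)) hinj).symm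
    _ ≤ ∑ a ∈ q.roots.toFinset, (q.rootMultiplicity a : ℤ) :=
        Finset.sum_le_sum_of_subset_of_nonneg hsub fun _ _ _ => Int.natCast_nonneg _
    _ = ((∑ a ∈ q.roots.toFinset, q.roots.count a : ℕ) : ℤ) := by
        push_cast
        refine Finset.sum_congr rfl fun a _ => ?_
        rw [Polynomial.count_roots]
    _ = (Multiset.card q.roots : ℤ) := by rw [Multiset.toFinset_sum_count_eq]
    _ ≤ q.natDegree := by exact_mod_cast Polynomial.card_roots' q

end Groth.Agent.Lib.Helper18.FF
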