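import Groth.Agent.Lib.Helper18.FF.Pencil

/-! # Sections of a linear series with prescribed divisor on two places -/

set_option autoImplicit false
set_option linter.style.haveILetI false

namespace Groth.Agent.Lib.Helper18.FF

open FunFld WithZero

universe u v

variable {k : Type u} {K : Type v} [Field k] [Field K] [Algebra k K] [IsAlgClosed k]

section

variable (hK : IsFunctionField k K) (D : Divisor k K) (d r : ℕ) (hD : D.deg = d)
  (V : Submodule k K) (hV : V ≤ L D) (hVr : Module.finrank k ↥V = r + 1)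
  (A B : Place k K) (hAB : A ≠ B) (a b : ℕ) (hab : a + b = d)

include hK hD hAB hab in
theorem deg_sub_single_sub_single :
    (D - Finsupp.single A (a : ℤ) - Finsupp.single B (b : ℤ) : Divisor k K).deg = 0 := by
  rw [deg_sub, deg_sub, deg_single, deg_single, deg_eq_one_of_isAlgClosed hK A,
    deg_eq_one_of_isAlgClosed hK B, hD]
  push_cast
  omega

include hK hD hV hVr hAB hab in
/-- Complementary vanishing conditions at two places are almost independent. -/
theorem finrank_add_le_of_add_eq :
    Module.finrank k ↥(V ⊓ L (D - Finsupp.single A (a : ℤ))) +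
      Module.finrank k ↥(V ⊓ L (D - Finsupp.single B (b : ℤ))) ≤ r + 2 := by
  haveI := finiteDimensional_L hK D
  haveI : FiniteDimensional k V := Submodule.finiteDimensional_of_le hV
  set U₁ := V ⊓ L (D - Finsupp.single A (a : ℤ)) with hU₁
  set U₂ := V ⊓ L (D - Finsupp.single B (b : ℤ)) with hU₂
  haveI : FiniteDimensional k U₁ := Submodule.finiteDimensional_of_le inf_le_left
  haveI : FiniteDimensional k U₂ := Submodule.finiteDimensional_of_le inf_le_left
  have h1 := Submodule.finrank_sup_add_finrank_inf_eq U₁ U₂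
  have h2 : Module.finrank k ↥(U₁ ⊔ U₂) ≤ Module.finrank k ↥V :=
    Submodule.finrank_mono (sup_le inf_le_left inf_le_left)
  have h3 : U₁ ⊓ U₂ ≤ L (D - Finsupp.single A (a : ℤ) - Finsupp.single B (b : ℤ)) :=
    (inf_le_inf inf_le_right inf_le_right).trans (inf_L_single_le D A B hAB a b)
  haveI := finiteDimensional_L hK (D - Finsupp.single A (a : ℤ) - Finsupp.single B (b : ℤ))
  have h4 := Submodule.finrank_mono h3
  have h5 := ell_le_deg_add_one hK
    (D := D - Finsupp.single A (a : ℤ) - Finsupp.single B (b : ℤ))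
    (by rw [deg_sub_single_sub_single hK D d hD A B hAB a b hab]; omega)
  rw [deg_sub_single_sub_single hK D d hD A B hAB a b hab] at h5
  have h6 : Module.finrank k ↥(L (D - Finsupp.single A (a : ℤ) - Finsupp.single B (b : ℤ))) =
    ell (D - Finsupp.single A (a : ℤ) - Finsupp.single B (b : ℤ)) := rfl
  rw [hVr] at h2
  omega

include hK hD hV hVr hAB hab in
/-- If the complementary vanishing conditions fail to be independent there is a section with
divisor exactly `aA + bB`. -/
theorem exists_section_of_dims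
    (hdim : r + 2 ≤ Module.finrank k ↥(V ⊓ L (D - Finsupp.single A (a : ℤ))) +
      Module.finrank k ↥(V ⊓ L (D - Finsupp.single B (b : ℤ)))) :
    ∃ s : K, s ≠ 0 ∧ s ∈ V ∧ s ∈ L (D - Finsupp.single A (a : ℤ)) ∧
      s ∈ L (D - Finsupp.single B (b : ℤ)) ∧
      D + FunFld.div k s = Finsupp.single A (a : ℤ) + Finsupp.single B (b : ℤ) := by
  haveI := finiteDimensional_L hK D
  haveI : FiniteDimensional k V := Submodule.finiteDimensional_of_le hV
  set U₁ := V ⊓ L (D - Finsupp.single A (a : ℤ)) with hU₁
  set U₂ := V ⊓ L (D - Finsupp.single B (b : ℤ)) with hU₂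
  haveI : FiniteDimensional k U₁ := Submodule.finiteDimensional_of_le inf_le_left
  haveI : FiniteDimensional k U₂ := Submodule.finiteDimensional_of_le inf_le_left
  have h1 := Submodule.finrank_sup_add_finrank_inf_eq U₁ U₂
  have h2 : Module.finrank k ↥(U₁ ⊔ U₂) ≤ Module.finrank k ↥V :=
    Submodule.finrank_mono (sup_le inf_le_left inf_le_left)
  rw [hVr] at h2
  have h3 : 0 < Module.finrank k ↥(U₁ ⊓ U₂) := by omega
  haveI : FiniteDimensional k ↥(U₁ ⊓ U₂) := Submodule.finiteDimensional_of_le inf_le_left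
  obtain ⟨⟨s, hs⟩, hs0⟩ := Module.finrank_pos_iff_exists_ne_zero.mp h3
  have hs0' : s ≠ 0 := fun h => hs0 (Subtype.ext h)
  obtain ⟨⟨hsV, hsA⟩, ⟨-, hsB⟩⟩ := hs
  refine ⟨s, hs0', hsV, hsA, hsB, ?_⟩
  have h4 : s ∈ L (D - Finsupp.single A (a : ℤ) - Finsupp.single B (b : ℤ)) :=
    inf_L_single_le D A B hAB a b ⟨hsA, hsB⟩
  have h5 := (mem_L_iff_div hK _ hs0').mp h4
  have h6 := eq_zero_of_nonneg_of_deg_le hK h5 (by
    rw [deg_add_div hK, deg_sub_single_sub_single hK D d hD A B hAB a b hab])
  have h7 : D + FunFld.div k s - (Finsupp.single A (a : ℤ) + Finsupp.single B (b : ℤ)) = 0 := by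
    rw [← h6]; abel
  exact sub_eq_zero.mp h7

end

/-- A section with divisor `aA + bB` vanishes only at `A` and `B`. -/
theorem support_of_div_eq (D : Divisor k K) (A B : Place k K) (a b : ℤ) (s : K)
    (h : D + FunFld.div k s = Finsupp.single A a + Finsupp.single B b) :
    ∀ R : Place k K, R ≠ A → R ≠ B → (FunFld.div k s + D) R = 0 := by
  intro R h1 h2
  rw [add_comm, h, Finsupp.add_apply, Finsupp.single_eq_of_ne h1, Finsupp.single_eq_of_ne h2,
    add_zero]

end Groth.Agent.Lib.Helper18.FF
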