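import Groth.Agent.Lib.Helper18.FF.Sections

/-! # Compatible aspects: at most one common vanishing order -/

set_option autoImplicit false
set_option linter.style.haveILetI false

namespace Groth.Agent.Lib.Helper18.FF

open FunFld WithZero

universe u v w

variable {k : Type u} {K : Type v} [Field k] [Field K] [Algebra k K] [IsAlgClosed k]

/-- A function vanishing to total order more than `deg D` at two places is zero. -/
theorem eq_zero_of_mem_of_lt (hK : IsFunctionField k K) (D : Divisor k K) (d : ℕ)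
    (hD : D.deg = d) (A B : Place k K) (hAB : A ≠ B) (a b : ℤ) (hab : (d : ℤ) < a + b) (x : K)
    (hxA : x ∈ L (D - Finsupp.single A a)) (hxB : x ∈ L (D - Finsupp.single B b)) : x = 0 := by
  have h1 : x ∈ L (D - Finsupp.single A a - Finsupp.single B b) :=
    inf_L_single_le D A B hAB a b ⟨hxA, hxB⟩
  rw [L_eq_bot_of_deg_neg hK] at h1
  · exact (Submodule.mem_bot k).mp h1
  · rw [deg_sub, deg_sub, deg_single, deg_single, deg_eq_one_of_isAlgClosed hK A,
      deg_eq_one_of_isAlgClosed hK B, hD]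
    push_cast
    omega

theorem subsingleton_index [CharZero k] {KY : Type v} {KZ : Type w} [Field KY] [Algebra k KY]
    [Field KZ] [Algebra k KZ]
    (hKY : IsFunctionField k KY) (hg0 : genus k KY = 0)
    (d r : ℕ) (DY : Divisor k KY) (hDY : DY.deg = d) (DZ : Divisor k KZ)
    (VY : Submodule k KY) (hVY : VY ≤ L DY) (hVYr : Module.finrank k ↥VY = r + 1)
    (VZ : Submodule k KZ)
    (QY : Place k KY)
    (hcusp : r ≤ Module.finrank k ↥(VY ⊓ L (DY - Finsupp.single QY ((2 : ℤ)))))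
    (P : Place k KY) (hP : P ≠ QY) (Q : Place k KZ)
    (hcomp : ∀ n : ℕ, n ≤ d + 1 →
      Module.finrank k ↥(VY ⊓ L (DY - Finsupp.single P ((n : ℤ)))) +
        Module.finrank k ↥(VZ ⊓ L (DZ - Finsupp.single Q ((d : ℤ) + 1 - n))) = r + 1)
    (P' : Place k KY) (hP'P : P' ≠ P) (hP'Q : P' ≠ QY) :
    {i : ℕ | i ≤ r ∧ ∃ m : ℕ,
        Module.finrank k ↥(VY ⊓ L (DY - Finsupp.single P' ((m : ℤ)))) = r + 1 - i ∧
        Module.finrank k ↥(VY ⊓ L (DY - Finsupp.single P' ((m : ℤ) + 1))) = r - i ∧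
        Module.finrank k ↥(VZ ⊓ L (DZ - Finsupp.single Q ((m : ℤ)))) = r + 1 - i ∧
        Module.finrank k ↥(VZ ⊓ L (DZ - Finsupp.single Q ((m : ℤ) + 1))) = r - i}.Subsingleton := by
  have key : ∀ i m : ℕ, i ≤ r →
      Module.finrank k ↥(VY ⊓ L (DY - Finsupp.single P' ((m : ℤ)))) = r + 1 - i →
      Module.finrank k ↥(VZ ⊓ L (DZ - Finsupp.single Q ((m : ℤ) + 1))) = r - i →
      ∃ b : ℕ, m + b = d ∧ ∃ s : KY, s ≠ 0 ∧ s ∈ VY ∧ s ∈ L (DY - Finsupp.single P' (m : ℤ)) ∧
        s ∈ L (DY - Finsupp.single P (b : ℤ)) ∧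
        DY + FunFld.div k s = Finsupp.single P' (m : ℤ) + Finsupp.single P (b : ℤ) := by
    intro i m hi h1 h4
    have hmd : m ≤ d := by
      by_contra hlt
      have := inf_L_single_eq_bot hKY DY d hDY VY P' (m : ℤ) (by omega)
      rw [this, finrank_bot] at h1
      omega
    refine ⟨d - m, by omega, ?_⟩
    have hc := hcomp (d - m) (by omega)
    have e : (d : ℤ) + 1 - ((d - m : ℕ) : ℤ) = (m : ℤ) + 1 := by omega
    rw [e, h4] at hc
    exact exists_section_of_dims hKY DY d r hDY VY hVY hVYr P' P hP'P m (d - m) (by omega)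
      (by rw [h1]; omega)
  rintro i ⟨hi, m, h1, -, -, h4⟩ i' ⟨hi', m', h1', -, -, h4'⟩
  by_contra hne
  have hmm' : m ≠ m' := by
    rintro rfl
    rw [h1] at h1'
    omega
  obtain ⟨b, hb, s, hs0, hsV, hsP', hsP, hsdiv⟩ := key i m hi h1 h4
  obtain ⟨b', hb', s', hs'0, hs'V, hs'P', hs'P, hs'div⟩ := key i' m' hi' h1' h4'
  obtain ⟨c, hc⟩ := pencil_unique' hKY hg0 d r DY hDY VY hVY hVYr QY hcusp P P' hP hP'Q s s' hsV
    hs'V hs0 hs'0
    (fun R h1 h2 => support_of_div_eq DY P' P _ _ s hsdiv R h2 h1)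
    (fun R h1 h2 => support_of_div_eq DY P' P _ _ s' hs'div R h2 h1)
  rcases lt_or_gt_of_ne hmm' with hlt | hlt
  · -- `m < m'`
    apply hs'0
    apply eq_zero_of_mem_of_lt hKY DY d hDY P' P hP'P (m' : ℤ) (b : ℤ) (by omega) s' hs'P'
    rw [hc]
    exact Submodule.smul_mem _ c hsP
  · apply hs'0
    apply eq_zero_of_mem_of_lt hKY DY d hDY P' P hP'P (m : ℤ) (b' : ℤ) (by omega) s' _ hs'P
    rw [hc]
    exact Submodule.smul_mem _ c hsP'

end Groth.Agent.Lib.Helper18.FF
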