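import Groth.Agent.Lib.Helper18.FF.Weil

/-! # The `K`-action on Weil differentials -/

set_option autoImplicit false
set_option linter.style.haveILetI false

namespace Groth.Agent.Lib.Helper18.FF

open FunFld WithZero Groth.Agent.Lib.Helper18.LinAlg

universe u v

variable {k : Type u} {K : Type v} [Field k] [Field K] [Algebra k K]

theorem smul_mem_adele (hK : IsFunctionField k K) (x : K) {a : Place k K → K} (ha : a ∈ adele k K) :
    x • a ∈ adele k K := by
  rw [mem_adele] at ha ⊢
  refine ((finite_poles' hK x).union ha).subset ?_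
  intro P hP
  by_contra hcon
  rw [Set.mem_union, not_or] at hcon
  apply hP
  have h1 : P.1 x ≤ 1 := not_not.mp hcon.1
  have h2 : P.1 (a P) ≤ 1 := not_not.mp hcon.2
  rw [Pi.smul_apply, smul_eq_mul, map_mul]
  exact mul_le_one' h1 h2

/-- The differential `xω`. -/
noncomputable def smulW (hK : IsFunctionField k K) (x : K) (ω : Module.Dual k (adele k K)) :
    Module.Dual k (adele k K) :=
  mulW x (fun _ ha => smul_mem_adele hK x ha) ω

theorem mulW_eq_smulW (hK : IsFunctionField k K) (x : K)
    (hx : ∀ a ∈ adele k K, x • a ∈ adele k K) (ω : Module.Dual k (adele k K)) :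
    mulW x hx ω = smulW hK x ω := rfl

theorem smulW_apply (hK : IsFunctionField k K) (x : K) (ω : Module.Dual k (adele k K))
    (a : adele k K) : smulW hK x ω a = ω ⟨x • (a : Place k K → K), smul_mem_adele hK x a.2⟩ := rfl

theorem smulW_one (hK : IsFunctionField k K) (ω : Module.Dual k (adele k K)) : smulW hK 1 ω = ω := by
  ext a
  rw [smulW_apply]
  congr 1
  ext P
  simp

theorem smulW_mul (hK : IsFunctionField k K) (x y : K) (ω : Module.Dual k (adele k K)) :
    smulW hK (x * y) ω = smulW hK x (smulW hK y ω) := by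
  ext a
  rw [smulW_apply, smulW_apply, smulW_apply]
  congr 1
  ext P
  simp [mul_comm x y, mul_assoc]

theorem smulW_zero_left (hK : IsFunctionField k K) (ω : Module.Dual k (adele k K)) :
    smulW hK 0 ω = 0 := by
  ext a
  rw [smulW_apply]
  have : (⟨(0 : K) • (a : Place k K → K), smul_mem_adele hK 0 a.2⟩ : adele k K) = 0 := by
    ext P; simp
  rw [this, map_zero]; rfl

theorem smulW_add_left (hK : IsFunctionField k K) (x y : K) (ω : Module.Dual k (adele k K)) :
    smulW hK (x + y) ω = smulW hK x ω + smulW hK y ω := by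
  ext a
  rw [LinearMap.add_apply, smulW_apply, smulW_apply, smulW_apply, ← map_add]
  congr 1
  ext P
  simp [add_mul]

theorem smulW_smul_left (hK : IsFunctionField k K) (c : k) (x : K) (ω : Module.Dual k (adele k K)) :
    smulW hK (c • x) ω = c • smulW hK x ω := by
  ext a
  rw [LinearMap.smul_apply, smulW_apply, smulW_apply, ← map_smul]
  congr 1
  ext P
  simp

theorem smulW_add_right (hK : IsFunctionField k K) (x : K) (ω ω' : Module.Dual k (adele k K)) :
    smulW hK x (ω + ω') = smulW hK x ω + smulW hK x ω' := by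
  ext a
  rw [LinearMap.add_apply, smulW_apply, smulW_apply, smulW_apply, LinearMap.add_apply]

theorem smulW_zero_right (hK : IsFunctionField k K) (x : K) :
    smulW hK x (0 : Module.Dual k (adele k K)) = 0 := by
  ext a
  rw [smulW_apply]; rfl

/-- `x ↦ xω` as a `k`-linear map. -/
noncomputable def smulWₗ (hK : IsFunctionField k K) (ω : Module.Dual k (adele k K)) :
    K →ₗ[k] Module.Dual k (adele k K) where
  toFun x := smulW hK x ω
  map_add' x y := smulW_add_left hK x y ω
  map_smul' c x := smulW_smul_left hK c x ω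

theorem smulW_inv_smulW (hK : IsFunctionField k K) {x : K} (hx : x ≠ 0)
    (ω : Module.Dual k (adele k K)) : smulW hK x⁻¹ (smulW hK x ω) = ω := by
  rw [← smulW_mul, inv_mul_cancel₀ hx, smulW_one]

theorem smulW_eq_zero_iff (hK : IsFunctionField k K) {x : K} {ω : Module.Dual k (adele k K)} :
    smulW hK x ω = 0 ↔ x = 0 ∨ ω = 0 := by
  constructor
  · intro h
    by_cases hx : x = 0
    · exact Or.inl hx
    · right
      rw [← smulW_inv_smulW hK hx ω, h, smulW_zero_right]
  · rintro (rfl | rfl)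
    · exact smulW_zero_left hK ω
    · exact smulW_zero_right hK x

theorem smulW_injective (hK : IsFunctionField k K) {ω : Module.Dual k (adele k K)} (hω : ω ≠ 0) :
    Function.Injective (smulWₗ hK ω) := by
  rw [← LinearMap.ker_eq_bot, LinearMap.ker_eq_bot']
  intro x hx
  rcases (smulW_eq_zero_iff hK).mp hx with h | h
  · exact h
  · exact absurd h hω

/-- Scaling a repartition: `x a ∈ A(D) ↔ a ∈ A(D + (x))`. -/
theorem smul_mem_AD_iff (hK : IsFunctionField k K) {x : K} (hx : x ≠ 0) (D : Divisor k K)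
    (a : Place k K → K) : x • a ∈ AD D ↔ a ∈ AD (D + FunFld.div k x) := by
  have key : ∀ P : Place k K, P.1 ((x • a) P) ≤ exp (D P) ↔ P.1 (a P) ≤ exp ((D + FunFld.div k x) P) := by
    intro P
    rw [Pi.smul_apply, smul_eq_mul, Finsupp.add_apply, div_apply hK]
    rcases eq_or_ne (a P) 0 with h0 | h0
    · rw [h0, mul_zero, map_zero]
      exact ⟨fun _ => zero_le', fun _ => zero_le'⟩
    · rw [val_le_exp_iff P (mul_ne_zero hx h0), val_le_exp_iff P h0, ord_mul P hx h0]
      constructor <;> intro h <;> linarith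
  exact ⟨fun h P => (key P).mp (h P), fun h P => (key P).mpr (h P)⟩

theorem smul_diag (x y : K) : x • diag k K y = diag k K (x * y) := by
  ext P
  simp [diag_apply]

theorem smul_mem_ADK (hK : IsFunctionField k K) {x : K} (hx : x ≠ 0) (D : Divisor k K)
    {b : Place k K → K} (hb : b ∈ AD D ⊔ LinearMap.range (diag k K)) :
    x • b ∈ AD (D - FunFld.div k x) ⊔ LinearMap.range (diag k K) := by
  obtain ⟨a, ha, f, ⟨y, rfl⟩, rfl⟩ := Submodule.mem_sup.mp hb
  rw [smul_add]
  refine Submodule.add_mem _ (Submodule.mem_sup_left ?_) (Submodule.mem_sup_right ?_)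
  · rw [smul_mem_AD_iff hK hx, sub_add_cancel]; exact ha
  · rw [smul_diag]; exact ⟨_, rfl⟩

theorem mem_WD_iff {ω : Module.Dual k (adele k K)} {D : Divisor k K} :
    ω ∈ WD D ↔ ∀ (b : Place k K → K) (hb : b ∈ adele k K),
      b ∈ AD D ⊔ LinearMap.range (diag k K) → ω ⟨b, hb⟩ = 0 := by
  unfold WD
  rw [Submodule.mem_dualAnnihilator]
  constructor
  · intro h b hb hb'
    exact h ⟨b, hb⟩ hb'
  · intro h b hb
    exact h b.1 b.2 hb

/-- `xω ∈ W(D) ↔ ω ∈ W(D - (x))`. -/
theorem smulW_mem_WD_iff (hK : IsFunctionField k K) {x : K} (hx : x ≠ 0)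
    (ω : Module.Dual k (adele k K)) (D : Divisor k K) :
    smulW hK x ω ∈ WD D ↔ ω ∈ WD (D - FunFld.div k x) := by
  rw [mem_WD_iff, mem_WD_iff]
  constructor
  · intro h c hc hc'
    have h1 := smul_mem_ADK hK (inv_ne_zero hx) _ hc'
    rw [div_inv hK, sub_neg_eq_add, sub_add_cancel] at h1
    have h2 := h (x⁻¹ • c) (smul_mem_adele hK x⁻¹ hc) h1
    rw [smulW_apply] at h2
    rw [← h2]
    congr 1
    ext P
    simp [hx]
  · intro h b hb hb'
    rw [smulW_apply]
    exact h (x • b) _ (smul_mem_ADK hK hx D hb')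

theorem WD_anti {D₁ D₂ : Divisor k K} (h : D₁ ≤ D₂) : WD D₂ ≤ WD D₁ := by
  intro ω hω
  rw [mem_WD_iff] at hω ⊢
  intro b hb hb'
  exact hω b hb (sup_le_sup_right (AD_mono h) _ hb')

/-- `L(D) · W(C) ⊆ W(C - D)`. -/
theorem smulW_mem_WD_sub (hK : IsFunctionField k K) (C D : Divisor k K) {x : K} (hxD : x ∈ L D)
    {ω : Module.Dual k (adele k K)} (hω : ω ∈ WD C) : smulW hK x ω ∈ WD (C - D) := by
  rcases eq_or_ne x 0 with rfl | hx
  · rw [smulW_zero_left]; exact Submodule.zero_mem _
  · rw [smulW_mem_WD_iff hK hx]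
    refine WD_anti ?_ hω
    have := (mem_L_iff_div hK D hx).mp hxD
    intro P
    have h1 := this P
    simp only [Finsupp.add_apply, Finsupp.sub_apply, Finsupp.zero_apply] at h1 ⊢
    linarith

end Groth.Agent.Lib.Helper18.FF
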