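import Groth.Agent.Lib.Helper18.FF.Weil2

/-! # The divisor of a Weil differential -/

set_option autoImplicit false
set_option linter.style.haveILetI false

namespace Groth.Agent.Lib.Helper18.FF

open FunFld WithZero Groth.Agent.Lib.Helper18.LinAlg

universe u v

variable {k : Type u} {K : Type v} [Field k] [Field K] [Algebra k K]

theorem AD_sup_le (D₁ D₂ : Divisor k K) : AD (D₁ ⊔ D₂) ≤ AD D₁ ⊔ AD D₂ := by
  classical
  intro a ha
  let a₁ : Place k K → K := fun P => if D₂ P ≤ D₁ P then a P else 0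
  have h1 : a₁ ∈ AD D₁ := by
    intro P
    by_cases h : D₂ P ≤ D₁ P
    · have := ha P
      rw [Finsupp.sup_apply, sup_eq_left.mpr h] at this
      simpa [a₁, h] using this
    · simp [a₁, h]
  have h2 : a - a₁ ∈ AD D₂ := by
    intro P
    by_cases h : D₂ P ≤ D₁ P
    · simp [a₁, h]
    · have := ha P
      rw [Finsupp.sup_apply, sup_eq_right.mpr (not_le.mp h).le] at this
      simpa [a₁, h] using this
  have : a = a₁ + (a - a₁) := by abel
  rw [this]
  exact Submodule.add_mem _ (Submodule.mem_sup_left h1) (Submodule.mem_sup_right h2)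

theorem WD_sup {ω : Module.Dual k (adele k K)} {D₁ D₂ : Divisor k K}
    (h1 : ω ∈ WD D₁) (h2 : ω ∈ WD D₂) : ω ∈ WD (D₁ ⊔ D₂) := by
  rw [mem_WD_iff] at h1 h2 ⊢
  intro b hb hb'
  obtain ⟨a, ha, f, hf, rfl⟩ := Submodule.mem_sup.mp hb'
  obtain ⟨a₁, ha₁, a₂, ha₂, rfl⟩ := Submodule.mem_sup.mp (AD_sup_le D₁ D₂ ha)
  have hm1 : a₁ ∈ adele k K := AD_le_adele D₁ ha₁
  have hm2 : a₂ + f ∈ adele k K := by
    have : a₂ + f = (a₁ + a₂ + f) - a₁ := by abel
    rw [this]
    exact Submodule.sub_mem _ hb hm1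
  have e : (⟨a₁ + a₂ + f, hb⟩ : adele k K) = ⟨a₁, hm1⟩ + ⟨a₂ + f, hm2⟩ := by
    ext P; simp [add_assoc]
  rw [e, map_add, h1 a₁ hm1 (Submodule.mem_sup_left ha₁),
    h2 (a₂ + f) hm2 (Submodule.add_mem _ (Submodule.mem_sup_left ha₂) (Submodule.mem_sup_right hf)),
    add_zero]

theorem eq_zero_of_nonneg_of_deg_le (hK : IsFunctionField k K) {D : Divisor k K} (h0 : 0 ≤ D)
    (hd : D.deg ≤ 0) : D = 0 := by
  have hsum : D.deg = ∑ P ∈ D.support, D P * (P.deg : ℤ) := rfl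
  have hnn : ∀ P ∈ D.support, 0 ≤ D P * (P.deg : ℤ) := fun P _ =>
    mul_nonneg (h0 P) (Int.natCast_nonneg _)
  have hz : ∑ P ∈ D.support, D P * (P.deg : ℤ) = 0 :=
    le_antisymm (hsum ▸ hd) (Finset.sum_nonneg hnn)
  have hall := (Finset.sum_eq_zero_iff_of_nonneg hnn).mp hz
  ext P
  by_contra hP
  have hPs : P ∈ D.support := Finsupp.mem_support_iff.mpr hP
  have := hall P hPs
  have hdeg : (0 : ℤ) < (P.deg : ℤ) := by exact_mod_cast deg_pos hK P
  rcases mul_eq_zero.mp this with h | h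
  · exact hP h
  · omega

theorem WD_eq_bot_of_delta_eq_genus (hK : IsFunctionField k K) {D : Divisor k K}
    (h : delta D = genus k K) : WD D = ⊥ := by
  obtain ⟨h1, h2⟩ := finrank_WD hK D
  haveI := h1
  rw [h, sub_self] at h2
  exact Submodule.finrank_eq_zero.mp (by exact_mod_cast h2)

/-- A nonzero Weil differential has a divisor. -/
theorem exists_isDivOf (hK : IsFunctionField k K) {ω : Module.Dual k (adele k K)} (hω : IsWeil ω)
    (h0 : ω ≠ 0) : ∃ C : Divisor k K, IsDivOf ω C := by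
  obtain ⟨N, hN⟩ := exists_delta_eq_genus_of_le_deg hK
  have hbound : ∀ z : ℤ, (∃ D : Divisor k K, ω ∈ WD D ∧ D.deg = z) → z ≤ N := by
    rintro z ⟨D, hD, rfl⟩
    by_contra hlt
    have := WD_eq_bot_of_delta_eq_genus hK (hN D (not_le.mp hlt).le)
    rw [this, Submodule.mem_bot] at hD
    exact h0 hD
  obtain ⟨D₀, hD₀⟩ := hω
  obtain ⟨ub, ⟨W, hW, rfl⟩, hmax⟩ := Int.exists_greatest_of_bdd (P := fun z =>
    ∃ D : Divisor k K, ω ∈ WD D ∧ D.deg = z) ⟨N, hbound⟩ ⟨D₀.deg, D₀, hD₀, rfl⟩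
  refine ⟨W, fun E => ⟨fun hE => ?_, fun hE => WD_anti hE hW⟩⟩
  have h1 := WD_sup hE hW
  have h2 := hmax _ ⟨_, h1, rfl⟩
  have h3 : 0 ≤ E ⊔ W - W := sub_nonneg.mpr le_sup_right
  have h4 : (E ⊔ W - W).deg ≤ 0 := by rw [deg_sub]; linarith
  have h5 := eq_zero_of_nonneg_of_deg_le hK h3 h4
  have h6 : E ⊔ W = W := sub_eq_zero.mp h5
  exact h6 ▸ le_sup_left

theorem isDivOf_mem_WD {ω : Module.Dual k (adele k K)} {C : Divisor k K} (h : IsDivOf ω C) :
    ω ∈ WD C := (h C).mpr le_rfl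

theorem isDivOf_isWeil {ω : Module.Dual k (adele k K)} {C : Divisor k K} (h : IsDivOf ω C) :
    IsWeil ω := ⟨C, isDivOf_mem_WD h⟩

/-- `(xω) = (x) + (ω)`. -/
theorem isDivOf_smulW (hK : IsFunctionField k K) {x : K} (hx : x ≠ 0)
    {ω : Module.Dual k (adele k K)} {C : Divisor k K} (hω : IsDivOf ω C) :
    IsDivOf (smulW hK x ω) (C + FunFld.div k x) := by
  intro E
  rw [smulW_mem_WD_iff hK hx, hω]
  exact sub_le_iff_le_add

theorem isDivOf_unique {ω : Module.Dual k (adele k K)} {C C' : Divisor k K} (h : IsDivOf ω C)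
    (h' : IsDivOf ω C') : C = C' :=
  le_antisymm ((h' C).mp (isDivOf_mem_WD h)) ((h C').mp (isDivOf_mem_WD h'))

/-- A differential with a divisor is nonzero. -/
theorem isDivOf_ne_zero (hK : IsFunctionField k K) {ω : Module.Dual k (adele k K)} {C : Divisor k K}
    (h : IsDivOf ω C) : ω ≠ 0 := by
  rintro rfl
  obtain ⟨P⟩ := exists_place hK
  have h1 : (0 : Module.Dual k (adele k K)) ∈ WD (C + Finsupp.single P 1) := Submodule.zero_mem _
  have h2 := (h _).mp h1 P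
  rw [Finsupp.add_apply, Finsupp.single_eq_same] at h2
  omega

end Groth.Agent.Lib.Helper18.FF
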