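import Groth.Agent.Lib.Helper18.FF.Weil3

/-! # Weil differentials form a one-dimensional `K`-vector space; Riemann–Roch -/

set_option autoImplicit false
set_option linter.style.haveILetI false

namespace Groth.Agent.Lib.Helper18.FF

open FunFld WithZero Groth.Agent.Lib.Helper18.LinAlg

universe u v

variable {k : Type u} {K : Type v} [Field k] [Field K] [Algebra k K]

/-- `x ↦ xω` as a map `L(D) → W(C - D)` for `ω ∈ W(C)`. -/
noncomputable def smulWL (hK : IsFunctionField k K) (C D : Divisor k K)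
    (ω : Module.Dual k (adele k K)) (hω : ω ∈ WD C) : L D →ₗ[k] WD (C - D) :=
  LinearMap.codRestrict (WD (C - D)) ((smulWₗ hK ω).comp (L D).subtype)
    (fun x => smulW_mem_WD_sub hK C D x.2 hω)

theorem smulWL_apply (hK : IsFunctionField k K) (C D : Divisor k K)
    (ω : Module.Dual k (adele k K)) (hω : ω ∈ WD C) (x : L D) :
    ((smulWL hK C D ω hω x : WD (C - D)) : Module.Dual k (adele k K)) = smulW hK (x : K) ω := rfl

theorem smulWL_injective (hK : IsFunctionField k K) (C D : Divisor k K)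
    {ω : Module.Dual k (adele k K)} (hω : ω ∈ WD C) (h0 : ω ≠ 0) :
    Function.Injective (smulWL hK C D ω hω) := by
  intro x y hxy
  have h1 := congrArg (fun z : WD (C - D) => (z : Module.Dual k (adele k K))) hxy
  simp only [smulWL_apply] at h1
  exact Subtype.ext (smulW_injective hK h0 h1)

theorem ell_neg_of_deg_pos (hK : IsFunctionField k K) {B : Divisor k K} (hB : 0 < B.deg) :
    ell (-B) = 0 := by
  unfold ell
  rw [L_eq_bot_of_deg_neg hK (-B) (by rw [deg_neg]; linarith), finrank_bot]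

/-- `dim_K` of the space of Weil differentials is at most one. -/
theorem exists_smulW_eq (hK : IsFunctionField k K) {ω₁ ω₂ : Module.Dual k (adele k K)}
    (h₁ : IsWeil ω₁) (h0 : ω₁ ≠ 0) (h₂ : IsWeil ω₂) : ∃ x : K, smulW hK x ω₁ = ω₂ := by
  by_cases h20 : ω₂ = 0
  · exact ⟨0, by rw [h20, smulW_zero_left]⟩
  obtain ⟨W₁, hW₁⟩ := h₁
  obtain ⟨W₂, hW₂⟩ := h₂
  obtain ⟨P₀⟩ := exists_place hK
  set g : ℤ := (genus k K : ℤ) with hg
  set m : ℕ := (3 * g - 2 - W₁.deg - W₂.deg).toNat + 1 with hm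
  set B : Divisor k K := Finsupp.single P₀ (m : ℤ) with hB
  have hP₀ : (1 : ℤ) ≤ (P₀.deg : ℤ) := by exact_mod_cast deg_pos hK P₀
  have hBdeg : B.deg = (m : ℤ) * P₀.deg := deg_single P₀ _
  have hm1 : (1 : ℤ) ≤ (m : ℤ) := by rw [hm]; push_cast; omega
  have hm2 : 3 * g - 2 - W₁.deg - W₂.deg < (m : ℤ) := by
    rw [hm]; push_cast
    have := Int.self_le_toNat (3 * g - 2 - W₁.deg - W₂.deg)
    omega
  have hBm : (m : ℤ) ≤ B.deg := by rw [hBdeg]; nlinarith
  have hBpos : 0 < B.deg := by linarith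
  -- the two maps into `W(-B)`
  have e₁ : W₁ - (W₁ + B) = -B := by abel
  have e₂ : W₂ - (W₂ + B) = -B := by abel
  let φ₁ : L (W₁ + B) →ₗ[k] WD (W₁ - (W₁ + B)) := smulWL hK W₁ (W₁ + B) ω₁ hW₁
  let φ₂ : L (W₂ + B) →ₗ[k] WD (W₂ - (W₂ + B)) := smulWL hK W₂ (W₂ + B) ω₂ hW₂
  -- as subspaces of the ambient dual
  let U₁ : Submodule k (Module.Dual k (adele k K)) :=
    LinearMap.range ((WD (W₁ - (W₁ + B))).subtype.comp φ₁)
  let U₂ : Submodule k (Module.Dual k (adele k K)) :=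
    LinearMap.range ((WD (W₂ - (W₂ + B))).subtype.comp φ₂)
  have hU₁le : U₁ ≤ WD (-B) := by
    rintro _ ⟨x, rfl⟩
    rw [← e₁]
    exact (φ₁ x).2
  have hU₂le : U₂ ≤ WD (-B) := by
    rintro _ ⟨x, rfl⟩
    rw [← e₂]
    exact (φ₂ x).2
  obtain ⟨hWfin, hWrk⟩ := finrank_WD hK (-B)
  haveI := hWfin
  haveI := finiteDimensional_L hK (W₁ + B)
  haveI := finiteDimensional_L hK (W₂ + B)
  have hinj₁ : Function.Injective ((WD (W₁ - (W₁ + B))).subtype.comp φ₁) :=
    (Submodule.injective_subtype _).comp (smulWL_injective hK W₁ (W₁ + B) hW₁ h0)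
  have hinj₂ : Function.Injective ((WD (W₂ - (W₂ + B))).subtype.comp φ₂) :=
    (Submodule.injective_subtype _).comp (smulWL_injective hK W₂ (W₂ + B) hW₂ h20)
  have hr₁ : Module.finrank k U₁ = ell (W₁ + B) := LinearMap.finrank_range_of_inj hinj₁
  have hr₂ : Module.finrank k U₂ = ell (W₂ + B) := LinearMap.finrank_range_of_inj hinj₂
  have hd₁ := delta_le_genus hK (W₁ + B)
  have hd₂ := delta_le_genus hK (W₂ + B)
  unfold delta at hd₁ hd₂ hWrk
  rw [deg_add] at hd₁ hd₂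
  rw [deg_neg, ell_neg_of_deg_pos hK hBpos] at hWrk
  haveI : FiniteDimensional k U₁ := Submodule.finiteDimensional_of_le hU₁le
  haveI : FiniteDimensional k U₂ := Submodule.finiteDimensional_of_le hU₂le
  have hsum := Submodule.finrank_sup_add_finrank_inf_eq U₁ U₂
  have hsup : Module.finrank k ↥(U₁ ⊔ U₂) ≤ Module.finrank k (WD (-B)) :=
    Submodule.finrank_mono (sup_le hU₁le hU₂le)
  have hpos : 0 < Module.finrank k ↥(U₁ ⊓ U₂) := by
    have h1 : (Module.finrank k ↥(U₁ ⊔ U₂) : ℤ) + Module.finrank k ↥(U₁ ⊓ U₂) =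
        (ell (W₁ + B) : ℤ) + ell (W₂ + B) := by
      rw [← hr₁, ← hr₂]; exact_mod_cast hsum
    have h2 : (Module.finrank k ↥(U₁ ⊔ U₂) : ℤ) ≤ Module.finrank k (WD (-B)) := by
      exact_mod_cast hsup
    have : (0 : ℤ) < (Module.finrank k ↥(U₁ ⊓ U₂) : ℤ) := by
      push_cast at hWrk
      linarith
    exact_mod_cast this
  haveI : Nontrivial ↥(U₁ ⊓ U₂) := Module.nontrivial_of_finrank_pos (R := k) hpos
  obtain ⟨η, hη⟩ := exists_ne (0 : ↥(U₁ ⊓ U₂))
  obtain ⟨⟨x₁, hx₁⟩, ⟨x₂, hx₂⟩⟩ := η.2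
  have hη0 : (η : Module.Dual k (adele k K)) ≠ 0 := fun h => hη (Subtype.ext h)
  have hx₁' : smulW hK (x₁ : K) ω₁ = η := hx₁
  have hx₂' : smulW hK (x₂ : K) ω₂ = η := hx₂
  have hx₂0 : (x₂ : K) ≠ 0 := by
    intro h
    rw [h, smulW_zero_left] at hx₂'
    exact hη0 hx₂'.symm
  refine ⟨(x₂ : K)⁻¹ * x₁, ?_⟩
  rw [smulW_mul, hx₁', ← hx₂', smulW_inv_smulW hK hx₂0]

end Groth.Agent.Lib.Helper18.FF
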