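import Groth.Agent.Lib.Helper18.FF.Approx2
import Groth.Agent.Lib.Helper18.FF.Residue

/-! # The degree of the zero divisor is at most `[K : k(x)]` -/

set_option autoImplicit false

namespace Groth.Agent.Lib.Helper18.FF

open FunFld WithZero IntermediateField

universe u v

variable {k : Type u} {K : Type v} [Field k] [Field K] [Algebra k K]

theorem val_eq_exp_neg_toNat (P : Place k K) {x : K} (hx0 : x ≠ 0) (hx : P.1 x < 1) :
    P.1 x = exp (-((P.ord x).toNat : ℤ)) ∧ 0 < (P.ord x).toNat := by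
  have h := (val_lt_one_iff_ord_pos P hx0).mp hx
  constructor
  · rw [val_eq_exp_neg_ord P hx0, Int.toNat_of_nonneg h.le]
  · omega

theorem res_sub_eq (P : Place k K) {z s : K} (hs : P.1 s ≤ 1) (h : P.1 (z - s) < 1) :
    ∃ hz : P.1 z ≤ 1, res P z hz = res P s hs := by
  have hz : P.1 z ≤ 1 := by
    have : z = (z - s) + s := by ring
    rw [this]
    exact (P.1.map_add _ _).trans (max_le h.le hs)
  refine ⟨hz, ?_⟩
  have h1 : res P (z - s + s) ((P.1.map_add _ _).trans (max_le h.le hs)) = res P z hz :=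
    res_congr P (by ring) _ _
  rw [← h1, res_add P _ _ h.le hs, (res_eq_zero_iff P _ h.le).mpr h, zero_add]

/-- **Proposition.** If `x` vanishes at the (distinct) places of `S`, then
`∑_{P ∈ S} ord_P(x) · deg P ≤ [K : k(x)]`. -/
theorem sum_ord_mul_deg_le (hK : IsFunctionField k K) {x : K} (hx : Transcendental k x)
    (S : Finset (Place k K)) (hS : ∀ P ∈ S, P.1 x < 1) :
    ∑ P ∈ S, (P.ord x).toNat * P.deg ≤
      Module.finrank (IntermediateField.adjoin k ({x} : Set K)) K := by
  classical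
  haveI := finiteDimensional_adjoin_of_transcendental hK hx
  have hx0 : x ≠ 0 := by
    rintro rfl
    exact hx ⟨Polynomial.X, Polynomial.X_ne_zero, by simp⟩
  -- local parameters
  have ht : ∀ P : Place k K, ∃ t : K, ∀ Q ∈ S, Q.1 t = if Q = P then exp (-1 : ℤ) else 1 := by
    intro P
    obtain ⟨t, ht⟩ := exists_approx_eq S (fun _ => 0) (fun Q => if Q = P then -1 else 0)
    refine ⟨t, fun Q hQ => ?_⟩
    have := ht Q hQ
    rw [sub_zero] at this
    rw [this]
    split_ifs <;> simp
  choose t ht using ht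
  haveI := fun P : Place k K => finiteDimensional_residueField hK P
  let b : ∀ P : Place k K, Module.Basis (Fin P.deg) k (IsLocalRing.ResidueField P.O) :=
    fun P => Module.finBasis k (IsLocalRing.ResidueField P.O)
  have hz : ∀ (P : Place k K) (j : Fin P.deg), ∃ z : K, ∃ hz : P.1 z ≤ 1,
      res P z hz = b P j ∧ ∀ Q ∈ S, Q ≠ P → Q.1 z < Q.1 x := by
    intro P j
    obtain ⟨s, hs, hsb⟩ := res_surjective P (b P j)
    obtain ⟨z, hz⟩ := exists_approx (insert P S) (fun Q => if Q = P then s else 0)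
      (fun Q => if Q = P then 1 else Q.1 x) (by
        intro Q _
        show (if Q = P then (1 : ℤᵐ⁰) else Q.1 x) ≠ 0
        split_ifs
        · exact one_ne_zero
        · exact (Valuation.ne_zero_iff _).mpr hx0)
    have hPz : P.1 (z - s) < 1 := by
      have := hz P (Finset.mem_insert_self _ _)
      simpa using this
    obtain ⟨hz1, hzres⟩ := res_sub_eq P hs hPz
    refine ⟨z, hz1, hzres.trans hsb, ?_⟩
    intro Q hQ hne
    have := hz Q (Finset.mem_insert_of_mem hQ)
    simpa [hne] using this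
  choose z hz1 hzb hzS using hz
  -- index type
  let e : Place k K → ℕ := fun P => (P.ord x).toNat
  have hxval : ∀ P ∈ S, P.1 x = exp (-(e P : ℤ)) ∧ 0 < e P := fun P hP =>
    val_eq_exp_neg_toNat P hx0 (hS P hP)
  let w : (Σ P : S, Fin (e P.1) × Fin (P.1.deg)) → K :=
    fun i => t i.1.1 ^ (i.2.1 : ℕ) * z i.1.1 i.2.2
  have hcard : Fintype.card (Σ P : S, Fin (e P.1) × Fin (P.1.deg)) = ∑ P ∈ S, e P * P.deg := by
    rw [Fintype.card_sigma]
    simp only [Fintype.card_prod, Fintype.card_fin]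
    exact Finset.sum_coe_sort S (fun P => e P * P.deg)
  change ∑ P ∈ S, e P * P.deg ≤ _
  rw [← hcard]
  -- valuations of the `w`
  have htval : ∀ P ∈ S, ∀ (a : ℕ), P.1 (t P ^ a) = exp (-(a : ℤ)) := by
    intro P hP a
    rw [map_pow, ht P P hP, if_pos rfl, ← exp_nsmul]
    congr 1; simp
  have htval' : ∀ P, ∀ Q ∈ S, Q ≠ P → ∀ (a : ℕ), Q.1 (t P ^ a) = 1 := by
    intro P Q hQ hne a
    rw [map_pow, ht P Q hQ, if_neg hne, one_pow]
  refine card_le_finrank_of_indep_mod hx (integersAt (S : Set (Place k K))) ?_ w ?_ ?_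
  · intro P hP; exact (hS P hP).le
  · rintro ⟨⟨P, hP⟩, a, j⟩ Q hQ
    change Q.1 (t P ^ (a : ℕ) * z P j) ≤ 1
    rw [map_mul]
    by_cases hQP : Q = P
    · subst hQP
      rw [htval Q hP]
      refine mul_le_one' ?_ (hz1 Q j)
      rw [← exp_zero, exp_le_exp]; omega
    · rw [htval' P Q hQ hQP, one_mul]
      exact ((hzS P j Q hQ hQP).trans (hS Q hQ)).le
  · rintro c ⟨ρ, hρ, hrel⟩ ⟨⟨P₀, hP₀⟩, ⟨a₀, ha₀⟩, j₀⟩
    have key : ∀ (a : ℕ) (ha : a < e P₀) (j : Fin P₀.deg), c ⟨⟨P₀, hP₀⟩, ⟨a, ha⟩, j⟩ = 0 := by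
     intro a
     induction a using Nat.strong_induction_on with
     | _ a ih =>
      intro ha j
      -- the target combination
      set A : K := ∑ j', c ⟨⟨P₀, hP₀⟩, ⟨a, ha⟩, j'⟩ • z P₀ j' with hA
      -- decomposition of the relation
      let g : S → K := fun P => ∑ aj : Fin (e P.1) × Fin (P.1.deg), c ⟨P, aj⟩ • w ⟨P, aj⟩
      let h : Fin (e P₀) → K := fun a' => ∑ j' : Fin P₀.deg,
        c ⟨⟨P₀, hP₀⟩, a', j'⟩ • w ⟨⟨P₀, hP₀⟩, a', j'⟩
      have hT : ∑ P : S, g P = x * ρ := by
        rw [← hrel, Fintype.sum_sigma]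
      have hg0 : g ⟨P₀, hP₀⟩ = ∑ a', h a' := by
        change ∑ aj : Fin (e P₀) × Fin (P₀.deg), _ = _
        rw [Fintype.sum_prod_type]
      have hha : h ⟨a, ha⟩ = t P₀ ^ a * A := by
        change ∑ j' : Fin P₀.deg, c ⟨⟨P₀, hP₀⟩, ⟨a, ha⟩, j'⟩ • (t P₀ ^ a * z P₀ j') = _
        rw [hA, Finset.mul_sum]
        refine Finset.sum_congr rfl fun j' _ => ?_
        rw [mul_smul_comm]
      have hdecomp : t P₀ ^ a * A = x * ρ - ∑ P ∈ Finset.univ.erase (⟨P₀, hP₀⟩ : S), g P -
          ∑ a' ∈ Finset.univ.erase (⟨a, ha⟩ : Fin (e P₀)), h a' := by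
        rw [← hT, ← Finset.add_sum_erase Finset.univ g (Finset.mem_univ (⟨P₀, hP₀⟩ : S)), hg0,
          ← Finset.add_sum_erase Finset.univ h (Finset.mem_univ (⟨a, ha⟩ : Fin (e P₀))), hha]
        ring
      have hxP₀ := hxval P₀ hP₀
      have hbd : exp (-(e P₀ : ℤ)) < exp (-(a : ℤ)) := by
        rw [exp_lt_exp]; omega
      -- the valuation estimate
      have hval : P₀.1 (t P₀ ^ a * A) < exp (-(a : ℤ)) := by
        rw [hdecomp]
        refine lt_of_le_of_lt (Valuation.map_sub _ _ _) (max_lt ?_ ?_)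
        · refine lt_of_le_of_lt (Valuation.map_sub _ _ _) (max_lt ?_ ?_)
          · rw [map_mul, hxP₀.1]
            refine lt_of_le_of_lt ?_ hbd
            exact (mul_le_mul' le_rfl (hρ P₀ hP₀)).trans_eq (mul_one _)
          · refine Valuation.map_sum_lt _ exp_ne_zero ?_
            rintro ⟨P, hP⟩ hPne
            have hne : P₀ ≠ P := by
              intro h'
              subst h'
              exact (Finset.ne_of_mem_erase hPne) rfl
            refine Valuation.map_sum_lt _ exp_ne_zero ?_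
            rintro ⟨a', j'⟩ _
            refine lt_of_le_of_lt (val_smul_le P₀ _ _) ?_
            change P₀.1 (t P ^ (a' : ℕ) * z P j') < _
            rw [map_mul, htval' P P₀ hP₀ hne, one_mul]
            exact (hzS P j' P₀ hP₀ hne).trans (hxP₀.1 ▸ hbd)
        · refine Valuation.map_sum_lt _ exp_ne_zero ?_
          rintro ⟨a', ha'⟩ hne'
          have hne : a' ≠ a := by
            intro h'
            subst h'
            exact (Finset.ne_of_mem_erase hne') rfl
          rcases lt_or_gt_of_ne hne with hlt | hgt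
          · -- coefficients vanish by induction
            have : h ⟨a', ha'⟩ = 0 := by
              refine Finset.sum_eq_zero fun j' _ => ?_
              rw [ih a' hlt ha' j', zero_smul]
            rw [this, map_zero]
            exact exp_pos
          · refine Valuation.map_sum_lt _ exp_ne_zero ?_
            intro j' _
            refine lt_of_le_of_lt (val_smul_le P₀ _ _) ?_
            change P₀.1 (t P₀ ^ a' * z P₀ j') < _
            rw [map_mul, htval P₀ hP₀]
            refine lt_of_le_of_lt ((mul_le_mul' le_rfl (hz1 P₀ j')).trans_eq (mul_one _)) ?_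
            rw [exp_lt_exp]; omega
      have hA1 : P₀.1 A < 1 := by
        rw [map_mul, htval P₀ hP₀] at hval
        have := (mul_lt_iff_lt_one_right (exp_pos (a := -(a : ℤ)))).mp hval
        exact this
      -- pass to the residue field
      have hres : res P₀ A hA1.le = 0 := (res_eq_zero_iff P₀ A hA1.le).mpr hA1
      rw [res_sum P₀ Finset.univ (fun j' => c ⟨⟨P₀, hP₀⟩, ⟨a, ha⟩, j'⟩ • z P₀ j')
        (fun j' => (val_smul_le P₀ _ _).trans (hz1 P₀ j')) hA1.le] at hres
      have hres' : ∑ j', c ⟨⟨P₀, hP₀⟩, ⟨a, ha⟩, j'⟩ • b P₀ j' = 0 := by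
        rw [← hres]
        refine Finset.sum_congr rfl fun j' _ => ?_
        rw [res_smul P₀ _ _ (hz1 P₀ j'), hzb]
      exact Fintype.linearIndependent_iff.mp (b P₀).linearIndependent _ hres' j
    exact key a₀ ha₀ j₀

end Groth.Agent.Lib.Helper18.FF
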